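import Cfsg.Agent.Elusive2.Form
import Mathlib.Algebra.CharP.Frobenius
import Mathlib.RingTheory.Polynomial.Basic

/-!
Minimal non-degenerate invariant subspaces of an isometry of prime order prime to the characteristic.
-/

set_option autoImplicit false
set_option linter.unusedSectionVars false

namespace CfsgLib.Elusive2

open Module Polynomial CfsgLib.Elusive

variable {F V : Type*} [Field F] [AddCommGroup V] [Module F V] {σ : F →+* F}
  {B : V →ₛₗ[σ] V →ₗ[F] F} {f : V →ₗ[F] V} {r : ℕ}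

/-- The adjoint of a polynomial in an isometry. -/
theorem adj_aeval (hP : IsPack B f r) (P : F[X]) (u v : V) :
    B (aeval f P u) v = B u (aeval (f ^ (r - 1)) (P.map σ) v) := by
  have h1 : ∀ x y, B (f x) y = B x ((f ^ (r - 1)) y) := fun x y => by
    conv_lhs => rw [show y = f ((f ^ (r - 1)) y) by
      rw [← Module.End.mul_apply, ← pow_succ', Nat.sub_add_cancel hP.pos, hP.pow_r,
        Module.End.one_apply]]
    exact hP.isom _ _
  have hk : ∀ (k : ℕ) x y, B ((f ^ k) x) y = B x (((f ^ (r - 1)) ^ k) y) := fun k => by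
    induction k with
    | zero => intro x y; rfl
    | succ k ih => intro x y; rw [pow_succ, Module.End.mul_apply, ih, h1, ← Module.End.mul_apply, ← pow_succ']
  induction P using Polynomial.induction_on' with
  | add P R hp hR =>
    rw [map_add, Polynomial.map_add, map_add, LinearMap.add_apply, LinearMap.add_apply, map_add,
      LinearMap.add_apply, hp, hR, map_add]
  | monomial k a =>
    rw [aeval_monomial, Polynomial.map_monomial, aeval_monomial, Module.End.mul_apply,
      Module.End.mul_apply, Module.algebraMap_end_apply, Module.algebraMap_end_apply,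
      map_smulₛₗ, LinearMap.smul_apply, map_smul, hk]

/-- `-1` is a power of the characteristic modulo `r`, inducing `σ` on the scalars. -/
def SelfDual (p r : ℕ) (σ : F →+* F) : Prop :=
  ∃ N : ℕ, r ∣ p ^ N + 1 ∧ ∀ x : F, σ x = x ^ p ^ N

theorem adj_selfDual {p : ℕ} [Fact p.Prime] [CharP F p] (hP : IsPack B f r) {N : ℕ}
    (hN : r ∣ p ^ N + 1) (hσ : ∀ x : F, σ x = x ^ p ^ N) (P : F[X]) (u v : V) :
    B (aeval f P u) v = B u ((aeval f P ^ p ^ N) v) := by
  rw [adj_aeval hP]
  congr 1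
  have e : P.map σ = P.map (iterateFrobenius F p N) := by
    refine congrArg (fun φ => P.map φ) (RingHom.ext fun x => ?_)
    rw [hσ, iterateFrobenius_def]
  have hf : f ^ (r - 1) = f ^ p ^ N := by
    obtain ⟨w, hw⟩ := hN
    obtain ⟨w', rfl⟩ : ∃ w', w = w' + 1 := ⟨w - 1, by rcases w with _ | w <;> simp at hw ⊢⟩
    have : p ^ N = r * w' + (r - 1) := by have := hP.pos; rw [Nat.mul_add] at hw; omega
    rw [this, pow_add, pow_mul, hP.pow_r, one_pow, one_mul]
  rw [e, hf, ← map_pow, ← Polynomial.map_iterateFrobenius_expand, Polynomial.map_expand,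
    expand_aeval]

/-- Evaluation at a vector. -/
noncomputable def cyc (f : V →ₗ[F] V) (u : V) : F[X] →ₗ[F] V where
  toFun g := aeval f g u
  map_add' g h := by simp
  map_smul' c g := by simp

theorem cyc_range_inv (f : V →ₗ[F] V) (u : V) : Inv f (LinearMap.range (cyc f u)) := by
  rintro _ ⟨g, rfl⟩
  exact ⟨X * g, by simp [cyc]⟩

theorem finrank_range_cyc_le [FiniteDimensional F V] {u : V} {P : F[X]} (hP : P.Monic)
    (hu : aeval f P u = 0) : finrank F (LinearMap.range (cyc f u)) ≤ P.natDegree := by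
  have hle : LinearMap.range (cyc f u) ≤
      Submodule.span F (Set.range fun l : Fin P.natDegree => (f ^ (l : ℕ)) u) := by
    rintro _ ⟨g, rfl⟩
    show aeval f g u ∈ _
    rcases eq_or_ne P 1 with rfl | hP1
    · rw [map_one, Module.End.one_apply] at hu
      rw [hu, map_zero]
      exact Submodule.zero_mem _
    have e : aeval f g u = aeval f (g %ₘ P) u := by
      conv_lhs => rw [← modByMonic_add_div g P]
      rw [map_add, LinearMap.add_apply, mul_comm, map_mul, Module.End.mul_apply, hu, map_zero, add_zero]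
    rw [e, aeval_eq_sum_range' (natDegree_modByMonic_lt g hP hP1), LinearMap.sum_apply]
    exact Submodule.sum_mem _ fun l hl => by
      rw [LinearMap.smul_apply]
      exact Submodule.smul_mem _ _ (Submodule.subset_span ⟨⟨l, Finset.mem_range.1 hl⟩, rfl⟩)
  exact (Submodule.finrank_mono hle).trans
    ((finrank_range_le_card _).trans_eq (Fintype.card_fin _))

variable [Fintype F] [FiniteDimensional F V] [hr' : Fact r.Prime]

/-- The order of `q` modulo `r`. -/
noncomputable def ordq (F : Type*) [Fintype F] (r : ℕ) : ℕ :=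
  orderOf ((Fintype.card F : ℕ) : ZMod r)

omit [FiniteDimensional F V] in
theorem ordq_pos (hr : (r : F) ≠ 0) : 0 < ordq F r := by
  refine CfsgLib.Elusive.orderOf_q_pos fun h => hr ?_
  obtain ⟨n, hp, hcard⟩ := FiniteField.card F (ringChar F)
  rw [ZMod.natCast_eq_zero_iff, hcard] at h
  have := (Nat.prime_dvd_prime_iff_eq hr'.out hp).1 (hr'.out.dvd_of_dvd_pow h)
  rw [this, ringChar.Nat.cast_ringChar]

theorem dim_le_ordq (hf : f ^ r = 1) {U : Submodule F V} (hU : Inv f U) (hfix : U ⊓ fixS f = ⊥)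
    (hne : U ≠ ⊥) : ordq F r ≤ finrank F U :=
  Nat.le_of_dvd (Nat.pos_of_ne_zero fun e => hne (Submodule.finrank_eq_zero.1 e)) (fpf_dvd hf hU hfix)

/-- Subspaces of minimal dimension are irreducible. -/
theorem irr_eq (hf : f ^ r = 1) {U A : Submodule F V} (hd : finrank F U = ordq F r)
    (hfix : U ⊓ fixS f = ⊥) (hA : Inv f A) (hle : A ≤ U) (hne : A ≠ ⊥) : A = U :=
  Submodule.eq_of_le_of_finrank_le hle (hd ▸ dim_le_ordq hf hA
    (le_bot_iff.1 ((inf_le_inf_right _ hle).trans hfix.le)) hne)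

theorem exists_irr (hf : f ^ r = 1) (hr : (r : F) ≠ 0) {W : Submodule F V} (hW : Inv f W)
    (hfix : W ⊓ fixS f = ⊥) (hne : W ≠ ⊥) :
    ∃ (U : Submodule F V) (u : V) (P : F[X]), Inv f U ∧ U ≤ W ∧ finrank F U = ordq F r ∧ u ∈ U ∧ u ≠ 0 ∧
      P.Monic ∧ P.natDegree ≤ ordq F r ∧ aeval f P u = 0 := by
  have hi0 := ordq_pos (F := F) hr
  have hdim : finrank F (W.map (f - 1)) = finrank F W := by
    have := dim_split (f := f) W
    rw [hfix, finrank_bot] at this
    omega
  obtain ⟨U, hU, hUW, hUd, -⟩ := exists_dim hf hr hW (i := ordq F r) rfl hi0 (a := 0) (j := 1)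
    (Nat.zero_le _) (by rw [hdim, one_mul]; exact dim_le_ordq hf hW hfix hne)
  rw [one_mul, zero_add] at hUd
  obtain ⟨u, hu, hu0⟩ := U.exists_mem_ne_zero_of_ne_bot fun e => by
    rw [e, finrank_bot] at hUd; omega
  obtain ⟨Ps, hprod, hPs⟩ := exists_factors (F := F) (r := r)
    (fun e => hr (by rw [e]; exact ringChar.Nat.cast_ringChar)) (ordq F r) dvd_rfl hi0
  obtain ⟨v, hv, hv0, P, hPm, hPv⟩ := exists_cross (f := f) (W := (⊥ : Submodule F V)) hU Ps u hu
    (by simpa using hu0) (by rw [hprod, map_sub, map_pow, aeval_X, map_one, hf, sub_self]; simp)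
  exact ⟨U, v, P, hU, hUW, hUd, hv, by simpa using hv0, (hPs P hPm).1, (hPs P hPm).2,
    by simpa using hPv⟩

theorem range_cyc_eq (hf : f ^ r = 1) {U : Submodule F V} (hU : Inv f U) (hd : finrank F U = ordq F r)
    (hfix : U ⊓ fixS f = ⊥) {u : V} (hu : u ∈ U) (hu0 : u ≠ 0) :
    LinearMap.range (cyc f u) = U := by
  refine irr_eq hf hd hfix (cyc_range_inv f u) ?_ fun e => hu0 ?_
  · rintro _ ⟨g, rfl⟩
    exact hU.aeval g u hu
  · have : u ∈ LinearMap.range (cyc f u) := ⟨1, by simp [cyc]⟩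
    rwa [e, Submodule.mem_bot] at this

/-- A polynomial of small degree killing a moved vector divides every other one doing so. -/
theorem dvd_of_kill (hf : f ^ r = 1) {W : Submodule F V} (hW : Inv f W) (hfix : W ⊓ fixS f = ⊥)
    {u : V} (hu : u ∈ W) (hu0 : u ≠ 0) {P g : F[X]} (hPm : P.Monic) (hPd : P.natDegree ≤ ordq F r)
    (hPu : aeval f P u = 0) (hg : aeval f g u = 0) : P ∣ g := by
  have key : ∀ h : F[X], h.Monic → aeval f h u = 0 → ordq F r ≤ h.natDegree := fun h hm hh => by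
    refine le_trans (dim_le_ordq hf (cyc_range_inv f u) ?_ fun e => hu0 ?_) (finrank_range_cyc_le hm hh)
    · refine le_bot_iff.1 ((inf_le_inf_right _ ?_).trans hfix.le)
      rintro _ ⟨k, rfl⟩
      exact hW.aeval k u hu
    · have : u ∈ LinearMap.range (cyc f u) := ⟨1, by simp [cyc]⟩
      rwa [e, Submodule.mem_bot] at this
  rw [← modByMonic_eq_zero_iff_dvd hPm]
  by_contra h0
  have hm : aeval f (g %ₘ P) u = 0 := by
    have e : aeval f g u = aeval f (g %ₘ P) u := by
      conv_lhs => rw [← modByMonic_add_div g P]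
      rw [map_add, LinearMap.add_apply, mul_comm, map_mul, Module.End.mul_apply, hPu, map_zero, add_zero]
    rw [← e, hg]
  have h1 := key (g %ₘ P * C (g %ₘ P).leadingCoeff⁻¹) (monic_mul_leadingCoeff_inv h0) (by
    rw [mul_comm, map_mul, aeval_C, Module.End.mul_apply, hm, map_zero])
  rw [natDegree_mul_C (inv_ne_zero (leadingCoeff_ne_zero.2 h0))] at h1
  rcases eq_or_ne P 1 with rfl | hP1
  · exact h0 (modByMonic_one g)
  have := natDegree_modByMonic_lt g hPm hP1
  omega

theorem irr_alt (hP : IsPack B f r) {U : Submodule F V} (hU : Inv f U)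
    (hd : finrank F U = ordq F r) (hfix : U ⊓ fixS f = ⊥) : Ndg B U ∨ Iso0 B U := by
  rcases eq_or_ne (U ⊓ perp B U) ⊥ with h | h
  · refine Or.inl fun u hu h0 => ?_
    by_contra hall
    push Not at hall
    have : u ∈ U ⊓ perp B U := ⟨hu, mem_perp.2 fun w hw => hP.refl u w (hall w hw)⟩
    rw [h, Submodule.mem_bot] at this
    exact h0 this
  · have e := irr_eq hP.pow_r hd hfix (hU.inf (perp_inv hP hU)) inf_le_left h
    refine Or.inr fun u hu v hv => ?_
    exact mem_perp.1 (e.symm.le hv).2 u hu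

/-- An isotropic irreducible subspace has an irreducible partner. -/
theorem exists_partner (hP : IsPack B f r) (hr : (r : F) ≠ 0) {W U : Submodule F V} (hW : Inv f W)
    (hWn : Ndg B W) (hfix : W ⊓ fixS f = ⊥) (hU : Inv f U) (hd : finrank F U = ordq F r)
    (hUW : U ≤ W) (hiso : Iso0 B U) :
    ∃ U', Inv f U' ∧ U' ≤ W ∧ finrank F U' = ordq F r ∧ U ⊓ U' = ⊥ ∧ Ndg B (U ⊔ U') ∧
      (∀ b ∈ U', (∀ a ∈ U, B a b = 0) → b = 0) := by
  set A := W ⊓ perp B U with hA
  obtain ⟨C0, hC0, hcompl⟩ := exists_compl (isSemisimple hP.pow_r hr) (hW.inf (perp_inv hP hU))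
  have hAU : U ≤ A := fun u hu => ⟨hUW hu, mem_perp.2 fun w hw => hiso w hw u hu⟩
  have hdec : ∀ w ∈ W, ∃ a ∈ A, ∃ b ∈ W ⊓ C0, w = a + b := fun w hw => by
    obtain ⟨a, ha, b, hb, e⟩ :=
      Submodule.mem_sup.1 (hcompl.sup_eq_top.symm ▸ Submodule.mem_top : w ∈ A ⊔ C0)
    exact ⟨a, ha, b, ⟨by rw [eq_sub_of_add_eq' e]; exact W.sub_mem hw ha.1, hb⟩, e.symm⟩
  have hzero : ∀ b ∈ W ⊓ C0, (∀ a ∈ U, B a b = 0) → b = 0 := fun b hb h => by
    have : b ∈ A ⊓ C0 := ⟨⟨hb.1, mem_perp.2 h⟩, hb.2⟩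
    rwa [hcompl.inf_eq_bot, Submodule.mem_bot] at this
  have hdis : U ⊓ (W ⊓ C0) = ⊥ :=
    le_bot_iff.1 ((inf_le_inf hAU inf_le_right).trans hcompl.inf_eq_bot.le)
  have hne : W ⊓ C0 ≠ ⊥ := fun e => by
    obtain ⟨u, hu, hu0⟩ := U.exists_mem_ne_zero_of_ne_bot fun h => by
      rw [h, finrank_bot] at hd
      have := ordq_pos (F := F) hr
      omega
    obtain ⟨w, hw, hne⟩ := hWn u (hUW hu) hu0
    obtain ⟨a, ha, b, hb, rfl⟩ := hdec w hw
    rw [e, Submodule.mem_bot] at hb
    rw [hb, add_zero] at hne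
    exact hne (mem_perp.1 ha.2 u hu)
  have hle : finrank F ↥(W ⊓ C0) ≤ finrank F U := by
    let b := Module.finBasis F U
    let Θ : ↥(W ⊓ C0) →ₗ[F] (Fin (finrank F U) → F) :=
      LinearMap.pi fun j => (B (b j).1).comp (W ⊓ C0).subtype
    have hinj : Function.Injective Θ := by
      rw [← LinearMap.ker_eq_bot, Submodule.eq_bot_iff]
      intro x hx
      refine Subtype.ext (hzero x.1 x.2 fun a ha => ?_)
      have e : (⟨a, ha⟩ : U) = ∑ j, b.repr ⟨a, ha⟩ j • b j := (b.sum_repr _).symm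
      rw [show a = ∑ j, b.repr ⟨a, ha⟩ j • (b j).1 from
        (congrArg U.subtype e).trans (by rw [map_sum]; rfl), map_sum, LinearMap.sum_apply]
      refine Finset.sum_eq_zero fun j _ => ?_
      rw [map_smulₛₗ, LinearMap.smul_apply,
        show B (b j).1 x.1 = 0 from congrFun (LinearMap.mem_ker.1 hx) j, smul_zero]
    have := LinearMap.finrank_le_finrank_of_injective hinj
    rwa [finrank_fin_fun] at this
  have hfix' : (W ⊓ C0) ⊓ fixS f = ⊥ := le_bot_iff.1 ((inf_le_inf_right _ inf_le_left).trans hfix.le)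
  refine ⟨W ⊓ C0, hW.inf hC0, inf_le_left,
    le_antisymm (hd ▸ hle) (dim_le_ordq hP.pow_r (hW.inf hC0) hfix' hne), hdis, fun x hx h0 => ?_, hzero⟩
  obtain ⟨a, ha, b, hb, rfl⟩ := Submodule.mem_sup.1 hx
  rcases ne_or_eq b 0 with hb0 | rfl
  · obtain ⟨u, hu, hne'⟩ : ∃ u ∈ U, B u b ≠ 0 := by
      by_contra hh
      push Not at hh
      exact hb0 (hzero b hb hh)
    refine ⟨u, Submodule.mem_sup_left hu, ?_⟩
    rw [map_add, LinearMap.add_apply, hiso a ha u hu, zero_add]
    exact fun h => hne' (hP.refl b u h)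
  · rw [add_zero] at h0 ⊢
    obtain ⟨w, hw, hne'⟩ := hWn a (hUW ha) h0
    obtain ⟨a', ha', b', hb', rfl⟩ := hdec w hw
    refine ⟨b', Submodule.mem_sup_right hb', ?_⟩
    rwa [map_add, mem_perp.1 ha'.2 a ha, zero_add] at hne'

/-- Blocks: the self-dual case. -/
theorem exists_block_selfDual {p : ℕ} [Fact p.Prime] [CharP F p] (hP : IsPack B f r)
    (hr : (r : F) ≠ 0) (hr2 : r ≠ 2) (hsd : SelfDual p r σ) {W : Submodule F V} (hW : Inv f W)
    (hWn : Ndg B W) (hfix : W ⊓ fixS f = ⊥) (hne : W ≠ ⊥) :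
    ∃ X, Inv f X ∧ Ndg B X ∧ X ≤ W ∧ finrank F X = ordq F r := by
  obtain ⟨N, hN, hσ⟩ := hsd
  obtain ⟨U, u, P, hU, hUW, hUd, hu, hu0, hPm, hPd, hPu⟩ := exists_irr hP.pow_r hr hW hfix hne
  have hsub : ∀ {A : Submodule F V}, A ≤ W → A ⊓ fixS f = ⊥ :=
    fun h => le_bot_iff.1 ((inf_le_inf_right _ h).trans hfix.le)
  rcases irr_alt hP hU hUd (hsub hUW) with h | hiso
  · exact ⟨U, hU, h, hUW, hUd⟩
  obtain ⟨U', hU', hU'W, hU'd, hdis, hX, hzero⟩ := exists_partner hP hr hW hWn hfix hU hUd hUW hiso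
  rcases irr_alt hP hU' hU'd (hsub hU'W) with h | hiso'
  · exact ⟨U', hU', h, hU'W, hU'd⟩
  have hUeq := range_cyc_eq hP.pow_r hU hUd (hsub hUW) hu hu0
  have hkillU : ∀ a ∈ U, aeval f P a = 0 := by
    rw [← hUeq]
    rintro _ ⟨g, rfl⟩
    show aeval f P (aeval f g u) = 0
    rw [← Module.End.mul_apply, ← map_mul, mul_comm, map_mul, Module.End.mul_apply, hPu, map_zero]
  have hQ : ∀ a ∈ U, (aeval f P ^ p ^ N) a = 0 := fun a ha => by
    obtain ⟨k, hk⟩ : ∃ k, p ^ N = k + 1 :=
      ⟨p ^ N - 1, by have := Nat.one_le_pow N p (Fact.out : p.Prime).pos; omega⟩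
    rw [hk, pow_succ, Module.End.mul_apply, hkillU a ha, map_zero]
  obtain ⟨u', hu', hu'0⟩ := U'.exists_mem_ne_zero_of_ne_bot fun h => by
    rw [h, finrank_bot] at hU'd
    have := ordq_pos (F := F) hr
    omega
  have hPu' : aeval f P u' = 0 := by
    refine hzero _ (hU'.aeval P u' hu') fun a ha => hP.refl _ _ ?_
    rw [adj_selfDual hP hN hσ, hQ a ha, map_zero]
  have hmem : ∀ g : F[X], aeval f g u ∈ U := fun g => hU.aeval g u hu
  by_contra hno
  push Not at hno
  -- every graph is isotropic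
  have key : ∀ (k : F[X]), ∀ g h : F[X],
      B (aeval f g u) (aeval f (h * k) u') + B (aeval f (g * k) u') (aeval f h u) = 0 := by
    intro k
    let ψ : F[X] →ₗ[F] V := cyc f u + (cyc f u').comp (LinearMap.mulRight F k)
    have hψ : ∀ g, ψ g = aeval f g u + aeval f (g * k) u' := fun g => rfl
    have hXinv : Inv f (LinearMap.range ψ) := by
      rintro _ ⟨g, rfl⟩
      refine ⟨X * g, ?_⟩
      rw [hψ, hψ, map_add, mul_assoc, map_mul, map_mul (aeval f) X (g * k), aeval_X]
      rfl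
    have hXW : LinearMap.range ψ ≤ W := by
      rintro _ ⟨g, rfl⟩
      rw [hψ]
      exact W.add_mem (hUW (hmem g)) (hU'W (hU'.aeval _ u' hu'))
    have hXd : finrank F (LinearMap.range ψ) ≤ ordq F r := by
      refine le_trans ?_ hPd
      have hker : ∀ g, ψ g = ψ (g %ₘ P) := fun g => by
        have hz : ψ (P * (g /ₘ P)) = 0 := by
          rw [hψ, mul_comm P, map_mul, Module.End.mul_apply, hPu, map_zero, zero_add, mul_right_comm,
            map_mul, Module.End.mul_apply, hPu', map_zero]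
        conv_lhs => rw [← modByMonic_add_div g P, map_add, hz, add_zero]
      rcases eq_or_ne P 1 with rfl | hP1
      · exact absurd (by simpa using hPu) hu0
      have hle : LinearMap.range ψ ≤
          (Polynomial.degreeLT F P.natDegree).map ψ := by
        rintro _ ⟨g, rfl⟩
        exact ⟨g %ₘ P, mem_degreeLT.2 (degree_modByMonic_lt g hPm |>.trans_le degree_le_natDegree),
          (hker g).symm⟩
      have : FiniteDimensional F (Polynomial.degreeLT F P.natDegree) :=
        LinearEquiv.finiteDimensional (Polynomial.degreeLTEquiv F P.natDegree).symm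
      exact (Submodule.finrank_mono hle).trans ((Submodule.finrank_map_le _ _).trans
        (by rw [(Polynomial.degreeLTEquiv F P.natDegree).finrank_eq, finrank_fin_fun]))
    have hne' : LinearMap.range ψ ≠ ⊥ := fun e => by
      have h0 : ψ 1 = 0 := by
        have := LinearMap.mem_range_self ψ 1
        rwa [e, Submodule.mem_bot] at this
      rw [hψ, one_mul, map_one, Module.End.one_apply] at h0
      have : u ∈ U ⊓ U' := ⟨hu, by rw [eq_neg_of_add_eq_zero_left h0]; exact U'.neg_mem (hU'.aeval _ u' hu')⟩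
      rw [hdis, Submodule.mem_bot] at this
      exact hu0 this
    have hXdim := le_antisymm hXd (dim_le_ordq hP.pow_r hXinv (hsub hXW) hne')
    rcases irr_alt hP hXinv hXdim (hsub hXW) with h | h
    · exact absurd hXdim (hno _ hXinv h hXW)
    intro g g'
    have e := h _ ⟨g, rfl⟩ _ ⟨g', rfl⟩
    simp only [hψ, map_add, LinearMap.add_apply,
      hiso _ (hmem g) _ (hmem g'), hiso' _ (hU'.aeval (g * k) u' hu') _ (hU'.aeval (g' * k) u' hu'),
      zero_add, add_zero] at e
    rwa [add_comm] at e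
  have h1 := key 1
  have h2 := key X
  -- hence `f` and its inverse agree on `U'`
  have hz : ∀ g : F[X], aeval f (g * X) u' = (f ^ (r - 1)) (aeval f g u') := by
    intro g
    rw [← sub_eq_zero]
    refine hzero _ (U'.sub_mem (hU'.aeval _ u' hu') ((hU'.pow (r - 1)) _ (hU'.aeval _ u' hu'))) fun a ha => ?_
    rw [← hUeq] at ha
    obtain ⟨g', rfl⟩ := ha
    refine hP.refl _ _ ?_
    show B (aeval f (g * X) u' - (f ^ (r - 1)) (aeval f g u')) (aeval f g' u) = 0
    rw [map_sub, LinearMap.sub_apply, sub_eq_zero]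
    have e1 := h2 g g'
    have e2 := h1 g (g' * X)
    simp only [mul_one] at e2
    rw [eq_neg_of_add_eq_zero_right e1, ← eq_neg_of_add_eq_zero_right e2]
    have e3 : aeval f (g' * X) u = f (aeval f g' u) := by
      rw [mul_comm, map_mul, aeval_X, Module.End.mul_apply]
    rw [e3]
    conv_rhs => rw [← hP.isom ((f ^ (r - 1)) (aeval f g u')), ← Module.End.mul_apply, ← pow_succ',
      Nat.sub_add_cancel hP.pos, hP.pow_r, Module.End.one_apply]
  have h4 := hz 1
  rw [one_mul, aeval_X, map_one, Module.End.one_apply] at h4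
  have hff : (f ^ 2) u' = u' := by
    rw [pow_two, Module.End.mul_apply]
    conv_lhs => rw [h4]
    rw [← Module.End.mul_apply, ← pow_succ', Nat.sub_add_cancel hP.pos, hP.pow_r, Module.End.one_apply]
  obtain ⟨k, hk⟩ := hr'.out.odd_of_ne_two hr2
  have hfix' : f u' = u' := by
    have e : ∀ j : ℕ, (f ^ (2 * j)) u' = u' := fun j => by
      induction j with
      | zero => simp
      | succ j ih => rw [Nat.mul_succ, pow_add, Module.End.mul_apply, hff, ih]
    conv_rhs => rw [show u' = (f ^ r) u' by rw [hP.pow_r, Module.End.one_apply]]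
    rw [hk, pow_succ', Module.End.mul_apply, e]
  have : u' ∈ W ⊓ fixS f := ⟨hU'W hu', mem_fixS.2 hfix'⟩
  rw [hfix, Submodule.mem_bot] at this
  exact hu'0 this

/-- Blocks: the paired case. -/
theorem exists_block_pair (hP : IsPack B f r) (hr : (r : F) ≠ 0)
    (hno : ∀ U : Submodule F V, Inv f U → U ⊓ fixS f = ⊥ → finrank F U = ordq F r → ¬ Ndg B U)
    {W : Submodule F V} (hW : Inv f W) (hWn : Ndg B W) (hfix : W ⊓ fixS f = ⊥) (hne : W ≠ ⊥) :
    ∃ X U, Inv f X ∧ Ndg B X ∧ X ≤ W ∧ finrank F X = 2 * ordq F r ∧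
      Inv f U ∧ Iso0 B U ∧ U ≤ X ∧ finrank F U = ordq F r := by
  obtain ⟨U, u, P, hU, hUW, hUd, -⟩ := exists_irr hP.pow_r hr hW hfix hne
  have hf1 : U ⊓ fixS f = ⊥ := le_bot_iff.1 ((inf_le_inf_right _ hUW).trans hfix.le)
  have hiso := (irr_alt hP hU hUd hf1).resolve_left (hno U hU hf1 hUd)
  obtain ⟨U', hU', hU'W, hU'd, hdis, hX, -⟩ := exists_partner hP hr hW hWn hfix hU hUd hUW hiso
  refine ⟨U ⊔ U', U, hU.sup hU', hX, sup_le hUW hU'W, ?_, hU, hiso, le_sup_left, hUd⟩
  have := Submodule.finrank_sup_add_finrank_inf_eq U U'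
  rw [hdis, finrank_bot] at this
  omega

end CfsgLib.Elusive2
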