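import Cfsg.Agent.Elusive.Construct
import Cfsg.Agent.Elusive.Jordan
import Mathlib.LinearAlgebra.SesquilinearForm.Basic

/-!
Reflexive sesquilinear forms: non-degenerate and totally isotropic invariant subspaces of an isometry.
-/

set_option autoImplicit false
set_option linter.unusedSectionVars false

namespace CfsgLib.Elusive2

open Module CfsgLib.Elusive

variable {F V : Type*} [Field F] [AddCommGroup V] [Module F V] {σ : F →+* F}

/-- No non-zero vector of `W` is orthogonal to `W`. -/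
def Ndg (B : V →ₛₗ[σ] V →ₗ[F] F) (W : Submodule F V) : Prop :=
  ∀ u ∈ W, u ≠ 0 → ∃ v ∈ W, B u v ≠ 0

/-- The form vanishes on `W`. -/
def Iso0 (B : V →ₛₗ[σ] V →ₗ[F] F) (W : Submodule F V) : Prop :=
  ∀ u ∈ W, ∀ v ∈ W, B u v = 0

/-- The orthogonal of `W`. -/
def perp (B : V →ₛₗ[σ] V →ₗ[F] F) (W : Submodule F V) : Submodule F V :=
  ⨅ w : W, LinearMap.ker (B w.1)

/-- A reflexive form with the isometry `f` of finite order `r`. -/
structure IsPack (B : V →ₛₗ[σ] V →ₗ[F] F) (f : V →ₗ[F] V) (r : ℕ) : Prop where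
  refl : ∀ u v, B u v = 0 → B v u = 0
  isom : ∀ u v, B (f u) (f v) = B u v
  pow_r : f ^ r = 1
  pos : 0 < r

variable {B : V →ₛₗ[σ] V →ₗ[F] F}

theorem mem_perp {W : Submodule F V} {v : V} : v ∈ perp B W ↔ ∀ w ∈ W, B w v = 0 := by
  rw [perp, Submodule.mem_iInf]
  exact ⟨fun h w hw => h ⟨w, hw⟩, fun h w => h w.1 w.2⟩

theorem Iso0.mono {A W : Submodule F V} (h : Iso0 B W) (hle : A ≤ W) : Iso0 B A :=
  fun u hu v hv => h u (hle hu) v (hle hv)

theorem Iso0.bot : Iso0 B (⊥ : Submodule F V) := fun u hu v _ => by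
  rw [(Submodule.mem_bot F).1 hu, map_zero, LinearMap.zero_apply]

theorem Ndg.bot : Ndg B (⊥ : Submodule F V) := fun u hu h0 => absurd ((Submodule.mem_bot F).1 hu) h0

theorem inf_perp (hB : ∀ u v, B u v = 0 → B v u = 0) {W : Submodule F V} (hW : Ndg B W) :
    W ⊓ perp B W = ⊥ := by
  refine (Submodule.eq_bot_iff _).2 fun v hv => ?_
  by_contra h0
  obtain ⟨u, hu, hne⟩ := hW v hv.1 h0
  exact hne (hB u v (mem_perp.1 hv.2 u hu))

theorem sup_perp [FiniteDimensional F V] (hB : ∀ u v, B u v = 0 → B v u = 0) {W : Submodule F V}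
    (hW : Ndg B W) : W ⊔ perp B W = ⊤ := by
  let b := Module.finBasis F W
  let Φ : V →ₗ[F] (Fin (finrank F W) → F) := LinearMap.pi fun j => B (b j).1
  have hker : ∀ v, Φ v = 0 → v ∈ perp B W := fun v h => mem_perp.2 fun w hw => by
    have e : (⟨w, hw⟩ : W) = ∑ j, b.repr ⟨w, hw⟩ j • b j := (b.sum_repr _).symm
    rw [show w = ∑ j, b.repr ⟨w, hw⟩ j • (b j).1 from
      (congrArg W.subtype e).trans (by rw [map_sum]; rfl)]
    rw [map_sum, LinearMap.sum_apply]
    refine Finset.sum_eq_zero fun j _ => ?_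
    rw [map_smulₛₗ, LinearMap.smul_apply, show B (b j).1 v = 0 from congrFun h j, smul_zero]
  have hinj : Function.Injective (Φ.domRestrict W) := by
    rw [← LinearMap.ker_eq_bot, Submodule.eq_bot_iff]
    intro w hw
    have : w.1 ∈ W ⊓ perp B W := ⟨w.2, hker _ hw⟩
    rw [inf_perp hB hW, Submodule.mem_bot] at this
    exact Subtype.ext this
  have hsurj := (LinearMap.injective_iff_surjective_of_finrank_eq_finrank
    (by rw [finrank_fin_fun])).1 hinj
  refine eq_top_iff.2 fun v _ => ?_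
  obtain ⟨w, hw⟩ := hsurj (Φ v)
  refine Submodule.mem_sup.2 ⟨w.1, w.2, v - w.1, hker _ ?_, add_sub_cancel w.1 v⟩
  rw [map_sub, ← hw, LinearMap.domRestrict_apply, sub_self]

theorem exists_split [FiniteDimensional F V] (hB : ∀ u v, B u v = 0 → B v u = 0)
    {X T : Submodule F V} (hX : Ndg B X) (hXT : X ≤ T) :
    X ⊔ (T ⊓ perp B X) = T ∧ X ⊓ (T ⊓ perp B X) = ⊥ ∧
      finrank F X + finrank F ↥(T ⊓ perp B X) = finrank F T ∧
      (Ndg B T → Ndg B (T ⊓ perp B X)) := by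
  have h1 : X ⊔ (T ⊓ perp B X) = T := by
    refine le_antisymm (sup_le hXT inf_le_left) fun v hv => ?_
    obtain ⟨x, hx, y, hy, rfl⟩ :=
      Submodule.mem_sup.1 (sup_perp hB hX ▸ Submodule.mem_top : v ∈ X ⊔ perp B X)
    exact Submodule.add_mem_sup hx ⟨by simpa using T.sub_mem hv (hXT hx), hy⟩
  have h2 : X ⊓ (T ⊓ perp B X) = ⊥ :=
    le_bot_iff.1 ((inf_le_inf_left X inf_le_right).trans (inf_perp hB hX).le)
  refine ⟨h1, h2, ?_, fun hT u hu h0 => ?_⟩
  · have := Submodule.finrank_sup_add_finrank_inf_eq X (T ⊓ perp B X)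
    rw [h1, h2, finrank_bot] at this
    omega
  · obtain ⟨v, hv, hne⟩ := hT u hu.1 h0
    obtain ⟨x, hx, y, hy, rfl⟩ := Submodule.mem_sup.1 (h1.symm ▸ hv : v ∈ X ⊔ (T ⊓ perp B X))
    refine ⟨y, hy, fun h => hne ?_⟩
    rw [map_add, hB x u (mem_perp.1 hu.2 x hx), h, add_zero]

theorem Ndg.sup (hB : ∀ u v, B u v = 0 → B v u = 0) {A C : Submodule F V} (hA : Ndg B A)
    (hC : Ndg B C) (hAC : ∀ a ∈ A, ∀ c ∈ C, B a c = 0) : Ndg B (A ⊔ C) := by
  intro u hu h0
  obtain ⟨a, ha, c, hc, rfl⟩ := Submodule.mem_sup.1 hu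
  rcases ne_or_eq a 0 with ha0 | rfl
  · obtain ⟨v, hv, hne⟩ := hA a ha ha0
    refine ⟨v, Submodule.mem_sup_left hv, ?_⟩
    rwa [map_add, LinearMap.add_apply, hB v c (hAC v hv c hc), add_zero]
  · obtain ⟨v, hv, hne⟩ := hC c hc (by simpa using h0)
    refine ⟨v, Submodule.mem_sup_right hv, ?_⟩
    rwa [zero_add]

theorem Iso0.sup (hB : ∀ u v, B u v = 0 → B v u = 0) {A C : Submodule F V} (hA : Iso0 B A)
    (hC : Iso0 B C) (hAC : ∀ a ∈ A, ∀ c ∈ C, B a c = 0) : Iso0 B (A ⊔ C) := by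
  intro u hu v hv
  obtain ⟨a, ha, c, hc, rfl⟩ := Submodule.mem_sup.1 hu
  obtain ⟨a', ha', c', hc', rfl⟩ := Submodule.mem_sup.1 hv
  simp [hA a ha a' ha', hC c hc c' hc', hAC a ha c' hc', hB a' c (hAC a' ha' c hc)]

/-- An isotropic subspace of a non-degenerate space has at most half its dimension. -/
theorem Iso0.two_mul_le [FiniteDimensional F V] (hB : ∀ u v, B u v = 0 → B v u = 0)
    {U T : Submodule F V} (hU : Iso0 B U) (hUT : U ≤ T) (hT : Ndg B T) :
    2 * finrank F U ≤ finrank F T := by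
  obtain ⟨C, hC⟩ := Submodule.exists_isCompl (U.comap T.subtype)
  let c := Module.finBasis F C
  let Θ : U →ₗ[F] (Fin (finrank F C) → F) :=
    LinearMap.pi fun j => (B (c j).1.1).comp U.subtype
  have hinj : Function.Injective Θ := by
    rw [← LinearMap.ker_eq_bot, Submodule.eq_bot_iff]
    intro u hu
    by_contra h0
    obtain ⟨v, hv, hne⟩ := hT u.1 (hUT u.2) fun e => h0 (Subtype.ext e)
    refine hne (hB v u.1 ?_)
    obtain ⟨a, ha, x, hx, hax⟩ := Submodule.mem_sup.1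
      (hC.sup_eq_top.symm ▸ Submodule.mem_top : (⟨v, hv⟩ : T) ∈ U.comap T.subtype ⊔ C)
    have hv' : v = a.1 + x.1 := (congrArg Subtype.val hax).symm
    have hx0 : B x.1 u.1 = 0 := by
      have e : (⟨x, hx⟩ : C) = ∑ j, c.repr ⟨x, hx⟩ j • c j := (c.sum_repr _).symm
      rw [show x.1 = ∑ j, c.repr ⟨x, hx⟩ j • (c j).1.1 from
        (congrArg (T.subtype.comp C.subtype) e).trans (by rw [map_sum]; rfl), map_sum,
        LinearMap.sum_apply]
      refine Finset.sum_eq_zero fun j _ => ?_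
      rw [map_smulₛₗ, LinearMap.smul_apply]
      have := congrFun (LinearMap.mem_ker.1 hu) j
      rw [show B (c j).1.1 u.1 = 0 from this, smul_zero]
    rw [hv', map_add, LinearMap.add_apply, hU a.1 ha u.1 u.2, hx0, add_zero]
  have h1 := LinearMap.finrank_le_finrank_of_injective hinj
  rw [finrank_fin_fun] at h1
  have h2 := Submodule.finrank_add_eq_of_isCompl hC
  rw [(Submodule.comapSubtypeEquivOfLe hUT).finrank_eq] at h2
  omega

/-- The orthogonal of an invariant subspace is invariant. -/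
theorem perp_inv {f : V →ₗ[F] V} {r : ℕ} (hP : IsPack B f r) {W : Submodule F V} (hW : Inv f W) :
    Inv f (perp B W) := by
  have hk : ∀ k : ℕ, ∀ w ∈ W, (f ^ k) w ∈ W := fun k => by
    induction k with
    | zero => intro w hw; exact hw
    | succ k ih => intro w hw; rw [pow_succ', Module.End.mul_apply]; exact hW _ (ih w hw)
  intro v hv
  refine mem_perp.2 fun w hw => ?_
  have e : f ((f ^ (r - 1)) w) = w := by
    rw [← Module.End.mul_apply, ← pow_succ', Nat.sub_add_cancel hP.pos, hP.pow_r, Module.End.one_apply]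
  rw [← e, hP.isom]
  exact mem_perp.1 hv _ (hk _ w hw)

/-- Peeling non-degenerate invariant pieces of a fixed dimension. -/
theorem exists_peel [FiniteDimensional F V] {f : V →ₗ[F] V} {r : ℕ} (hP : IsPack B f r) {c : ℕ}
    {T : Submodule F V} (hT : Inv f T) (hTn : Ndg B T)
    (hblock : ∀ W, Inv f W → Ndg B W → W ≤ T → W ≠ ⊥ →
      ∃ X, Inv f X ∧ Ndg B X ∧ X ≤ W ∧ finrank F X = c) :
    ∀ a, a * c ≤ finrank F T → ∃ X, Inv f X ∧ Ndg B X ∧ X ≤ T ∧ finrank F X = a * c := by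
  intro a
  induction a with
  | zero => exact fun _ => ⟨⊥, Inv.bot f, Ndg.bot, bot_le, by simp⟩
  | succ a ih =>
    intro h
    rw [Nat.add_mul, Nat.one_mul] at h ⊢
    obtain ⟨X, hX, hXn, hXT, hXd⟩ := ih (by omega)
    rcases Nat.eq_zero_or_pos c with rfl | hc
    · exact ⟨X, hX, hXn, hXT, by omega⟩
    obtain ⟨-, -, hdim, hnd⟩ := exists_split hP.refl hXn hXT
    obtain ⟨Y, hY, hYn, hYle, hYd⟩ := hblock (T ⊓ perp B X) (hT.inf (perp_inv hP hX)) (hnd hTn)
      inf_le_left fun e => by rw [e, finrank_bot] at hdim; omega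
    have hXY : X ⊓ Y = ⊥ := le_bot_iff.1
      ((inf_le_inf_left X (hYle.trans inf_le_right)).trans (inf_perp hP.refl hXn).le)
    refine ⟨X ⊔ Y, hX.sup hY,
      hXn.sup hP.refl hYn fun x hx y hy => mem_perp.1 (hYle hy).2 x hx,
      sup_le hXT (hYle.trans inf_le_left), ?_⟩
    have := Submodule.finrank_sup_add_finrank_inf_eq X Y
    rw [hXY, finrank_bot] at this
    omega

section Fix

variable [FiniteDimensional F V] {f : V →ₗ[F] V} {r : ℕ}

theorem fix_orth (hP : IsPack B f r) {v u : V} (hv : v ∈ fixS f) (hu : u ∈ movS f) : B v u = 0 := by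
  obtain ⟨w, rfl⟩ := hu
  rw [LinearMap.sub_apply, Module.End.one_apply, map_sub, sub_eq_zero]
  conv_lhs => rw [← mem_fixS.1 hv]
  exact hP.isom v w

/-- An invariant non-degenerate subspace splits into its fixed and moved parts. -/
theorem split_fix_mov [Fintype F] [Fact r.Prime] (hP : IsPack B f r) (hr : (r : F) ≠ 0)
    {W : Submodule F V} (hW : Inv f W) (hWn : Ndg B W) :
    Ndg B (W ⊓ fixS f) ∧ Ndg B (W.map (f - 1)) ∧ (W.map (f - 1)) ⊓ fixS f = ⊥ := by
  have hbot : (W.map (f - 1)) ⊓ fixS f = ⊥ := by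
    refine (Submodule.eq_bot_iff _).2 ?_
    rintro _ ⟨⟨w, -, rfl⟩, h2⟩
    exact disjoint_fix_mov hP.pow_r hr h2 ⟨w, rfl⟩
  have hle : W ⊓ fixS f ⊔ W.map (f - 1) ≤ W := sup_le inf_le_left hW.map_sub.2
  have heq : W ⊓ fixS f ⊔ W.map (f - 1) = W := by
    refine Submodule.eq_of_le_of_finrank_le hle ?_
    have h1 := Submodule.finrank_sup_add_finrank_inf_eq (W ⊓ fixS f) (W.map (f - 1))
    have h2 : (W ⊓ fixS f) ⊓ W.map (f - 1) = ⊥ :=
      le_bot_iff.1 ((le_inf inf_le_right (inf_le_left.trans inf_le_right)).trans hbot.le)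
    rw [h2, finrank_bot] at h1
    have := dim_split (f := f) W
    omega
  have horth : ∀ v ∈ W ⊓ fixS f, ∀ u ∈ W.map (f - 1), B v u = 0 := by
    rintro v hv _ ⟨w, -, rfl⟩
    exact fix_orth hP hv.2 ⟨w, rfl⟩
  refine ⟨fun u hu h0 => ?_, fun u hu h0 => ?_, hbot⟩
  · obtain ⟨v, hv, hne⟩ := hWn u hu.1 h0
    obtain ⟨a, ha, b, hb, rfl⟩ := Submodule.mem_sup.1 (heq.symm ▸ hv : v ∈ W ⊓ fixS f ⊔ W.map (f - 1))
    exact ⟨a, ha, by rwa [map_add, horth u hu b hb, add_zero] at hne⟩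
  · obtain ⟨v, hv, hne⟩ := hWn u (hle (Submodule.mem_sup_right hu)) h0
    obtain ⟨a, ha, b, hb, rfl⟩ := Submodule.mem_sup.1 (heq.symm ▸ hv : v ∈ W ⊓ fixS f ⊔ W.map (f - 1))
    exact ⟨b, hb, by rwa [map_add, hP.refl a u (horth a ha u hu), zero_add] at hne⟩

theorem Inv.fixS (f : V →ₗ[F] V) : Inv f (fixS f) := fun v hv => by rwa [mem_fixS.1 hv]

theorem Inv.of_le_fix {W : Submodule F V} (h : W ≤ CfsgLib.Elusive.fixS f) : Inv f W :=
  fun v hv => by rwa [mem_fixS.1 (h hv)]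

theorem Inv.movS (f : V →ₗ[F] V) : Inv f (movS f) := by
  rintro _ ⟨w, rfl⟩
  exact ⟨f w, by simp⟩

end Fix

end CfsgLib.Elusive2
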