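import Cfsg.Agent.Elusive2.Kill
import Mathlib.LinearAlgebra.Dual.Lemmas

/-!
Totally isotropic invariant subspaces: peeling, twisting and counting types.
-/

set_option autoImplicit false
set_option linter.unusedSectionVars false

namespace CfsgLib.Elusive2

open Module Polynomial CfsgLib.Elusive

variable {F V : Type*} [Field F] [AddCommGroup V] [Module F V] [FiniteDimensional F V] {σ : F →+* F}
  {B : V →ₛₗ[σ] V →ₗ[F] F} {f : V →ₗ[F] V} {r : ℕ}

/-- Peeling non-degenerate invariant blocks containing isotropic invariant subspaces. -/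
theorem exists_iso_peel (hP : IsPack B f r) {c e L : ℕ} {T : Submodule F V} (hT : Inv f T)
    (hTn : Ndg B T)
    (hblock : ∀ W, Inv f W → Ndg B W → W ≤ T → L ≤ finrank F W →
      ∃ X U, Inv f X ∧ Ndg B X ∧ X ≤ W ∧ finrank F X = c ∧
        Inv f U ∧ Iso0 B U ∧ U ≤ X ∧ finrank F U = e) :
    ∀ a, (a = 0 ∨ L + a * c ≤ finrank F T + c) →
      ∃ X U, Inv f X ∧ Ndg B X ∧ X ≤ T ∧ finrank F X = a * c ∧
        Inv f U ∧ Iso0 B U ∧ U ≤ X ∧ finrank F U = a * e := by
  intro a
  induction a with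
  | zero =>
    exact fun _ => ⟨⊥, ⊥, Inv.bot f, Ndg.bot, bot_le, by simp, Inv.bot f, Iso0.bot, le_rfl, by simp⟩
  | succ a ih =>
    intro h
    simp only [Nat.add_mul, Nat.one_mul] at h ⊢
    obtain ⟨X, U, hX, hXn, hXT, hXd, hU, hUi, hUX, hUd⟩ := ih (Or.inr (by omega))
    obtain ⟨-, -, hdim, hnd⟩ := exists_split hP.refl hXn hXT
    obtain ⟨Y, U', hY, hYn, hYle, hYd, hU', hU'i, hU'Y, hU'd⟩ :=
      hblock (T ⊓ perp B X) (hT.inf (perp_inv hP hX)) (hnd hTn) inf_le_left (by omega)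
    have horth : ∀ x ∈ X, ∀ y ∈ Y, B x y = 0 := fun x hx y hy => mem_perp.1 (hYle hy).2 x hx
    have hXY : X ⊓ Y = ⊥ := le_bot_iff.1
      ((inf_le_inf_left X (hYle.trans inf_le_right)).trans (inf_perp hP.refl hXn).le)
    refine ⟨X ⊔ Y, U ⊔ U', hX.sup hY, hXn.sup hP.refl hYn horth,
      sup_le hXT (hYle.trans inf_le_left), ?_, hU.sup hU',
      hUi.sup hP.refl hU'i fun x hx y hy => horth x (hUX hx) y (hU'Y hy), sup_le_sup hUX hU'Y, ?_⟩
    · have := Submodule.finrank_sup_add_finrank_inf_eq X Y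
      rw [hXY, finrank_bot] at this
      omega
    · have := Submodule.finrank_sup_add_finrank_inf_eq U U'
      rw [le_bot_iff.1 ((inf_le_inf hUX hU'Y).trans hXY.le), finrank_bot] at this
      omega

theorem selfDual_L {p : ℕ} [Fact p.Prime] [CharP F p] (hP : IsPack B f r) {N : ℕ}
    (hN : r ∣ p ^ N + 1) (hσ : ∀ x : F, σ x = x ^ p ^ N) (g h : F[X]) (u : V) :
    B (aeval f g u) (aeval f h u) = B u (aeval f (g ^ p ^ N * h) u) := by
  rw [adj_selfDual hP hN hσ, ← map_pow, map_mul, Module.End.mul_apply]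

variable [Fintype F] [hr' : Fact r.Prime]

/-- Two orthogonal irreducible non-degenerate subspaces of the same type contain an isotropic one. -/
theorem exists_twist {p : ℕ} [Fact p.Prime] [CharP F p] (hP : IsPack B f r) (hr : (r : F) ≠ 0)
    {N : ℕ} (hN : r ∣ p ^ N + 1) (hσ : ∀ x : F, σ x = x ^ p ^ N)
    (hQ : Fintype.card F ^ ordq F r = p ^ N * p ^ N) {τ : F → F} (hswap : ∀ u v, B v u = τ (B u v))
    {U U' : Submodule F V} (hU : Inv f U) (hU' : Inv f U') (hUd : finrank F U = ordq F r)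
    (hU'd : finrank F U' = ordq F r) (hUf : U ⊓ fixS f = ⊥) (hU'f : U' ⊓ fixS f = ⊥)
    (hUn : Ndg B U) (hU'n : Ndg B U') (horth : ∀ x ∈ U, ∀ y ∈ U', B x y = 0)
    {u u' : V} (hu : u ∈ U) (hu' : u' ∈ U') (hu0 : u ≠ 0) (hu'0 : u' ≠ 0) {P : F[X]}
    (hPm : P.Monic) (hPd : P.natDegree ≤ ordq F r) (hPu : aeval f P u = 0) (hPu' : aeval f P u' = 0) :
    ∃ Z, Inv f Z ∧ Iso0 B Z ∧ Z ≤ U ⊔ U' ∧ finrank F Z = ordq F r := by
  classical
  set Q := p ^ N with hQdef
  have hdis : U ⊓ U' = ⊥ := (Submodule.eq_bot_iff _).2 fun x hx => by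
    by_contra h0
    obtain ⟨y, hy, hne⟩ := hUn x hx.1 h0
    exact hne (hP.refl y x (horth y hy x hx.2))
  have : Fact (Irreducible P) := ⟨irreducible_of_kill hP.pow_r hr hU hUf hu hu0 hPm hPd hPu⟩
  have hdeg := natDegree_of_kill hP.pow_r hU hUf hu hu0 hPm hPd hPu
  obtain ⟨hfin, hcard⟩ := card_adjoinRoot (F := F) (P := P) hPm
  rw [hdeg, Nat.card_eq_fintype_card (α := F), hQ] at hcard
  let pb := AdjoinRoot.powerBasis hPm.ne_zero
  have : FiniteDimensional F (AdjoinRoot P) := pb.finite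
  have : CharP (AdjoinRoot P) p := charP_of_injective_algebraMap (algebraMap F _).injective p
  let M : V → (AdjoinRoot P →ₗ[F] F) := fun w =>
    (B w).comp ((cyc f w).comp (AdjoinRoot.modByMonicHom hPm))
  have hM : ∀ w, aeval f P w = 0 → ∀ g, M w (AdjoinRoot.mk P g) = B w (aeval f g w) := fun w hw g => by
    show B w (cyc f w (AdjoinRoot.modByMonicHom hPm (AdjoinRoot.mk P g))) = _
    rw [AdjoinRoot.modByMonicHom_mk, aeval_mod hw g]
    rfl
  have hL : ∀ w, aeval f P w = 0 → ∀ g h,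
      B (aeval f g w) (aeval f h w) = M w (AdjoinRoot.mk P g ^ Q * AdjoinRoot.mk P h) := fun w hw g h => by
    rw [selfDual_L hP hN hσ, ← map_pow, ← map_mul, hM w hw]
  have hMne : ∀ (W : Submodule F V), Inv f W → finrank F W = ordq F r → W ⊓ fixS f = ⊥ → Ndg B W →
      ∀ w ∈ W, w ≠ 0 → aeval f P w = 0 → M w ≠ 0 := by
    intro W hW hWd hWf hWn w hw hw0 hPw e
    obtain ⟨v, hv, hne⟩ := hWn w hw hw0
    rw [← range_cyc_eq hP.pow_r hW hWd hWf hw hw0] at hv
    obtain ⟨g, rfl⟩ := hv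
    refine hne ?_
    show B w (aeval f g w) = 0
    rw [← hM w hPw, e, LinearMap.zero_apply]
  have hswapQ : ∀ w, aeval f P w = 0 → ∀ z, M w (z ^ Q) = τ (M w z) := fun w hw z => by
    obtain ⟨g, rfl⟩ := AdjoinRoot.mk_surjective z
    rw [hM w hw, ← hswap, ← map_pow, hM w hw]
    have := selfDual_L hP hN hσ g 1 w
    rw [mul_one, map_one, Module.End.one_apply] at this
    exact this.symm
  let Ψ : AdjoinRoot P →ₗ[F] (AdjoinRoot P →ₗ[F] F) :=
    { toFun := fun a => (M u').comp (LinearMap.mulLeft F a)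
      map_add' := fun a b => LinearMap.ext fun z => by simp [add_mul]
      map_smul' := fun c a => LinearMap.ext fun z => by simp }
  have hΨ : ∀ a z, Ψ a z = M u' (a * z) := fun a z => rfl
  have hM' := hMne U' hU' hU'd hU'f hU'n u' hu' hu'0 hPu'
  have hΨinj : Function.Injective Ψ := by
    rw [← LinearMap.ker_eq_bot, Submodule.eq_bot_iff]
    intro a ha
    by_contra h0
    refine hM' (LinearMap.ext fun z => ?_)
    have := LinearMap.congr_fun (LinearMap.mem_ker.1 ha) (a⁻¹ * z)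
    rwa [hΨ, mul_inv_cancel_left₀ h0, LinearMap.zero_apply] at this
  obtain ⟨a, ha⟩ := (LinearMap.injective_iff_surjective_of_finrank_eq_finrank
    (Subspace.dual_finrank_eq (K := F) (V := AdjoinRoot P)).symm).1 hΨinj (M u)
  have ha0 : a ≠ 0 := fun e => hMne U hU hUd hUf hUn u hu hu0 hPu (by rw [← ha, e, map_zero])
  have hQ0 : Q ≠ 0 := pow_ne_zero _ (Fact.out : p.Prime).ne_zero
  -- `a` is fixed by `x ↦ x ^ Q`
  have haQ : a ^ Q = a := by
    refine (hΨinj (LinearMap.ext fun y => ?_)).symm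
    have hbij : Function.Bijective (iterateFrobenius (AdjoinRoot P) p N) :=
      (Finite.injective_iff_bijective).1 (iterateFrobenius_inj (AdjoinRoot P) p N)
    obtain ⟨z, rfl⟩ := hbij.2 y
    rw [iterateFrobenius_def, hΨ, hΨ, ← hQdef, ← mul_pow, hswapQ u' hPu', ← hΨ a z, ha,
      ← hswapQ u hPu, ← ha, hΨ]
  have hneg : (-a) ^ Q = -a := by
    conv_lhs => rw [hQdef, ← iterateFrobenius_def, map_neg, iterateFrobenius_def, ← hQdef, haQ]
  obtain ⟨k, hk0, hk⟩ := exists_norm hcard (neg_ne_zero.2 ha0) hneg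
  obtain ⟨K', rfl⟩ := AdjoinRoot.mk_surjective k
  let ψ : F[X] →ₗ[F] V := cyc f u + (cyc f u').comp (LinearMap.mulRight F K')
  have hψ : ∀ g, ψ g = aeval f g u + aeval f (g * K') u' := fun g => rfl
  have hrange : ∀ g, aeval f g u ∈ U ∧ aeval f (g * K') u' ∈ U' := fun g =>
    ⟨hU.aeval g u hu, hU'.aeval _ u' hu'⟩
  have hXinv : Inv f (LinearMap.range ψ) := by
    rintro _ ⟨g, rfl⟩
    refine ⟨X * g, ?_⟩
    rw [hψ, hψ, map_add, mul_assoc, map_mul, map_mul (aeval f) X (g * K'), aeval_X]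
    rfl
  refine ⟨LinearMap.range ψ, hXinv, ?_, ?_, ?_⟩
  · rintro _ ⟨g, rfl⟩ _ ⟨h, rfl⟩
    rw [hψ, hψ]
    simp only [map_add, LinearMap.add_apply, horth _ (hrange g).1 _ (hrange h).2,
      hP.refl _ _ (horth _ (hrange h).1 _ (hrange g).2), add_zero, zero_add]
    rw [hL u hPu, hL u' hPu', ← ha, hΨ, ← map_add,
      show a * (AdjoinRoot.mk P g ^ Q * AdjoinRoot.mk P h) +
        AdjoinRoot.mk P (g * K') ^ Q * AdjoinRoot.mk P (h * K') = 0 by
        rw [map_mul, map_mul, mul_pow]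
        have hkk : AdjoinRoot.mk P K' ^ Q * AdjoinRoot.mk P K' + a = 0 := by
          rw [← pow_succ, hk, neg_add_cancel]
        linear_combination (AdjoinRoot.mk P g ^ Q * AdjoinRoot.mk P h) * hkk, map_zero]
  · rintro _ ⟨g, rfl⟩
    rw [hψ]
    exact Submodule.add_mem_sup (hrange g).1 (hrange g).2
  · refine le_antisymm ?_ ?_
    · have hker : ∀ g, ψ g = ψ (g %ₘ P) := fun g => by
        have hz : ψ (P * (g /ₘ P)) = 0 := by
          rw [hψ, mul_comm P, map_mul, Module.End.mul_apply, hPu, map_zero, zero_add, mul_right_comm,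
            map_mul, Module.End.mul_apply, hPu', map_zero]
        conv_lhs => rw [← modByMonic_add_div g P, map_add, hz, add_zero]
      have hle : LinearMap.range ψ ≤ (Polynomial.degreeLT F P.natDegree).map ψ := by
        rintro _ ⟨g, rfl⟩
        exact ⟨g %ₘ P, mem_degreeLT.2 (degree_modByMonic_lt g hPm |>.trans_le degree_le_natDegree),
          (hker g).symm⟩
      have : FiniteDimensional F (Polynomial.degreeLT F P.natDegree) :=
        LinearEquiv.finiteDimensional (Polynomial.degreeLTEquiv F P.natDegree).symm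
      exact (Submodule.finrank_mono hle).trans ((Submodule.finrank_map_le _ _).trans
        (by rw [(Polynomial.degreeLTEquiv F P.natDegree).finrank_eq, finrank_fin_fun, hdeg]))
    · refine dim_le_ordq hP.pow_r hXinv ((Submodule.eq_bot_iff _).2 ?_) fun e => ?_
      · rintro _ ⟨⟨g, rfl⟩, hx⟩
        rw [SetLike.mem_coe, mem_fixS, hψ, map_add, ← sub_eq_zero] at hx
        set x := aeval f g u
        set y := aeval f (g * K') u'
        have h1 : f x - x = -(f y - y) := by rw [← sub_eq_zero, ← hx]; abel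
        have hmem : f x - x ∈ U ⊓ U' := ⟨U.sub_mem (hU _ (hrange g).1) (hrange g).1, by
          rw [h1]; exact U'.neg_mem (U'.sub_mem (hU' _ (hrange g).2) (hrange g).2)⟩
        rw [hdis, Submodule.mem_bot] at hmem
        rw [hmem, eq_comm, neg_eq_zero] at h1
        have hx0 : x ∈ U ⊓ fixS f := ⟨(hrange g).1, mem_fixS.2 (sub_eq_zero.1 hmem)⟩
        have hy0 : y ∈ U' ⊓ fixS f := ⟨(hrange g).2, mem_fixS.2 (sub_eq_zero.1 h1)⟩
        rw [hUf, Submodule.mem_bot] at hx0
        rw [hU'f, Submodule.mem_bot] at hy0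
        rw [hψ]
        show x + y = 0
        rw [hx0, hy0, add_zero]
      · have h0 : ψ 1 = 0 := by
          have := LinearMap.mem_range_self ψ 1
          rwa [e, Submodule.mem_bot] at this
        rw [hψ, one_mul, map_one, Module.End.one_apply] at h0
        have : u ∈ U ⊓ U' := ⟨hu, by
          rw [eq_neg_of_add_eq_zero_left h0]; exact U'.neg_mem (hU'.aeval _ u' hu')⟩
        rw [hdis, Submodule.mem_bot] at this
        exact hu0 this

/-- A block of twice the minimal dimension with an isotropic half, unless all types differ. -/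
theorem exists_pair_or_types {p : ℕ} [Fact p.Prime] [CharP F p] (hP : IsPack B f r)
    (hr : (r : F) ≠ 0) (hr2 : r ≠ 2) {N : ℕ} (hN : r ∣ p ^ N + 1) (hσ : ∀ x : F, σ x = x ^ p ^ N)
    (hQ : Fintype.card F ^ ordq F r = p ^ N * p ^ N) {τ : F → F} (hswap : ∀ u v, B v u = τ (B u v)) :
    ∀ (a : ℕ) (W : Submodule F V), Inv f W → Ndg B W → W ⊓ fixS f = ⊥ →
      a * ordq F r ≤ finrank F W →
      (∃ X U, Inv f X ∧ Ndg B X ∧ X ≤ W ∧ finrank F X = 2 * ordq F r ∧
        Inv f U ∧ Iso0 B U ∧ U ≤ X ∧ finrank F U = ordq F r) ∨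
      ∃ S : Finset F[X], S.card = a ∧
        ∀ P ∈ S, P.Monic ∧ P.natDegree ≤ ordq F r ∧ ∃ u ∈ W, u ≠ 0 ∧ aeval f P u = 0 := by
  classical
  have hi0 := ordq_pos (F := F) hr
  intro a
  induction a with
  | zero => exact fun W _ _ _ _ => Or.inr ⟨∅, rfl, by simp⟩
  | succ a ih =>
    intro W hW hWn hfix hle
    rw [Nat.add_mul, Nat.one_mul] at hle
    have hsub : ∀ {A : Submodule F V}, A ≤ W → A ⊓ fixS f = ⊥ :=
      fun h => le_bot_iff.1 ((inf_le_inf_right _ h).trans hfix.le)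
    have hne : W ≠ ⊥ := fun e => by rw [e, finrank_bot] at hle; omega
    obtain ⟨U, hU, hUn, hUW, hUd⟩ := exists_block_selfDual (p := p) hP hr hr2 ⟨N, hN, hσ⟩ hW hWn hfix hne
    obtain ⟨U1, u, P, hU1, hU1U, -, hu1, hu0, hPm, hPd, hPu⟩ :=
      exists_irr hP.pow_r hr hU (hsub hUW) fun e => by rw [e, finrank_bot] at hUd; omega
    have hu := hU1U hu1
    obtain ⟨-, -, hdim, hnd⟩ := exists_split hP.refl hUn hUW
    have hT : Inv f (W ⊓ perp B U) := hW.inf (perp_inv hP hU)
    by_cases hex : ∃ u' ∈ W ⊓ perp B U, u' ≠ 0 ∧ aeval f P u' = 0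
    · obtain ⟨u', hu', hu'0, hPu'⟩ := hex
      refine Or.inl ?_
      set U' := LinearMap.range (cyc f u')
      have hU'le : U' ≤ W ⊓ perp B U := by rintro _ ⟨g, rfl⟩; exact hT.aeval g u' hu'
      have hU'inv : Inv f U' := cyc_range_inv f u'
      have hU'f := hsub (hU'le.trans inf_le_left)
      have hu'U : u' ∈ U' := ⟨1, by simp [cyc]⟩
      have hU'd : finrank F U' = ordq F r := le_antisymm ((finrank_range_cyc_le hPm hPu').trans hPd)
        (dim_le_ordq hP.pow_r hU'inv hU'f fun e => hu'0 (by rwa [e, Submodule.mem_bot] at hu'U))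
      rcases irr_alt hP hU'inv hU'd hU'f with hU'n | hiso
      · have horth : ∀ x ∈ U, ∀ y ∈ U', B x y = 0 := fun x hx y hy => mem_perp.1 (hU'le hy).2 x hx
        obtain ⟨Z, hZ, hZi, hZle, hZd⟩ := exists_twist hP hr hN hσ hQ hswap hU hU'inv hUd hU'd
          (hsub hUW) hU'f hUn hU'n horth hu hu'U hu0 hu'0 hPm hPd hPu hPu'
        refine ⟨U ⊔ U', Z, hU.sup hU'inv, hUn.sup hP.refl hU'n horth,
          sup_le hUW (hU'le.trans inf_le_left), ?_, hZ, hZi, hZle, hZd⟩
        have := Submodule.finrank_sup_add_finrank_inf_eq U U'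
        rw [le_bot_iff.1 ((inf_le_inf_left U (hU'le.trans inf_le_right)).trans
          (inf_perp hP.refl hUn).le), finrank_bot] at this
        omega
      · obtain ⟨U'', hU'', hU''W, hU''d, hdis, hX, -⟩ :=
          exists_partner hP hr hW hWn hfix hU'inv hU'd (hU'le.trans inf_le_left) hiso
        refine ⟨U' ⊔ U'', U', hU'inv.sup hU'', hX, sup_le (hU'le.trans inf_le_left) hU''W, ?_,
          hU'inv, hiso, le_sup_left, hU'd⟩
        have := Submodule.finrank_sup_add_finrank_inf_eq U' U''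
        rw [hdis, finrank_bot] at this
        omega
    · rcases ih (W ⊓ perp B U) hT (hnd hWn) (hsub inf_le_left) (by omega) with
        ⟨X, Z, h1, h2, h3, h4⟩ | ⟨S, hS, hSP⟩
      · exact Or.inl ⟨X, Z, h1, h2, h3.trans inf_le_left, h4⟩
      · refine Or.inr ⟨insert P S, ?_, fun R hR => ?_⟩
        · rw [Finset.card_insert_of_notMem fun h => hex ?_, hS]
          obtain ⟨-, -, v, hv, hv0, hPv⟩ := hSP P h
          exact ⟨v, hv, hv0, hPv⟩
        · rcases Finset.mem_insert.1 hR with rfl | hR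
          · exact ⟨hPm, hPd, u, hUW hu, hu0, hPu⟩
          · obtain ⟨h1, h2, v, hv, hv0, hPv⟩ := hSP R hR
            exact ⟨h1, h2, v, hv.1, hv0, hPv⟩

/-- Too many blocks for the number of types. -/
theorem exists_pair_block {p : ℕ} [Fact p.Prime] [CharP F p] (hP : IsPack B f r)
    (hr : (r : F) ≠ 0) (hr2 : r ≠ 2) {N : ℕ} (hN : r ∣ p ^ N + 1) (hσ : ∀ x : F, σ x = x ^ p ^ N)
    (hQ : Fintype.card F ^ ordq F r = p ^ N * p ^ N) {τ : F → F} (hswap : ∀ u v, B v u = τ (B u v))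
    {W : Submodule F V} (hW : Inv f W) (hWn : Ndg B W) (hfix : W ⊓ fixS f = ⊥)
    (hbig : ((r - 1) / ordq F r + 1) * ordq F r ≤ finrank F W) :
    ∃ X U, Inv f X ∧ Ndg B X ∧ X ≤ W ∧ finrank F X = 2 * ordq F r ∧
      Inv f U ∧ Iso0 B U ∧ U ≤ X ∧ finrank F U = ordq F r := by
  classical
  rcases exists_pair_or_types hP hr hr2 hN hσ hQ hswap _ W hW hWn hfix hbig with h | ⟨S, hS, hSP⟩
  · exact h
  exfalso
  have hirr : ∀ P ∈ S, Irreducible P ∧ P.natDegree = ordq F r ∧ P ∣ X ^ r - 1 ∧ P.Monic := fun P hP' => by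
    obtain ⟨hm, hd, u, hu, hu0, hPu⟩ := hSP P hP'
    exact ⟨irreducible_of_kill hP.pow_r hr hW hfix hu hu0 hm hd hPu,
      natDegree_of_kill hP.pow_r hW hfix hu hu0 hm hd hPu,
      dvd_X_pow_sub_one hP.pow_r hW hfix hu hu0 hm hd hPu, hm⟩
  have hX1 : (X - C (1 : F)) ∉ S := fun h => by
    obtain ⟨-, -, u, hu, hu0, hPu⟩ := hSP _ h
    refine hu0 ?_
    have : u ∈ W ⊓ fixS f := ⟨hu, mem_fixS.2 ?_⟩
    · rwa [hfix, Submodule.mem_bot] at this
    · rw [map_sub, aeval_X, map_one, map_one, LinearMap.sub_apply, Module.End.one_apply,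
        sub_eq_zero] at hPu
      exact hPu
  set S' := insert (X - C (1 : F)) S
  have hd' : ∏ P ∈ S', P ∣ X ^ r - 1 := by
    refine Finset.prod_dvd_of_coprime (fun P hP' Q hQ' hne => ?_) fun P hP' => ?_
    · have hi : ∀ R ∈ S', Irreducible R ∧ R.Monic := fun R hR => by
        rcases Finset.mem_insert.1 hR with rfl | hR
        · exact ⟨irreducible_X_sub_C 1, monic_X_sub_C 1⟩
        · exact ⟨(hirr R hR).1, (hirr R hR).2.2.2⟩
      rw [Function.onFun, Irreducible.coprime_iff_not_dvd (hi P hP').1]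
      exact fun h => hne (eq_of_monic_of_associated (hi P hP').2 (hi Q hQ').2
        ((hi P hP').1.associated_of_dvd (hi Q hQ').1 h))
    · rcases Finset.mem_insert.1 hP' with rfl | hR
      · exact dvd_iff_isRoot.2 (by simp)
      · exact (hirr P hR).2.2.1
  have hdeg := Polynomial.natDegree_le_of_dvd hd' (X_pow_sub_C_ne_zero hr'.out.pos 1)
  rw [natDegree_prod _ _ fun R hR => ?_, Finset.sum_insert hX1, natDegree_X_sub_C,
    Finset.sum_congr rfl fun P hP' => (hirr P hP').2.1, Finset.sum_const, hS, smul_eq_mul,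
    show (X ^ r - 1 : F[X]) = X ^ r - C 1 by rw [map_one], natDegree_X_pow_sub_C] at hdeg
  · have h1 := Nat.div_add_mod (r - 1) (ordq F r)
    have h2 := Nat.mod_lt (r - 1) (ordq_pos (F := F) hr)
    have := hr'.out.one_lt
    rw [Nat.add_mul, Nat.one_mul, mul_comm] at hdeg
    omega
  · rcases Finset.mem_insert.1 hR with rfl | hR
    · exact X_sub_C_ne_zero 1
    · exact (hirr R hR).1.ne_zero

end CfsgLib.Elusive2
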