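import Cfsg.Agent.Elusive2.SympCount

/-!
The number of totally isotropic subspaces of a symplectic space.
-/

set_option autoImplicit false
set_option linter.unusedSectionVars false

namespace CfsgLib.Elusive2

open Module CfsgLib.Elusive CfsgLib.Symp CfsgLib.Symp.Geometry

variable {F : Type*} [Field F] [Fintype F] {d : ℕ}

theorem card_iso_tuple : ∀ m, m ≤ d → Nat.card (IsoTuple (Fin d) F m) =
    (∏ k ∈ Finset.range m, Nat.card F ^ k) *
      ∏ k ∈ Finset.range m, (Nat.card F ^ (2 * (d - k)) - 1) := by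
  intro m
  induction m with
  | zero => intro _; rw [card_tuple_zero]; simp
  | succ m ih =>
    intro h
    rw [card_succ_tuple, ih (by omega), Fintype.card_fin, Finset.prod_range_succ, Finset.prod_range_succ]
    have e : Nat.card F ^ (2 * d - m) - Nat.card F ^ m =
        Nat.card F ^ m * (Nat.card F ^ (2 * (d - m)) - 1) := by
      rw [Nat.mul_sub, mul_one, ← pow_add]
      congr 2
      omega
    rw [e]
    ring

theorem card_iso_mul {m : ℕ} (hm : m ≤ d) :
    Nat.card {W : Submodule F (Fin d ⊕ Fin d → F) // finrank F W = m ∧ Iso0 (sympBilin d F) W} *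
      (∏ k ∈ Finset.range m, (Nat.card F ^ (m - k) - 1)) =
      ∏ k ∈ Finset.range m, (Nat.card F ^ (2 * (d - k)) - 1) := by
  classical
  let α := {W : Submodule F (Fin d ⊕ Fin d → F) // finrank F W = m ∧ Iso0 (sympBilin d F) W}
  let span : IsoTuple (Fin d) F m → α := fun v => ⟨Submodule.span F (Set.range v.1),
    by rw [finrank_span_eq_card v.2.1, Fintype.card_fin],
    fun a ha b hb => by
      obtain ⟨ca, rfl⟩ := (Submodule.mem_span_range_iff_exists_fun F).1 ha
      obtain ⟨cb, rfl⟩ := (Submodule.mem_span_range_iff_exists_fun F).1 hb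
      have h : ∀ i j, sympBilin d F (v.1 i) (v.1 j) = 0 := v.2.2
      simp [map_sum, map_smul, h]⟩
  let fib : (W : α) → {v : IsoTuple (Fin d) F m // span v = W} ≃ {s : Fin m → W.1 // LinearIndependent F s} :=
    fun W =>
    { toFun := fun v => ⟨fun i => ⟨v.1.1 i, by
          have : Submodule.span F (Set.range v.1.1) = W.1 := congrArg Subtype.val v.2
          rw [← this]; exact Submodule.subset_span ⟨i, rfl⟩⟩,
        LinearIndependent.of_comp W.1.subtype v.1.2.1⟩
      invFun := fun s => ⟨⟨fun i => (s.1 i).1, s.2.map' W.1.subtype W.1.ker_subtype,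
          fun i j => W.2.2 _ (s.1 i).2 _ (s.1 j).2⟩, Subtype.ext (by
          refine Submodule.eq_of_le_of_finrank_eq (Submodule.span_le.2 ?_) ?_
          · rintro _ ⟨i, rfl⟩; exact (s.1 i).2
          · refine Eq.trans ?_ W.2.1.symm
            exact (finrank_span_eq_card (s.2.map' W.1.subtype W.1.ker_subtype)).trans (Fintype.card_fin m))⟩
      left_inv := fun v => rfl
      right_inv := fun s => rfl }
  have hGL : (∏ i : Fin m, (Nat.card F ^ m - Nat.card F ^ (i : ℕ))) =
      (∏ k ∈ Finset.range m, Nat.card F ^ k) * ∏ k ∈ Finset.range m, (Nat.card F ^ (m - k) - 1) := by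
    rw [Fin.prod_univ_eq_prod_range (fun i => Nat.card F ^ m - Nat.card F ^ i), ← Finset.prod_mul_distrib]
    refine Finset.prod_congr rfl fun k hk => ?_
    have := Finset.mem_range.1 hk
    rw [Nat.mul_sub, mul_one, ← pow_add, Nat.add_sub_cancel' this.le]
  have key : Nat.card (IsoTuple (Fin d) F m) =
      Nat.card α * ∏ i : Fin m, (Nat.card F ^ m - Nat.card F ^ (i : ℕ)) := by
    have := Fintype.ofFinite α
    rw [← Nat.card_congr (Equiv.sigmaFiberEquiv span), Nat.card_sigma,
      Finset.sum_congr rfl fun W _ => ?_, Finset.sum_const, Finset.card_univ, smul_eq_mul,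
      ← Nat.card_eq_fintype_card]
    rw [Nat.card_congr (fib W), card_linearIndependent (K := F) (V := W.1) W.2.1.ge, W.2.1,
      Nat.card_eq_fintype_card (α := F)]
  rw [card_iso_tuple m hm, hGL] at key
  refine Nat.eq_of_mul_eq_mul_left (Finset.prod_pos fun k _ => pow_pos Nat.card_pos k :
    0 < ∏ k ∈ Finset.range m, Nat.card F ^ k) ?_
  rw [key]
  ring

theorem not_dvd_card_iso {r : ℕ} [hr : Fact r.Prime] {m : ℕ} (hm : m ≤ d)
    (h : ∀ k < m, ¬ r ∣ Nat.card F ^ (2 * (d - k)) - 1) :
    ¬ r ∣ Nat.card {W : Submodule F (Fin d ⊕ Fin d → F) // finrank F W = m ∧ Iso0 (sympBilin d F) W} := by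
  intro hd
  have h1 : r ∣ ∏ k ∈ Finset.range m, (Nat.card F ^ (2 * (d - k)) - 1) := by
    rw [← card_iso_mul hm]; exact hd.mul_right _
  obtain ⟨k, hk, hk'⟩ := (Prime.dvd_finsetProd_iff hr.out.prime _).1 h1
  exact h k (Finset.mem_range.1 hk) hk'

theorem not_dvd_card_iso_char {p : ℕ} [hp : Fact p.Prime] [CharP F p] {m : ℕ} (hm : m ≤ d) :
    ¬ p ∣ Nat.card {W : Submodule F (Fin d ⊕ Fin d → F) // finrank F W = m ∧ Iso0 (sympBilin d F) W} := by
  refine not_dvd_card_iso hm fun k hk hdvd => ?_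
  obtain ⟨e, -, hcard⟩ := FiniteField.card F p
  have h1 : p ∣ Nat.card F ^ (2 * (d - k)) := by
    rw [Nat.card_eq_fintype_card, hcard, ← pow_mul]
    exact dvd_pow_self p (Nat.mul_ne_zero e.ne_zero (by omega))
  have h2 := Nat.dvd_sub h1 hdvd
  rw [Nat.sub_sub_self (Nat.one_le_pow _ _ Nat.card_pos)] at h2
  exact hp.out.ne_one (Nat.dvd_one.1 h2)

end CfsgLib.Elusive2
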