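import Cfsg.Agent.Elusive2.Block
import Mathlib.RingTheory.AdjoinRoot
import Mathlib.RingTheory.IntegralDomain

/-!
The polynomial of an irreducible invariant subspace and the field it defines.
-/

set_option autoImplicit false
set_option linter.unusedSectionVars false

namespace CfsgLib.Elusive2

open Module Polynomial CfsgLib.Elusive

variable {F V : Type*} [Field F] [AddCommGroup V] [Module F V] [Fintype F] [FiniteDimensional F V]
  {f : V →ₗ[F] V} {r : ℕ} [hr' : Fact r.Prime]

theorem natDegree_of_kill (hf : f ^ r = 1) {W : Submodule F V} (hW : Inv f W)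
    (hfix : W ⊓ fixS f = ⊥) {u : V} (hu : u ∈ W) (hu0 : u ≠ 0) {P : F[X]} (hPm : P.Monic)
    (hPd : P.natDegree ≤ ordq F r) (hPu : aeval f P u = 0) : P.natDegree = ordq F r := by
  refine le_antisymm hPd (le_trans (dim_le_ordq hf (cyc_range_inv f u) ?_ fun e => hu0 ?_)
    (finrank_range_cyc_le hPm hPu))
  · refine le_bot_iff.1 ((inf_le_inf_right _ ?_).trans hfix.le)
    rintro _ ⟨k, rfl⟩
    exact hW.aeval k u hu
  · have : u ∈ LinearMap.range (cyc f u) := ⟨1, by simp [cyc]⟩
    rwa [e, Submodule.mem_bot] at this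

theorem irreducible_of_kill (hf : f ^ r = 1) (hr : (r : F) ≠ 0) {W : Submodule F V} (hW : Inv f W)
    (hfix : W ⊓ fixS f = ⊥) {u : V} (hu : u ∈ W) (hu0 : u ≠ 0) {P : F[X]} (hPm : P.Monic)
    (hPd : P.natDegree ≤ ordq F r) (hPu : aeval f P u = 0) : Irreducible P := by
  have hdeg := natDegree_of_kill hf hW hfix hu hu0 hPm hPd hPu
  have hi0 := ordq_pos (F := F) hr
  refine (irreducible_of_monic hPm fun e => ?_).2 fun A C hA hC e => ?_
  · rw [e, natDegree_one] at hdeg; omega
  by_contra hne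
  push Not at hne
  have hA0 : 0 < A.natDegree := Nat.pos_of_ne_zero fun h => hne.1 (eq_one_of_monic_natDegree_zero hA h)
  have hC0 : 0 < C.natDegree := Nat.pos_of_ne_zero fun h => hne.2 (eq_one_of_monic_natDegree_zero hC h)
  have hsum : A.natDegree + C.natDegree = P.natDegree := by rw [← e, hA.natDegree_mul hC]
  have hCu : aeval f C u = 0 := by
    by_contra h
    have h1 := natDegree_of_kill hf hW hfix (hW.aeval C u hu) h hA (by omega) (by
      rw [← Module.End.mul_apply, ← map_mul, e, hPu])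
    omega
  have h2 := natDegree_of_kill hf hW hfix hu hu0 hC (by omega) hCu
  omega

/-- Killing polynomials of moved vectors divide `X ^ r - 1`. -/
theorem dvd_X_pow_sub_one (hf : f ^ r = 1) {W : Submodule F V} (hW : Inv f W)
    (hfix : W ⊓ fixS f = ⊥) {u : V} (hu : u ∈ W) (hu0 : u ≠ 0) {P : F[X]} (hPm : P.Monic)
    (hPd : P.natDegree ≤ ordq F r) (hPu : aeval f P u = 0) : P ∣ X ^ r - 1 :=
  dvd_of_kill hf hW hfix hu hu0 hPm hPd hPu (by
    rw [map_sub, map_pow, aeval_X, map_one, hf, sub_self, LinearMap.zero_apply])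

theorem aeval_mod {u : V} {P : F[X]} (hPu : aeval f P u = 0) (g : F[X]) :
    aeval f g u = aeval f (g %ₘ P) u := by
  conv_lhs => rw [← modByMonic_add_div g P]
  rw [map_add, LinearMap.add_apply, mul_comm, map_mul, Module.End.mul_apply, hPu, map_zero, add_zero]

omit [Fintype F] [FiniteDimensional F V] in
theorem card_adjoinRoot [Finite F] {P : F[X]} [Fact (Irreducible P)] (hPm : P.Monic) :
    Finite (AdjoinRoot P) ∧ Nat.card (AdjoinRoot P) = Nat.card F ^ P.natDegree := by
  let pb := AdjoinRoot.powerBasis hPm.ne_zero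
  have : FiniteDimensional F (AdjoinRoot P) := pb.finite
  have : Finite (AdjoinRoot P) := Module.finite_of_finite F
  refine ⟨inferInstance, ?_⟩
  rw [Module.natCard_eq_pow_finrank (K := F), pb.finrank, AdjoinRoot.powerBasis_dim]

/-- An element fixed by `x ↦ x ^ Q` in a field with `Q ^ 2` elements is a norm. -/
theorem exists_norm {K : Type*} [Field K] [Finite K] {Q : ℕ} (hQ : Nat.card K = Q * Q) {a : K}
    (ha0 : a ≠ 0) (ha : a ^ Q = a) : ∃ k : K, k ≠ 0 ∧ k ^ (Q + 1) = a := by
  classical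
  have := Fintype.ofFinite K
  obtain ⟨g, hg⟩ := IsCyclic.exists_generator (α := Kˣ)
  obtain ⟨j, hj⟩ : ∃ j : ℕ, g ^ j = Units.mk0 a ha0 :=
    (mem_powers_iff_mem_zpowers.2 (hg _))
  have hord : orderOf g = Q * Q - 1 := by
    rw [orderOf_eq_card_of_forall_mem_zpowers hg, Nat.card_units, hQ]
  obtain ⟨R, rfl⟩ : ∃ R, Q = R + 1 := ⟨Q - 1, by
    have : 0 < Q * Q := hQ ▸ Nat.card_pos
    rcases Q with _ | Q <;> simp at this ⊢⟩
  have h1 : g ^ (j * R) = 1 := by
    rw [pow_mul, hj]
    refine Units.ext ?_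
    rw [Units.val_pow_eq_pow_val, Units.val_mk0, Units.val_one]
    refine mul_right_cancel₀ ha0 ?_
    rw [← pow_succ, ha, one_mul]
  have h2 := orderOf_dvd_of_pow_eq_one h1
  rw [hord, show (R + 1) * (R + 1) - 1 = R * (R + 2) by
    rw [show (R + 1) * (R + 1) = R * (R + 2) + 1 by ring, Nat.add_sub_cancel], mul_comm j R] at h2
  rcases Nat.eq_zero_or_pos R with rfl | hR
  · have hle : Nat.card K ≤ 1 := by rw [hQ]
    exact absurd Finite.one_lt_card (not_lt.2 hle)
  obtain ⟨w, hw⟩ := Nat.dvd_of_mul_dvd_mul_left hR h2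
  refine ⟨((g ^ w : Kˣ) : K), Units.ne_zero _, ?_⟩
  rw [← Units.val_pow_eq_pow_val, ← pow_mul, mul_comm, ← hw, hj, Units.val_mk0]

end CfsgLib.Elusive2
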