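import Cfsg.Agent.Elusive2.OrthUnip

/-!
Involutions of orthogonal groups in characteristic two fix plus type subspaces.
-/

set_option autoImplicit false
set_option linter.unusedSectionVars false

namespace CfsgLib.Elusive2

open Module QuadraticMap CfsgLib.Elusive CfsgLib.Quad

variable {F V : Type*} [Field F] [Fintype F] [AddCommGroup V] [Module F V] [FiniteDimensional F V]
  {Q : QuadraticForm F V} {g : oGroup Q}

theorem polar_self_zero (h2 : (2 : F) = 0) (v : V) : polarBilin Q v v = 0 := by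
  rw [polarBilin_apply_apply, polar_self, nsmul_eq_mul, Nat.cast_ofNat, h2, zero_mul]

theorem neg_self_eq (h2 : (2 : F) = 0) (v : V) : -v = v := by
  have h : v + v = 0 := by rw [← two_smul F v, h2, zero_smul]
  exact neg_eq_of_add_eq_zero_right h

theorem move_fixed (h2 : (2 : F) = 0) (hg : ∀ v, g.1 (g.1 v) = v) (v : V) :
    g.1 (g.1 v - v) = g.1 v - v := by
  rw [map_sub, hg, ← neg_sub (g.1 v) v, neg_self_eq h2]

theorem move_polar (h2 : (2 : F) = 0) (v : V) : polarBilin Q v (g.1 v - v) = Q (g.1 v - v) := by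
  have h := quad_add' (Q := Q) v (g.1 v - v)
  rw [add_sub_cancel, g.2, add_assoc, eq_comm, add_eq_left, add_comm] at h
  linear_combination h - Q (g.1 v - v) * h2

/-- The plane spanned by a vector moved out of the quadric. -/
theorem moved_plane (h2 : (2 : F) = 0) (hg : ∀ v, g.1 (g.1 v) = v) {v : V} (hv : Q (g.1 v - v) ≠ 0) :
    Ndg (polarBilin Q) (Submodule.span F (Set.range ![v, g.1 v - v])) ∧
      finrank F (Submodule.span F (Set.range ![v, g.1 v - v])) = 2 ∧
      Inv g.1.toLinearMap (Submodule.span F (Set.range ![v, g.1 v - v])) ∧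
      finrank F ((Submodule.span F (Set.range ![v, g.1 v - v])).map (g.1.toLinearMap - 1)) = 1 ∧
      ((∃ t : F, t * t * Q v + t * Q (g.1 v - v) + Q (g.1 v - v) = 0) →
        IsPlus Q (Submodule.span F (Set.range ![v, g.1 v - v]))) ∧
      ((∀ t : F, t * t * Q v + t * Q (g.1 v - v) + Q (g.1 v - v) ≠ 0) →
        ¬ IsPlus Q (Submodule.span F (Set.range ![v, g.1 v - v]))) := by
  have hw := move_fixed h2 hg v
  have hvw := move_polar (Q := Q) (g := g) h2 v
  generalize hwdef : g.1 v - v = w at hw hvw hv ⊢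
  obtain ⟨hn, hd⟩ := span_pair_ndg (Q := Q) (u := v) (v := w) (by
    rw [polar_self_zero h2, polar_self_zero h2, zero_mul, zero_sub, hvw]
    exact neg_ne_zero.2 (mul_ne_zero hv hv))
  have hgv : g.1 v = v + w := by rw [← hwdef, add_sub_cancel]
  have hv0 : w ≠ 0 := fun e => hv (by rw [e, QuadraticMap.map_zero])
  have hQs : ∀ x y : F, Q (x • v + y • w) = x * x * Q v + y * y * Q w + x * y * Q w := fun x y => by
    rw [quad_add', QuadraticMap.map_smul, QuadraticMap.map_smul]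
    simp only [map_smul, LinearMap.smul_apply, hvw, smul_eq_mul]
    ring
  set P := Submodule.span F (Set.range ![v, w])
  have hvP : v ∈ P := Submodule.subset_span ⟨0, rfl⟩
  have hwP : w ∈ P := Submodule.subset_span ⟨1, rfl⟩
  have hmap : ∀ x ∈ P, ∃ c : F, g.1 x - x = c • w := by
    intro x hx
    obtain ⟨c, rfl⟩ := Submodule.mem_span_range_iff_exists_fun F |>.1 hx
    refine ⟨c 0, ?_⟩
    simp only [Fin.sum_univ_two, Matrix.cons_val_zero, Matrix.cons_val_one, map_add, map_smul, hgv, hw]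
    module
  refine ⟨hn, hd, fun x hx => ?_, ?_, ?_, ?_⟩
  · obtain ⟨c, hc⟩ := hmap x hx
    show g.1 x ∈ P
    rw [sub_eq_iff_eq_add.1 hc]
    exact P.add_mem (P.smul_mem c hwP) hx
  · rw [show P.map (g.1.toLinearMap - 1) = Submodule.span F {w} from ?_, finrank_span_singleton hv0]
    refine le_antisymm ?_ ?_
    · rintro _ ⟨x, hx, rfl⟩
      obtain ⟨c, hc⟩ := hmap x hx
      show g.1 x - x ∈ _
      rw [hc]
      exact Submodule.smul_mem _ c (Submodule.mem_span_singleton_self w)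
    · rw [Submodule.span_le, Set.singleton_subset_iff]
      exact ⟨v, hvP, hwdef⟩
  · rintro ⟨t, ht⟩
    refine ⟨Submodule.span F {t • v + w}, ?_, ?_, ?_⟩
    · rw [Submodule.span_le, Set.singleton_subset_iff]; exact P.add_mem (P.smul_mem t hvP) hwP
    · intro x hx
      obtain ⟨b, rfl⟩ := Submodule.mem_span_singleton.1 hx
      have h1 := hQs t 1
      rw [one_smul] at h1
      rw [QuadraticMap.map_smul, h1, smul_eq_mul]
      linear_combination (b * b) * ht
    · rw [hd, finrank_span_singleton]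
      intro e
      have h1 := congrArg (polarBilin Q v) e
      rw [map_add, map_smul, polar_self_zero h2, smul_zero, zero_add, map_zero, hvw] at h1
      exact hv h1
  · intro hno ⟨U, hU, hU0, hUd⟩
    obtain ⟨x, hx, hx0⟩ := U.exists_mem_ne_zero_of_ne_bot fun e => by rw [e, finrank_bot, hd] at hUd; omega
    obtain ⟨c, hc⟩ := Submodule.mem_span_range_iff_exists_fun F |>.1 (hU hx)
    simp only [Fin.sum_univ_two, Matrix.cons_val_zero, Matrix.cons_val_one] at hc
    have h := hU0 x hx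
    rw [← hc, hQs] at h
    rcases eq_or_ne (c 1) 0 with h1 | h1
    · rcases eq_or_ne (Q v) 0 with hQv | hQv
      · exact hno (-1) (by rw [hQv]; ring)
      rw [h1] at h
      simp only [mul_zero, zero_mul, add_zero, mul_eq_zero, or_self, hQv, or_false] at h
      exact hx0 (by rw [← hc, h, h1]; simp)
    · refine hno (c 0 / c 1) ?_
      field_simp
      linear_combination h

/-- With a second moved plane, the type of a moved plane can be adjusted. -/
theorem exists_adjusted (h2 : (2 : F) = 0) (hg : ∀ v, g.1 (g.1 v) = v) {v z : V} (hv : Q (g.1 v - v) ≠ 0)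
    (hz : g.1 z = z) (hz0 : Q z ≠ 0) (hvz : polarBilin Q v z = 0) (τ : Prop) :
    ∃ s : F, g.1 (v + s • z) - (v + s • z) = g.1 v - v ∧
      (IsPlus Q (Submodule.span F (Set.range ![v + s • z, g.1 (v + s • z) - (v + s • z)])) ↔ τ) := by
  classical
  haveI : CharP F 2 := CharTwo.of_one_ne_zero_of_two_eq_zero one_ne_zero h2
  have hchar : ringChar F = 2 := ringChar.eq F 2
  have key : ∀ c : F, ∃ s : F, Q (v + s • z) = c := fun c => by
    obtain ⟨s, hs⟩ := FiniteField.isSquare_of_char_two hchar ((c - Q v) / Q z)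
    refine ⟨s, ?_⟩
    rw [quad_add', QuadraticMap.map_smul, map_smul, hvz, smul_zero, add_zero, smul_eq_mul, ← hs]
    field_simp
    ring
  have hmove : ∀ s : F, g.1 (v + s • z) - (v + s • z) = g.1 v - v := fun s => by
    rw [map_add, map_smul, hz]; abel
  by_cases hτ : τ
  · obtain ⟨s, hs⟩ := key 0
    refine ⟨s, hmove s, iff_of_true ?_ hτ⟩
    obtain ⟨-, -, -, -, hp, -⟩ := moved_plane h2 hg (v := v + s • z) (by rw [hmove]; exact hv)
    exact hp ⟨-1, by rw [hs]; ring⟩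
  · obtain ⟨c, hc⟩ : ∃ c : F, ∀ u : F, u * u + u ≠ c := by
      by_contra hcon
      push Not at hcon
      have hinj := Finite.injective_iff_surjective.2 (fun c => hcon c : Function.Surjective fun u : F => u * u + u)
      exact zero_ne_one (hinj (show (0 : F) * 0 + 0 = 1 * 1 + 1 by linear_combination -h2))
    obtain ⟨s, hs⟩ := key (c * Q (g.1 v - v))
    refine ⟨s, hmove s, iff_of_false ?_ hτ⟩
    obtain ⟨-, -, -, -, -, hp⟩ := moved_plane h2 hg (v := v + s • z) (by rw [hmove]; exact hv)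
    refine hp fun t ht => ?_
    rw [hmove, hs] at ht
    have ht' : t * t * c + t + 1 = 0 :=
      mul_right_cancel₀ hv ((by linear_combination ht : (t * t * c + t + 1) * Q (g.1 v - v) = 0 * Q (g.1 v - v)))
    have ht0 : t ≠ 0 := fun e => by rw [e] at ht'; simp at ht'
    refine hc (t⁻¹) ?_
    field_simp
    linear_combination (-1 : F) * ht' + (t + 1) * h2

/-- A four dimensional plus type invariant subspace where all moves are singular. -/
theorem exists_block_four (h2 : (2 : F) = 0) (hg : ∀ v, g.1 (g.1 v) = v) {T : Submodule F V}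
    (hT : Ndg (polarBilin Q) T) (hinv : Inv g.1.toLinearMap T) (hsing : ∀ x ∈ T, Q (g.1 x - x) = 0)
    (hne : ∃ x ∈ T, g.1 x ≠ x) :
    ∃ X ≤ T, Ndg (polarBilin Q) X ∧ Inv g.1.toLinearMap X ∧ finrank F X = 4 ∧ IsPlus Q X := by
  obtain ⟨u, hu, hu0⟩ := hne
  obtain ⟨a, ha⟩ : ∃ a, g.1 u - u = a := ⟨_, rfl⟩
  have haT : a ∈ T := ha ▸ T.sub_mem (hinv u hu) hu
  obtain ⟨v, hv, hβ⟩ := hT a haT (ha ▸ sub_ne_zero.2 hu0)
  obtain ⟨b, hb⟩ : ∃ b, g.1 v - v = b := ⟨_, rfl⟩
  have hbT : b ∈ T := hb ▸ T.sub_mem (hinv v hv) hv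
  have hga : g.1 a = a := ha ▸ move_fixed h2 hg u
  have hgb : g.1 b = b := hb ▸ move_fixed h2 hg v
  have hQa : Q a = 0 := ha ▸ hsing u hu
  have hQb : Q b = 0 := hb ▸ hsing v hv
  have hua : polarBilin Q u a = 0 := by rw [← ha, move_polar h2, ha, hQa]
  have hvb : polarBilin Q v b = 0 := by rw [← hb, move_polar h2, hb, hQb]
  have hgu : g.1 u = u + a := by rw [← ha, add_sub_cancel]
  have hgv : g.1 v = v + b := by rw [← hb, add_sub_cancel]
  have hiso : ∀ x y, polarBilin Q (g.1 x) (g.1 y) = polarBilin Q x y := fun x y => by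
    simp only [polarBilin_apply_apply, polar_oGroup]
  have hab : polarBilin Q a b = 0 := by
    have h := hiso a v
    rw [hga, hgv, map_add, add_eq_left] at h
    exact h
  have hub : polarBilin Q u b = polarBilin Q a v := by
    have h := hiso u v
    rw [hgu, hgv] at h
    simp only [map_add, LinearMap.add_apply, hab, add_zero] at h
    linear_combination h - polarBilin Q a v * h2
  have key : ∀ c : Fin 4 → F, (∀ y ∈ ([u, v, a, b] : List V), polarBilin Q (∑ i, c i • ![u, v, a, b] i) y = 0) →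
      ∀ i, c i = 0 := by
    intro c hc
    have h1 := hc b (by simp)
    have h3 := hc a (by simp)
    have h4 := hc v (by simp)
    have h5 := hc u (by simp)
    have hba : polarBilin Q b a = 0 := (polar_swap b a).trans hab
    simp only [Fin.sum_univ_four, Matrix.cons_val_zero, Matrix.cons_val_one, Matrix.cons_val, map_add, map_smul,
      LinearMap.add_apply, LinearMap.smul_apply, smul_eq_mul, polar_self_zero h2, hua, hvb, hab, hub, hba,
      polar_swap a u, polar_swap v a, polar_swap b u, polar_swap b v, mul_zero, add_zero, zero_add] at h1 h3 h4 h5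
    have c0 : c 0 = 0 := (mul_eq_zero.1 h1).resolve_right hβ
    have c1 : c 1 = 0 := (mul_eq_zero.1 h3).resolve_right hβ
    rw [c0, zero_mul, zero_add] at h4
    rw [c1, zero_mul, zero_add] at h5
    have c2 : c 2 = 0 := (mul_eq_zero.1 h4).resolve_right hβ
    have c3 : c 3 = 0 := (mul_eq_zero.1 h5).resolve_right hβ
    intro i
    fin_cases i <;> assumption
  have hli : LinearIndependent F ![u, v, a, b] := Fintype.linearIndependent_iff.2 fun c hc =>
    key c fun y _ => by rw [hc, map_zero, LinearMap.zero_apply]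
  set X := Submodule.span F (Set.range ![u, v, a, b]) with hX
  have hmem : ∀ i, ![u, v, a, b] i ∈ X := fun i => Submodule.subset_span ⟨i, rfl⟩
  have hXd : finrank F X = 4 := by rw [finrank_span_eq_card hli]; rfl
  refine ⟨X, ?_, ?_, ?_, hXd, Submodule.span F (Set.range ![a, b]), ?_, ?_, ?_⟩
  · rw [Submodule.span_le]; rintro _ ⟨i, rfl⟩; fin_cases i <;> assumption
  · intro x hx hx0
    obtain ⟨c, rfl⟩ := Submodule.mem_span_range_iff_exists_fun F |>.1 hx
    by_contra hall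
    push Not at hall
    refine hx0 (Finset.sum_eq_zero fun i _ => ?_)
    rw [key c (fun y hy => hall y ?_) i, zero_smul]
    simp only [List.mem_cons, List.not_mem_nil, or_false] at hy
    rcases hy with rfl | rfl | rfl | rfl
    exacts [hmem 0, hmem 1, hmem 2, hmem 3]
  · intro x hx
    obtain ⟨c, rfl⟩ := Submodule.mem_span_range_iff_exists_fun F |>.1 hx
    simp only [map_sum, map_smul]
    refine X.sum_mem fun i _ => X.smul_mem _ ?_
    fin_cases i
    · show g.1 u ∈ X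
      rw [hgu]; exact X.add_mem (hmem 0) (hmem 2)
    · show g.1 v ∈ X
      rw [hgv]; exact X.add_mem (hmem 1) (hmem 3)
    · show g.1 a ∈ X
      rw [hga]; exact hmem 2
    · show g.1 b ∈ X
      rw [hgb]; exact hmem 3
  · rw [Submodule.span_le]
    rintro _ ⟨i, rfl⟩
    fin_cases i
    exacts [hmem 2, hmem 3]
  · intro x hx
    obtain ⟨c, rfl⟩ := Submodule.mem_span_range_iff_exists_fun F |>.1 hx
    simp only [Fin.sum_univ_two, Matrix.cons_val_zero, Matrix.cons_val_one]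
    rw [quad_add', QuadraticMap.map_smul, QuadraticMap.map_smul, hQa, hQb]
    simp [hab]
  · rw [hXd, finrank_span_eq_card]
    · rfl
    · have h := hli.comp (![2, 3] : Fin 2 → Fin 4) (by decide)
      rwa [show ![u, v, a, b] ∘ (![2, 3] : Fin 2 → Fin 4) = ![a, b] from funext fun i => by
        fin_cases i <;> rfl] at h

/-- Joining two orthogonal invariant pieces. -/
theorem join_pieces {X Y : Submodule F V} (hX : Ndg (polarBilin Q) X) (hY : Ndg (polarBilin Q) Y)
    (hXi : Inv g.1.toLinearMap X) (hYi : Inv g.1.toLinearMap Y) (hle : Y ≤ perp (polarBilin Q) X) :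
    Ndg (polarBilin Q) (X ⊔ Y) ∧ Inv g.1.toLinearMap (X ⊔ Y) ∧
      finrank F ↥(X ⊔ Y) = finrank F X + finrank F Y ∧
      (Even (finrank F X) → Even (finrank F Y) → (IsPlus Q (X ⊔ Y) ↔ (IsPlus Q X ↔ IsPlus Q Y))) := by
  have horth : ∀ x ∈ X, ∀ y ∈ Y, polarBilin Q x y = 0 := fun x hx y hy => mem_perp.1 (hle hy) x hx
  have hinf : X ⊓ Y = ⊥ := le_bot_iff.1 ((inf_le_inf_left X hle).trans (inf_perp polar_refl hX).le)
  refine ⟨hX.sup polar_refl hY horth, fun z hz => ?_, ?_, fun h1 h2 => isPlus_sup hX hY h1 h2 hinf horth⟩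
  · obtain ⟨x, hx, y, hy, rfl⟩ := Submodule.mem_sup.1 hz
    rw [map_add]
    exact Submodule.add_mem_sup (hXi x hx) (hYi y hy)
  · have := Submodule.finrank_sup_add_finrank_inf_eq X Y
    rw [hinf, finrank_bot] at this
    omega

theorem ndg_even_two (h2 : (2 : F) = 0) {T : Submodule F V} (hT : Ndg (polarBilin Q) T) : Even (finrank F T) :=
  ndg_even (polar_self_zero h2) _ T rfl hT

/-- Invariant pieces of dimension two. -/
theorem moved_piece (h2 : (2 : F) = 0) (hg : ∀ v, g.1 (g.1 v) = v) {T : Submodule F V}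
    (hT : Ndg (polarBilin Q) T) (hinv : Inv g.1.toLinearMap T) {v : V} (hv : v ∈ T)
    (hvw : Q (g.1 v - v) ≠ 0) :
    ∃ P ≤ T, Ndg (polarBilin Q) P ∧ Inv g.1.toLinearMap P ∧ finrank F P = 2 ∧ v ∈ P ∧ g.1 v - v ∈ P ∧
      finrank F (P.map (g.1.toLinearMap - 1)) = 1 ∧
      Ndg (polarBilin Q) (T ⊓ perp (polarBilin Q) P) ∧ Inv g.1.toLinearMap (T ⊓ perp (polarBilin Q) P) ∧
      finrank F P + finrank F ↥(T ⊓ perp (polarBilin Q) P) = finrank F T := by
  obtain ⟨hn, hd, hi, hr, -, -⟩ := moved_plane h2 hg hvw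
  have hle : Submodule.span F (Set.range ![v, g.1 v - v]) ≤ T := by
    rw [Submodule.span_le]; rintro _ ⟨i, rfl⟩; fin_cases i
    exacts [hv, T.sub_mem (hinv v hv) hv]
  obtain ⟨-, -, hdim, hnd⟩ := exists_split polar_refl hn hle
  exact ⟨_, hle, hn, hi, hd, Submodule.subset_span ⟨0, rfl⟩, Submodule.subset_span ⟨1, rfl⟩, hr, hnd hT,
    fun x hx => ⟨hinv x hx.1, inv_perp hi x hx.2⟩, hdim⟩

/-- A plane of a prescribed type from two moved planes. -/
theorem adjusted_piece (h2 : (2 : F) = 0) (hg : ∀ v, g.1 (g.1 v) = v) {T : Submodule F V}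
    (hinv : Inv g.1.toLinearMap T) {v z : V} (hv : v ∈ T) (hvw : Q (g.1 v - v) ≠ 0) (hzT : z ∈ T)
    (hz : g.1 z = z) (hz0 : Q z ≠ 0) (hvz : polarBilin Q v z = 0) (τ : Prop) :
    ∃ P ≤ T, Ndg (polarBilin Q) P ∧ Inv g.1.toLinearMap P ∧ finrank F P = 2 ∧ (IsPlus Q P ↔ τ) ∧
      ∀ x, polarBilin Q v x = 0 → polarBilin Q (g.1 v - v) x = 0 → polarBilin Q z x = 0 →
        x ∈ perp (polarBilin Q) P := by
  obtain ⟨s, hs, hτ⟩ := exists_adjusted h2 hg hvw hz hz0 hvz τ
  obtain ⟨hn, hd, hi, -, -, -⟩ := moved_plane h2 hg (v := v + s • z) (by rw [hs]; exact hvw)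
  rw [hs] at hn hd hi hτ
  refine ⟨_, ?_, hn, hi, hd, hτ, fun x h1 h3 h4 => mem_perp.2 fun y hy => ?_⟩
  · rw [Submodule.span_le]; rintro _ ⟨i, rfl⟩; fin_cases i
    exacts [T.add_mem hv (T.smul_mem s hzT), T.sub_mem (hinv v hv) hv]
  · obtain ⟨c, rfl⟩ := Submodule.mem_span_range_iff_exists_fun F |>.1 hy
    simp only [Fin.sum_univ_two, Matrix.cons_val_zero, Matrix.cons_val_one, map_add, map_smul,
      LinearMap.add_apply, LinearMap.smul_apply, h1, h3, h4]
    simp

/-- A four dimensional plus type invariant subspace in dimension at least six. -/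
theorem exists_plus_four (h2 : (2 : F) = 0) (hg : ∀ v, g.1 (g.1 v) = v) {T : Submodule F V}
    (hT : Ndg (polarBilin Q) T) (hinv : Inv g.1.toLinearMap T) (h6 : 6 ≤ finrank F T) :
    ∃ X ≤ T, Ndg (polarBilin Q) X ∧ Inv g.1.toLinearMap X ∧ finrank F X = 4 ∧ IsPlus Q X := by
  have htriv : ∀ {Z : Submodule F V}, (∀ x ∈ Z, g.1 x = x) → ∀ Y ≤ Z, Inv g.1.toLinearMap Y :=
    fun {Z} h Y hY x hx => by show g.1 x ∈ Y; rwa [h x (hY hx)]
  by_cases hc : ∃ v ∈ T, Q (g.1 v - v) ≠ 0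
  swap
  · push Not at hc
    by_cases hne : ∃ x ∈ T, g.1 x ≠ x
    · exact exists_block_four h2 hg hT hinv hc hne
    push Not at hne
    obtain ⟨X, hXn, hXT, hXd, hXp⟩ :=
      exists_sub_type' hT (b := 4) ⟨2, rfl⟩ True (by omega) (fun _ => trivial) fun h => by omega
    exact ⟨X, hXT, hXn, htriv hne X hXT, hXd, hXp.2 trivial⟩
  obtain ⟨v, hv, hvw⟩ := hc
  obtain ⟨P, hPT, hPn, hPi, hPd, hvP, hwP, -, hRn, hRi, hdim⟩ := moved_piece h2 hg hT hinv hv hvw
  set R := T ⊓ perp (polarBilin Q) P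
  by_cases hcR : ∃ v ∈ R, Q (g.1 v - v) ≠ 0
  swap
  · push Not at hcR
    by_cases hne : ∃ x ∈ R, g.1 x ≠ x
    · obtain ⟨X, hX, h⟩ := exists_block_four h2 hg hRn hRi hcR hne
      exact ⟨X, hX.trans inf_le_left, h⟩
    push Not at hne
    obtain ⟨Y, hYn, hYR, hYd, hYp⟩ := exists_plane_type hRn (by omega) (IsPlus Q P)
    obtain ⟨h1, h3, h4, h5⟩ := join_pieces hPn hYn hPi (htriv hne Y hYR) (hYR.trans inf_le_right)
    exact ⟨_, sup_le hPT (hYR.trans inf_le_left), h1, h3, by omega,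
      (h5 ⟨1, hPd⟩ ⟨1, hYd⟩).2 hYp.symm⟩
  obtain ⟨v', hv', hvw'⟩ := hcR
  obtain ⟨P', hP'R, hP'n, hP'i, hP'd, hv'P, hwP', -, hR'n, hR'i, hdim'⟩ := moved_piece h2 hg hRn hRi hv' hvw'
  set R' := R ⊓ perp (polarBilin Q) P'
  set z := g.1 v' - v' with hz
  have hzR : z ∈ R := R.sub_mem (hRi v' hv') hv'
  by_cases hcR' : ∃ v ∈ R', Q (g.1 v - v) ≠ 0
  swap
  · push Not at hcR'
    by_cases hne : ∃ x ∈ R', g.1 x ≠ x
    · obtain ⟨X, hX, h⟩ := exists_block_four h2 hg hR'n hR'i hcR' hne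
      exact ⟨X, (hX.trans inf_le_left).trans inf_le_left, h⟩
    push Not at hne
    obtain ⟨Y, hYn, hYR, hYd, -⟩ := exists_sub_type' hR'n (b := 2) even_two (IsPlus Q R') (by omega)
      (fun h => by omega) fun h => by simp
    obtain ⟨P₁, hP₁T, hP₁n, hP₁i, hP₁d, hP₁p, hP₁o⟩ := adjusted_piece h2 hg hinv hv hvw hzR.1
      (move_fixed h2 hg v') hvw' (mem_perp.1 hzR.2 v hvP) (IsPlus Q Y)
    obtain ⟨h1, h3, h4, h5⟩ := join_pieces hP₁n hYn hP₁i (htriv hne Y hYR) fun y hy =>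
      hP₁o y (mem_perp.1 (hYR hy).1.2 v hvP) (mem_perp.1 (hYR hy).1.2 _ hwP) (mem_perp.1 (hYR hy).2 z hwP')
    exact ⟨_, sup_le hP₁T ((hYR.trans inf_le_left).trans inf_le_left), h1, h3, by omega,
      (h5 ⟨1, hP₁d⟩ ⟨1, hYd⟩).2 hP₁p⟩
  obtain ⟨v'', hv'', hvw''⟩ := hcR'
  obtain ⟨P'', hP''R, hP''n, hP''i, hP''d, -, hwP'', -, -, -, -⟩ := moved_piece h2 hg hR'n hR'i hv'' hvw''
  obtain ⟨P₁, hP₁T, hP₁n, hP₁i, hP₁d, hP₁p, hP₁o⟩ := adjusted_piece h2 hg hinv hv hvw hzR.1
    (move_fixed h2 hg v') hvw' (mem_perp.1 hzR.2 v hvP) (IsPlus Q P'')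
  obtain ⟨h1, h3, h4, h5⟩ := join_pieces hP₁n hP''n hP₁i hP''i fun y hy =>
    hP₁o y (mem_perp.1 (hP''R hy).1.2 v hvP) (mem_perp.1 (hP''R hy).1.2 _ hwP) (mem_perp.1 (hP''R hy).2 z hwP')
  exact ⟨_, sup_le hP₁T ((hP''R.trans inf_le_left).trans inf_le_left), h1, h3, by omega,
    (h5 ⟨1, hP₁d⟩ ⟨1, hP''d⟩).2 hP₁p⟩

/-- Plus type invariant subspaces of dimension divisible by four. -/
theorem exists_plus_mult (h2 : (2 : F) = 0) (hg : ∀ v, g.1 (g.1 v) = v) :
    ∀ (j : ℕ) (T : Submodule F V), Ndg (polarBilin Q) T → Inv g.1.toLinearMap T → 4 * j < finrank F T →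
      ∃ X ≤ T, Ndg (polarBilin Q) X ∧ Inv g.1.toLinearMap X ∧ finrank F X = 4 * j ∧ IsPlus Q X := by
  intro j
  induction j with
  | zero =>
    exact fun T _ _ _ => ⟨⊥, bot_le, Ndg.bot, fun x hx => by
      rw [(Submodule.mem_bot F).1 hx, map_zero]; exact zero_mem _, finrank_bot F V, IsPlus.bot⟩
  | succ j ih =>
    intro T hT hinv hlt
    have hev := Nat.even_iff.1 (ndg_even_two h2 hT)
    obtain ⟨X, hXT, hXn, hXi, hXd, hXp⟩ := exists_plus_four h2 hg hT hinv (by omega)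
    obtain ⟨-, -, hdim, hnd⟩ := exists_split polar_refl hXn hXT
    obtain ⟨Y, hYT, hYn, hYi, hYd, hYp⟩ := ih (T ⊓ perp (polarBilin Q) X) (hnd hT)
      (fun x hx => ⟨hinv x hx.1, inv_perp hXi x hx.2⟩) (by omega)
    obtain ⟨h1, h3, h4, h5⟩ := join_pieces hXn hYn hXi hYi (hYT.trans inf_le_right)
    exact ⟨_, sup_le hXT (hYT.trans inf_le_left), h1, h3, by omega,
      (h5 ⟨2, hXd⟩ ⟨2 * j, by omega⟩).2 (iff_of_true hXp hYp)⟩

/-- A plus type invariant plane where all moves are singular. -/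
theorem exists_plus_plane_singular (h2 : (2 : F) = 0) (hg : ∀ v, g.1 (g.1 v) = v) :
    ∀ (k : ℕ) (T : Submodule F V), finrank F T ≤ k → Ndg (polarBilin Q) T → Inv g.1.toLinearMap T →
      (∀ x ∈ T, Q (g.1 x - x) = 0) → (IsPlus Q T ↔ finrank F T % 4 = 2) →
      ∃ X ≤ T, Ndg (polarBilin Q) X ∧ Inv g.1.toLinearMap X ∧ finrank F X = 2 ∧ IsPlus Q X := by
  intro k
  induction k with
  | zero =>
    intro T hd _ _ _ htype
    obtain rfl : T = ⊥ := Submodule.finrank_eq_zero.1 (by omega)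
    have := htype.1 IsPlus.bot
    omega
  | succ k ih =>
    intro T hd hT hinv hsing htype
    have hev := Nat.even_iff.1 (ndg_even_two h2 hT)
    rcases Nat.eq_zero_or_pos (finrank F T) with h0 | h0
    · exact ih T (by omega) hT hinv hsing htype
    by_cases hne : ∃ x ∈ T, g.1 x ≠ x
    swap
    · push Not at hne
      obtain ⟨X, hXn, hXT, hXd, hXp⟩ := exists_sub_type' hT (b := 2) even_two True (by omega) (fun _ => trivial)
        fun h => by rw [htype]; simp; omega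
      exact ⟨X, hXT, hXn, fun x hx => by show g.1 x ∈ X; rwa [hne x (hXT hx)], hXd, hXp.2 trivial⟩
    obtain ⟨X, hXT, hXn, hXi, hXd, hXp⟩ := exists_block_four h2 hg hT hinv hsing hne
    obtain ⟨hsup, -, hdim, hnd⟩ := exists_split polar_refl hXn hXT
    set Y := T ⊓ perp (polarBilin Q) X
    have hYi : Inv g.1.toLinearMap Y := fun x hx => ⟨hinv x hx.1, inv_perp hXi x hx.2⟩
    obtain ⟨-, -, -, h5⟩ := join_pieces hXn (hnd hT) hXi hYi inf_le_right
    have htype' : IsPlus Q Y ↔ finrank F Y % 4 = 2 := by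
      have h6 := h5 ⟨2, hXd⟩ (ndg_even_two h2 (hnd hT))
      rw [hsup, htype, iff_true_intro hXp, true_iff] at h6
      rw [← h6]; omega
    obtain ⟨Z, hZY, hZ⟩ := ih Y (by omega) (hnd hT) hYi (fun x hx => hsing x hx.1) htype'
    exact ⟨Z, hZY.trans inf_le_left, hZ⟩

/-- Involutions of the commutator subgroup fix plus type subspaces. -/
theorem involution_fix_plus (h2 : (2 : F) = 0) (hQ : (polarBilin Q).Nondegenerate)
    (hgen : (∃ t : F, t ≠ 0 ∧ t ≠ 1) ∨ finrank F V ≠ 4) {d k : ℕ} (hn : finrank F V = 2 * d)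
    (hk : Even k) (hkn : k < 2 * d) (hcond : k % 4 = 0 ∨ (IsPlus Q ⊤ ↔ Odd d))
    (hgC : g ∈ commutator (oGroup Q)) (hg : ∀ v, g.1 (g.1 v) = v) :
    ∃ X : Submodule F V, Ndg (polarBilin Q) X ∧ Inv g.1.toLinearMap X ∧ finrank F X = k ∧ IsPlus Q X := by
  have hQt := ndg_top_iff.2 hQ
  have hti : Inv g.1.toLinearMap (⊤ : Submodule F V) := fun x _ => trivial
  have hk2 := Nat.even_iff.1 hk
  by_cases hk4 : k % 4 = 0
  · obtain ⟨X, -, h1, h3, h4, h5⟩ := exists_plus_mult h2 hg (k / 4) ⊤ hQt hti (by rw [finrank_top, hn]; omega)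
    exact ⟨X, h1, h3, by omega, h5⟩
  have htype := hcond.resolve_left hk4
  obtain ⟨X, -, hXn, hXi, hXd, hXp⟩ : ∃ X ≤ (⊤ : Submodule F V),
      Ndg (polarBilin Q) X ∧ Inv g.1.toLinearMap X ∧ finrank F X = 2 ∧ IsPlus Q X := by
    by_cases hc : ∃ v, Q (g.1 v - v) ≠ 0
    swap
    · push Not at hc
      exact exists_plus_plane_singular h2 hg _ ⊤ le_rfl hQt hti (fun x _ => hc x) (by
        rw [htype, finrank_top, hn, Nat.odd_iff]; omega)
    obtain ⟨v, hvw⟩ := hc
    obtain ⟨P, -, hPn, hPi, hPd, hvP, hwP, hrank, hRn, hRi, hdim⟩ :=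
      moved_piece h2 hg hQt hti (v := v) trivial hvw
    set R := ⊤ ⊓ perp (polarBilin Q) P with hR
    by_cases hcR : ∃ v ∈ R, Q (g.1 v - v) ≠ 0
    · obtain ⟨v', hv', hvw'⟩ := hcR
      obtain ⟨P₁, hle, h1, h3, h4, h5, -⟩ := adjusted_piece h2 hg hti (v := v) trivial hvw
        (z := g.1 v' - v') trivial (move_fixed h2 hg v') hvw'
        (mem_perp.1 (R.sub_mem (hRi v' hv') hv').2 v hvP) True
      exact ⟨P₁, hle, h1, h3, h4, h5.2 trivial⟩
    push Not at hcR
    exfalso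
    obtain ⟨r, hr, hre, -, -, -, -⟩ := square_zero_shape hRn hRi (fun x _ => move_fixed h2 hg x) hcR
    have hinf : P.map (g.1.toLinearMap - 1) ⊓ R.map (g.1.toLinearMap - 1) = ⊥ := by
      refine le_bot_iff.1 (le_trans (inf_le_inf ?_ ?_) (inf_perp polar_refl hPn).le)
      · rintro _ ⟨x, hx, rfl⟩; exact P.sub_mem (hPi x hx) hx
      · rintro _ ⟨x, hx, rfl⟩; exact (R.sub_mem (hRi x hx) hx).2
    have hrange : finrank F (LinearMap.range (g.1.toLinearMap - 1)) = 1 + r := by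
      obtain ⟨hsup, -, -, -⟩ := exists_split (T := ⊤) polar_refl hPn le_top
      have := Submodule.finrank_sup_add_finrank_inf_eq (P.map (g.1.toLinearMap - 1)) (R.map (g.1.toLinearMap - 1))
      rw [hinf, finrank_bot, ← Submodule.map_sup, hR, hsup, Submodule.map_top, ← hR, hrank, hr] at this
      omega
    have hrn := LinearMap.finrank_range_add_finrank_ker (g.1.toLinearMap - 1)
    obtain ⟨vs, hvs, hgvs⟩ := exists_reflProd hQ hgen g
    subst hgvs
    have hev := (reflProd_mem_commutator_iff hQ hgen hvs).1 hgC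
    have hfix := even_reflProd hQ hvs
    rw [hn, show finrank F (fixSp (reflProd Q vs)) =
      finrank F (LinearMap.ker ((reflProd Q vs).1.toLinearMap - 1)) from rfl, Nat.even_iff] at hfix
    rw [Nat.even_iff] at hre
    have := Nat.even_iff.1 hev.1
    omega
  obtain ⟨-, -, hdim, hnd⟩ := exists_split (T := ⊤) polar_refl hXn le_top
  rw [finrank_top, hn] at hdim
  obtain ⟨Y, hY, hYn, hYi, hYd, hYp⟩ := exists_plus_mult h2 hg (k / 4) _ (hnd hQt)
    (fun x hx => ⟨trivial, inv_perp hXi x hx.2⟩) (by omega)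
  obtain ⟨h1, h3, h4, h5⟩ := join_pieces hXn hYn hXi hYi (hY.trans inf_le_right)
  exact ⟨_, h1, h3, by omega, (h5 ⟨1, hXd⟩ ⟨2 * (k / 4), by omega⟩).2 (iff_of_true hXp hYp)⟩

/-- An element of order two fixing no minus type subspace of dimension divisible by four. -/
theorem exists_involution_avoid (h2 : (2 : F) = 0) [CharP F 2] (hQ : (polarBilin Q).Nondegenerate) {d : ℕ}
    (hn : finrank F V = 2 * d) (hd : 4 ≤ d) (hdo : Odd d) :
    ∃ g : oGroup Q, g ∈ commutator (oGroup Q) ∧ g ^ 2 = 1 ∧ g ≠ 1 ∧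
      ∀ W : Submodule F V, Ndg (polarBilin Q) W → finrank F W % 4 = 0 → Inv g.1.toLinearMap W → IsPlus Q W := by
  have hQt := ndg_top_iff.2 hQ
  have hd2 := Nat.odd_iff.1 hdo
  obtain ⟨X, hXn, -, hXd, hXp⟩ := exists_sub_type' hQt (b := 2 * (d - 1)) ⟨d - 1, by omega⟩ True
    (by rw [finrank_top, hn]; omega) (fun _ => trivial) fun h => by rw [finrank_top, hn] at h; omega
  obtain ⟨e, he⟩ := exists_isometry (Q' := plusQ (F := F) (d - 1)) (Y := ⊤) hXn
    (ndg_top_iff.2 (plusQ_nondeg (d - 1))) hXd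
    (by rw [finrank_top, finrank_fintype_fun_eq_card]; simp [two_mul])
    (iff_of_true (hXp.2 trivial) (isPlus_plusQ _))
  let φ : (Fin (d - 1) ⊕ Fin (d - 1) → F) →ₗ[F] V :=
    X.subtype.comp (e.symm.toLinearMap.comp (LinearMap.id.codRestrict ⊤ fun _ => trivial))
  have hφQ : ∀ y, Q (φ y) = plusQ (d - 1) y := fun y => by
    show Q ((e.symm ⟨y, trivial⟩ : X) : V) = _
    rw [← he, e.apply_symm_apply]
  have hφX : ∀ y, φ y ∈ X := fun y => Submodule.coe_mem _
  have hφ : ∀ x ∈ X, ∃ y, φ y = x := fun x hx => ⟨(e ⟨x, hx⟩ : _), by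
    show ((e.symm (e ⟨x, hx⟩) : X) : V) = x
    rw [e.symm_apply_apply]⟩
  obtain ⟨h, hh, -, hh1, hN, hQN, hrank⟩ := exists_levi_unipotent (F := F) (d := d - 1) (p := 2) (by omega)
  obtain ⟨vs, hvs, rfl⟩ := exists_reflProd (plusQ_nondeg (d - 1)) (Or.inr (by
    rw [finrank_fintype_fun_eq_card]; simp; omega)) h
  set g := reflProd Q (vs.map φ) with hg
  have hgen : (∃ t : F, t ≠ 0 ∧ t ≠ 1) ∨ finrank F V ≠ 4 := Or.inr (by omega)
  have hvs' : ∀ v ∈ vs.map φ, Q v ≠ 0 := fun v hv => by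
    obtain ⟨w, hw, rfl⟩ := List.mem_map.1 hv
    rw [hφQ]; exact hvs w hw
  have hgC : g ∈ commutator (oGroup Q) := by
    rw [reflProd_mem_commutator_iff hQ hgen hvs', List.length_map, List.map_map]
    have := (reflProd_mem_commutator_iff (plusQ_nondeg (d - 1)) (Or.inr (by
      rw [finrank_fintype_fun_eq_card]; simp; omega)) hvs).1 hh
    rwa [show (fun v => Q v) ∘ φ = fun v => plusQ (d - 1) v from funext hφQ]
  have hgφ : ∀ y, g.1 (φ y) = φ ((reflProd (plusQ (d - 1)) vs).1 y) := by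
    rw [hg]
    clear hh hh1 hN hQN hrank hvs hgC hvs' hg g
    induction vs with
    | nil => exact fun y => rfl
    | cons v vs ih =>
      intro y
      rw [List.map_cons, reflProd_cons, reflProd_cons]
      show (refl Q (φ v)).1 ((reflProd Q (vs.map φ)).1 (φ y)) = φ ((refl _ v).1 ((reflProd _ vs).1 y))
      rw [ih, refl_apply, refl_apply, map_add, map_smul, hφQ, show polar Q (φ ((reflProd (plusQ (d - 1)) vs).1 y)) (φ v) =
        polar (plusQ (d - 1)) ((reflProd (plusQ (d - 1)) vs).1 y) v by simp only [polar, ← map_add, hφQ]]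
  have hgp : ∀ x ∈ perp (polarBilin Q) X, g.1 x = x := by
    intro x hx
    rw [hg]
    clear hh hh1 hN hQN hrank hvs hgC hvs' hg hgφ g
    induction vs with
    | nil => rfl
    | cons v vs ih =>
      rw [List.map_cons, reflProd_cons]
      show (refl Q (φ v)).1 ((reflProd Q (vs.map φ)).1 x) = x
      rw [ih]
      exact refl_fix ((polar_swap x (φ v)).trans (mem_perp.1 hx _ (hφX v)))
  obtain ⟨hsup, -, -, -⟩ := exists_split (T := ⊤) polar_refl hXn le_top
  rw [top_inf_eq] at hsup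
  have hmove : ∀ v, ∃ y, g.1 v - v = φ ((reflProd (plusQ (d - 1)) vs).1 y - y) := fun v => by
    obtain ⟨x, hx, z, hz, rfl⟩ := Submodule.mem_sup.1 (hsup.symm ▸ Submodule.mem_top : v ∈ X ⊔ perp (polarBilin Q) X)
    obtain ⟨y, rfl⟩ := hφ x hx
    exact ⟨y, by rw [map_add, hgφ, hgp z hz, map_sub]; abel⟩
  have hN' : ∀ v, g.1 (g.1 v - v) = g.1 v - v := fun v => by
    obtain ⟨y, hy⟩ := hmove v
    rw [hy, hgφ, hN]
  have hQN' : ∀ v, Q (g.1 v - v) = 0 := fun v => by
    obtain ⟨y, hy⟩ := hmove v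
    rw [hy, hφQ, hQN]
  have hinj : Function.Injective φ := fun y y' h =>
    congrArg Subtype.val (e.symm.injective (Subtype.ext h : e.symm ⟨y, trivial⟩ = e.symm ⟨y', trivial⟩))
  refine ⟨g, hgC, ?_, fun hone => hh1 ?_, fun W hW hW4 hinv => ?_⟩
  · refine Subtype.ext (LinearEquiv.ext fun v => ?_)
    rw [pow_two]
    show g.1 (g.1 v) = v
    have h := hN' v
    rw [map_sub, sub_eq_iff_eq_add] at h
    rw [h]
    have h' : (g.1 v - v) + g.1 v = v + ((2 : F) • (g.1 v - v)) := by rw [two_smul]; abel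
    rw [h', h2, zero_smul, add_zero]
  · refine Subtype.ext (LinearEquiv.ext fun y => hinj ?_)
    rw [← hgφ, hone]
    rfl
  obtain ⟨hUn, hdim, hR, -⟩ := rank_split hQ hW hinv
  obtain ⟨R, h1, ⟨j, hj⟩, h3, -, -, h5⟩ := square_zero_shape hW hinv (fun w _ => hN' w) fun w _ => hQN' w
  obtain ⟨R', h1', ⟨j', hj'⟩, h3', -, -, -⟩ :=
    square_zero_shape hUn (inv_perp hinv) (fun w _ => hN' w) fun w _ => hQN' w
  rw [h1, h1'] at hR
  rw [hn] at hdim
  have hrk : 2 * ((d - 1) / 2) ≤ finrank F (LinearMap.range (g.1.toLinearMap - 1)) := by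
    refine hrank.trans ((LinearEquiv.finrank_eq (Submodule.equivMapOfInjective φ hinj _)).trans_le ?_)
    refine Submodule.finrank_mono ?_
    rintro _ ⟨_, ⟨y, rfl⟩, rfl⟩
    refine ⟨φ y, ?_⟩
    show g.1 (φ y) - φ y = φ ((reflProd (plusQ (d - 1)) vs).1 y - y)
    rw [hgφ, map_sub]
  by_contra hWm
  have hne : 2 * R ≠ finrank F W := fun e => hWm (h5 e)
  omega

end CfsgLib.Elusive2
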