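import Cfsg.Agent.Elusive2.OrthExist

/-!
When every isometry of odd prime order prime to the characteristic leaves invariant a non-degenerate subspace of a
given class: reduction to the numbers of blocks.
-/

set_option autoImplicit false
set_option linter.unusedSectionVars false

namespace CfsgLib.Elusive2

open Module QuadraticMap CfsgLib.Elusive CfsgLib.Quad

/-- Possible numbers of blocks. -/
def Adm (n i s : ℕ) (εV : Prop) : Prop :=
  0 < s ∧ s * blockDim i ≤ n ∧ (s * blockDim i = n → (εV ↔ blkType i s))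

/-- Invariant subspaces of even dimension `m` and type `τ`. -/
def FeasEven (n i m : ℕ) (εV τ : Prop) (s : ℕ) : Prop :=
  ∃ a b, a ≤ s ∧ m = b + a * blockDim i ∧ b + s * blockDim i ≤ n ∧ (b = 0 → (τ ↔ blkType i a)) ∧
    (b + s * blockDim i = n → (τ ↔ ((εV ↔ blkType i s) ↔ blkType i a)))

/-- Invariant subspaces of odd dimension `m`. -/
def FeasOdd (n i m s : ℕ) : Prop :=
  ∃ a b, a ≤ s ∧ m = b + a * blockDim i ∧ b + s * blockDim i ≤ n

variable {F V : Type*} [Field F] [Fintype F] [AddCommGroup V] [Module F V] [FiniteDimensional F V]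
  {Q : QuadraticForm F V} {r : ℕ} [hr' : Fact r.Prime]

/-- A class of isometric non-degenerate subspaces of one dimension. -/
structure IsClass (Q : QuadraticForm F V) (m : ℕ) (P : Submodule F V → Prop) : Prop where
  dim : ∀ W, P W → finrank F W = m
  ndg : ∀ W, P W → Ndg (polarBilin Q) W
  closed : ∀ (W W' : Submodule F V) (e : W ≃ₗ[F] W'), (∀ w : W, Q (e w) = Q w) → P W → P W'
  iso : ∀ W W', P W → P W' → ∃ e : W ≃ₗ[F] W', ∀ w : W, Q (e w) = Q w

theorem ndg_map_iso {W W' : Submodule F V} (e : W ≃ₗ[F] W') (he : ∀ w : W, Q (e w) = Q w)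
    (hW : Ndg (polarBilin Q) W) : Ndg (polarBilin Q) W' := by
  intro u hu h0
  obtain ⟨v, hv, hne⟩ := hW _ (e.symm ⟨u, hu⟩).2 fun h => h0 (by
    have : e.symm ⟨u, hu⟩ = 0 := Subtype.ext h
    exact congrArg Subtype.val (e.symm.map_eq_zero_iff.1 this))
  refine ⟨(e ⟨v, hv⟩ : W'), Submodule.coe_mem _, fun h => hne ?_⟩
  rw [← h]
  simp only [polarBilin_apply_apply, polar]
  have h1 := he (e.symm ⟨u, hu⟩ + ⟨v, hv⟩)
  have h2 := he (e.symm ⟨u, hu⟩)
  have h3 := he ⟨v, hv⟩
  simp only [map_add, e.apply_symm_apply, Submodule.coe_add] at h1 h2 h3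
  rw [h1, h2, h3]

theorem IsClass.map {m : ℕ} {P : Submodule F V → Prop} (hC : IsClass Q m P) (h : oGroup Q) (W : Submodule F V)
    (hW : P W) : P (W.map h.1.toLinearMap) :=
  hC.closed W _ (Submodule.equivMapOfInjective h.1.toLinearMap h.1.injective W) (fun w => h.2 w) hW

/-- The class of subspaces of even dimension and one type. -/
theorem isClass_type {m : ℕ} (hm : Even m) (τ : Prop) :
    IsClass Q m fun W => finrank F W = m ∧ Ndg (polarBilin Q) W ∧ (IsPlus Q W ↔ τ) := by
  obtain ⟨h, hh⟩ := hm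
  refine ⟨fun W hW => hW.1, fun W hW => hW.2.1, fun W W' e he hW => ⟨?_, ndg_map_iso e he hW.2.1, ?_⟩,
    fun W W' hW hW' => exists_isometry hW.2.1 hW'.2.1 (h := h) (by omega) (by omega) (hW.2.2.trans hW'.2.2.symm)⟩
  · rw [← e.finrank_eq]; exact hW.1
  · refine Iff.trans ⟨fun hp => isPlus_congr e.symm (fun w => ?_) hp, fun hp => isPlus_congr e he hp⟩ hW.2.2
    conv_rhs => rw [← e.apply_symm_apply w]
    exact (he _).symm

/-- The class of a given subspace. -/
theorem isClass_iso {m : ℕ} {W₀ : Submodule F V} (hd : finrank F W₀ = m) (hn : Ndg (polarBilin Q) W₀) :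
    IsClass Q m fun W => finrank F W = m ∧ Ndg (polarBilin Q) W ∧ ∃ e : W ≃ₗ[F] W₀, ∀ w : W, Q (e w) = Q w := by
  refine ⟨fun W hW => hW.1, fun W hW => hW.2.1, fun W W' e he hW => ⟨?_, ndg_map_iso e he hW.2.1, ?_⟩,
    fun W W' hW hW' => ?_⟩
  · rw [← e.finrank_eq]; exact hW.1
  · obtain ⟨e₀, he₀⟩ := hW.2.2
    refine ⟨e.symm.trans e₀, fun w => ?_⟩
    rw [LinearEquiv.trans_apply, he₀]
    conv_rhs => rw [← e.apply_symm_apply w]
    exact (he _).symm
  · obtain ⟨e₁, h₁⟩ := hW.2.2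
    obtain ⟨e₂, h₂⟩ := hW'.2.2
    refine ⟨e₁.trans e₂.symm, fun w => ?_⟩
    rw [LinearEquiv.trans_apply, ← h₁]
    conv_rhs => rw [← e₂.apply_symm_apply (e₁ w)]
    exact (h₂ _).symm

/-- Orthogonal sums of isometries. -/
theorem exists_iso_sup {X Y X' Y' : Submodule F V} (hd : X ⊓ Y = ⊥) (hd' : X' ⊓ Y' = ⊥)
    (ho : ∀ x ∈ X, ∀ y ∈ Y, polarBilin Q x y = 0) (ho' : ∀ x ∈ X', ∀ y ∈ Y', polarBilin Q x y = 0)
    (e₁ : X ≃ₗ[F] X') (h₁ : ∀ x : X, Q (e₁ x) = Q x) (e₂ : Y ≃ₗ[F] Y') (h₂ : ∀ y : Y, Q (e₂ y) = Q y) :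
    ∃ e : ↥(X ⊔ Y) ≃ₗ[F] ↥(X' ⊔ Y'), ∀ w : ↥(X ⊔ Y), Q (e w) = Q w := by
  have mk : ∀ (A B : Submodule F V), A ⊓ B = ⊥ → Function.Bijective
      (LinearMap.coprod (Submodule.inclusion (le_sup_left : A ≤ A ⊔ B)) (Submodule.inclusion (le_sup_right : B ≤ A ⊔ B))) := by
    intro A B hAB
    constructor
    · rintro ⟨a, b⟩ ⟨a', b'⟩ h
      have h' : (a : V) + b = a' + b' := congrArg Subtype.val h
      have e : (a : V) - a' = b' - b := by rw [sub_eq_sub_iff_add_eq_add, h']; abel
      have ha : (a : V) - a' ∈ A ⊓ B := ⟨A.sub_mem a.2 a'.2, e ▸ B.sub_mem b'.2 b.2⟩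
      rw [hAB, Submodule.mem_bot, sub_eq_zero] at ha
      exact Prod.ext (Subtype.ext ha) (Subtype.ext (add_left_cancel (ha ▸ h')))
    · rintro ⟨z, hz⟩
      obtain ⟨a, ha, b, hb, rfl⟩ := Submodule.mem_sup.1 hz
      exact ⟨(⟨a, ha⟩, ⟨b, hb⟩), rfl⟩
  let E := LinearEquiv.ofBijective _ (mk X Y hd)
  let E' := LinearEquiv.ofBijective _ (mk X' Y' hd')
  refine ⟨E.symm.trans ((e₁.prodCongr e₂).trans E'), fun w => ?_⟩
  have hw : (w : V) = ((E.symm w).1 : V) + ((E.symm w).2 : V) := congrArg Subtype.val (E.apply_symm_apply w).symm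
  show Q (((e₁ (E.symm w).1 : X') : V) + ((e₂ (E.symm w).2 : Y') : V)) = Q w
  rw [hw, quad_add', quad_add', h₁, h₂, ho _ (E.symm w).1.2 _ (E.symm w).2.2,
    ho' _ (e₁ _).2 _ (e₂ _).2]

/-- A copy of an odd dimensional subspace inside a larger one. -/
theorem exists_copy {Z T : Submodule F V} (hZ : Ndg (polarBilin Q) Z) (hZd : Odd (finrank F Z))
    (hT : Ndg (polarBilin Q) T) (hlt : finrank F Z < finrank F T) :
    ∃ X, X ≤ T ∧ Ndg (polarBilin Q) X ∧ ∃ e : X ≃ₗ[F] Z, ∀ x : X, Q (e x) = Q x := by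
  obtain ⟨j, hj⟩ := hZd
  obtain ⟨P, hPn, hPZ, hPd, hPp⟩ := exists_sub_type' hZ (b := 2 * j) ⟨j, two_mul j⟩ True (by omega)
    (fun _ => trivial) (fun h => by omega)
  obtain ⟨hsup, hinf, hdim, hnd⟩ := exists_split polar_refl hPn hPZ
  obtain ⟨⟨z, hz⟩, hz0, hzall⟩ := finrank_eq_one_iff'.1 (show finrank F ↥(Z ⊓ perp (polarBilin Q) P) = 1 by omega)
  have hz0' : z ≠ 0 := fun h => hz0 (Subtype.ext h)
  have hzz : polarBilin Q z z ≠ 0 := fun h => by
    obtain ⟨v, hv, hne⟩ := hnd hZ z hz hz0'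
    obtain ⟨t, ht⟩ := hzall ⟨v, hv⟩
    have ht' : t • z = v := congrArg Subtype.val ht
    rw [← ht', map_smul, h, smul_zero] at hne
    exact hne rfl
  obtain ⟨z', hz'T, hz'Q⟩ := represents hT (by omega) (Q z)
  have hz'z : polarBilin Q z' z' = polarBilin Q z z := by
    rw [polarBilin_apply_apply, polarBilin_apply_apply, polar_self, polar_self, hz'Q]
  have hL : Ndg (polarBilin Q) (Submodule.span F {z'}) := fun u hu h0 => by
    obtain ⟨t, rfl⟩ := Submodule.mem_span_singleton.1 hu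
    have ht : t ≠ 0 := fun h => h0 (by rw [h, zero_smul])
    exact ⟨z', Submodule.mem_span_singleton_self z', by
      rw [map_smul, LinearMap.smul_apply, hz'z, smul_eq_mul]; exact mul_ne_zero ht hzz⟩
  have hz'0 : z' ≠ 0 := fun h => hzz (by rw [← hz'z, h]; simp)
  have hLT : Submodule.span F {z'} ≤ T := Submodule.span_le.2 (by simpa using hz'T)
  obtain ⟨-, -, hdimT, hndT⟩ := exists_split polar_refl hL hLT
  rw [finrank_span_singleton hz'0] at hdimT
  obtain ⟨P', hP'n, hP'T, hP'd, hP'p⟩ := exists_sub_type' (hndT hT) (b := 2 * j) ⟨j, two_mul j⟩ True (by omega)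
    (fun _ => trivial) (fun h => by omega)
  have ho' : ∀ x ∈ P', ∀ y ∈ Submodule.span F {z'}, polarBilin Q x y = 0 := fun x hx y hy =>
    (polar_swap x y).trans (mem_perp.1 (hP'T hx).2 y hy)
  have hd' : P' ⊓ Submodule.span F {z'} = ⊥ :=
    le_bot_iff.1 ((le_inf inf_le_right (inf_le_left.trans (hP'T.trans inf_le_right))).trans (inf_perp polar_refl hL).le)
  refine ⟨P' ⊔ Submodule.span F {z'}, sup_le (hP'T.trans inf_le_left) hLT, hP'n.sup polar_refl hL ho', ?_⟩
  obtain ⟨e₁, h₁⟩ := exists_isometry hP'n hPn hP'd hPd (hP'p.trans hPp.symm)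
  let e₂ : ↥(Submodule.span F {z'}) ≃ₗ[F] ↥(Z ⊓ perp (polarBilin Q) P) :=
    (LinearEquiv.toSpanNonzeroSingleton F V z' hz'0).symm.trans
      (LinearEquiv.ofBijective (LinearMap.toSpanSingleton F _ ⟨z, hz⟩)
        ⟨fun a b h => by
          have h' : a • z = b • z := congrArg Subtype.val h
          exact smul_left_injective F hz0' h', fun w => by obtain ⟨c, hc⟩ := hzall w; exact ⟨c, by simpa using hc⟩⟩)
  have h₂ : ∀ y : Submodule.span F {z'}, Q (e₂ y) = Q y := fun y => by
    obtain ⟨t, rfl⟩ := (LinearEquiv.toSpanNonzeroSingleton F V z' hz'0).surjective y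
    simp only [e₂, LinearEquiv.trans_apply, LinearEquiv.symm_apply_apply]
    show Q (t • z) = Q (t • z')
    rw [QuadraticMap.map_smul, QuadraticMap.map_smul, hz'Q]
  obtain ⟨e, he⟩ := exists_iso_sup hd' hinf ho' (fun x hx y hy => mem_perp.1 hy.2 x hx) e₁ h₁ e₂ h₂
  exact ⟨e.trans (LinearEquiv.ofEq _ _ hsup), fun x => he x⟩

variable {m : ℕ} {P : Submodule F V → Prop}

/-- A fixed member for every element, read off the numbers of blocks. -/
theorem forall_fix_iff (hQ : Ndg (polarBilin Q) ⊤) (hr : (r : F) ≠ 0) (hr2 : r ≠ 2) (n : ℕ)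
    (hn : finrank F V = n) (hne : Even n ∨ (2 : F) ≠ 0) (Feas : ℕ → Prop)
    (hsufficient : ∀ (f : V →ₗ[F] V) (s : ℕ), IsOrthPack Q f r → finrank F (movS f) = s * blockDim (ordq F r) →
      ((∃ W, P W ∧ Inv f W) ↔ Feas s)) :
    (∀ g : oGroup Q, g ^ r = 1 → g ≠ 1 → ∃ W, P W ∧ Inv g.1.toLinearMap W) ↔
      ∀ s, Adm n (ordq F r) s (Even n → IsPlus Q ⊤) → (Even n ∨ s * blockDim (ordq F r) < n) → Feas s := by
  constructor
  · intro h s hs hor
    obtain ⟨hs0, hsn, hst⟩ := hs
    obtain ⟨W, hWn, -, hWd, hWp⟩ := exists_sub_type' hQ ((blockDim_even _).mul_left s) (blkType (ordq F r) s)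
      (by rw [finrank_top, hn]; exact hsn) (fun h0 => by
        have := Nat.mul_pos hs0 (blockDim_pos (F := F) (r := r) hr)
        omega)
      (fun he => by
        rw [finrank_top, hn] at he
        have hev : Even n := he ▸ (blockDim_even _).mul_left s
        rw [← hst he]
        exact ⟨fun hp _ => hp, fun hp => hp hev⟩)
    obtain ⟨g, hg, hgf⟩ := exists_fpf_on hQ hr hr2 s W hWn hWd hWp
    have hP := orthPack_of_elt hQ hg
    have hmov : finrank F (movS g.1.toLinearMap) = s * blockDim (ordq F r) := by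
      have h1 := fix_add_mov (f := g.1.toLinearMap)
      obtain ⟨-, -, h2, -⟩ := exists_split (T := ⊤) polar_refl hWn le_top
      rw [top_inf_eq, finrank_top] at h2
      rw [hgf] at h1
      omega
    refine (hsufficient _ s hP hmov).1 (h g hg fun e => ?_)
    rw [e] at hmov
    have h0 : movS ((1 : oGroup Q).1.toLinearMap) = ⊥ := by
      rw [Submodule.eq_bot_iff]
      rintro _ ⟨v, rfl⟩
      simp
    rw [h0, finrank_bot] at hmov
    have := Nat.mul_pos hs0 (blockDim_pos (F := F) (r := r) hr)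
    omega
  · intro h g hg hg1
    have hP := orthPack_of_elt hQ hg
    obtain ⟨s, hs, hsp, hsd, -, -, -, hfp⟩ := hP.fix_mov hr hr2
    refine (hsufficient _ s hP hs).2 (h s ⟨Nat.pos_of_ne_zero fun h0 => ?_, by omega, fun he => ?_⟩ ?_)
    · rw [h0, zero_mul, Submodule.finrank_eq_zero] at hs
      exact hg1 (movS_eq_bot hs)
    · have hev : Even n := he ▸ (blockDim_even _).mul_left s
      have h1 := hfp (hn.symm ▸ hev)
      rw [Submodule.finrank_eq_zero.1 (show finrank F (fixS g.1.toLinearMap) = 0 by omega)] at h1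
      exact ⟨fun hp => (h1.1 IsPlus.bot).1 (hp hev), fun hb _ => (h1.1 IsPlus.bot).2 hb⟩
    · rcases Nat.even_or_odd n with he | ho
      · exact Or.inl he
      · refine Or.inr (lt_of_le_of_ne (by omega) fun e => Nat.not_even_iff_odd.2 ho ?_)
        exact e ▸ (blockDim_even _).mul_left s

/-- Even dimension, one type. -/
theorem fix_even_iff {f : V →ₗ[F] V} (hP : IsOrthPack Q f r) (hr : (r : F) ≠ 0) (hr2 : r ≠ 2) {n s : ℕ}
    (hn : finrank F V = n) (hs : finrank F (movS f) = s * blockDim (ordq F r)) (hm : Even m) (τ : Prop) :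
    (∃ W : Submodule F V, (finrank F W = m ∧ Ndg (polarBilin Q) W ∧ (IsPlus Q W ↔ τ)) ∧ Inv f W) ↔
      FeasEven n (ordq F r) m (Even n → IsPlus Q ⊤) τ s := by
  obtain ⟨s', hs', hsp, hd, hF, hM, hMF, hfp⟩ := hP.fix_mov hr hr2
  obtain rfl : s' = s := Nat.eq_of_mul_eq_mul_right (blockDim_pos hr) (hs'.symm.trans hs)
  constructor
  · rintro ⟨W, ⟨hWd, hWn, hWp⟩, hW⟩
    obtain ⟨a, Xb, Xa, hbn, hbF, -, haM, haD, haP, hWd', hWp'⟩ := hP.ndg_parts hr hr2 hW hWn
    have hab := Submodule.finrank_mono haM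
    rw [haD, hs] at hab
    have hbd := Submodule.finrank_mono hbF
    refine ⟨a, finrank F Xb, Nat.le_of_mul_le_mul_right hab (blockDim_pos hr), by omega, by omega, fun hb0 => ?_, fun hfull => ?_⟩
    · rw [Submodule.finrank_eq_zero] at hb0
      rw [← hWp, hWp' (hWd ▸ hm), hb0]
      exact ⟨fun h => h.1 IsPlus.bot, fun h => iff_of_true IsPlus.bot h⟩
    · have hev : Even n := by
        rw [← hfull]
        rw [← hWd, hWd', Nat.even_add] at hm
        exact (hm.2 ((blockDim_even _).mul_left a)).add ((blockDim_even _).mul_left _)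
      rw [← hWp, hWp' (hWd ▸ hm), Submodule.eq_of_le_of_finrank_le hbF (by omega), hfp (hn ▸ hev)]
      simp [hev]
  · rintro ⟨a, b, has, hmd, hbn, hb0, hfull⟩
    have hbe : Even b := by
      rw [hmd, Nat.even_add] at hm
      exact hm.2 ((blockDim_even _).mul_left a)
    classical
    obtain ⟨Xb, hbn', hbF, hbd, hbp⟩ := exists_sub_type' hF hbe (τ ↔ blkType (ordq F r) a) (by omega)
      (fun h => hb0 h) (fun h => by
        have hfull' := hfull (by omega)
        have hev : Even n := by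
          rw [← hn, ← hd, ← h]; exact hbe.add ((blockDim_even _).mul_left _)
        rw [hfp (hn ▸ hev)]
        by_cases hp : IsPlus Q ⊤ <;> by_cases h1 : blkType (ordq F r) s' <;> by_cases h2 : blkType (ordq F r) a <;>
          simp_all)
    obtain ⟨W, hW, hWn, hWd, hWp, -⟩ := hP.exists_ndg_of_parts hr hr2 hbn' hbF (a := a)
      (by rw [hs]; exact Nat.mul_le_mul_right _ has)
    refine ⟨W, ⟨by omega, hWn, ?_⟩, hW⟩
    rw [hWp (hbd ▸ hbe), hbp]
    by_cases hp : τ <;> by_cases h2 : blkType (ordq F r) a <;> simp [hp, h2]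

/-- Odd dimension, one isometry class. -/
theorem fix_odd_iff {f : V →ₗ[F] V} (hP : IsOrthPack Q f r) (hr : (r : F) ≠ 0) (hr2 : r ≠ 2) {n s : ℕ}
    (hn : finrank F V = n) (hne : Even n) (hs : finrank F (movS f) = s * blockDim (ordq F r)) (hm : Odd m)
    {W₀ : Submodule F V} (hd₀ : finrank F W₀ = m) (hn₀ : Ndg (polarBilin Q) W₀) :
    (∃ W : Submodule F V, (finrank F W = m ∧ Ndg (polarBilin Q) W ∧ ∃ e : W ≃ₗ[F] W₀, ∀ w : W, Q (e w) = Q w) ∧ Inv f W) ↔
      FeasOdd n (ordq F r) m s := by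
  obtain ⟨s', hs', hsp, hd, hF, hM, hMF, hfp⟩ := hP.fix_mov hr hr2
  obtain rfl : s' = s := Nat.eq_of_mul_eq_mul_right (blockDim_pos hr) (hs'.symm.trans hs)
  constructor
  · rintro ⟨W, ⟨hWd, hWn, -⟩, hW⟩
    obtain ⟨a, Xb, Xa, hbn, hbF, -, haM, haD, haP, hWd', -⟩ := hP.ndg_parts hr hr2 hW hWn
    have hab := Submodule.finrank_mono haM
    rw [haD, hs] at hab
    have hbd := Submodule.finrank_mono hbF
    exact ⟨a, finrank F Xb, Nat.le_of_mul_le_mul_right hab (blockDim_pos hr), by omega, by omega⟩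
  · rintro ⟨a, b, has, hmd, hbn⟩
    have hbo : Odd b := by
      rw [hmd, Nat.odd_add] at hm
      exact hm.2 ((blockDim_even _).mul_left a)
    have hac : Even (a * blockDim (ordq F r)) := (blockDim_even _).mul_left a
    have hlt : b + s' * blockDim (ordq F r) < n := by
      refine lt_of_le_of_ne hbn fun e => Nat.not_even_iff_odd.2 ?_ hne
      rw [← e]
      exact hbo.add_even ((blockDim_even _).mul_left _)
    obtain ⟨Y, hYn, hYW, hYd, hYp⟩ := exists_sub_type' hn₀ hac (blkType (ordq F r) a) (by omega)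
      (fun h => by
        rcases Nat.mul_eq_zero.1 h with h | h
        · rw [h]; exact blkType_zero _
        · exact absurd h (blockDim_pos (F := F) (r := r) hr).ne')
      (fun h => by rw [hd₀] at h; exact absurd (h ▸ hac) (Nat.not_even_iff_odd.2 hm))
    obtain ⟨hsup, hinf, hdim, hnd⟩ := exists_split polar_refl hYn hYW
    obtain ⟨Xb, hbF, hbn', eb, heb⟩ := exists_copy (Z := W₀ ⊓ perp (polarBilin Q) Y) (hnd hn₀)
      (by rw [show finrank F ↥(W₀ ⊓ perp (polarBilin Q) Y) = b by omega]; exact hbo) hF (by omega)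
    have hbd : finrank F Xb = b := by rw [eb.finrank_eq]; omega
    obtain ⟨W, hW, hWn, hWd, -, Xa, hWsup, hWinf, hXad, hXap, horth⟩ :=
      hP.exists_ndg_of_parts hr hr2 hbn' hbF (a := a) (by rw [hs]; exact Nat.mul_le_mul_right _ has)
    refine ⟨W, ⟨by omega, hWn, ?_⟩, hW⟩
    have hXan : Ndg (polarBilin Q) Xa := by
      intro u hu h0
      obtain ⟨v, hv, hne'⟩ := hWn u (hWsup ▸ Submodule.mem_sup_right hu) h0
      obtain ⟨x, hx, y, hy, rfl⟩ := Submodule.mem_sup.1 (hWsup.symm ▸ hv : v ∈ Xb ⊔ Xa)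
      exact ⟨y, hy, by rwa [map_add, (polar_swap u x).trans (horth x hx u hu), zero_add] at hne'⟩
    obtain ⟨k, hk⟩ := hac
    obtain ⟨ea, hea⟩ := exists_isometry hXan hYn (h := k) (by omega) (by omega) (hXap.trans hYp.symm)
    obtain ⟨e, he⟩ := exists_iso_sup hWinf ((inf_comm _ _).trans hinf) horth
      (fun x hx y hy => (polar_swap x y).trans (mem_perp.1 hx.2 y hy)) eb heb ea hea
    refine ⟨(LinearEquiv.ofEq _ _ hWsup.symm).trans (e.trans (LinearEquiv.ofEq _ _ ((sup_comm _ _).trans hsup))), fun w => ?_⟩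
    exact (he _).trans rfl

/-- Counting: an element whose invariant members are all fixed pointwise, with too small a fixed space, shows that
`r` does not divide the number of members. -/
theorem no_member_fixed (hQ : (polarBilin Q).Nondegenerate) (hr : (r : F) ≠ 0) (hr2 : r ≠ 2) (hC : IsClass Q m P)
    (hdvd : r ∣ Nat.card {W // P W}) {g : oGroup Q} (hg : g ^ r = 1) (hm : m < blockDim (ordq F r))
    (hroom : ∀ s, 0 < s → s * blockDim (ordq F r) ≤ finrank F (fixS g.1.toLinearMap) →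
      s * blockDim (ordq F r) = finrank F (fixS g.1.toLinearMap) ∧
        ¬ (IsPlus Q (fixS g.1.toLinearMap) ↔ blkType (ordq F r) s)) :
    ∀ W, P W → ¬ W ≤ fixS g.1.toLinearMap := by
  classical
  intro W₁ hW₁ hle₁
  have hP := orthPack_of_elt (ndg_top_iff.2 hQ) hg
  set T := fixS g.1.toLinearMap
  have hT : Ndg (polarBilin Q) T := by
    obtain ⟨s, -, -, -, hF, -⟩ := hP.fix_mov hr hr2
    exact hF
  have hfix : ∀ W, P W → W.map g.1.toLinearMap = W → W ≤ T := fun W hW hinv => by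
    obtain ⟨-, hM, -⟩ := split_fix_mov hP.pack hr (inv_iff.2 hinv.le) (hC.ndg W hW)
    obtain ⟨a, ha, -⟩ := hP.shape hr hr2 _ (W.map (g.1.toLinearMap - 1)) rfl (inv_iff.2 hinv.le).map_sub.1 hM
      (split_fix_mov hP.pack hr (inv_iff.2 hinv.le) (hC.ndg W hW)).2.2
    have hsum := dim_split (f := g.1.toLinearMap) W
    rw [hC.dim W hW, ha] at hsum
    have ha0 : a = 0 := by
      by_contra h0
      have := Nat.le_mul_of_pos_left (blockDim (ordq F r)) (Nat.pos_of_ne_zero h0)
      omega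
    rw [ha0, zero_mul] at hsum
    have hle : finrank F W ≤ finrank F ↥(W ⊓ fixS g.1.toLinearMap) := by
      rw [hC.dim W hW]
      omega
    exact inf_eq_left.1 (Submodule.eq_of_le_of_finrank_le (inf_le_left : W ⊓ fixS g.1.toLinearMap ≤ W) hle)
  have h1 := card_modEq_fix hg P hC.map hfix hdvd
  set Ω := {W // P W ∧ W ≤ T}
  have := Module.finite_of_finite (R := F) (M := V)
  have hfinS : Finite (Submodule F V) := Finite.of_injective (fun W => (W : Set V)) SetLike.coe_injective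
  have := finite_oGroup (Q := Q.comp T.subtype)
  have hTn : (polarBilin (Q.comp T.subtype)).Nondegenerate := ndg_comp hT
  -- transitivity of the group of the fixed space
  let act : oGroup (Q.comp T.subtype) → Ω := fun h =>
    ⟨((W₁.comap T.subtype).map h.1.toLinearMap).map T.subtype, hC.closed W₁ _
      (((Submodule.comapSubtypeEquivOfLe hle₁).symm.trans
        (Submodule.equivMapOfInjective h.1.toLinearMap h.1.injective _)).trans
          (Submodule.equivMapOfInjective T.subtype T.injective_subtype _))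
      (fun w => (h.2 _).trans rfl) hW₁, Submodule.map_subtype_le _ _⟩
  have hsurj : Function.Surjective act := by
    rintro ⟨W, hW, hle⟩
    obtain ⟨e, he⟩ := hC.iso W₁ W hW₁ hW
    obtain ⟨h, hh⟩ := exists_map_subspace hTn
      (((Submodule.comapSubtypeEquivOfLe hle₁).trans e).trans (Submodule.comapSubtypeEquivOfLe hle).symm)
      fun x => (he _).trans rfl
    refine ⟨h, Subtype.ext ?_⟩
    show Submodule.map T.subtype _ = W
    rw [hh, Submodule.map_comap_subtype, inf_eq_right.2 hle]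
  letI : MulAction (oGroup (Q.comp T.subtype)) Ω :=
    { smul := fun h W => ⟨((W.1.comap T.subtype).map h.1.toLinearMap).map T.subtype, hC.closed W.1 _
        (((Submodule.comapSubtypeEquivOfLe W.2.2).symm.trans
          (Submodule.equivMapOfInjective h.1.toLinearMap h.1.injective _)).trans
            (Submodule.equivMapOfInjective T.subtype T.injective_subtype _))
        (fun w => (h.2 _).trans rfl) W.2.1, Submodule.map_subtype_le _ _⟩
      one_smul := fun W => Subtype.ext (by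
        show ((W.1.comap T.subtype).map _).map T.subtype = W.1
        rw [show ((1 : oGroup (Q.comp T.subtype)).1.toLinearMap) = LinearMap.id from rfl, Submodule.map_id,
          Submodule.map_comap_subtype, inf_eq_right.2 W.2.2])
      mul_smul := fun a b W => Subtype.ext (by
        show ((W.1.comap T.subtype).map (a * b).1.toLinearMap).map T.subtype =
          ((((W.1.comap T.subtype).map b.1.toLinearMap).map T.subtype).comap T.subtype |>.map a.1.toLinearMap).map T.subtype
        rw [Submodule.comap_map_eq_of_injective T.injective_subtype]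
        congr 1
        exact Submodule.map_comp _ _ _) }
  have horb : MulAction.orbit (oGroup (Q.comp T.subtype)) (⟨W₁, hW₁, hle₁⟩ : Ω) = Set.univ :=
    Set.eq_univ_of_forall fun W => by
      obtain ⟨h, hh⟩ := hsurj W
      exact ⟨h, hh⟩
  have h2 : Nat.card Ω ∣ Nat.card (oGroup (Q.comp T.subtype)) := by
    refine Dvd.intro (Nat.card (MulAction.stabilizer (oGroup (Q.comp T.subtype)) (⟨W₁, hW₁, hle₁⟩ : Ω))) ?_
    rw [← Nat.card_congr (Equiv.Set.univ Ω), ← horb, ← Nat.card_prod]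
    exact Nat.card_congr (MulAction.orbitProdStabilizerEquivGroup _ _)
  obtain ⟨s, hs0, hsle, hst⟩ := room_of_dvd (ndg_top_iff.2 hTn) hr hr2 (h1.trans h2)
  obtain ⟨he, hne⟩ := hroom s hs0 hsle
  refine hne (Iff.trans ?_ (hst he))
  exact ⟨fun hp => isPlus_congr Submodule.topEquiv.symm (fun x => rfl) hp,
    fun hp => isPlus_congr Submodule.topEquiv (fun x => rfl) hp⟩

end CfsgLib.Elusive2
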