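import Cfsg.Agent.Elusive2.OrthStd

/-!
Non-degenerate subspaces of even dimensional orthogonal spaces fixed by every element of one odd prime order prime
to the characteristic: the criterion in closed form.
-/

set_option autoImplicit false
set_option linter.unusedSectionVars false

namespace CfsgLib.Elusive2

open Module QuadraticMap CfsgLib.Elusive CfsgLib.Quad

/-! ### Arithmetic -/

/-- No isometry has the maximal conceivable number of blocks. -/
def BadTop (n i : ℕ) (εV : Prop) : Prop := n % blockDim i = 0 ∧ ¬ (εV ↔ blkType i (n / blockDim i))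

/-- The closed criterion for one type. -/
def EvenCrit (n i m : ℕ) (εV τ : Prop) : Prop :=
  BadTop n i εV ∨ (m % blockDim i ≤ n % blockDim i ∧
    (m % blockDim i = 0 → (τ ↔ blkType i (m / blockDim i))) ∧
    (m % blockDim i = n % blockDim i → (τ ↔ ((εV ↔ blkType i (n / blockDim i)) ↔ blkType i (m / blockDim i)))))

/-- The closed criterion for one isometry class of odd dimension. -/
def OddCrit (n i m : ℕ) (εV : Prop) : Prop := BadTop n i εV ∨ m % blockDim i < n % blockDim i

open Classical in
/-- The largest number of blocks. -/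
noncomputable def topS (n i : ℕ) (εV : Prop) : ℕ :=
  if BadTop n i εV then n / blockDim i - 1 else n / blockDim i

variable {n i m : ℕ} {εV τ : Prop}

theorem topS_le (n i : ℕ) (εV : Prop) : topS n i εV * blockDim i ≤ n := by
  unfold topS
  split
  · exact (Nat.mul_le_mul_right _ (Nat.sub_le _ _)).trans (Nat.div_mul_le_self _ _)
  · exact Nat.div_mul_le_self _ _

theorem topS_spec (hc : 0 < blockDim i) (hn0 : 0 < n) :
    (topS n i εV * blockDim i = n → (εV ↔ blkType i (topS n i εV))) ∧
      ∀ s, Adm n i s εV → s ≤ topS n i εV := by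
  refine ⟨fun he => ?_, fun s hs => ?_⟩
  · unfold topS at he ⊢
    split
    · rename_i h
      rw [if_pos h] at he
      exfalso
      have h1 := Nat.div_add_mod n (blockDim i)
      rw [h.1, Nat.mul_comm (blockDim i) (n / blockDim i)] at h1
      obtain ⟨N, hN⟩ : ∃ N, n / blockDim i = N + 1 :=
        ⟨n / blockDim i - 1, by rcases Nat.eq_zero_or_pos (n / blockDim i) with e | e <;> [(exfalso; rw [e] at h1; omega); omega]⟩
      rw [hN, Nat.add_sub_cancel] at he
      rw [hN, Nat.add_mul, Nat.one_mul] at h1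
      omega
    · rename_i h
      rw [if_neg h] at he
      by_contra hne
      exact h ⟨by have := Nat.div_add_mod n (blockDim i); rw [Nat.mul_comm] at this; omega, hne⟩
  · obtain ⟨hs0, hsn, hst⟩ := hs
    have h1 := (Nat.le_div_iff_mul_le hc).2 hsn
    unfold topS
    split
    · rename_i h
      rcases Nat.lt_or_ge s (n / blockDim i) with hlt | hge
      · omega
      · obtain rfl : s = n / blockDim i := le_antisymm h1 hge
        refine absurd (hst ?_) h.2
        have h2 := Nat.div_add_mod n (blockDim i)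
        rw [h.1, Nat.mul_comm] at h2
        omega
    · exact h1

theorem feasEven_succ (hmn : m < n) {s : ℕ} (h : FeasEven n i m εV τ (s + 1)) (hm0 : 0 < m) :
    FeasEven n i m εV τ s := by
  obtain ⟨a, b, ha, hmd, hbn, hb0, hfull⟩ := h
  rw [Nat.add_mul, Nat.one_mul] at hbn
  rcases Nat.lt_or_ge s a with hlt | hge
  · obtain rfl : a = s + 1 := by omega
    rw [Nat.add_mul, Nat.one_mul] at hmd
    refine ⟨s, b + blockDim i, le_rfl, by omega, by omega, fun h0 => ?_, fun h0 => by omega⟩
    obtain rfl : b = 0 := by omega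
    rw [show blockDim i = 0 by omega] at hmd
    omega
  · rcases Nat.eq_zero_or_pos (blockDim i) with hc | hc
    · exact ⟨a, b, hge, hmd, by omega, hb0, fun h0 => by rw [hc] at hmd h0; omega⟩
    · exact ⟨a, b, hge, hmd, by omega, hb0, fun h0 => by omega⟩

theorem feasEven_mono (hmn : m < n) (hm0 : 0 < m) {s : ℕ} :
    ∀ d, FeasEven n i m εV τ (s + d) → FeasEven n i m εV τ s := by
  intro d
  induction d with
  | zero => exact id
  | succ d ih => exact fun h => ih (feasEven_succ hmn h hm0)

theorem feasOdd_succ {s : ℕ} (h : FeasOdd n i m (s + 1)) : FeasOdd n i m s := by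
  obtain ⟨a, b, ha, hmd, hbn⟩ := h
  rw [Nat.add_mul, Nat.one_mul] at hbn
  rcases Nat.lt_or_ge s a with hlt | hge
  · obtain rfl : a = s + 1 := by omega
    rw [Nat.add_mul, Nat.one_mul] at hmd
    exact ⟨s, b + blockDim i, le_rfl, by omega, by omega⟩
  · exact ⟨a, b, hge, hmd, by omega⟩

theorem feasOdd_mono {s : ℕ} : ∀ d, FeasOdd n i m (s + d) → FeasOdd n i m s := by
  intro d
  induction d with
  | zero => exact id
  | succ d ih => exact fun h => ih (feasOdd_succ h)

theorem feasEven_top (hc : 0 < blockDim i) (hm0 : 0 < m) (hmn : m < n) :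
    FeasEven n i m εV τ (topS n i εV) ↔ EvenCrit n i m εV τ := by
  classical
  have h1 := Nat.div_add_mod n (blockDim i)
  have h2 := Nat.div_add_mod m (blockDim i)
  rw [Nat.mul_comm] at h1 h2
  have h3 := Nat.mod_lt n hc
  have h4 := Nat.mod_lt m hc
  have hMN : m / blockDim i ≤ n / blockDim i := Nat.div_le_div_right hmn.le
  by_cases hbad : BadTop n i εV
  · refine iff_of_true ?_ (Or.inl hbad)
    rw [topS, if_pos hbad]
    obtain ⟨hk, hne⟩ := hbad
    rw [hk, Nat.add_zero] at h1
    obtain ⟨N, hN⟩ : ∃ N, n / blockDim i = N + 1 :=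
      ⟨n / blockDim i - 1, by rcases Nat.eq_zero_or_pos (n / blockDim i) with e | e <;> [(exfalso; rw [e] at h1; omega); omega]⟩
    rw [hN] at h1 hne ⊢
    rw [Nat.add_mul, Nat.one_mul] at h1
    rw [Nat.add_sub_cancel]
    have hM : m / blockDim i ≤ N := by
      by_contra hgt
      have := Nat.mul_le_mul_right (blockDim i) (show N + 1 ≤ m / blockDim i by omega)
      rw [Nat.add_mul, Nat.one_mul] at this
      omega
    have hM' := Nat.mul_le_mul_right (blockDim i) hM
    rcases Nat.eq_zero_or_pos (m % blockDim i) with hl | hl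
    · by_cases hτ : τ ↔ blkType i (m / blockDim i)
      · exact ⟨m / blockDim i, 0, hM, by omega, by omega, fun _ => hτ, fun h0 => by omega⟩
      · obtain ⟨M, hMe⟩ : ∃ M, m / blockDim i = M + 1 :=
          ⟨m / blockDim i - 1, by rcases Nat.eq_zero_or_pos (m / blockDim i) with e | e <;> [(exfalso; rw [e, hl] at h2; omega); omega]⟩
        rw [hMe] at hτ hM hM' h2
        rw [Nat.add_mul, Nat.one_mul] at hM' h2
        refine ⟨M, blockDim i, by omega, by omega, by omega, fun h0 => by omega, fun _ => ?_⟩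
        rw [blkType_add, blkType_one] at hne hτ
        by_cases hb1 : εV <;> by_cases hb2 : blkType i N <;> by_cases hb3 : blkType i M <;>
          by_cases hb4 : Odd i <;> by_cases hb5 : τ <;> simp_all
    · exact ⟨m / blockDim i, m % blockDim i, hM, by omega, by omega, fun h0 => by omega, fun h0 => by omega⟩
  · rw [topS, if_neg hbad]
    constructor
    · rintro ⟨a, b, ha, hmd, hbn, hb0, hfull⟩
      have hbc : b < blockDim i := by omega
      have hb : b = m % blockDim i := by rw [hmd, Nat.add_mul_mod_self_right, Nat.mod_eq_of_lt hbc]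
      have haM : a = m / blockDim i := by rw [hmd, Nat.add_mul_div_right _ _ hc, Nat.div_eq_of_lt hbc, zero_add]
      subst hb haM
      exact Or.inr ⟨by omega, hb0, fun he => hfull (by omega)⟩
    · rintro (h | ⟨hle, h0, hf⟩)
      · exact absurd h hbad
      · exact ⟨m / blockDim i, m % blockDim i, hMN, by omega, by omega, h0, fun he => hf (by omega)⟩

theorem feasOdd_top (hc : 0 < blockDim i) (hce : Even (blockDim i)) (hne : Even n) (hm : Odd m) (hmn : m < n) :
    FeasOdd n i m (topS n i εV) ↔ OddCrit n i m εV := by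
  classical
  have h1 := Nat.div_add_mod n (blockDim i)
  have h2 := Nat.div_add_mod m (blockDim i)
  rw [Nat.mul_comm] at h1 h2
  have h3 := Nat.mod_lt n hc
  have h4 := Nat.mod_lt m hc
  have hMN : m / blockDim i ≤ n / blockDim i := Nat.div_le_div_right hmn.le
  have h5 : n % blockDim i % 2 = 0 := by
    rw [Nat.mod_mod_of_dvd n (even_iff_two_dvd.1 hce)]; exact Nat.even_iff.1 hne
  have h6 : m % blockDim i % 2 = 1 := by
    rw [Nat.mod_mod_of_dvd m (even_iff_two_dvd.1 hce)]; exact Nat.odd_iff.1 hm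
  by_cases hbad : BadTop n i εV
  · refine iff_of_true ?_ (Or.inl hbad)
    rw [topS, if_pos hbad]
    obtain ⟨hk, -⟩ := hbad
    rw [hk, Nat.add_zero] at h1
    obtain ⟨N, hN⟩ : ∃ N, n / blockDim i = N + 1 :=
      ⟨n / blockDim i - 1, by rcases Nat.eq_zero_or_pos (n / blockDim i) with e | e <;> [(exfalso; rw [e] at h1; omega); omega]⟩
    rw [hN] at h1 ⊢
    rw [Nat.add_mul, Nat.one_mul] at h1
    rw [Nat.add_sub_cancel]
    have hM : m / blockDim i ≤ N := by
      by_contra hgt
      have := Nat.mul_le_mul_right (blockDim i) (show N + 1 ≤ m / blockDim i by omega)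
      rw [Nat.add_mul, Nat.one_mul] at this
      omega
    exact ⟨m / blockDim i, m % blockDim i, hM, by omega, by omega⟩
  · rw [topS, if_neg hbad]
    constructor
    · rintro ⟨a, b, ha, hmd, hbn⟩
      have hbc : b < blockDim i := by omega
      have hb : b = m % blockDim i := by rw [hmd, Nat.add_mul_mod_self_right, Nat.mod_eq_of_lt hbc]
      subst hb
      exact Or.inr (by omega)
    · rintro (h | h)
      · exact absurd h hbad
      · exact ⟨m / blockDim i, m % blockDim i, hMN, by omega, by omega⟩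

/-! ### Geometry -/

variable {F V : Type*} [Field F] [Fintype F] [AddCommGroup V] [Module F V] [FiniteDimensional F V]
  {Q : QuadraticForm F V} {r : ℕ} [hr' : Fact r.Prime] {P : Submodule F V → Prop}

/-- Reduction to the largest number of blocks, and the consequence of divisibility. -/
theorem all_fix_top (hQ : (polarBilin Q).Nondegenerate) (hr : (r : F) ≠ 0) (hr2 : r ≠ 2) (hn : finrank F V = n)
    (hne : Even n) (hn0 : 0 < n) (hmn : m < n) (εV : Prop) (hεV : IsPlus Q ⊤ ↔ εV) (hC : IsClass Q m P)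
    (hdvd : r ∣ Nat.card {W // P W}) (Feas : ℕ → Prop)
    (hsuff : ∀ (f : V →ₗ[F] V) (s : ℕ), IsOrthPack Q f r → finrank F (movS f) = s * blockDim (ordq F r) →
      ((∃ W, P W ∧ Inv f W) ↔ Feas s))
    (hmono : ∀ s d, Feas (s + d) → Feas s)
    (hzero : Feas 0) :
    ((∀ g : oGroup Q, g ^ r = 1 → g ≠ 1 → ∃ W, P W ∧ Inv g.1.toLinearMap W) ↔
        Feas (topS n (ordq F r) εV)) ∧
      (Feas (topS n (ordq F r) εV) → blockDim (ordq F r) ≤ m) := by
  classical
  have hc := blockDim_pos (F := F) (r := r) hr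
  have hQt := ndg_top_iff.2 hQ
  obtain ⟨hspec, hmax⟩ := topS_spec (n := n) (εV := εV) hc hn0
  have hbound : ∀ S, S = topS n (ordq F r) εV → n - S * blockDim (ordq F r) ≤ blockDim (ordq F r) ∧
      (n - S * blockDim (ordq F r) = blockDim (ordq F r) → ¬ (εV ↔ blkType (ordq F r) (S + 1))) := by
    rintro S rfl
    have h1 := Nat.div_add_mod n (blockDim (ordq F r))
    rw [Nat.mul_comm] at h1
    have h2 := Nat.mod_lt n hc
    unfold topS
    split
    · rename_i h
      obtain ⟨N, hN⟩ : ∃ N, n / blockDim (ordq F r) = N + 1 :=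
        ⟨n / blockDim (ordq F r) - 1, by
          rcases Nat.eq_zero_or_pos (n / blockDim (ordq F r)) with e | e
          · rw [e, h.1] at h1; omega
          · omega⟩
      obtain ⟨hk, hne'⟩ := h
      rw [hk, hN, Nat.add_mul, Nat.one_mul] at h1
      rw [hN] at hne' ⊢
      rw [Nat.add_sub_cancel]
      exact ⟨by omega, fun _ => hne'⟩
    · exact ⟨by omega, fun h => by omega⟩
  generalize hS : topS n (ordq F r) εV = S at hspec hmax hbound ⊢
  obtain ⟨hb1, hb2⟩ := hbound S rfl
  have hSle : S * blockDim (ordq F r) ≤ n := hS ▸ topS_le n (ordq F r) εV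
  obtain ⟨X, hXn, -, hXd, hXp⟩ := exists_sub_type' hQt ((blockDim_even (ordq F r)).mul_left S)
    (blkType (ordq F r) S) (by rw [finrank_top, hn]; exact hSle)
    (fun h => by
      rcases Nat.mul_eq_zero.1 h with h | h
      · rw [h]; exact blkType_zero _
      · omega)
    (fun h => by rw [finrank_top, hn] at h; exact hεV.trans (hspec h))
  obtain ⟨g, hg, hgf⟩ := exists_fpf_on hQt hr hr2 S X hXn hXd hXp
  have hP := orthPack_of_elt hQt hg
  obtain ⟨-, -, hd2, -⟩ := exists_split (T := ⊤) polar_refl hXn le_top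
  rw [top_inf_eq, finrank_top, hn, hXd] at hd2
  have hfd : finrank F (fixS g.1.toLinearMap) = n - S * blockDim (ordq F r) := by rw [hgf]; omega
  have hmov : finrank F (movS g.1.toLinearMap) = S * blockDim (ordq F r) := by
    have h1 := fix_add_mov (f := g.1.toLinearMap)
    omega
  have hlarge : Feas S → blockDim (ordq F r) ≤ m := by
    intro hF
    by_contra hmc
    push Not at hmc
    obtain ⟨W, hW, hinv⟩ := (hsuff _ S hP hmov).2 hF
    obtain ⟨s', hs', -, -, -, -, -, hfp⟩ := hP.fix_mov hr hr2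
    obtain rfl : s' = S := Nat.eq_of_mul_eq_mul_right hc (hs'.symm.trans hmov)
    refine no_member_fixed hQ hr hr2 hC hdvd hg hmc (fun s hs0 hle => ?_) W hW ?_
    · rw [hfd] at hle ⊢
      have h1 := Nat.le_mul_of_pos_left (blockDim (ordq F r)) hs0
      have he : n - s' * blockDim (ordq F r) = blockDim (ordq F r) := by omega
      have hs1 : s = 1 := by
        by_contra hne1
        have := Nat.mul_le_mul_right (blockDim (ordq F r)) (show 2 ≤ s by omega)
        omega
      subst hs1
      refine ⟨by omega, fun hiff => hb2 he ?_⟩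
      rw [hfp (hn.symm ▸ hne), hεV] at hiff
      rw [blkType_add]
      by_cases h5 : εV <;> by_cases h6 : blkType (ordq F r) s' <;> by_cases h7 : blkType (ordq F r) 1 <;>
        simp_all
    · obtain ⟨-, hM, hMF⟩ := split_fix_mov hP.pack hr hinv (hC.ndg W hW)
      obtain ⟨a', ha', -⟩ := hP.shape hr hr2 _ (W.map (g.1.toLinearMap - 1)) rfl hinv.map_sub.1 hM hMF
      have hsum := dim_split (f := g.1.toLinearMap) W
      rw [hC.dim W hW, ha'] at hsum
      have ha0 : a' = 0 := by
        by_contra h0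
        have := Nat.le_mul_of_pos_left (blockDim (ordq F r)) (Nat.pos_of_ne_zero h0)
        omega
      rw [ha0, zero_mul] at hsum
      have hle : finrank F W ≤ finrank F ↥(W ⊓ fixS g.1.toLinearMap) := by rw [hC.dim W hW]; omega
      exact inf_eq_left.1 (Submodule.eq_of_le_of_finrank_le (inf_le_left : W ⊓ fixS g.1.toLinearMap ≤ W) hle)
  refine ⟨?_, hlarge⟩
  have hiff := forall_fix_iff (P := P) hQt hr hr2 n hn (Or.inl hne) Feas hsuff
  rw [hiff]
  have hadm : ∀ s, Adm n (ordq F r) s (Even n → IsPlus Q ⊤) ↔ Adm n (ordq F r) s εV := fun s => by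
    simp only [Adm, hne, forall_const, hεV]
  constructor
  · intro h
    rcases Nat.eq_zero_or_pos S with h0 | h0
    · rw [h0]; exact hzero
    · exact h S ((hadm S).2 ⟨h0, hSle, hspec⟩) (Or.inl hne)
  · intro h s hs _
    obtain ⟨d, hd⟩ := Nat.exists_eq_add_of_le (hmax s ((hadm s).1 hs))
    exact hmono s d (hd ▸ h)

/-- One type, even dimension. -/
theorem all_fix_type (hQ : (polarBilin Q).Nondegenerate) (hr : (r : F) ≠ 0) (hr2 : r ≠ 2) (hn : finrank F V = n)
    (hne : Even n) (hm : Even m) (hm0 : 0 < m) (hmn : m < n) (εV : Prop) (hεV : IsPlus Q ⊤ ↔ εV) (τ : Prop)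
    (hdvd : r ∣ Nat.card {W : Submodule F V // finrank F W = m ∧ Ndg (polarBilin Q) W ∧ (IsPlus Q W ↔ τ)}) :
    ((∀ g : oGroup Q, g ^ r = 1 → g ≠ 1 → ∃ W : Submodule F V,
        (finrank F W = m ∧ Ndg (polarBilin Q) W ∧ (IsPlus Q W ↔ τ)) ∧ Inv g.1.toLinearMap W) ↔
        EvenCrit n (ordq F r) m εV τ) ∧
      (EvenCrit n (ordq F r) m εV τ → blockDim (ordq F r) ≤ m) := by
  have hc := blockDim_pos (F := F) (r := r) hr
  have hεV' : (Even n → IsPlus Q ⊤) = εV := propext ⟨fun h => hεV.1 (h hne), fun h _ => hεV.2 h⟩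
  have h := all_fix_top hQ hr hr2 hn hne (by omega) hmn εV hεV (isClass_type (Q := Q) hm τ) hdvd
    (FeasEven n (ordq F r) m εV τ) (fun f s hP hs => hεV' ▸ fix_even_iff hP hr hr2 hn hs hm τ)
    (fun s d => feasEven_mono hmn hm0 d)
    ⟨0, m, le_rfl, by omega, by omega, fun h => by omega, fun h => by omega⟩
  rwa [feasEven_top hc hm0 hmn] at h

/-- One isometry class, odd dimension. -/
theorem all_fix_class (hQ : (polarBilin Q).Nondegenerate) (hr : (r : F) ≠ 0) (hr2 : r ≠ 2) (hn : finrank F V = n)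
    (hne : Even n) (hm : Odd m) (hmn : m < n) (εV : Prop) (hεV : IsPlus Q ⊤ ↔ εV)
    {W₀ : Submodule F V} (hd₀ : finrank F W₀ = m) (hn₀ : Ndg (polarBilin Q) W₀)
    (hdvd : r ∣ Nat.card {W : Submodule F V // finrank F W = m ∧ Ndg (polarBilin Q) W ∧
      ∃ e : W ≃ₗ[F] W₀, ∀ w : W, Q (e w) = Q w}) :
    ((∀ g : oGroup Q, g ^ r = 1 → g ≠ 1 → ∃ W : Submodule F V,
        (finrank F W = m ∧ Ndg (polarBilin Q) W ∧ ∃ e : W ≃ₗ[F] W₀, ∀ w : W, Q (e w) = Q w) ∧
          Inv g.1.toLinearMap W) ↔ OddCrit n (ordq F r) m εV) ∧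
      (OddCrit n (ordq F r) m εV → blockDim (ordq F r) ≤ m) := by
  have hc := blockDim_pos (F := F) (r := r) hr
  have h := all_fix_top hQ hr hr2 hn hne (by omega) hmn εV hεV (isClass_iso hd₀ hn₀) hdvd
    (FeasOdd n (ordq F r) m) (fun f s hP hs => fix_odd_iff hP hr hr2 hn hne hs hm hd₀ hn₀)
    (fun s d => feasOdd_mono d) ⟨0, m, le_rfl, by omega, by omega⟩
  rwa [feasOdd_top hc (blockDim_even _) hne hm hmn] at h

end CfsgLib.Elusive2
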