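import Cfsg.Agent.Elusive2.OrthPack
import Cfsg.Agent.Quad.OmegaMem

/-!
Orthogonal transformations of odd prime order with a prescribed moved space, and their counting consequences.
-/

set_option autoImplicit false
set_option linter.unusedSectionVars false

namespace CfsgLib.Elusive2

open Module QuadraticMap CfsgLib.Elusive CfsgLib.Quad

variable {F V : Type*} [Field F] [Fintype F] [AddCommGroup V] [Module F V] [FiniteDimensional F V]
  {Q : QuadraticForm F V} {r : ℕ} [hr' : Fact r.Prime]

theorem finite_oGroup : Finite (oGroup Q) :=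
  have := Module.finite_of_finite (R := F) (M := V)
  Finite.of_injective (fun g : oGroup Q => ⇑g.1) fun g g' e => Subtype.ext (LinearEquiv.ext (congrFun e))

theorem toLin_pow (g : oGroup Q) : ∀ m : ℕ, (g.1.toLinearMap) ^ m = (g ^ m).1.toLinearMap := fun m => by
  induction m with
  | zero => rfl
  | succ m ih => rw [pow_succ, pow_succ, ih]; rfl

theorem orthPack_of_elt (hQ : Ndg (polarBilin Q) ⊤) {g : oGroup Q} (hg : g ^ r = 1) :
    IsOrthPack Q g.1.toLinearMap r :=
  ⟨hQ, fun v => g.2 v, by rw [toLin_pow, hg]; rfl, hr'.out.pos⟩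

theorem movS_eq_bot {g : oGroup Q} (h : movS g.1.toLinearMap = ⊥) : g = 1 := by
  refine Subtype.ext (LinearEquiv.ext fun v => ?_)
  have := LinearMap.congr_fun (LinearMap.range_eq_bot.1 h) v
  rw [LinearMap.sub_apply, Module.End.one_apply, LinearMap.zero_apply, sub_eq_zero] at this
  exact this

/-- An element of order `r` forces room for a block of the right type. -/
theorem room_of_dvd (hQ : Ndg (polarBilin Q) ⊤) (hr : (r : F) ≠ 0) (hr2 : r ≠ 2)
    (h : r ∣ Nat.card (oGroup Q)) :
    ∃ s, 0 < s ∧ s * blockDim (ordq F r) ≤ finrank F V ∧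
      (s * blockDim (ordq F r) = finrank F V → (IsPlus Q ⊤ ↔ blkType (ordq F r) s)) := by
  have := finite_oGroup (Q := Q)
  obtain ⟨g, hg⟩ := exists_prime_orderOf_dvd_card' r h
  have hP := orthPack_of_elt hQ (hg ▸ pow_orderOf_eq_one g : g ^ r = 1)
  obtain ⟨s, hs, hsp, hd, -, -, -, hfp⟩ := hP.fix_mov hr hr2
  refine ⟨s, Nat.pos_of_ne_zero fun h0 => ?_, by omega, fun he => ?_⟩
  · rw [h0, zero_mul, Submodule.finrank_eq_zero] at hs
    rw [movS_eq_bot hs, orderOf_one] at hg
    exact hr'.out.one_lt.ne hg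
  · have hF : fixS (g.1.toLinearMap) = ⊥ := Submodule.finrank_eq_zero.1 (by omega)
    have h1 := hfp (he ▸ (blockDim_even _).mul_left s)
    rw [hF] at h1
    exact (h1.1 IsPlus.bot)

/-- An element of order `r` on a block. -/
theorem exists_block_elt (hr : (r : F) ≠ 0) (hr2 : r ≠ 2) {W : Submodule F V} (hW : Ndg (polarBilin Q) W)
    (hd : finrank F W = blockDim (ordq F r)) (ht : IsPlus Q W ↔ Odd (ordq F r)) :
    ∃ g : oGroup (Q.comp W.subtype), g ^ r = 1 ∧ fixS g.1.toLinearMap = ⊥ := by
  classical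
  have hi0 := ordq_pos (F := F) (r := r) hr
  obtain ⟨a, b, hab⟩ := exists_zeta F
  set q : ℕ := Fintype.card F with hq
  set x : ZMod r := ((q : ℕ) : ZMod r) with hx
  have hord : orderOf x = ordq F r := rfl
  have hWn : Ndg (polarBilin (Q.comp W.subtype)) ⊤ := ndg_top_iff.2 (ndg_comp hW)
  have hdvd : r ∣ Nat.card (oGroup (Q.comp W.subtype)) := by
    rw [← Int.natCast_dvd_natCast]
    rcases Nat.even_or_odd (ordq F r) with hi | hi
    · obtain ⟨j, hj⟩ := hi
      obtain ⟨k, rfl⟩ : ∃ k, j = k + 1 := ⟨j - 1, by omega⟩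
      have hd' : finrank F W = 2 * (k + 1) := by rw [hd, blockDim, if_pos ⟨k + 1, hj⟩, hj]; ring
      obtain ⟨-, φ, hφ⟩ := (exists_model hW hd' hab).resolve_left fun h =>
        Nat.not_odd_iff_even.2 ⟨k + 1, hj⟩ (ht.1 h.1)
      rw [Nat.card_congr (oGroupCongr (Q := Q.comp W.subtype) (Q' := minusQ (k + 1 - 1) a b) φ hφ).toEquiv]
      rw [card_oGroup_minus (q := q) Nat.card_eq_fintype_card hab]
      refine Dvd.dvd.mul_right (Dvd.dvd.mul_left ?_ _) _
      rw [← ZMod.intCast_zmod_eq_zero_iff_dvd]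
      push_cast
      rw [← hx]
      have h1 : x ^ (k + 1) * x ^ (k + 1) = 1 := by rw [← pow_add, ← hj, ← hord]; exact pow_orderOf_eq_one x
      rcases mul_self_eq_one_iff.1 h1 with e | e
      · exact absurd (Nat.le_of_dvd (by omega) (orderOf_dvd_of_pow_eq_one e)) (by omega)
      · rw [e, neg_add_cancel]
    · obtain ⟨k, hk⟩ : ∃ k, ordq F r = k + 1 := ⟨ordq F r - 1, by omega⟩
      have hd' : finrank F W = 2 * (k + 1) := by
        rw [hd, blockDim, if_neg (Nat.not_even_iff_odd.2 hi), hk]
      obtain ⟨-, φ, hφ⟩ := (exists_model hW hd' hab).resolve_right fun h => h.1 (ht.2 hi)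
      rw [Nat.card_congr (oGroupCongr (Q := Q.comp W.subtype) (Q' := plusQ (k + 1)) φ hφ).toEquiv,
        card_oGroup_plus (q := q) Nat.card_eq_fintype_card]
      refine Dvd.dvd.mul_right (Dvd.dvd.mul_left ?_ _) _
      rw [← ZMod.intCast_zmod_eq_zero_iff_dvd]
      push_cast
      rw [← hx, ← hk, ← hord, pow_orderOf_eq_one, sub_self]
  have := finite_oGroup (Q := Q.comp W.subtype)
  obtain ⟨g, hg⟩ := exists_prime_orderOf_dvd_card' r hdvd
  have hP := orthPack_of_elt hWn (hg ▸ pow_orderOf_eq_one g : g ^ r = 1)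
  obtain ⟨s, hs, -, hsd, -⟩ := hP.fix_mov hr hr2
  have hs0 : 0 < s := Nat.pos_of_ne_zero fun h0 => by
    rw [h0, zero_mul, Submodule.finrank_eq_zero] at hs
    rw [movS_eq_bot hs, orderOf_one] at hg
    exact hr'.out.one_lt.ne hg
  refine ⟨g, hg ▸ pow_orderOf_eq_one g, Submodule.finrank_eq_zero.1 ?_⟩
  have := Nat.le_mul_of_pos_left (blockDim (ordq F r)) hs0
  rw [hd] at hsd
  omega

/-- An isometry with prescribed moved space. -/
theorem exists_fpf_on (hQ : Ndg (polarBilin Q) ⊤) (hr : (r : F) ≠ 0) (hr2 : r ≠ 2) :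
    ∀ (s : ℕ) (W : Submodule F V), Ndg (polarBilin Q) W → finrank F W = s * blockDim (ordq F r) →
      (IsPlus Q W ↔ blkType (ordq F r) s) →
      ∃ g : oGroup Q, g ^ r = 1 ∧ fixS g.1.toLinearMap = perp (polarBilin Q) W := by
  intro s
  induction s with
  | zero =>
    intro W _ hd _
    rw [zero_mul, Submodule.finrank_eq_zero] at hd
    refine ⟨1, one_pow r, ?_⟩
    rw [hd]
    ext v
    rw [mem_fixS, mem_perp]
    exact iff_of_true rfl fun w hw => by rw [(Submodule.mem_bot F).1 hw, map_zero, LinearMap.zero_apply]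
  | succ s ih =>
    intro W hW hd hp
    have hc := blockDim_pos (F := F) (r := r) hr
    rw [Nat.add_mul, Nat.one_mul] at hd
    obtain ⟨X, hXn, hXW, hXd, hXp⟩ := exists_sub_type' hW (blockDim_even (ordq F r)) (Odd (ordq F r)) (by omega)
      (fun h => by omega) fun h => by
        obtain rfl : s = 0 := by
          by_contra hs
          have := Nat.mul_pos (Nat.pos_of_ne_zero hs) hc
          omega
        rwa [blkType_one] at hp
    obtain ⟨hsup, hinf, hdim, hnd⟩ := exists_split polar_refl hXn hXW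
    obtain ⟨g, hgr, hgf⟩ := ih (W ⊓ perp (polarBilin Q) X) (hnd hW) (by omega) (by
      have h := isPlus_sup (Q := Q) hXn (hnd hW) (hXd ▸ blockDim_even _) (by
        rw [show finrank F ↥(W ⊓ perp (polarBilin Q) X) = s * blockDim (ordq F r) by omega]
        exact (blockDim_even _).mul_left s) hinf fun x hx y hy => mem_perp.1 hy.2 x hx
      rw [hsup, hp, blkType_add, blkType_one, hXp] at h
      by_cases h1 : blkType (ordq F r) s <;> by_cases h2 : Odd (ordq F r) <;> simp_all)
    obtain ⟨y, hyr, hyf⟩ := exists_block_elt hr hr2 hXn hXd hXp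
    -- extend `y` by the identity on the orthogonal complement
    have hc' : IsCompl X (perp (polarBilin Q) X) :=
      IsCompl.of_eq (inf_perp polar_refl hXn) (sup_perp polar_refl hXn)
    let E := Submodule.prodEquivOfIsCompl X _ hc'
    let h' : V ≃ₗ[F] V := E.symm.trans ((y.1.prodCongr (LinearEquiv.refl F _)).trans E)
    have hh : ∀ v, h' v = (y.1 (E.symm v).1 : V) + ((E.symm v).2 : V) := fun v => rfl
    have hv : ∀ v, v = ((E.symm v).1 : V) + ((E.symm v).2 : V) := fun v => (E.apply_symm_apply v).symm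
    have hmem : h' ∈ oGroup Q := fun v => by
      rw [hh]
      conv_rhs => rw [hv v]
      rw [quad_add', quad_add', show Q (y.1 (E.symm v).1 : V) = Q ((E.symm v).1 : V) from y.2 _,
        mem_perp.1 (E.symm v).2.2 _ (y.1 (E.symm v).1).2, mem_perp.1 (E.symm v).2.2 _ (E.symm v).1.2]
    let h : oGroup Q := ⟨h', hmem⟩
    have hpart1 : ∀ (v : V) (hv' : v ∈ X), h.1 v = (y.1 ⟨v, hv'⟩ : V) := fun v hv' => by
      show h' v = _
      rw [hh, show E.symm v = (⟨v, hv'⟩, 0) from (LinearEquiv.symm_apply_eq _).2 (by simp [E])]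
      simp
    have hpart2 : ∀ v ∈ perp (polarBilin Q) X, h.1 v = v := fun v hv' => by
      show h' v = _
      rw [hh, show E.symm v = (0, ⟨v, hv'⟩) from (LinearEquiv.symm_apply_eq _).2 (by simp [E])]
      simp
    have hXfix : ∀ v ∈ X, g.1 v = v := fun v hv' => by
      have : v ∈ fixS g.1.toLinearMap := by
        rw [hgf]
        exact mem_perp.2 fun w hw => (polar_swap w v).trans (mem_perp.1 hw.2 v hv')
      exact mem_fixS.1 this
    have hgperp : ∀ v ∈ perp (polarBilin Q) X, g.1 v ∈ perp (polarBilin Q) X := fun v hv' => mem_perp.2 fun x hx => by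
      rw [← hXfix x hx, polarBilin_apply_apply, polar_oGroup]
      exact mem_perp.1 hv' x hx
    have hcomm : Commute g h := Subtype.ext (LinearEquiv.ext fun v => by
      show g.1 (h.1 v) = h.1 (g.1 v)
      rw [hv v, map_add, map_add, map_add, map_add, hXfix _ (E.symm v).1.2, hpart2 _ (E.symm v).2.2,
        hpart1 _ (E.symm v).1.2, hXfix _ (y.1 _).2, hpart2 _ (hgperp _ (E.symm v).2.2)])
    have hhpow : ∀ (m : ℕ) (u : X) (w : V), w ∈ perp (polarBilin Q) X →
        (h ^ m).1 ((u : V) + w) = ((y ^ m).1 u : V) + w := by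
      intro m
      induction m with
      | zero => intro u w _; rfl
      | succ m ih =>
        intro u w hw
        rw [pow_succ', pow_succ']
        show h.1 ((h ^ m).1 _) = (y.1 ((y ^ m).1 u) : V) + w
        rw [ih u w hw, map_add, hpart1 _ ((y ^ m).1 u).2, hpart2 w hw]
    have hhr : h ^ r = 1 := Subtype.ext (LinearEquiv.ext fun v => by
      rw [hv v, hhpow r _ _ (E.symm v).2.2, hyr]
      rfl)
    refine ⟨g * h, by rw [hcomm.mul_pow, hgr, hhr, one_mul], ?_⟩
    ext v
    rw [mem_fixS, show (g * h).1.toLinearMap v = g.1 (h.1 v) from rfl]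
    set u := (E.symm v).1
    set w := (E.symm v).2
    rw [show v = (u : V) + (w : V) from hv v, map_add, map_add, hpart1 _ u.2, hpart2 _ w.2,
      hXfix _ (y.1 _).2]
    constructor
    · intro e
      have hsub : ((y.1 u : X) : V) - u = w - g.1 w := sub_eq_sub_iff_add_eq_add.2 (by rw [e]; abel)
      have hboth : ((y.1 u : X) : V) - u ∈ X ⊓ perp (polarBilin Q) X :=
        ⟨X.sub_mem (y.1 u).2 u.2, hsub ▸ Submodule.sub_mem _ w.2 (hgperp _ w.2)⟩
      rw [inf_perp polar_refl hXn, Submodule.mem_bot, sub_eq_zero] at hboth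
      have hu : u ∈ fixS y.1.toLinearMap := mem_fixS.2 (Subtype.ext hboth)
      rw [hyf, Submodule.mem_bot] at hu
      have hw : (w : V) ∈ fixS g.1.toLinearMap := mem_fixS.2 (by
        have := hsub
        rw [hboth, sub_self] at this
        exact (sub_eq_zero.1 this.symm).symm)
      rw [hgf] at hw
      rw [hu, ZeroMemClass.coe_zero, zero_add]
      refine mem_perp.2 fun x hx => ?_
      rw [← hsup] at hx
      obtain ⟨x₁, hx₁, x₂, hx₂, rfl⟩ := Submodule.mem_sup.1 hx
      rw [map_add, LinearMap.add_apply, mem_perp.1 w.2 x₁ hx₁, mem_perp.1 hw x₂ hx₂, add_zero]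
    · intro hm
      have hu0 : u = 0 := by
        by_contra h0
        obtain ⟨z, hz, hne⟩ := hXn u u.2 fun e => h0 (Subtype.ext e)
        refine hne ((polar_swap (u : V) z).trans ?_)
        have := mem_perp.1 hm z (hXW hz)
        rwa [map_add, mem_perp.1 w.2 z hz, add_zero] at this
      have hw : (w : V) ∈ fixS g.1.toLinearMap := by
        rw [hgf]
        refine mem_perp.2 fun z hz => ?_
        have := mem_perp.1 hm z hz.1
        rwa [hu0, ZeroMemClass.coe_zero, zero_add] at this
      rw [hu0, map_zero, ZeroMemClass.coe_zero, zero_add, zero_add]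
      exact mem_fixS.1 hw

/-- An isometry of odd prime order lies in the commutator subgroup. -/
theorem mem_commutator_of_odd (hQ : (polarBilin Q).Nondegenerate)
    (hgen : (∃ t : F, t ≠ 0 ∧ t ≠ 1) ∨ finrank F V ≠ 4) {g : oGroup Q} (hg : g ^ r = 1) (hr2 : r ≠ 2) :
    g ∈ commutator (oGroup Q) := by
  have hsq : ∀ k : oGroup Q, k * k ∈ commutator (oGroup Q) := by
    intro k
    rw [← QuotientGroup.eq_one_iff, QuotientGroup.mk_mul]
    let π : oGroup Q →* Abelianization (oGroup Q) := Abelianization.of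
    show π k * π k = 1
    have hk : k ∈ reflGroup Q := by rw [reflGroup_eq_top hQ hgen]; trivial
    unfold reflGroup at hk
    induction hk using Subgroup.closure_induction with
    | mem x hx =>
      obtain ⟨d, -, rfl⟩ := hx
      rw [← map_mul, refl_mul_self, map_one]
    | one => rw [map_one, one_mul]
    | mul x y _ _ hx hy => rw [map_mul, mul_mul_mul_comm, hx, hy, one_mul]
    | inv x _ hx => rw [map_inv, ← mul_inv, hx, inv_one]
  obtain ⟨j, hj⟩ := hr'.out.odd_of_ne_two hr2
  have : g = g ^ (j + 1) * g ^ (j + 1) := by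
    rw [← pow_add, show j + 1 + (j + 1) = r + 1 by omega, pow_succ, hg, one_mul]
  rw [this]
  exact hsq _

/-- The orbit of a group of isometries on subspaces of one class. -/
theorem exists_map_subspace (hQ : (polarBilin Q).Nondegenerate) {X Y : Submodule F V} (e : X ≃ₗ[F] Y)
    (he : ∀ x : X, Q (e x) = Q x) : ∃ g : oGroup Q, X.map g.1.toLinearMap = Y := by
  let bX := Module.finBasis F X
  obtain ⟨g, hg, hgv⟩ := CfsgLib.Forms.quad_exists_map_family hQ (fun j => ((bX j : X) : V))
    (fun j => ((e (bX j) : Y) : V))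
    (bX.linearIndependent.map' X.subtype (Submodule.ker_subtype X))
    ((bX.map e).linearIndependent.map' Y.subtype (Submodule.ker_subtype Y))
    (fun j => (he _).symm) fun i j => by
      simp only [polar, ← Submodule.coe_add, ← map_add, he]
  refine ⟨⟨g, hg⟩, ?_⟩
  have h1 : ∀ x : X, g (x : V) = (e x : V) := fun x => by
    have hmap : g.toLinearMap.comp X.subtype = Y.subtype.comp e.toLinearMap :=
      bX.ext fun j => hgv j
    exact LinearMap.congr_fun hmap x
  ext v
  rw [Submodule.mem_map]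
  constructor
  · rintro ⟨x, hx, rfl⟩
    show g x ∈ Y
    rw [h1 ⟨x, hx⟩]
    exact Submodule.coe_mem _
  · intro hv
    exact ⟨e.symm ⟨v, hv⟩, Submodule.coe_mem _, (h1 _).trans (by rw [e.apply_symm_apply])⟩

/-- Counting: when every invariant member lies among the fixed vectors, the members fixed by `g` count. -/
theorem card_modEq_fix {g : oGroup Q} (hg : g ^ r = 1) (P : Submodule F V → Prop)
    (hinv : ∀ (h : oGroup Q) W, P W → P (W.map h.1.toLinearMap))
    (hfix : ∀ W, P W → W.map g.1.toLinearMap = W → W ≤ fixS g.1.toLinearMap)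
    (hdvd : r ∣ Nat.card {W // P W}) : r ∣ Nat.card {W // P W ∧ W ≤ fixS g.1.toLinearMap} := by
  classical
  have := Module.finite_of_finite (R := F) (M := V)
  have hfinS : Finite (Submodule F V) :=
    Finite.of_injective (fun W => (W : Set V)) SetLike.coe_injective
  have hG : IsPGroup r (Subgroup.zpowers g) := by
    rintro ⟨x, k, rfl⟩
    exact ⟨1, Subtype.ext (by
      show (g ^ k) ^ r ^ 1 = 1
      rw [pow_one, ← zpow_natCast, ← zpow_mul, mul_comm, zpow_mul, zpow_natCast, hg, one_zpow])⟩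
  letI : MulAction (Subgroup.zpowers g) {W // P W} :=
    { smul := fun h W => ⟨W.1.map h.1.1.toLinearMap, hinv _ _ W.2⟩
      one_smul := fun W => Subtype.ext (Submodule.map_id _)
      mul_smul := fun a b W => Subtype.ext (Submodule.map_comp _ _ _) }
  have h := hG.card_modEq_card_fixedPoints {W // P W}
  have e : Nat.card (MulAction.fixedPoints (Subgroup.zpowers g) {W // P W}) =
      Nat.card {W // P W ∧ W ≤ fixS g.1.toLinearMap} := by
    refine Nat.card_congr
      { toFun := fun W => ⟨W.1.1, W.1.2, hfix _ W.1.2 (congrArg Subtype.val (W.2 ⟨g, Subgroup.mem_zpowers g⟩))⟩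
        invFun := fun W => ⟨⟨W.1, W.2.1⟩, fun ⟨h, k, hk⟩ => Subtype.ext ?_⟩
        left_inv := fun _ => rfl
        right_inv := fun _ => rfl }
    show W.1.map h.1.toLinearMap = W.1
    subst hk
    have hfk : ∀ v ∈ W.1, (g ^ k).1 v = v := fun v hv => by
      have h0 : g.1 v = v := mem_fixS.1 (W.2.2 hv)
      have : g ∈ MulAction.stabilizer (oGroup Q) v := h0
      exact (Subgroup.zpow_mem _ this k : g ^ k ∈ MulAction.stabilizer (oGroup Q) v)
    ext v
    rw [Submodule.mem_map]
    constructor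
    · rintro ⟨x, hx, rfl⟩
      show (g ^ k).1 x ∈ W.1
      rw [hfk x hx]; exact hx
    · exact fun hv => ⟨v, hv, hfk v hv⟩
  rw [← e]
  exact ((Nat.modEq_zero_iff_dvd).1 (h.symm.trans ((Nat.modEq_zero_iff_dvd).2 hdvd)))

end CfsgLib.Elusive2
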