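import Cfsg.Agent.Elusive2.OrthExtJ
import Cfsg.Agent.Elusive2.OrthExist
import Cfsg.Agent.Elusive.ExtField

/-!
Conjugacy of the quadratic structures, and structures compatible with an element squaring to a scalar.
-/

set_option autoImplicit false
set_option linter.unusedSectionVars false
set_option linter.unusedSimpArgs false

namespace CfsgLib.Elusive2

open Module QuadraticMap CfsgLib.Elusive CfsgLib.Quad

variable {F V : Type*} [Field F] [AddCommGroup V] [Module F V] {Q : QuadraticForm F V}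

theorem polar_self' (v : V) : polarBilin Q v v = 2 * Q v := by
  rw [polarBilin_apply_apply, polar_self, two_nsmul, two_mul]

theorem eq_zero_of_two {a : F} (h2 : (2 : F) ≠ 0) (h : a = -a) : a = 0 :=
  (mul_eq_zero.1 (by linear_combination h : (2 : F) * a = 0)).resolve_left h2

section Finite

variable [Fintype F] [FiniteDimensional F V] {δ : F} {J J' : V →ₗ[F] V}

theorem piJ_apply_J (hJ : IsJ Q δ J) (v u : V) :
    (piJ Q δ J v).1 (J u) = δ * (piJ Q δ J v).2 u ∧ (piJ Q δ J v).2 (J u) = (piJ Q δ J v).1 u := by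
  constructor <;>
  · simp only [piJ, LinearMap.smul_apply, LinearMap.sub_apply, smul_eq_mul,
      (hJ.sa v u).symm, (hJ.sa (J v) u).symm, hJ.sq, map_smul, LinearMap.smul_apply]
    ring

/-- Transfer of one structure to another between subspaces of the same type. -/
theorem exists_transfer (hδ : ¬ IsSquare δ) (hJ : IsJ Q δ J) (hJ' : IsJ Q δ J') :
    ∀ (n : ℕ) (W W' : Submodule F V), Ndg (polarBilin Q) W → Ndg (polarBilin Q) W' →
      finrank F W = 2 * n → finrank F W' = 2 * n → Inv J W → Inv J' W' →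
      (IsPlus Q W ↔ IsPlus Q W') →
      ∃ h : V →ₗ[F] V, (∀ u ∈ W, h u ∈ W') ∧ (∀ u ∈ W, Q (h u) = Q u) ∧
        ∀ u ∈ W, h (J u) = J' (h u) := by
  intro n
  induction n with
  | zero =>
    intro W W' _ _ hd _ _ _ _
    rw [Nat.mul_zero, Submodule.finrank_eq_zero] at hd
    subst hd
    refine ⟨0, fun u _ => W'.zero_mem, fun u hu => ?_, fun u _ => by simp⟩
    rw [(Submodule.mem_bot F).1 hu, map_zero, QuadraticMap.map_zero]
  | succ n ih =>
    intro W W' hW hW' hd hd' hWJ hWJ' hty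
    have h2 := two_ne_zero_of_nsq hδ
    have := fact_nsq hδ
    have hplus : ∀ {J₀ : V →ₗ[F] V} (_ : IsJ Q δ J₀) (W₀ : Submodule F V), Ndg (polarBilin Q) W₀ →
        finrank F W₀ = 2 * (n + 1) → Inv J₀ W₀ → ∀ v ∈ W₀, valP Q (δ := δ) J₀ v ≠ 0 →
        ∃ W₁ : Submodule F V, Ndg (polarBilin Q) W₁ ∧ finrank F W₁ = 2 * n ∧ Inv J₀ W₁ ∧ W₁ ≤ W₀ ∧
          (∀ u ∈ W₁, polarBilin Q v u = 0 ∧ polarBilin Q (J₀ v) u = 0) ∧
          (∀ u ∈ W₀, polarBilin Q v u = 0 → polarBilin Q (J₀ v) u = 0 → u ∈ W₁) ∧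
          (IsPlus Q W₀ ↔
            (IsSquare (QuadraticAlgebra.norm (valP Q (δ := δ) J₀ v)) ↔ IsPlus Q W₁)) := by
      intro J₀ hJ₀ W₀ hW₀ hd₀ hinv v hv hv0
      obtain ⟨hn, hd2⟩ := plane_ndg hδ hJ₀ hv0
      have hle : Submodule.span F (Set.range ![v, J₀ v]) ≤ W₀ := fun u hu => by
        obtain ⟨x, y, rfl⟩ := mem_plane.1 hu
        exact W₀.add_mem (W₀.smul_mem _ hv) (W₀.smul_mem _ (hinv v hv))
      obtain ⟨hsup, hinf, hsum, hn'⟩ := exists_split polar_refl hn hle
      refine ⟨_, hn' hW₀, by omega, hinv.inf (inv_perp hJ₀ (inv_plane hJ₀ v)), inf_le_left,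
        fun u hu => mem_perp_plane.1 hu.2, fun u hu h1 h2 => ⟨hu, mem_perp_plane.2 ⟨h1, h2⟩⟩, ?_⟩
      rw [← plane_plus_iff hδ hJ₀ hv0]
      conv_lhs => rw [← hsup]
      exact isPlus_sup hn (hn' hW₀) ⟨1, by omega⟩ ⟨n, by omega⟩ hinf
        fun x hx y hy => mem_perp.1 hy.2 x hx
    -- matching vectors
    obtain ⟨v, hv, hv0⟩ := exists_valP_ne_zero hδ (J := J) hW (by omega)
    obtain ⟨v', hv', hvv⟩ : ∃ v' ∈ W', valP Q (δ := δ) J' v' = valP Q J v := by
      rcases Nat.eq_zero_or_pos n with rfl | hn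
      · obtain ⟨w, hw, hw0⟩ := exists_valP_ne_zero hδ (J := J') hW' (by omega)
        obtain ⟨W₁, -, hW₁d, -, -, -, -, hp⟩ := hplus hJ W hW hd hWJ v hv hv0
        obtain ⟨W₁', -, hW₁d', -, -, -, -, hp'⟩ := hplus hJ' W' hW' hd' hWJ' w hw hw0
        rw [Nat.mul_zero, Submodule.finrank_eq_zero] at hW₁d hW₁d'
        rw [hW₁d, iff_true_intro IsPlus.bot, iff_true] at hp
        rw [hW₁d', iff_true_intro IsPlus.bot, iff_true] at hp'
        rw [hp, hp', ← isSquare_iff_norm hδ _ hv0, ← isSquare_iff_norm hδ _ hw0] at hty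
        obtain ⟨s, hs⟩ : IsSquare (valP Q (δ := δ) J v / valP Q (δ := δ) J' w) := by
          by_cases h : IsSquare (valP Q (δ := δ) J v)
          · exact h.div (hty.1 h)
          · rw [isSquare_iff_norm hδ _ (div_ne_zero hv0 hw0), div_eq_mul_inv, map_mul]
            have h1 : ¬ IsSquare (QuadraticAlgebra.norm (valP Q (δ := δ) J v)) := fun e =>
              h ((isSquare_iff_norm hδ _ hv0).2 e)
            have h3 : ¬ IsSquare (QuadraticAlgebra.norm (valP Q (δ := δ) J' w)⁻¹) := fun e =>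
              h (hty.2 (by
                rw [← isSquare_iff_norm hδ _ (inv_ne_zero hw0), isSquare_inv] at e
                exact e))
            rw [isSquare_mul_iff h2 (fun e => hv0 (QuadraticAlgebra.norm_eq_zero_iff_eq_zero.1 e))
              (fun e => inv_ne_zero hw0 (QuadraticAlgebra.norm_eq_zero_iff_eq_zero.1 e))]
            exact iff_of_false h1 h3
        refine ⟨s.re • w + s.im • J' w, W'.add_mem (W'.smul_mem _ hw) (W'.smul_mem _ (hWJ' w hw)), ?_⟩
        rw [hJ'.valP_smul_add]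
        exact (congrArg (· * _) hs.symm).trans (div_mul_cancel₀ _ hw0)
      · exact exists_valP_eq hδ hJ' hW' hWJ' (by omega) _
    have hv0' : valP Q (δ := δ) J' v' ≠ 0 := hvv ▸ hv0
    obtain ⟨W₁, hW₁, hW₁d, hW₁J, hle₁, hperp₁, hmk₁, hp⟩ := hplus hJ W hW hd hWJ v hv hv0
    obtain ⟨W₁', hW₁', hW₁d', hW₁J', hle₁', hperp₁', -, hp'⟩ := hplus hJ' W' hW' hd' hWJ' v' hv' hv0'
    rw [hvv] at hp'
    obtain ⟨h₁, hmem₁, hQ₁, hcomm₁⟩ := ih W₁ W₁' hW₁ hW₁' hW₁d hW₁d' hW₁J hW₁J'
      (by revert hty hp hp'; tauto)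
    set α := (piJ Q δ J v).1 with hα
    set β := (piJ Q δ J v).2 with hβ
    set rest : V →ₗ[F] V := LinearMap.id - (α.smulRight v + β.smulRight (J v)) with hrest
    have hrest_apply : ∀ u, rest u = u - (α u • v + β u • J v) := fun u => by simp [hrest]
    have hrmem : ∀ u ∈ W, rest u ∈ W₁ := fun u hu => by
      obtain ⟨e1, e2⟩ := piJ_spec hδ hJ hv0 u
      rw [hrest_apply]
      refine hmk₁ _ (W.sub_mem hu (W.add_mem (W.smul_mem _ hv) (W.smul_mem _ (hWJ v hv)))) ?_ ?_
      · rw [map_sub, e1, sub_self]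
      · rw [map_sub, e2, sub_self]
    refine ⟨α.smulRight v' + β.smulRight (J' v') + h₁.comp rest, fun u hu => ?_, fun u hu => ?_,
      fun u hu => ?_⟩
    · simp only [LinearMap.add_apply, LinearMap.smulRight_apply, LinearMap.comp_apply]
      exact W'.add_mem (W'.add_mem (W'.smul_mem _ hv') (W'.smul_mem _ (hWJ' v' hv')))
        (hle₁' (hmem₁ _ (hrmem u hu)))
    · simp only [LinearMap.add_apply, LinearMap.smulRight_apply, LinearMap.comp_apply]
      obtain ⟨o1, o2⟩ := hperp₁ _ (hrmem u hu)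
      obtain ⟨o1', o2'⟩ := hperp₁' _ (hmem₁ _ (hrmem u hu))
      have hu' : u = α u • v + β u • J v + rest u := by rw [hrest_apply]; abel
      have hQe : ∀ x y : F, Q (x • v' + y • J' v') = Q (x • v + y • J v) := fun x y => by
        refine mul_left_cancel₀ h2 ?_
        rw [← polar_self', ← polar_self']
        have e1 : polarBilin Q v' (J' v') = polarBilin Q v (J v) := congrArg QuadraticAlgebra.re hvv
        have e2 : polarBilin Q v' v' = polarBilin Q v v := congrArg QuadraticAlgebra.im hvv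
        simp only [map_add, map_smul, LinearMap.add_apply, LinearMap.smul_apply, hJ.polar_JJ,
          hJ'.polar_JJ, hJ.sa v v, hJ'.sa v' v', e1, e2]
      conv_rhs => rw [hu']
      rw [quad_add', quad_add' (α u • v + β u • J v), hQe, hQ₁ _ (hrmem u hu)]
      simp [o1, o2, o1', o2']
    · simp only [LinearMap.add_apply, LinearMap.smulRight_apply, LinearMap.comp_apply, map_add,
        map_smul, hJ'.sq]
      obtain ⟨e1, e2⟩ := piJ_apply_J hJ v u
      have e3 : rest (J u) = J (rest u) := by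
        rw [hrest_apply, hrest_apply, map_sub, map_add, map_smul, map_smul, hJ.sq, hα, hβ, e1, e2,
          smul_smul, mul_comm δ]
        abel
      rw [e3, hcomm₁ _ (hrmem u hu), hα, hβ, e1, e2, smul_smul, mul_comm δ]
      abel

/-- Two structures are conjugate under the orthogonal group. -/
theorem exists_conj_J (hQ : (polarBilin Q).Nondegenerate) (hδ : ¬ IsSquare δ) (hJ : IsJ Q δ J)
    (hJ' : IsJ Q δ J') {d : ℕ} (hd : finrank F V = 2 * d) :
    ∃ h : oGroup Q, ∀ u, h.1 (J u) = J' (h.1 u) := by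
  have hT : Ndg (polarBilin Q) (⊤ : Submodule F V) := ndg_top_iff.2 hQ
  obtain ⟨h, -, hh, hc⟩ := exists_transfer hδ hJ hJ' d ⊤ ⊤ hT hT (by rw [finrank_top]; exact hd)
    (by rw [finrank_top]; exact hd) (fun _ _ => Submodule.mem_top) (fun _ _ => Submodule.mem_top) Iff.rfl
  have hpol : ∀ u w, polarBilin Q (h u) (h w) = polarBilin Q u w := fun u w => by
    simp only [polarBilin_apply_apply, polar, ← map_add, hh _ Submodule.mem_top]
  have hinj : Function.Injective h := (injective_iff_map_eq_zero h).2 fun u hu => by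
    refine hQ.1 u fun w => ?_
    rw [← hpol, hu, map_zero, LinearMap.zero_apply]
  exact ⟨⟨LinearEquiv.ofBijective h ⟨hinj, LinearMap.injective_iff_surjective.1 hinj⟩,
    fun u => hh u Submodule.mem_top⟩, fun u => hc u Submodule.mem_top⟩

/-- A structure on a subspace compatible with `f`. -/
structure JOn (Q : QuadraticForm F V) (f : V →ₗ[F] V) (ε δ : F) (W : Submodule F V) (J : V →ₗ[F] V) : Prop where
  sa : ∀ u v, polarBilin Q (J u) v = polarBilin Q u (J v)
  mem : ∀ u, J u ∈ W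
  kill : ∀ u ∈ perp (polarBilin Q) W, J u = 0
  sq : ∀ u ∈ W, J (J u) = δ • u
  comm : ∀ u, f (J u) = ε • J (f u)

theorem JOn.sup {f : V →ₗ[F] V} {ε : F} {X Y : Submodule F V} {J₁ J₂ : V →ₗ[F] V}
    (h₁ : JOn Q f ε δ X J₁) (h₂ : JOn Q f ε δ Y J₂) (horth : ∀ x ∈ X, ∀ y ∈ Y, polarBilin Q x y = 0) :
    JOn Q f ε δ (X ⊔ Y) (J₁ + J₂) where
  sa u v := by simp [LinearMap.add_apply, h₁.sa, h₂.sa]
  mem u := Submodule.add_mem_sup (h₁.mem u) (h₂.mem u)
  kill u hu := by
    rw [LinearMap.add_apply, h₁.kill u (mem_perp.2 fun w hw => mem_perp.1 hu w (Submodule.mem_sup_left hw)),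
      h₂.kill u (mem_perp.2 fun w hw => mem_perp.1 hu w (Submodule.mem_sup_right hw)), add_zero]
  sq u hu := by
    obtain ⟨x, hx, y, hy, rfl⟩ := Submodule.mem_sup.1 hu
    have e1 : ∀ y ∈ Y, J₁ y = 0 := fun y hy => h₁.kill y (mem_perp.2 fun w hw => horth w hw y hy)
    have e2 : ∀ x ∈ X, J₂ x = 0 := fun x hx =>
      h₂.kill x (mem_perp.2 fun w hw => polar_refl _ _ (horth x hx w hw))
    simp [LinearMap.add_apply, e1 y hy, e2 x hx, e1 _ (h₂.mem y), e2 _ (h₁.mem x), h₁.sq x hx,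
      h₂.sq y hy]
  comm u := by simp [LinearMap.add_apply, h₁.comm, h₂.comm, smul_add]

theorem JOn.bot (f : V →ₗ[F] V) (ε : F) : JOn Q f ε δ (⊥ : Submodule F V) 0 where
  sa u v := by simp
  mem u := Submodule.zero_mem _
  kill u _ := rfl
  sq u hu := by simp [(Submodule.mem_bot F).1 hu]
  comm u := by simp

/-- The structure on the plane of two orthogonal vectors. -/
noncomputable def jPlane (Q : QuadraticForm F V) (v w : V) (p s : F) : V →ₗ[F] V :=
  ((p / (2 * Q v)) • polarBilin Q v + (s / 2) • polarBilin Q w).smulRight v +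
    ((s / 2) • polarBilin Q v - (p / (2 * Q w)) • polarBilin Q w).smulRight w

/-- A pair of orthogonal vectors on whose plane `f` is a scalar, or a quarter turn. -/
structure GoodPair (Q : QuadraticForm F V) (f : V →ₗ[F] V) (ε : F) (v w : V) : Prop where
  nv : Q v ≠ 0
  nw : Q w ≠ 0
  orth : polarBilin Q v w = 0
  act : (∃ t : F, t * t = 1 ∧ f v = t • v ∧ f w = t • w ∧ ε = 1) ∨
    (f v = w ∧ f w = -v ∧ Q v = Q w ∧ ε = -1)

theorem mem_pair {v w u : V} :
    u ∈ Submodule.span F (Set.range ![v, w]) ↔ ∃ x y : F, x • v + y • w = u := by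
  rw [Submodule.mem_span_range_iff_exists_fun]
  constructor
  · rintro ⟨c, hc⟩
    exact ⟨c 0, c 1, by rw [← hc, Fin.sum_univ_two]; rfl⟩
  · rintro ⟨x, y, h⟩
    exact ⟨![x, y], by rw [Fin.sum_univ_two, ← h]; rfl⟩

theorem GoodPair.ndg (h2 : (2 : F) ≠ 0) {f : V →ₗ[F] V} {ε : F} {v w : V} (h : GoodPair Q f ε v w) :
    Ndg (polarBilin Q) (Submodule.span F (Set.range ![v, w])) ∧
      finrank F (Submodule.span F (Set.range ![v, w])) = 2 :=
  span_pair_ndg (Q := Q) (by
    rw [h.orth, polar_self', polar_self', mul_zero, sub_zero]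
    exact mul_ne_zero (mul_ne_zero h2 h.nv) (mul_ne_zero h2 h.nw))

theorem jPlane_jOn (h2 : (2 : F) ≠ 0) {f : V →ₗ[F] V}
    (hf : ∀ u v, polarBilin Q (f u) (f v) = polarBilin Q u v) {ε : F} {v w : V}
    (h : GoodPair Q f ε v w) {p s : F} (hps : p * p + Q v * Q w * (s * s) = δ) :
    JOn Q f ε δ (Submodule.span F (Set.range ![v, w])) (jPlane Q v w p s) := by
  have hv := h.nv
  have hw := h.nw
  have hwv : polarBilin Q w v = 0 := polar_refl _ _ h.orth
  refine ⟨fun a b => ?_, fun u => ?_, fun u hu => ?_, fun u hu => ?_, fun u => ?_⟩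
  · simp only [jPlane, LinearMap.add_apply, LinearMap.smulRight_apply, LinearMap.sub_apply,
      LinearMap.smul_apply, map_add, map_sub, map_smul, smul_eq_mul, polar_swap a v, polar_swap a w]
    ring
  · exact mem_pair.2 ⟨_, _, rfl⟩
  · have e1 := mem_perp.1 hu v (mem_pair.2 ⟨1, 0, by simp⟩)
    have e2 := mem_perp.1 hu w (mem_pair.2 ⟨0, 1, by simp⟩)
    simp [jPlane, e1, e2]
  · obtain ⟨x, y, rfl⟩ := mem_pair.1 hu
    simp only [jPlane, LinearMap.add_apply, LinearMap.smulRight_apply, LinearMap.sub_apply,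
      LinearMap.smul_apply, map_add, map_sub, map_smul, smul_eq_mul, h.orth, hwv, polar_self']
    match_scalars <;> field_simp <;> rw [← hps] <;> ring
  · rcases h.act with ⟨t, ht, fv, fw, rfl⟩ | ⟨fv, fw, hQ, rfl⟩
    · have e : ∀ z, f z = t • z → polarBilin Q z (f u) = t * polarBilin Q z u := fun z hz => by
        have := hf z u
        rw [hz, map_smul, LinearMap.smul_apply, smul_eq_mul] at this
        rw [← this, ← mul_assoc, ht, one_mul]
      simp only [jPlane, LinearMap.add_apply, LinearMap.smulRight_apply, LinearMap.sub_apply,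
        LinearMap.smul_apply, map_add, map_sub, map_smul, smul_eq_mul, e v fv, e w fw, fv, fw, one_smul]
      module
    · have e1 : polarBilin Q v (f u) = -polarBilin Q w u := by
        have := hf w u
        rw [fw, map_neg, LinearMap.neg_apply] at this
        linear_combination -this
      have e2 : polarBilin Q w (f u) = polarBilin Q v u := by
        have := hf v u
        rwa [fv] at this
      simp only [jPlane, LinearMap.add_apply, LinearMap.smulRight_apply, LinearMap.sub_apply,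
        LinearMap.smul_apply, map_add, map_sub, map_smul, smul_eq_mul, e1, e2, fv, fw, hQ]
      module

theorem GoodPair.exists_coef {f : V →ₗ[F] V} {ε : F} (h2 : (2 : F) ≠ 0) {v w : V}
    (h : GoodPair Q f ε v w) (δ : F) : ∃ p s : F, p * p + Q v * Q w * (s * s) = δ := by
  obtain ⟨hn, hd⟩ := h.ndg h2
  obtain ⟨u, hu, hQu⟩ := represents hn (by omega) (Q v * δ)
  obtain ⟨x, y, rfl⟩ := mem_pair.1 hu
  rw [quad_add', QuadraticMap.map_smul, QuadraticMap.map_smul, map_smul, map_smul, LinearMap.smul_apply,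
    h.orth] at hQu
  simp only [smul_eq_mul, mul_zero, add_zero] at hQu
  refine ⟨x, y / Q v, ?_⟩
  have := h.nv
  field_simp
  linear_combination hQu

/-- Existence of a compatible structure, by planes. -/
theorem exists_jOn (h2 : (2 : F) ≠ 0) {f : V →ₗ[F] V}
    (hf : ∀ u v, polarBilin Q (f u) (f v) = polarBilin Q u v) {ε : F} (P : Submodule F V → Prop)
    (hP : ∀ W, P W → Ndg (polarBilin Q) W → 2 ≤ finrank F W → ∃ v w, v ∈ W ∧ w ∈ W ∧
      GoodPair Q f ε v w ∧ P (W ⊓ perp (polarBilin Q) (Submodule.span F (Set.range ![v, w])))) :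
    ∀ (n : ℕ) (W : Submodule F V), P W → Ndg (polarBilin Q) W → finrank F W = 2 * n →
      ∃ J, JOn Q f ε δ W J := by
  intro n
  induction n with
  | zero =>
    intro W _ _ hd
    rw [Nat.mul_zero, Submodule.finrank_eq_zero] at hd
    exact ⟨0, hd ▸ JOn.bot f ε⟩
  | succ n ih =>
    intro W hPW hW hd
    obtain ⟨v, w, hv, hw, hg, hP'⟩ := hP W hPW hW (by omega)
    obtain ⟨hn, hd2⟩ := hg.ndg h2
    have hle : Submodule.span F (Set.range ![v, w]) ≤ W := fun u hu => by
      obtain ⟨x, y, rfl⟩ := mem_pair.1 hu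
      exact W.add_mem (W.smul_mem _ hv) (W.smul_mem _ hw)
    obtain ⟨hsup, -, hsum, hn'⟩ := exists_split polar_refl hn hle
    obtain ⟨J₂, h₂⟩ := ih _ hP' (hn' hW) (by omega)
    obtain ⟨p, s, hps⟩ := hg.exists_coef h2 δ
    exact ⟨_, hsup ▸ (jPlane_jOn h2 hf hg hps).sup h₂ fun x hx y hy => mem_perp.1 hy.2 x hx⟩

/-- Two structures exchanged by a reflection, both compatible with `f`. -/
theorem exists_twin (h2 : (2 : F) ≠ 0) {f : V →ₗ[F] V}
    (hf : ∀ u v, polarBilin Q (f u) (f v) = polarBilin Q u v) {ε : F} {v w : V}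
    (hg : GoodPair Q f ε v w) {Y : Submodule F V}
    (hY : ∀ y ∈ Y, polarBilin Q v y = 0 ∧ polarBilin Q w y = 0)
    (htop : Submodule.span F (Set.range ![v, w]) ⊔ Y = ⊤) (hex : ∃ J, JOn Q f ε δ Y J) :
    ∃ (z : V) (J₁ J₂ : V →ₗ[F] V), Q z ≠ 0 ∧ IsJ Q δ J₁ ∧ IsJ Q δ J₂ ∧
      (∀ u, f (J₁ u) = ε • J₁ (f u)) ∧ (∀ u, f (J₂ u) = ε • J₂ (f u)) ∧
      ∀ u, (refl Q z).1 (J₁ u) = J₂ ((refl Q z).1 u) := by
  obtain ⟨Jr, hr⟩ := hex
  obtain ⟨p, s, hps⟩ := hg.exists_coef h2 δ
  have horth : ∀ x ∈ Submodule.span F (Set.range ![v, w]), ∀ y ∈ Y, polarBilin Q x y = 0 :=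
    fun x hx y hy => by
      obtain ⟨a, b, rfl⟩ := mem_pair.1 hx
      simp [(hY y hy).1, (hY y hy).2]
  have h₁ := (jPlane_jOn h2 hf hg hps).sup hr horth
  have h₂ := (jPlane_jOn (p := p) (s := -s) h2 hf hg (by rw [neg_mul_neg]; exact hps)).sup hr horth
  rw [htop] at h₁ h₂
  refine ⟨v, _, _, hg.nv, ⟨h₁.sa, fun u => h₁.sq u Submodule.mem_top⟩,
    ⟨h₂.sa, fun u => h₂.sq u Submodule.mem_top⟩, h₁.comm, h₂.comm, fun u => ?_⟩
  have hv := hg.nv
  have hvY : v ∈ perp (polarBilin Q) Y := mem_perp.2 fun y hy => polar_refl _ _ (hY y hy).1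
  have hrv : Jr v = 0 := hr.kill v hvY
  have e : polar Q (Jr u) v = 0 := by
    rw [← polarBilin_apply_apply, hr.sa, hrv, map_zero]
  simp only [LinearMap.add_apply, map_add, refl_fix e]
  rw [refl_apply, refl_apply]
  simp only [jPlane, LinearMap.add_apply, LinearMap.smulRight_apply, LinearMap.sub_apply,
    LinearMap.smul_apply, map_add, map_sub, map_smul, smul_eq_mul, hrv, smul_zero, add_zero,
    ← polarBilin_apply_apply, hg.orth, polar_swap w v, polar_self', polar_swap u v, polar_swap _ v]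
  match_scalars <;> field_simp <;> ring

end Finite

end CfsgLib.Elusive2
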