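import Cfsg.Agent.Elusive2.OrthExtConj
import Cfsg.Agent.Quad.Orders
import Mathlib.GroupTheory.Sylow

/-!
When the order of `q` modulo an odd prime `r` is a multiple of four, the centraliser of a quadratic
structure contains a Sylow `r`-subgroup.
-/

set_option autoImplicit false
set_option linter.unusedSectionVars false
set_option linter.unusedSimpArgs false
set_option linter.style.haveILetI false

namespace CfsgLib.Elusive2

open Module QuadraticMap CfsgLib.Elusive CfsgLib.Quad

variable {F V : Type*} [Field F] [AddCommGroup V] [Module F V] [Fintype F] [FiniteDimensional F V]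
  {Q : QuadraticForm F V} {δ : F} {J : V →ₗ[F] V}

/-- A plus type space of dimension `4k` has a singular subspace of half its dimension invariant under the
structure. -/
theorem exists_inv_sing (hδ : ¬ IsSquare δ) (hJ : IsJ Q δ J) : ∀ (k : ℕ) (W : Submodule F V),
    Ndg (polarBilin Q) W → Inv J W → finrank F W = 4 * k → IsPlus Q W →
    ∃ U : Submodule F V, U ≤ W ∧ Inv J U ∧ (∀ u ∈ U, valP Q (δ := δ) J u = 0) ∧ finrank F U = 2 * k := by
  intro k
  induction k with
  | zero =>
    intro W _ _ _ _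
    refine ⟨⊥, bot_le, fun u hu => ?_, fun u hu => ?_, by simp⟩
    · rw [(Submodule.mem_bot F).1 hu, map_zero]; exact Submodule.zero_mem _
    · rw [(Submodule.mem_bot F).1 hu]; exact QuadraticAlgebra.ext (by simp [valP]) (by simp [valP])
  | succ k ih =>
    intro W hW hWJ hd hp
    have := fact_nsq hδ
    have h2 := two_ne_zero_of_nsq hδ
    obtain ⟨v, hv, hv0⟩ := exists_valP_ne_zero hδ (J := J) hW (by omega)
    obtain ⟨hvn, hvd⟩ := plane_ndg hδ hJ hv0
    have hvle : Submodule.span F (Set.range ![v, J v]) ≤ W := fun u hu => by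
      obtain ⟨x, y, rfl⟩ := mem_plane.1 hu
      exact W.add_mem (W.smul_mem _ hv) (W.smul_mem _ (hWJ v hv))
    obtain ⟨hs1, hi1, hd1, hn1⟩ := exists_split polar_refl hvn hvle
    set W₁ := W ⊓ perp (polarBilin Q) (Submodule.span F (Set.range ![v, J v])) with hW₁
    have hW₁J : Inv J W₁ := hWJ.inf (inv_perp hJ (inv_plane hJ v))
    have hnorm1 : IsSquare (-1 : QuadraticAlgebra F δ 0) := by
      rw [isSquare_iff_norm hδ _ (neg_ne_zero.2 one_ne_zero), QuadraticAlgebra.norm_neg,
        QuadraticAlgebra.norm_one]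
      exact IsSquare.one
    obtain ⟨w, hw, hw0, hwv⟩ : ∃ w ∈ W₁, valP Q (δ := δ) J w ≠ 0 ∧ valP Q J w = -valP Q (δ := δ) J v := by
      obtain ⟨w, hw, hwv⟩ : ∃ w ∈ W₁, valP Q J w = -valP Q (δ := δ) J v := by
        rcases Nat.eq_zero_or_pos k with rfl | hk
        · obtain ⟨w, hw, hw0⟩ := exists_valP_ne_zero hδ (J := J) (hn1 hW) (by omega)
          obtain ⟨hwn, hwd⟩ := plane_ndg hδ hJ hw0
          have hwle : Submodule.span F (Set.range ![w, J w]) ≤ W₁ := fun u hu => by
            obtain ⟨x, y, rfl⟩ := mem_plane.1 hu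
            exact W₁.add_mem (W₁.smul_mem _ hw) (W₁.smul_mem _ (hW₁J w hw))
          have hWe : Submodule.span F (Set.range ![w, J w]) = W₁ :=
            Submodule.eq_of_le_of_finrank_le hwle (by omega)
          have hiff := isPlus_sup (Q := Q) hvn (hn1 hW) ⟨1, by omega⟩ ⟨1, by omega⟩ hi1
            (fun x hx y hy => mem_perp.1 hy.2 x hx)
          rw [hs1, iff_true_intro hp, true_iff, plane_plus_iff hδ hJ hv0, ← hWe,
            plane_plus_iff hδ hJ hw0, ← isSquare_iff_norm hδ _ hv0, ← isSquare_iff_norm hδ _ hw0] at hiff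
          have hq : IsSquare (-valP Q (δ := δ) J v / valP Q (δ := δ) J w) := by
            rw [neg_div, ← neg_one_mul]
            refine hnorm1.mul ?_
            by_cases h : IsSquare (valP Q (δ := δ) J v)
            · exact h.div (hiff.1 h)
            · rw [isSquare_iff_norm hδ _ (div_ne_zero hv0 hw0), div_eq_mul_inv, map_mul,
                isSquare_mul_iff h2 (fun e => hv0 (QuadraticAlgebra.norm_eq_zero_iff_eq_zero.1 e))
                  (fun e => inv_ne_zero hw0 (QuadraticAlgebra.norm_eq_zero_iff_eq_zero.1 e))]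
              refine iff_of_false (fun e => h ((isSquare_iff_norm hδ _ hv0).2 e)) fun e => h (hiff.2 ?_)
              rw [← isSquare_iff_norm hδ _ (inv_ne_zero hw0), isSquare_inv] at e
              exact e
          obtain ⟨s, hs⟩ := hq
          refine ⟨s.re • w + s.im • J w, W₁.add_mem (W₁.smul_mem _ hw) (W₁.smul_mem _ (hW₁J w hw)), ?_⟩
          rw [hJ.valP_smul_add]
          exact (congrArg (· * _) hs.symm).trans (div_mul_cancel₀ _ hw0)
        · exact exists_valP_eq hδ hJ (hn1 hW) hW₁J (by omega) _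
      exact ⟨w, hw, hwv ▸ neg_ne_zero.2 hv0, hwv⟩
    obtain ⟨hwn, hwd⟩ := plane_ndg hδ hJ hw0
    have hwle : Submodule.span F (Set.range ![w, J w]) ≤ W₁ := fun u hu => by
      obtain ⟨x, y, rfl⟩ := mem_plane.1 hu
      exact W₁.add_mem (W₁.smul_mem _ hw) (W₁.smul_mem _ (hW₁J w hw))
    obtain ⟨hs2, hi2, hd2, hn2⟩ := exists_split polar_refl hwn hwle
    set W₂ := W₁ ⊓ perp (polarBilin Q) (Submodule.span F (Set.range ![w, J w])) with hW₂
    have hW₂J : Inv J W₂ := hW₁J.inf (inv_perp hJ (inv_plane hJ w))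
    have hp2 : IsPlus Q W₂ := by
      have e1 := isPlus_sup (Q := Q) hvn (hn1 hW) ⟨1, by omega⟩ ⟨2 * k + 1, by omega⟩ hi1
        (fun x hx y hy => mem_perp.1 hy.2 x hx)
      rw [hs1, iff_true_intro hp, true_iff, plane_plus_iff hδ hJ hv0] at e1
      have e2 := isPlus_sup (Q := Q) hwn (hn2 (hn1 hW)) ⟨1, by omega⟩ ⟨2 * k, by omega⟩ hi2
        (fun x hx y hy => mem_perp.1 hy.2 x hx)
      rw [hs2, plane_plus_iff hδ hJ hw0, hwv, QuadraticAlgebra.norm_neg] at e2
      revert e1 e2; tauto
    obtain ⟨U, hUle, hUJ, hUs, hUd⟩ := ih W₂ (hn2 (hn1 hW)) hW₂J (by omega) hp2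
    obtain ⟨p1, p2⟩ := mem_perp_plane.1 hw.2
    have q1 : polarBilin Q v (J w) = 0 := by rw [← hJ.sa]; exact p2
    have hzW : v + w ∈ W := W.add_mem hv hw.1
    have hzs : valP Q (δ := δ) J (v + w) = 0 := by rw [hJ.valP_add p1 p2, hwv, add_neg_cancel]
    have hUperp : ∀ u ∈ U, polarBilin Q (v + w) u = 0 ∧ polarBilin Q (J (v + w)) u = 0 := fun u hu => by
      obtain ⟨a1, a2⟩ := mem_perp_plane.1 (hUle hu).1.2
      obtain ⟨a3, a4⟩ := mem_perp_plane.1 (hUle hu).2
      simp [a1, a2, a3, a4]
    set Z := Submodule.span F (Set.range ![v + w, J (v + w)]) with hZ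
    have hindep : ∀ x y : F, x • (v + w) + y • J (v + w) ∈ W₂ → x = 0 ∧ y = 0 := fun x y h => by
      obtain ⟨a1, a2⟩ := mem_perp_plane.1 h.1.2
      have hsw : polarBilin Q (J v) v = polarBilin Q v (J v) := hJ.sa v v
      have q2 : polarBilin Q (J v) (J w) = 0 := by rw [hJ.sa, hJ.sq, map_smul, p1, smul_zero]
      simp only [map_add, map_smul, smul_eq_mul, hJ.polar_JJ, hsw, p1, p2, q1, q2, add_zero] at a1 a2
      have hD := det_ne_zero hδ ((valP_ne_zero_iff J v).1 hv0)
      constructor
      · exact (mul_eq_zero.1 (by linear_combination (δ * polarBilin Q v v) * a1 - polarBilin Q v (J v) * a2 :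
          x * (δ * polarBilin Q v v * polarBilin Q v v - polarBilin Q v (J v) * polarBilin Q v (J v)) = 0)).resolve_right hD
      · exact (mul_eq_zero.1 (by linear_combination (polarBilin Q v v) * a2 - polarBilin Q v (J v) * a1 :
          y * (δ * polarBilin Q v v * polarBilin Q v v - polarBilin Q v (J v) * polarBilin Q v (J v)) = 0)).resolve_right hD
    have hZd : finrank F Z = 2 := by
      rw [hZ, finrank_span_eq_card, Fintype.card_fin]
      refine Fintype.linearIndependent_iff.2 fun c hc => ?_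
      rw [Fin.sum_univ_two] at hc
      simp only [Matrix.cons_val_zero, Matrix.cons_val_one] at hc
      obtain ⟨ha, hb⟩ := hindep (c 0) (c 1) (by rw [hc]; exact Submodule.zero_mem _)
      intro i
      fin_cases i <;> assumption
    refine ⟨Z ⊔ U, sup_le ?_ (hUle.trans (inf_le_left.trans inf_le_left)), (inv_plane hJ _).sup hUJ, ?_, ?_⟩
    · intro u hu
      obtain ⟨x, y, rfl⟩ := mem_plane.1 hu
      exact W.add_mem (W.smul_mem _ hzW) (W.smul_mem _ (hWJ _ hzW))
    · intro u hu
      obtain ⟨z, hz, u', hu', rfl⟩ := Submodule.mem_sup.1 hu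
      obtain ⟨x, y, rfl⟩ := mem_plane.1 hz
      obtain ⟨o1, o2⟩ := hUperp u' hu'
      rw [hJ.valP_add, hJ.valP_smul_add, hzs, mul_zero, hUs u' hu', add_zero]
      · simp only [map_add, map_smul, LinearMap.add_apply, LinearMap.smul_apply, smul_eq_mul] at o1 o2 ⊢
        linear_combination x * o1 + y * o2
      · simp only [map_add, map_smul, hJ.sq, LinearMap.add_apply, LinearMap.smul_apply, smul_eq_mul]
          at o1 o2 ⊢
        linear_combination x * o2 + (y * δ) * o1
    · have hinf : Z ⊓ U = ⊥ := (Submodule.eq_bot_iff _).2 fun u hu => by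
        obtain ⟨x, y, rfl⟩ := mem_plane.1 hu.1
        obtain ⟨rfl, rfl⟩ := hindep x y (hUle hu.2)
        simp
      have := Submodule.finrank_sup_add_finrank_inf_eq Z U
      rw [hinf, finrank_bot, hZd] at this
      omega

/-- Rescaling does not change the orthogonal group. -/
theorem card_oGroup_smul {K W : Type*} [Field K] [AddCommGroup W] [Module K W] (P : QuadraticForm K W) {c : K}
    (hc : c ≠ 0) : Nat.card (oGroup (c • P)) = Nat.card (oGroup P) :=
  Nat.card_congr
    { toFun := fun g => ⟨g.1, fun v => mul_left_cancel₀ hc (g.2 v)⟩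
      invFun := fun g => ⟨g.1, fun v => congrArg (c * ·) (g.2 v)⟩
      left_inv := fun _ => rfl
      right_inv := fun _ => rfl }

theorem exists_coprime_cofactor {r : ℕ} [hr' : Fact r.Prime] {q : ℕ} (hr2 : r ≠ 2) (hq : (q : ZMod r) ≠ 0)
    (hi : 4 ∣ orderOf (q : ZMod r)) (E : ℕ) (m : ℕ) :
    ¬ (r : ℤ) ∣ 2 * (q : ℤ) ^ E * ∏ k ∈ Finset.range m, ((q : ℤ) ^ (2 * (2 * k + 1)) - 1) := by
  have hp : Prime (r : ℤ) := Nat.prime_iff_prime_int.1 hr'.out
  intro h
  rcases hp.dvd_mul.1 h with h | h
  · rcases hp.dvd_mul.1 h with h | h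
    · exact hr2 ((Nat.prime_dvd_prime_iff_eq hr'.out Nat.prime_two).1 (by exact_mod_cast h))
    · exact hq ((ZMod.natCast_eq_zero_iff _ _).2 (by exact_mod_cast hp.dvd_of_dvd_pow h))
  · obtain ⟨k, -, hk⟩ := (hp.dvd_finsetProd_iff _).1 h
    rw [← ZMod.intCast_zmod_eq_zero_iff_dvd] at hk
    push_cast at hk
    have := hi.trans (orderOf_dvd_of_pow_eq_one (sub_eq_zero.1 hk))
    omega

theorem prod_split (x : ℤ) : ∀ n : ℕ,
    ∏ i ∈ Finset.range (2 * n), (x ^ (2 * (i + 1)) - 1) =
      (∏ k ∈ Finset.range n, ((x ^ 2) ^ (2 * (k + 1)) - 1)) *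
        ∏ k ∈ Finset.range n, (x ^ (2 * (2 * k + 1)) - 1) := by
  intro n
  induction n with
  | zero => simp
  | succ n ih =>
    rw [show 2 * (n + 1) = 2 * n + 1 + 1 by ring, Finset.prod_range_succ, Finset.prod_range_succ, ih,
      Finset.prod_range_succ, Finset.prod_range_succ, ← pow_mul,
      show 2 * (2 * (n + 1)) = 2 * (2 * n + 1 + 1) by ring]
    ring

/-- The structure's centraliser contains a Sylow subgroup: the index hypothesis fails. -/
theorem exists_sylow_commute (hQ : (polarBilin Q).Nondegenerate) (hδ : ¬ IsSquare δ) (hJ : IsJ Q δ J)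
    {d : ℕ} (hdim : finrank F V = 2 * d) (hd : 1 ≤ d) {r : ℕ} [hr' : Fact r.Prime] (hr : (r : F) ≠ 0)
    (hr2 : r ≠ 2) (hi : 4 ∣ ordq F r) :
    ∃ S : Subgroup (oGroup Q), IsPGroup r S ∧ (∀ s ∈ S, ∀ u, s.1 (J u) = J (s.1 u)) ∧
      ¬ r * Nat.card S ∣ Nat.card (oGroup Q) := by
  have := fact_nsq hδ
  have h2 := two_ne_zero_of_nsq hδ
  -- the space over the extension
  let ρ : QuadraticAlgebra F δ 0 →ₐ[F] Module.End F V := QuadraticAlgebra.lift ⟨J, LinearMap.ext fun v => by
    simp [Module.End.mul_apply, hJ.sq]⟩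
  letI : Module (QuadraticAlgebra F δ 0) V := Module.compHom V ρ.toRingHom
  have hact : ∀ (l : QuadraticAlgebra F δ 0) (v : V), l • v = l.re • v + l.im • J v := fun l v => by
    show ρ l v = _
    simp [ρ, QuadraticAlgebra.lift]
  haveI : IsScalarTower F (QuadraticAlgebra F δ 0) V := ⟨fun c l v => by
    rw [hact, hact, smul_add, smul_smul, smul_smul]; rfl⟩
  haveI : Module.Finite (QuadraticAlgebra F δ 0) V := Module.Finite.of_restrictScalars_finite F _ _
  haveI : Finite (QuadraticAlgebra F δ 0) := Module.finite_of_finite F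
  letI : Fintype (QuadraticAlgebra F δ 0) := Fintype.ofFinite _
  haveI : Finite V := Module.finite_of_finite F
  have hdL : finrank (QuadraticAlgebra F δ 0) V = d := by
    have := Module.finrank_mul_finrank F (QuadraticAlgebra F δ 0) V
    rw [QuadraticAlgebra.finrank_eq_two, hdim] at this
    omega
  let Φ : LinearMap.BilinMap (QuadraticAlgebra F δ 0) V (QuadraticAlgebra F δ 0) :=
    LinearMap.mk₂ (QuadraticAlgebra F δ 0) (fun u v => ⟨polarBilin Q u (J v), polarBilin Q u v⟩)
      (fun a b c => QuadraticAlgebra.ext (by simp) (by simp))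
      (fun l a b => QuadraticAlgebra.ext
        (by simp [hact, QuadraticAlgebra.re_mul, hJ.sa, hJ.sq]; ring)
        (by simp [hact, QuadraticAlgebra.im_mul, hJ.sa, hJ.sq]))
      (fun a b c => QuadraticAlgebra.ext (by simp) (by simp))
      (fun l a b => QuadraticAlgebra.ext
        (by simp [hact, QuadraticAlgebra.re_mul, hJ.sa, hJ.sq]; ring)
        (by simp [hact, QuadraticAlgebra.im_mul, hJ.sa, hJ.sq]))
  set P : QuadraticForm (QuadraticAlgebra F δ 0) V := Φ.toQuadraticMap with hP
  have hPval : ∀ v, P v = valP Q (δ := δ) J v := fun v => rfl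
  have h2L : (2 : QuadraticAlgebra F δ 0) ≠ 0 := fun h => h2 (by
    have := congrArg QuadraticAlgebra.re h
    simpa [QuadraticAlgebra.re_ofNat] using this)
  have hPn : (polarBilin P).Nondegenerate := by
    have h1 : ∀ u, (∀ v, polarBilin P u v = 0) → u = 0 := fun u h => hQ.1 u fun v => by
      have e := h v
      rw [polarBilin_apply_apply, LinearMap.BilinMap.polar_toQuadraticMap] at e
      have := congrArg QuadraticAlgebra.im e
      simp [Φ, polar_swap v u] at this
      rw [polar_comm (⇑Q) v u] at this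
      exact (mul_eq_zero.1 (by rw [two_mul]; exact this : (2 : F) * polarBilin Q u v = 0)).resolve_left h2
    exact ⟨h1, fun u h => h1 u fun v => by rw [polar_swap]; exact h v⟩
  -- restriction to the ground field
  let θ : oGroup P →* oGroup Q :=
    { toFun := fun g => ⟨g.1.restrictScalars F, fun v => by
        have := congrArg QuadraticAlgebra.im (g.2 v)
        rw [hPval, hPval] at this
        exact mul_left_cancel₀ h2 (by rw [← polar_self', ← polar_self']; exact this)⟩
      map_one' := rfl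
      map_mul' := fun _ _ => rfl }
  have hθ : Function.Injective θ := fun a b h =>
    Subtype.ext (LinearEquiv.ext fun v => congrArg (fun g : oGroup Q => g.1 v) h)
  have hθJ : ∀ g u, (θ g).1 (J u) = J ((θ g).1 u) := fun g u => by
    have e : ∀ w : V, (⟨0, 1⟩ : QuadraticAlgebra F δ 0) • w = J w := fun w => by rw [hact]; simp
    show g.1 (J u) = J (g.1 u)
    rw [← e, map_smul, e]
  -- orders
  set q := Fintype.card F with hq
  have hcL : Nat.card (QuadraticAlgebra F δ 0) = q ^ 2 := by
    rw [Module.natCard_eq_pow_finrank (K := F), QuadraticAlgebra.finrank_eq_two, Nat.card_eq_fintype_card]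
  have hq0 : (q : ZMod r) ≠ 0 := fun h => by
    have : orderOf (q : ZMod r) = 0 := by rw [h]; exact orderOf_zero (ZMod r)
    have := ordq_pos (F := F) hr
    rw [ordq, ← hq] at this
    omega
  obtain ⟨a, b, hab⟩ := exists_zeta F
  have hab' := exists_zeta (QuadraticAlgebra F δ 0)
  obtain ⟨a', b', hab'⟩ := hab'
  have hTQ : Ndg (polarBilin Q) (⊤ : Submodule F V) := ndg_top_iff.2 hQ
  have hTP : Ndg (polarBilin P) (⊤ : Submodule (QuadraticAlgebra F δ 0) V) := ndg_top_iff.2 hPn
  obtain ⟨C, hC, hdvd⟩ : ∃ C : ℤ, ¬ (r : ℤ) ∣ C ∧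
      (Nat.card (oGroup Q) : ℤ) ∣ (Nat.card (oGroup P) : ℤ) * C := by
    obtain ⟨k, hk⟩ : ∃ k, d = k + 1 := ⟨d - 1, by omega⟩
    obtain ⟨n, hn⟩ := Nat.even_or_odd' d
    rcases hn with hn | hn
    · -- even dimension over the extension
      obtain ⟨m, rfl⟩ : ∃ m, n = m + 1 := ⟨n - 1, by omega⟩
      have hiff : IsPlus Q (⊤ : Submodule F V) ↔ IsPlus P (⊤ : Submodule (QuadraticAlgebra F δ 0) V) := by
        constructor
        · intro hp
          obtain ⟨U, -, hUJ, hUs, hUd⟩ := exists_inv_sing hδ hJ (m + 1) ⊤ hTQ (fun _ _ => Submodule.mem_top)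
            (by rw [finrank_top]; omega) hp
          let U' : Submodule (QuadraticAlgebra F δ 0) V :=
            { U.toAddSubmonoid with
              smul_mem' := fun l u hu => by
                rw [hact]
                exact U.add_mem (U.smul_mem _ hu) (U.smul_mem _ (hUJ u hu)) }
          refine ⟨U', le_top, fun u hu => hUs u hu, ?_⟩
          have hr1 : finrank F U' = 2 * (m + 1) := by
            rw [← (U'.restrictScalarsEquiv F _ _).restrictScalars F |>.finrank_eq,
              show U'.restrictScalars F = U from Submodule.ext fun _ => Iff.rfl]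
            exact hUd
          have hr2' := Module.finrank_mul_finrank F (QuadraticAlgebra F δ 0) U'
          rw [QuadraticAlgebra.finrank_eq_two, hr1] at hr2'
          rw [finrank_top, hdL]
          omega
        · rintro ⟨U, -, hUs, hUd⟩
          refine ⟨U.restrictScalars F, le_top, fun u hu => ?_, ?_⟩
          · have := congrArg QuadraticAlgebra.im ((hPval u).symm.trans (hUs u hu))
            exact (mul_eq_zero.1 ((polar_self' u).symm.trans this)).resolve_left h2
          · have hr2' := Module.finrank_mul_finrank F (QuadraticAlgebra F δ 0) (U.restrictScalars F)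
            rw [finrank_top, hdL] at hUd
            rw [finrank_top, hdim, (U.restrictScalarsEquiv F _ _).restrictScalars F |>.finrank_eq,
              ← Module.finrank_mul_finrank F (QuadraticAlgebra F δ 0) U, QuadraticAlgebra.finrank_eq_two]
            omega
      refine ⟨2 * (q : ℤ) ^ ((2 * m + 2) * (2 * m + 1)) *
        ∏ k ∈ Finset.range (m + 1), ((q : ℤ) ^ (2 * (2 * k + 1)) - 1),
        exists_coprime_cofactor hr2 hq0 hi _ _, ?_⟩
      have hprod : ∏ i ∈ Finset.range (2 * m + 1), ((q : ℤ) ^ (2 * (i + 1)) - 1) =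
          (∏ k ∈ Finset.range m, (((q : ℤ) ^ 2) ^ (2 * (k + 1)) - 1)) *
            ∏ k ∈ Finset.range (m + 1), ((q : ℤ) ^ (2 * (2 * k + 1)) - 1) := by
        rw [Finset.prod_range_succ, prod_split, Finset.prod_range_succ _ m]; ring
      rcases exists_model hTQ (h := 2 * m + 1 + 1) (by rw [finrank_top]; omega) hab with
        ⟨hp, φ, hφ⟩ | ⟨hp, φ, hφ⟩
      · obtain ⟨-, ψ, hψ⟩ := (exists_model hTP (h := m + 1) (by rw [finrank_top, hdL]; omega) hab').resolve_right
          fun h => h.1 (hiff.1 hp)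
        rw [Nat.card_congr (oGroupCongr (Q := Q) (Q' := plusQ (2 * m + 1 + 1))
            (Submodule.topEquiv.symm.trans φ) (fun v => hφ _)).toEquiv,
          Nat.card_congr (oGroupCongr (Q := P) (Q' := plusQ (m + 1))
            (Submodule.topEquiv.symm.trans ψ) (fun v => hψ _)).toEquiv,
          card_oGroup_plus (q := q) Nat.card_eq_fintype_card, card_oGroup_plus (q := q ^ 2) hcL, hprod]
        push_cast
        exact ⟨2 * ((q : ℤ) ^ 2) ^ ((m + 1) * m), by ring⟩
      · obtain ⟨-, ψ, hψ⟩ := (exists_model hTP (h := m + 1) (by rw [finrank_top, hdL]; omega) hab').resolve_left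
          fun h => hp (hiff.2 h.1)
        rw [Nat.card_congr (oGroupCongr (Q := Q) (Q' := minusQ (2 * m + 1 + 1 - 1) a b)
            (Submodule.topEquiv.symm.trans φ) (fun v => hφ _)).toEquiv,
          Nat.card_congr (oGroupCongr (Q := P) (Q' := minusQ (m + 1 - 1) a' b')
            (Submodule.topEquiv.symm.trans ψ) (fun v => hψ _)).toEquiv,
          card_oGroup_minus (q := q) Nat.card_eq_fintype_card hab, Nat.add_sub_cancel, Nat.add_sub_cancel,
          card_oGroup_minus (q := q ^ 2) hcL hab', hprod]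
        push_cast
        exact ⟨2 * ((q : ℤ) ^ 2) ^ ((m + 1) * m), by ring⟩
    · -- odd dimension over the extension
      have hQodd : ∀ ε : ℤ, (ε = 1 ∨ ε = -1) → ¬ (r : ℤ) ∣ (q : ℤ) ^ d - ε := by
        intro ε hε h
        rw [← ZMod.intCast_zmod_eq_zero_iff_dvd] at h
        push_cast at h
        have he : ((ε : ℤ) : ZMod r) ^ 2 = 1 := by rcases hε with rfl | rfl <;> simp
        have := hi.trans (orderOf_dvd_of_pow_eq_one (n := d * 2) (by rw [pow_mul, sub_eq_zero.1 h, he]))
        omega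
      obtain ⟨c, φ', hc, -, hφ'⟩ := CfsgLib.QuadStd.classify_odd hPn (m := n) (by rw [hdL, hn])
      let D : (Unit ⊕ (Fin n ⊕ Fin n) → QuadraticAlgebra F δ 0) ≃ₗ[QuadraticAlgebra F δ 0]
          (Unit ⊕ (Fin n ⊕ Fin n) → QuadraticAlgebra F δ 0) :=
        LinearEquiv.piCongrRight fun i => LinearEquiv.smulOfUnit
          (Sum.elim (fun _ => 1) (Sum.elim (fun _ => (Units.mk0 c hc)⁻¹) (fun _ => 1)) i :
            (QuadraticAlgebra F δ 0)ˣ)
      have hφ : ∀ v, oddQ n ((φ'.trans D) v) = (c⁻¹ • P) v := fun v => by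
        show oddQ n (D (φ' v)) = c⁻¹ * P v
        rw [hφ', oddQ_coe]
        set z := φ' v
        simp only [Cfsg.quadFormOdd, Cfsg.quadFormPlus, mul_add, Finset.mul_sum]
        congr 1
        · simp [D, Units.smul_def, LinearEquiv.smulOfUnit]; field_simp
        · refine Finset.sum_congr rfl fun i _ => ?_
          simp [D, Units.smul_def, LinearEquiv.smulOfUnit]; ring
      have hcardP : (Nat.card (oGroup P) : ℤ) = 2 * (((q : ℤ) ^ 2)) ^ (n ^ 2) *
          ∏ i ∈ Finset.range n, (((q : ℤ) ^ 2) ^ (2 * (i + 1)) - 1) := by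
        rw [← card_oGroup_smul P (inv_ne_zero hc),
          Nat.card_congr (oGroupCongr (Q := c⁻¹ • P) (Q' := oddQ n) (φ'.trans D) hφ).toEquiv,
          card_oGroup_odd (q := q ^ 2) hcL h2L]
        push_cast
        ring
      rcases exists_model hTQ (h := k + 1) (by rw [finrank_top]; omega) hab with ⟨-, φ, hφQ⟩ | ⟨-, φ, hφQ⟩
      · refine ⟨2 * (q : ℤ) ^ ((k + 1) * k) * (∏ j ∈ Finset.range n, ((q : ℤ) ^ (2 * (2 * j + 1)) - 1)) *
          ((q : ℤ) ^ (k + 1) - 1), fun h => ?_, ?_⟩
        · rcases (Nat.prime_iff_prime_int.1 hr'.out).dvd_mul.1 h with h | h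
          · exact exists_coprime_cofactor hr2 hq0 hi _ _ h
          · exact hQodd 1 (Or.inl rfl) (hk ▸ h)
        · rw [Nat.card_congr (oGroupCongr (Q := Q) (Q' := plusQ (k + 1))
              (Submodule.topEquiv.symm.trans φ) (fun v => hφQ _)).toEquiv,
            card_oGroup_plus (q := q) Nat.card_eq_fintype_card, hcardP, show k = 2 * n by omega, prod_split]
          exact ⟨2 * ((q : ℤ) ^ 2) ^ (n ^ 2), by ring⟩
      · refine ⟨2 * (q : ℤ) ^ ((k + 1) * k) * (∏ j ∈ Finset.range n, ((q : ℤ) ^ (2 * (2 * j + 1)) - 1)) *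
          ((q : ℤ) ^ (k + 1) + 1), fun h => ?_, ?_⟩
        · rcases (Nat.prime_iff_prime_int.1 hr'.out).dvd_mul.1 h with h | h
          · exact exists_coprime_cofactor hr2 hq0 hi _ _ h
          · exact hQodd (-1) (Or.inr rfl) (by rw [hk, sub_neg_eq_add]; exact h)
        · rw [Nat.card_congr (oGroupCongr (Q := Q) (Q' := minusQ (k + 1 - 1) a b)
              (Submodule.topEquiv.symm.trans φ) (fun v => hφQ _)).toEquiv, Nat.add_sub_cancel,
            card_oGroup_minus (q := q) Nat.card_eq_fintype_card hab, hcardP, show k = 2 * n by omega,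
            prod_split]
          exact ⟨2 * ((q : ℤ) ^ 2) ^ (n ^ 2), by ring⟩
  haveI : Finite (oGroup P) := Finite.of_injective (fun g => (g.1 : V → V))
    fun g h e => Subtype.ext (LinearEquiv.ext (congrFun e))
  obtain ⟨T⟩ : Nonempty (Sylow r (oGroup P)) := inferInstance
  refine ⟨(T : Subgroup (oGroup P)).map θ, T.2.map θ, ?_, fun hdiv => ?_⟩
  · rintro _ ⟨g, -, rfl⟩ u
    exact hθJ g u
  · rw [Subgroup.card_map_of_injective hθ, T.card_eq_multiplicity, ← pow_succ'] at hdiv
    have h1 := (Int.natCast_dvd_natCast.2 hdiv).trans hdvd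
    push_cast at h1
    have h3 : r ^ ((Nat.card (oGroup P)).factorization r + 1) ∣ Nat.card (oGroup P) := by
      exact_mod_cast (Nat.prime_iff_prime_int.1 hr'.out).pow_dvd_of_dvd_mul_right _ hC h1
    exact Nat.pow_succ_factorization_not_dvd (Nat.card_pos (α := oGroup P)).ne' hr'.out h3

end CfsgLib.Elusive2
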