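import Cfsg.Agent.Elusive2.OrthExtConj
import Cfsg.Agent.Quad.SimpleOmega
import Mathlib.FieldTheory.IsAlgClosed.AlgebraicClosure

/-!
Elements of odd prime order none of whose conjugates commutes with a given quadratic structure.
-/

set_option autoImplicit false
set_option linter.unusedSectionVars false
set_option linter.unusedSimpArgs false

namespace CfsgLib.Elusive2

open Module QuadraticMap CfsgLib.Elusive CfsgLib.Quad Polynomial

variable {F V : Type*} [Field F] [AddCommGroup V] [Module F V] [Fintype F] [FiniteDimensional F V]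
  {Q : QuadraticForm F V} {δ : F} {J : V →ₗ[F] V} {r : ℕ} [hr' : Fact r.Prime]

theorem pow_half_card (hδ : ¬ IsSquare δ) : ∀ e : ℕ, δ ^ (Fintype.card F ^ e / 2) = (-1) ^ e := by
  have h2 := two_ne_zero_of_nsq hδ
  have hring : ringChar F ≠ 2 := fun h => h2 (by
    rw [← Nat.cast_ofNat, ← h]; exact ringChar.Nat.cast_ringChar)
  have hδ0 : δ ≠ 0 := fun h => hδ (h ▸ IsSquare.zero)
  have hodd := FiniteField.odd_card_of_char_ne_two hring
  have hδq : δ ^ (Fintype.card F / 2) = -1 := by
    rcases FiniteField.pow_dichotomy hring hδ0 with h | h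
    · exact absurd ((FiniteField.isSquare_iff hring hδ0).2 h) hδ
    · exact h
  intro e
  induction e with
  | zero => simp
  | succ e ih =>
    have he : Fintype.card F ^ (e + 1) / 2 =
        Fintype.card F ^ e * (Fintype.card F / 2) + Fintype.card F ^ e / 2 := by
      set q := Fintype.card F
      obtain ⟨h, hh⟩ : ∃ h, q = 2 * h + 1 := ⟨q / 2, by omega⟩
      rw [pow_succ, show q / 2 = h by omega]
      nth_rw 2 [hh]
      rw [show q ^ e * (2 * h + 1) = q ^ e + 2 * (q ^ e * h) by ring, Nat.add_mul_div_left _ _ two_pos,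
        add_comm]
    rw [he, pow_add, pow_mul, FiniteField.pow_card_pow, hδq, ih, pow_succ']

theorem inv_movS_of_commute {f : V →ₗ[F] V} (hc : ∀ u, f (J u) = J (f u)) : Inv J (movS f) := by
  rintro _ ⟨w, rfl⟩
  exact ⟨J w, by simp [hc]⟩

theorem commute_aeval {f : V →ₗ[F] V} (hc : ∀ u, f (J u) = J (f u)) (P : F[X]) (u : V) :
    aeval f P (J u) = J (aeval f P u) := by
  induction P using Polynomial.induction_on' with
  | add P R hp hR => rw [map_add, LinearMap.add_apply, LinearMap.add_apply, map_add, hp, hR]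
  | monomial k a =>
    rw [aeval_monomial, Module.End.mul_apply, Module.End.mul_apply, Module.algebraMap_end_apply,
      Module.algebraMap_end_apply, map_smul]
    congr 1
    induction k with
    | zero => rfl
    | succ k ih => rw [pow_succ', Module.End.mul_apply, Module.End.mul_apply, ih, hc]

/-- A single block whose order of `q` is not a multiple of four does not commute with the structure. -/
theorem block_no_commute (hδ : ¬ IsSquare δ) (hJ : IsJ Q δ J) {f : V →ₗ[F] V} (hP : IsOrthPack Q f r)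
    (hr : (r : F) ≠ 0) (hr2 : r ≠ 2) (hi : ¬ 4 ∣ ordq F r)
    (hd : finrank F (movS f) = blockDim (ordq F r)) (hc : ∀ u, f (J u) = J (f u)) : False := by
  have h2 := two_ne_zero_of_nsq hδ
  have hδ0 : δ ≠ 0 := fun h => hδ (h ▸ IsSquare.zero)
  obtain ⟨s, -, -, -, -, hWn, hfix, -⟩ := hP.fix_mov hr hr2
  have hWi : Inv f (movS f) := Inv.movS f
  have hWJ : Inv J (movS f) := inv_movS_of_commute hc
  have hi0 := ordq_pos (F := F) hr
  have hbpos : 0 < blockDim (ordq F r) := by unfold blockDim; split <;> omega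
  set W := movS f with hW
  have hne : W ≠ ⊥ := fun e => by rw [e, finrank_bot] at hd; omega
  obtain ⟨U, u, P, hU, hUW, hUd, hu, hu0, hPm, hPd, hPu⟩ := exists_irr hP.pow_r hr hWi hfix hne
  have hUfix : U ⊓ fixS f = ⊥ := le_bot_iff.1 ((inf_le_inf_right _ hUW).trans hfix.le)
  have hUeq := range_cyc_eq hP.pow_r hU hUd hUfix hu hu0
  set i := ordq F r with hidef
  set q := Fintype.card F with hq
  rcases Nat.even_or_odd i with hev | hodd
  · -- one irreducible block
    obtain ⟨e, he⟩ := hev
    have heo : Odd e := Nat.odd_iff.2 (by omega)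
    have hWU : W = U := (Submodule.eq_of_le_of_finrank_le hUW (by
      rw [hd, hUd, blockDim, if_pos ⟨e, he⟩])).symm
    obtain ⟨P₀, hP₀⟩ : J u ∈ LinearMap.range (cyc f u) := by rw [hUeq, ← hWU]; exact hWJ u (hUW hu)
    change aeval f P₀ u = J u at hP₀
    have hact : ∀ w ∈ W, aeval f P₀ w = J w := by
      rw [hWU, ← hUeq]
      rintro _ ⟨g, rfl⟩
      show aeval f P₀ (aeval f g u) = J (aeval f g u)
      rw [← commute_aeval hc, ← hP₀, ← Module.End.mul_apply, ← Module.End.mul_apply, ← map_mul,
        ← map_mul, mul_comm]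
    have hpow : ∀ (k : ℕ), ∀ w ∈ W, (aeval f P₀ ^ k) w = (J ^ k) w ∧ (J ^ k) w ∈ W := by
      intro k
      induction k with
      | zero => exact fun w hw => ⟨rfl, hw⟩
      | succ k ih =>
        intro w hw
        obtain ⟨e1, e2⟩ := ih w hw
        rw [pow_succ', Module.End.mul_apply, e1, pow_succ', Module.End.mul_apply, hact _ e2]
        exact ⟨rfl, hWJ _ e2⟩
    have hJpow : ∀ (m : ℕ) w, (J ^ (2 * m + 1)) w = δ ^ m • J w := by
      intro m
      induction m with
      | zero => intro w; simp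
      | succ m ih =>
        intro w
        rw [show 2 * (m + 1) + 1 = (2 * m + 1) + 1 + 1 by ring, pow_succ', Module.End.mul_apply, pow_succ',
          Module.End.mul_apply, ih, hJ.sq, pow_succ', smul_smul]
    obtain ⟨n, hp, hn⟩ := FiniteField.card F (ringChar F)
    have : Fact (ringChar F).Prime := ⟨hp⟩
    have hN : r ∣ ringChar F ^ ((n : ℕ) * e) + 1 := by
      rw [pow_mul, ← hn, ← hq, ← ZMod.natCast_eq_zero_iff]
      push_cast
      have hord : orderOf (q : ZMod r) = i := rfl
      have h1 : (q : ZMod r) ^ e * (q : ZMod r) ^ e = 1 := by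
        rw [← pow_add, ← he, ← hord]; exact pow_orderOf_eq_one _
      rcases mul_self_eq_one_iff.1 h1 with h | h
      · exact absurd (Nat.le_of_dvd (by omega) (orderOf_dvd_of_pow_eq_one h)) (by omega)
      · rw [h, neg_add_cancel]
    have hoddQ : (q ^ e) % 2 = 1 := by
      rw [Nat.pow_mod, FiniteField.odd_card_of_char_ne_two fun h => h2 (by
        rw [← Nat.cast_ofNat, ← h]; exact ringChar.Nat.cast_ringChar), one_pow, Nat.one_mod]
    have hzero : ∀ w ∈ W, J w = 0 := fun w hw => by
      by_contra h0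
      obtain ⟨v, hv, hne⟩ := hWn (J w) (hWJ w hw) h0
      refine hne (eq_zero_of_two h2 ?_)
      have e1 := adj_selfDual (σ := RingHom.id F) hP.pack hN (fun x => by
        rw [RingHom.id_apply, pow_mul, ← hn, FiniteField.pow_card_pow]) P₀ w v
      rw [hact w hw, (hpow _ v hv).1, pow_mul, ← hn, ← hq,
        show q ^ e = 2 * (q ^ e / 2) + 1 by omega, hJpow, pow_half_card hδ, heo.neg_one_pow, map_smul,
        smul_eq_mul, ← hJ.sa] at e1
      linear_combination e1
    refine hu0 ((smul_eq_zero.1 ?_).resolve_left hδ0)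
    rw [← hJ.sq, hzero u (hUW hu), map_zero]
  · -- two irreducible halves exchanged by the structure
    have hJinj : Function.Injective J := fun a b h => by
      have := congrArg J h
      rw [hJ.sq, hJ.sq] at this
      exact smul_right_injective V hδ0 this
    set U' := U.map J with hU'
    have hU'i : Inv f U' := by
      rintro _ ⟨w, hw, rfl⟩
      exact ⟨f w, hU w hw, (hc w).symm⟩
    have hU'W : U' ≤ W := by
      rintro _ ⟨w, hw, rfl⟩
      exact hWJ w (hUW hw)
    have hU'd : finrank F U' = i := by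
      rw [← hUd]; exact (Submodule.equivMapOfInjective J hJinj U).finrank_eq.symm
    have hdis : U ⊓ U' = ⊥ := by
      by_contra hne'
      have hU'fix : U' ⊓ fixS f = ⊥ := le_bot_iff.1 ((inf_le_inf_right _ hU'W).trans hfix.le)
      have e1 := irr_eq hP.pow_r hUd hUfix (hU.inf hU'i) inf_le_left hne'
      have e2 := irr_eq hP.pow_r hU'd hU'fix (hU.inf hU'i) inf_le_right hne'
      have hUJ : ∀ w ∈ U, J w ∈ U := fun w hw => by
        have h : J w ∈ U' := ⟨w, hw, rfl⟩
        rw [← e2, e1] at h; exact h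
      have hdet := congrArg LinearMap.det (show (J.restrict hUJ).comp (J.restrict hUJ) =
          δ • (LinearMap.id : U →ₗ[F] U) from LinearMap.ext fun w => Subtype.ext (hJ.sq w))
      rw [LinearMap.det_comp, LinearMap.det_smul, LinearMap.det_id, mul_one, hUd] at hdet
      obtain ⟨m, hm⟩ := hodd
      refine hδ ⟨LinearMap.det (J.restrict hUJ) / δ ^ m, ?_⟩
      rw [div_mul_div_comm, hdet, hm, pow_succ, pow_mul']
      field_simp
    have hWeq : U ⊔ U' = W := Submodule.eq_of_le_of_finrank_le (sup_le hUW hU'W) (by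
      have := Submodule.finrank_sup_add_finrank_inf_eq U U'
      rw [hdis, finrank_bot] at this
      rw [hd, blockDim, if_neg (Nat.not_even_iff_odd.2 hodd)]
      omega)
    have hkillU : ∀ a ∈ U, aeval f P a = 0 := by
      rw [← hUeq]
      rintro _ ⟨g, rfl⟩
      show aeval f P (aeval f g u) = 0
      rw [← Module.End.mul_apply, ← map_mul, mul_comm, map_mul, Module.End.mul_apply, hPu, map_zero]
    have hkillW : ∀ a ∈ W, aeval f P a = 0 := by
      rw [← hWeq]
      intro a ha
      obtain ⟨x, hx, _, ⟨y, hy, rfl⟩, rfl⟩ := Submodule.mem_sup.1 ha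
      rw [map_add, hkillU x hx, commute_aeval hc, hkillU y hy, map_zero, add_zero]
    -- the dual polynomial kills `u`
    have hdual : aeval f (expand F (r - 1) P) u = 0 := by
      rw [expand_aeval]
      by_contra h0
      obtain ⟨v, hv, hne'⟩ := hWn _ (hUW (by
        rw [← expand_aeval]; exact hU.aeval _ u hu)) h0
      refine hne' (polar_refl v _ ?_)
      have e := adj_aeval (σ := RingHom.id F) hP.pack P v u
      rw [Polynomial.map_id, hkillW v hv, map_zero, LinearMap.zero_apply] at e
      exact e.symm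
    have hdvd : ∀ g : F[X], aeval f g u = 0 → P ∣ g := fun g hg =>
      dvd_of_kill hP.pow_r hWi hfix (hUW hu) hu0 hPm hPd hPu hg
    -- a root in an algebraic closure
    have hP0 : P.natDegree ≠ 0 := fun h => hu0 (by
      rwa [eq_one_of_monic_natDegree_zero hPm h, map_one, Module.End.one_apply] at hPu)
    obtain ⟨α, hα⟩ := IsAlgClosed.exists_aeval_eq_zero (AlgebraicClosure F) P
      (fun h => hP0 (natDegree_eq_zero_iff_degree_le_zero.2 h.le))
    have hαr : α ^ r = 1 := by
      obtain ⟨g, hg⟩ := hdvd (X ^ r - 1) (by rw [map_sub, map_pow, aeval_X, map_one, hP.pow_r, sub_self]; rfl)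
      have := congrArg (aeval α) hg
      rw [map_sub, map_pow, aeval_X, map_one, map_mul, hα, zero_mul, sub_eq_zero] at this
      exact this
    have hα1 : α ≠ 1 := by
      rintro rfl
      have hroot : P.IsRoot 1 := by
        have : algebraMap F (AlgebraicClosure F) (P.eval 1) = 0 := by
          rw [← aeval_algebraMap_apply_eq_algebraMap_eval, map_one, hα]
        exact (map_eq_zero _).1 this
      obtain ⟨R, hR⟩ := dvd_iff_isRoot.2 hroot
      have hRu : aeval f R u = 0 := by
        have hmem : aeval f R u ∈ U ⊓ fixS f := by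
          refine ⟨hU.aeval R u hu, mem_fixS.2 (sub_eq_zero.1 ?_)⟩
          rw [hR, map_mul, Module.End.mul_apply, map_sub, aeval_X, aeval_C, map_one] at hPu
          simpa using hPu
        rwa [hUfix, Submodule.mem_bot] at hmem
      have hR0 : R ≠ 0 := fun h => hPm.ne_zero (by rw [hR, h, mul_zero])
      have h1 := natDegree_le_of_dvd (hdvd R hRu) hR0
      rw [hR, natDegree_mul (X_sub_C_ne_zero 1) hR0, natDegree_X_sub_C] at h1
      omega
    have hαo : orderOf α = r := orderOf_eq_prime hαr hα1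
    have hroots : ∀ k : ℕ, aeval (α ^ q ^ k) P = 0 := by
      intro k
      induction k with
      | zero => simpa using hα
      | succ k ih =>
        rw [pow_succ, pow_mul, ← expand_aeval, hq, FiniteField.expand_card, map_pow, ih,
          zero_pow Fintype.card_ne_zero]
    have hinv : aeval (α ^ (r - 1)) P = 0 := by
      obtain ⟨g, hg⟩ := hdvd _ hdual
      rw [← expand_aeval, hg, map_mul, hα, zero_mul]
    have hα0 : α ≠ 0 := fun h => by rw [h, zero_pow hr'.out.ne_zero] at hαr; exact zero_ne_one hαr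
    have hcongr : ∀ a b : ℕ, α ^ a = α ^ b → (a : ZMod r) = b := fun a b h => by
      have hfin : IsOfFinOrder α := isOfFinOrder_iff_pow_eq_one.2 ⟨r, hr'.out.pos, hαr⟩
      rw [ZMod.natCast_eq_natCast_iff, ← hαo]
      exact hfin.pow_eq_pow_iff_modEq.1 h
    classical
    set S := (Finset.range i).image fun k => α ^ q ^ k with hS
    have hSc : S.card = i := by
      rw [hS, Finset.card_image_of_injOn, Finset.card_range]
      intro a ha b hb hab
      have := hcongr _ _ hab
      push_cast at this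
      exact pow_injOn_Iio_orderOf (Finset.mem_range.1 ha) (Finset.mem_range.1 hb) this
    have hsub : insert (α ^ (r - 1)) S ⊆ (P.aroots (AlgebraicClosure F)).toFinset := fun x hx => by
      rw [Multiset.mem_toFinset, mem_aroots]
      refine ⟨hPm.ne_zero, ?_⟩
      rcases Finset.mem_insert.1 hx with rfl | hx
      · exact hinv
      · obtain ⟨k, -, rfl⟩ := Finset.mem_image.1 hx
        exact hroots k
    have hle : (insert (α ^ (r - 1)) S).card ≤ i :=
      (Finset.card_le_card hsub).trans ((Multiset.toFinset_card_le _).trans ((card_roots' _).trans (by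
        rw [natDegree_map]; exact hPd)))
    have hmem : α ^ (r - 1) ∈ S := by
      by_contra h
      rw [Finset.card_insert_of_notMem h, hSc] at hle
      omega
    obtain ⟨k, hk, hkα⟩ := Finset.mem_image.1 hmem
    have hm1 := hcongr _ _ hkα
    push_cast [Nat.cast_sub hr'.out.one_lt.le] at hm1
    rw [ZMod.natCast_self, zero_sub] at hm1
    have hk2 : (q : ZMod r) ^ (2 * k) = 1 := by rw [mul_comm, pow_mul, hm1]; ring
    have hord : orderOf (q : ZMod r) = i := rfl
    have hik : i ∣ 2 * k := hord ▸ orderOf_dvd_of_pow_eq_one hk2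
    have hik' : i ∣ k := (Nat.Coprime.dvd_mul_left (Nat.coprime_two_right.2 hodd)).1 hik
    obtain ⟨t, rfl⟩ := hik'
    rw [← hord, pow_mul, pow_orderOf_eq_one, one_pow] at hm1
    have h20 : ((2 : ℕ) : ZMod r) = 0 := by push_cast; linear_combination hm1
    exact hr2 ((Nat.prime_dvd_prime_iff_eq hr'.out Nat.prime_two).1 ((ZMod.natCast_eq_zero_iff _ _).1 h20))

/-- When the order of `q` is not a multiple of four, some element of order `r` has no conjugate commuting
with the structure. -/
theorem exists_no_commute_semisimple (hQ : (polarBilin Q).Nondegenerate) (hδ : ¬ IsSquare δ) (hJ : IsJ Q δ J)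
    (hr : (r : F) ≠ 0) (hr2 : r ≠ 2) (hi : ¬ 4 ∣ ordq F r) (hdvd : r ∣ Nat.card (oGroup Q)) :
    ∃ x : oGroup Q, x ^ r = 1 ∧ x ≠ 1 ∧
      ∀ h : oGroup Q, ¬ ∀ u, (h⁻¹ * x * h).1 (J u) = J ((h⁻¹ * x * h).1 u) := by
  have hT : Ndg (polarBilin Q) (⊤ : Submodule F V) := ndg_top_iff.2 hQ
  have hi0 := ordq_pos (F := F) hr
  set b := blockDim (ordq F r) with hb
  have hbpos : 0 < b := by rw [hb]; unfold blockDim; split <;> omega
  obtain ⟨s, hs0, hsle, hseq⟩ := room_of_dvd hT hr hr2 hdvd
  obtain ⟨W, hW, -, hWd, hWt⟩ := exists_sub_type' hT (blockDim_even (ordq F r)) (blkType (ordq F r) 1)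
    (by rw [finrank_top]; exact le_trans (Nat.le_mul_of_pos_left b hs0) hsle)
    (fun h => by omega) (fun h => by
      rw [finrank_top] at h
      have : s = 1 := by nlinarith
      subst this
      exact hseq (by rw [one_mul, h]))
  obtain ⟨g, hg, hgf⟩ := exists_fpf_on hT hr hr2 1 W hW (by rw [one_mul, hWd]) hWt
  have hmov : finrank F (movS g.1.toLinearMap) = b := by
    have h1 := fix_add_mov (f := g.1.toLinearMap)
    obtain ⟨-, -, h2, -⟩ := exists_split (T := ⊤) polar_refl hW le_top
    rw [top_inf_eq, finrank_top, hWd] at h2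
    rw [hgf] at h1
    omega
  refine ⟨g, hg, fun h1 => ?_, fun h hc => ?_⟩
  · subst h1
    have : movS (1 : oGroup Q).1.toLinearMap = ⊥ := by
      rw [movS, LinearMap.range_eq_bot]; ext v; simp
    rw [this, finrank_bot] at hmov
    omega
  · refine block_no_commute hδ hJ (orthPack_of_elt hT (g := h⁻¹ * g * h)
      (by rw [← conj_pow_eq, hg]; simp)) hr hr2 hi ?_ hc
    rw [← hb, ← hmov]
    have e : (movS g.1.toLinearMap).map h⁻¹.1.toLinearMap = movS (h⁻¹ * g * h).1.toLinearMap := by
      ext v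
      constructor
      · rintro ⟨_, ⟨w, rfl⟩, rfl⟩
        refine ⟨h⁻¹.1 w, ?_⟩
        show h⁻¹.1 (g.1 (h.1 (h⁻¹.1 w))) - h⁻¹.1 w = h⁻¹.1 (g.1 w - w)
        rw [map_sub, show h.1 (h⁻¹.1 w) = w from h.1.apply_symm_apply w]
      · rintro ⟨w, rfl⟩
        refine ⟨g.1 (h.1 w) - h.1 w, ⟨h.1 w, rfl⟩, ?_⟩
        show h⁻¹.1 (g.1 (h.1 w) - h.1 w) = h⁻¹.1 (g.1 (h.1 w)) - w
        rw [map_sub, show h⁻¹.1 (h.1 w) = w from h.1.symm_apply_apply w]
    rw [← e]
    exact (Submodule.equivMapOfInjective _ h⁻¹.1.injective _).finrank_eq.symm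
where
  conj_pow_eq {G : Type _} [Group G] {g h : G} {k : ℕ} : h⁻¹ * g ^ k * h = (h⁻¹ * g * h) ^ k := by
    induction k with
    | zero => simp
    | succ k ih => rw [pow_succ, pow_succ, ← ih]; group

/-- In the defining characteristic a Siegel element has no conjugate commuting with the structure. -/
theorem exists_no_commute_unipotent (hQ : (polarBilin Q).Nondegenerate) (hδ : ¬ IsSquare δ) (hJ : IsJ Q δ J)
    (hr : (r : F) = 0) (hd : 8 ≤ finrank F V) :
    ∃ x : oGroup Q, x ^ r = 1 ∧ x ≠ 1 ∧
      ∀ h : oGroup Q, ¬ ∀ u, (h⁻¹ * x * h).1 (J u) = J ((h⁻¹ * x * h).1 u) := by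
  have h2 := two_ne_zero_of_nsq hδ
  have hT : Ndg (polarBilin Q) (⊤ : Submodule F V) := ndg_top_iff.2 hQ
  obtain ⟨e, -, he0, he⟩ := exists_sing_sub hT (by rw [finrank_top]; omega)
  obtain ⟨f, -, hf, hef⟩ := exists_hyp_pair hT Submodule.mem_top he0 he
  obtain ⟨hn, hn2, -⟩ := hyp_plane_ndg he hf hef
  obtain ⟨-, -, hsum, hn'⟩ := exists_split (T := ⊤) polar_refl hn le_top
  rw [finrank_top] at hsum
  obtain ⟨c, hc, hc0, hQc⟩ := exists_sing_sub (hn' hT) (by omega)
  obtain ⟨f', hf', -, hcf'⟩ := exists_hyp_pair (hn' hT) hc hc0 hQc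
  have hec : polarBilin Q e c = 0 := mem_perp.1 hc.2 e (mem_pair.2 ⟨1, 0, by simp⟩)
  have hfc : polarBilin Q f c = 0 := mem_perp.1 hc.2 f (mem_pair.2 ⟨0, 1, by simp⟩)
  have hef' : polarBilin Q e f' = 0 := mem_perp.1 hf'.2 e (mem_pair.2 ⟨1, 0, by simp⟩)
  have hec' : polar Q e c = 0 := hec
  have hpow : ∀ n : ℕ, siegel Q e c ^ n = siegel Q e ((n : F) • c) := by
    intro n
    induction n with
    | zero => rw [pow_zero, Nat.cast_zero, zero_smul, siegel_zero he]
    | succ n ih =>
      rw [pow_succ, ih, siegel_mul he (by rw [polar_smul_right, hec', smul_zero]) hec', Nat.cast_succ,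
        add_smul, one_smul]
  refine ⟨siegel Q e c, by rw [hpow, hr, zero_smul, siegel_zero he], fun h1 => hc0 ?_, fun h hcm => ?_⟩
  · have e1 := congrArg (fun g : oGroup Q => g.1 f) h1
    change (siegel Q e c).1 f = f at e1
    rw [siegel_apply he hec', ← polarBilin_apply_apply, ← polarBilin_apply_apply, hfc,
      polar_swap f e, hef, hQc, one_smul, zero_mul, add_zero, zero_smul, sub_zero] at e1
    exact (add_eq_left.1 e1)
  · have hconj : h⁻¹ * siegel Q e c * h = siegel Q (h⁻¹.1 e) (h⁻¹.1 c) := by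
      have := siegel_conj h⁻¹ he hec'
      rwa [inv_inv] at this
    rw [hconj] at hcm
    set e₁ := h⁻¹.1 e
    set c₁ := h⁻¹.1 c
    set u₁ := h⁻¹.1 f
    set u₂ := h⁻¹.1 f'
    have he₁ : Q e₁ = 0 := by rw [h⁻¹.2, he]
    have hec₁ : polar Q e₁ c₁ = 0 := by rw [polar_oGroup, hec']
    have hQc₁ : Q c₁ = 0 := by rw [h⁻¹.2, hQc]
    have hact : ∀ u, (siegel Q e₁ c₁).1 u = u + (polarBilin Q e₁ u • c₁ - polarBilin Q c₁ u • e₁) := by
      intro u
      rw [siegel_apply he₁ hec₁, hQc₁, zero_mul, add_zero, ← polarBilin_apply_apply,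
        ← polarBilin_apply_apply, polar_swap u e₁, polar_swap u c₁, add_sub_assoc]
    have hN : ∀ u, polarBilin Q e₁ (J u) • c₁ - polarBilin Q c₁ (J u) • e₁ =
        polarBilin Q e₁ u • J c₁ - polarBilin Q c₁ u • J e₁ := fun u => by
      have := hcm u
      rw [hact, hact, map_add, map_sub, map_smul, map_smul] at this
      exact add_left_cancel this
    have a1 : polarBilin Q e₁ u₁ = 1 := (bilin_isom h⁻¹ e f).trans hef
    have a2 : polarBilin Q c₁ u₁ = 0 := (bilin_isom h⁻¹ c f).trans ((polar_swap c f).trans hfc)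
    have a3 : polarBilin Q e₁ u₂ = 0 := (bilin_isom h⁻¹ e f').trans hef'
    have a4 : polarBilin Q c₁ u₂ = 1 := (bilin_isom h⁻¹ c f').trans hcf'
    have a5 : polarBilin Q e₁ e₁ = 0 := by rw [polar_self', he₁, mul_zero]
    have a6 : polarBilin Q e₁ c₁ = 0 := hec₁
    have a7 : polarBilin Q c₁ c₁ = 0 := by rw [polar_self', hQc₁, mul_zero]
    have a8 : polarBilin Q c₁ e₁ = 0 := polar_refl _ _ a6
    have k1 := hN u₁
    rw [a1, a2, one_smul, zero_smul, sub_zero] at k1
    have k2 := hN u₂
    rw [a3, a4, zero_smul, one_smul, zero_sub] at k2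
    set A := polarBilin Q e₁ (J u₁) with hA
    set B := polarBilin Q c₁ (J u₁) with hB
    set C := polarBilin Q e₁ (J u₂) with hC
    set D := polarBilin Q c₁ (J u₂) with hD
    have k2' : J e₁ = D • e₁ - C • c₁ := by rw [← neg_inj, ← k2]; abel
    have eA : A = D := by
      rw [hA, ← hJ.sa, k2']; simp [a1, a2]
    have eB : B = -B := by
      conv_lhs => rw [hB, ← hJ.sa, ← k1]
      simp [a1, a2]
    have hB0 : B = 0 := eq_zero_of_two h2 eB
    rw [hB0, zero_smul, sub_zero] at k1
    have hsq := hJ.sq c₁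
    rw [← k1, map_smul, ← k1, smul_smul] at hsq
    have hc₁ : c₁ ≠ 0 := fun hh => by rw [hh, map_zero, LinearMap.zero_apply] at a4; exact zero_ne_one a4
    exact hδ ⟨A, (smul_left_injective F hc₁ hsq).symm⟩

end CfsgLib.Elusive2
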