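import Cfsg.Agent.Elusive2.OrthCrit
import Cfsg.Prelude.Def_GeometricClasses

/-!
From matrices to isometry groups of the standard orthogonal spaces.
-/

set_option autoImplicit false
set_option linter.unusedSectionVars false

namespace CfsgLib.Elusive2

open Module QuadraticMap CfsgLib.Elusive CfsgLib.Quad Matrix

variable {F : Type*} [Field F] [Fintype F] {ι : Type} [Fintype ι] [DecidableEq ι] {Q : QuadraticForm F (ι → F)}

theorem ndgOn_iff (W : Submodule F (ι → F)) :
    Cfsg.Geo.IsNondegenerateOn (polar ⇑Q) W ↔ Ndg (polarBilin Q) W := by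
  refine ⟨fun h u hu h0 => ?_, fun h w hw h0 => ?_⟩
  · exact (h u hu h0).2
  · obtain ⟨v, hv, hne⟩ := h w hw h0
    exact ⟨⟨v, hv, fun e => hne ((polar_swap w v).trans e)⟩, v, hv, hne⟩

theorem plusOn_iff (W : Submodule F (ι → F)) : Cfsg.Geo.IsPlusTypeOn ⇑Q W ↔ IsPlus Q W :=
  ⟨fun ⟨U, h1, h2, h3⟩ => ⟨U, h1, h2, h3⟩, fun ⟨U, h1, h2, h3⟩ => ⟨U, h1, h2, h3⟩⟩

theorem isometricFor_iff (W W' : Submodule F (ι → F)) :
    Cfsg.Geo.AreIsometricFor ⇑Q W W' ↔ ∃ e : W ≃ₗ[F] W', ∀ w : W, Q (e w) = Q w := Iff.rfl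

/-- A matrix of the group as an isometry. -/
theorem exists_elt {x : GL ι F} (hx : x ∈ Cfsg.Geo.omegaGL ⇑Q) :
    ∃ g : oGroup Q, g ∈ commutator (oGroup Q) ∧ ∀ v, (x : Matrix ι ι F) *ᵥ v = g.1 v := by
  obtain ⟨y, hy, rfl⟩ := hx
  exact ⟨isoGroupEquiv Q y, (mem_omega_iff Q y).1 hy, fun v => rfl⟩

/-- An isometry in the commutator subgroup as a matrix. -/
theorem exists_matrix {g : oGroup Q} (hg : g ∈ commutator (oGroup Q)) :
    ∃ x : GL ι F, x ∈ Cfsg.Geo.omegaGL ⇑Q ∧ (∀ v, (x : Matrix ι ι F) *ᵥ v = g.1 v) ∧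
      (∀ k : ℕ, g ^ k = 1 → x ^ k = 1) ∧ (x = 1 → g = 1) := by
  obtain ⟨y, rfl⟩ := (isoGroupEquiv Q).surjective g
  refine ⟨y, ⟨y, (mem_omega_iff Q y).2 hg, rfl⟩, fun v => rfl, fun k hk => ?_, fun h => ?_⟩
  · rw [← SubmonoidClass.coe_pow, (isoGroupEquiv Q).injective (by rw [map_pow, map_one, hk] : isoGroupEquiv Q (y ^ k) = isoGroupEquiv Q 1)]
    rfl
  · rw [show y = 1 from Subtype.ext h, map_one]

theorem map_le_iff {g : oGroup Q} {x : GL ι F} (hv : ∀ v, (x : Matrix ι ι F) *ᵥ v = g.1 v)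
    (W : Submodule F (ι → F)) :
    W.map (Matrix.toLin' (x : Matrix ι ι F)) ≤ W ↔ Inv g.1.toLinearMap W := by
  constructor
  · intro h w hw
    rw [show g.1.toLinearMap w = Matrix.toLin' (x : Matrix ι ι F) w from ((Matrix.toLin'_apply _ w).trans (hv w)).symm]
    exact h ⟨w, hw, rfl⟩
  · rintro h _ ⟨w, hw, rfl⟩
    rw [Matrix.toLin'_apply, hv]
    exact h w hw

/-- Elements with `x ^ r` scalar. -/
theorem forall_scalar_iff [Nonempty ι] (hQ : (polarBilin Q).Nondegenerate)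
    (hgen : (∃ t : F, t ≠ 0 ∧ t ≠ 1) ∨ finrank F (ι → F) ≠ 4) {r : ℕ} [hr' : Fact r.Prime] (hr2 : r ≠ 2)
    (P : Submodule F (ι → F) → Prop) :
    (∀ x : GL ι F, x ∈ Cfsg.Geo.omegaGL ⇑Q →
      (∃ z : F, ((x ^ r : GL ι F) : Matrix ι ι F) = z • (1 : Matrix ι ι F)) →
      (∀ z : F, (x : Matrix ι ι F) ≠ z • (1 : Matrix ι ι F)) →
      ∃ W : Submodule F (ι → F), P W ∧ W.map (Matrix.toLin' (x : Matrix ι ι F)) ≤ W) ↔
    ∀ g : oGroup Q, g ^ r = 1 → g ≠ 1 → ∃ W, P W ∧ Inv g.1.toLinearMap W := by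
  obtain ⟨v₀, hv₀⟩ : ∃ v, Q v ≠ 0 := by
    by_contra hc
    push Not at hc
    obtain ⟨i⟩ := ‹Nonempty ι›
    have h := hQ.1 (Pi.single i 1) fun y => by
      rw [polarBilin_apply_apply, polar, hc, hc, hc]; ring
    simpa using congrFun h i
  obtain ⟨j, hj⟩ := hr'.out.odd_of_ne_two hr2
  have hsq : ∀ {g : oGroup Q} {z : F}, (∀ v, g.1 v = z • v) → z * z = 1 := fun {g z} h => by
    have := g.2 v₀
    rw [h, QuadraticMap.map_smul, smul_eq_mul] at this
    exact mul_right_cancel₀ hv₀ (this.trans (one_mul _).symm)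
  constructor
  · intro h g hg hg1
    obtain ⟨x, hx, hv, hk, hone⟩ := exists_matrix (mem_commutator_of_odd hQ hgen hg hr2)
    have hns : ∀ z : F, (x : Matrix ι ι F) ≠ z • (1 : Matrix ι ι F) := fun z hz => by
      have hgz : ∀ v, g.1 v = z • v := fun v => by rw [← hv, hz, Matrix.smul_mulVec, Matrix.one_mulVec]
      have h2 := hsq hgz
      have h3 : ∀ m, ∀ v, (g ^ m).1 v = z ^ m • v := fun m => by
        induction m with
        | zero => intro v; simp
        | succ m ih => intro v; rw [pow_succ, pow_succ]; show (g ^ m).1 (g.1 v) = _; rw [ih, hgz, smul_smul]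
      have h4 : z ^ r = 1 := by
        have := h3 r v₀
        rw [hg] at this
        have h5 : (z ^ r - 1) • v₀ = 0 := by rw [sub_smul, one_smul, ← this]; exact sub_self _
        exact sub_eq_zero.1 ((smul_eq_zero.1 h5).resolve_right fun e => hv₀ (by rw [e, QuadraticMap.map_zero]))
      rw [hj, pow_succ, pow_mul, pow_two, h2, one_pow, one_mul] at h4
      exact hg1 (Subtype.ext (LinearEquiv.ext fun v => by rw [hgz, h4, one_smul]; rfl))
    obtain ⟨W, hW, hle⟩ := h x hx ⟨1, by rw [hk r hg, one_smul]; rfl⟩ hns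
    exact ⟨W, hW, (map_le_iff hv W).1 hle⟩
  · rintro h x hx ⟨z, hz⟩ hns
    obtain ⟨g, -, hv⟩ := exists_elt hx
    have hpow : ∀ m : ℕ, ∀ v, ((x ^ m : GL ι F) : Matrix ι ι F) *ᵥ v = (g ^ m).1 v := fun m => by
      induction m with
      | zero => intro v; simp
      | succ m ih =>
        intro v
        rw [pow_succ, Units.val_mul, ← Matrix.mulVec_mulVec, ih, hv, pow_succ]
        rfl
    have hgr : ∀ v, (g ^ r).1 v = z • v := fun v => by
      rw [← hpow, hz, Matrix.smul_mulVec, Matrix.one_mulVec]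
    have h2 := hsq hgr
    have hz0 : z ≠ 0 := fun e => by rw [e, zero_mul] at h2; exact zero_ne_one h2
    let g' : oGroup Q := ⟨LinearEquiv.smulOfUnit (Units.mk0 z hz0) * g.1, fun v => by
      show Q (z • g.1 v) = Q v
      rw [QuadraticMap.map_smul, g.2, h2, one_smul]⟩
    have hg'm : ∀ m, ∀ v, (g' ^ m).1 v = z ^ m • (g ^ m).1 v := fun m => by
      induction m with
      | zero => intro v; simp
      | succ m ih =>
        intro v
        rw [pow_succ, pow_succ, pow_succ]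
        show (g' ^ m).1 (z • g.1 v) = _
        rw [ih, map_smul, smul_smul]
        rfl
    have hg'r : g' ^ r = 1 := Subtype.ext (LinearEquiv.ext fun v => by
      rw [hg'm, hgr, smul_smul, hj, pow_succ, mul_assoc, h2, mul_one, pow_mul, pow_two, h2, one_pow, one_smul]
      rfl)
    have hg'1 : g' ≠ 1 := fun e => hns z (Matrix.ext_of_mulVec_single fun i => by
      rw [hv, Matrix.smul_mulVec, Matrix.one_mulVec]
      have h5 : z • g.1 (Pi.single i 1) = Pi.single i 1 :=
        (congrArg (fun k : oGroup Q => k.1 (Pi.single i 1)) e : _)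
      have h6 := congrArg (z • ·) h5
      simp only [smul_smul, h2, one_smul] at h6
      exact h6)
    obtain ⟨W, hW, hinv⟩ := h g' hg'r hg'1
    refine ⟨W, hW, (map_le_iff hv W).2 fun w hw => ?_⟩
    have h3 : z • g.1 w ∈ W := hinv w hw
    have h4 := W.smul_mem z h3
    rwa [smul_smul, h2, one_smul] at h4

/-- Elements of order `r`. -/
theorem forall_order_iff (hQ : (polarBilin Q).Nondegenerate)
    (hgen : (∃ t : F, t ≠ 0 ∧ t ≠ 1) ∨ finrank F (ι → F) ≠ 4) {r : ℕ} [hr' : Fact r.Prime] (hr2 : r ≠ 2)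
    (P : Submodule F (ι → F) → Prop) :
    (∀ x : GL ι F, x ∈ Cfsg.Geo.omegaGL ⇑Q → orderOf x = r →
      ∃ W : Submodule F (ι → F), P W ∧ W.map (Matrix.toLin' (x : Matrix ι ι F)) ≤ W) ↔
    ∀ g : oGroup Q, g ^ r = 1 → g ≠ 1 → ∃ W, P W ∧ Inv g.1.toLinearMap W := by
  constructor
  · intro h g hg hg1
    obtain ⟨x, hx, hv, hk, hone⟩ := exists_matrix (mem_commutator_of_odd hQ hgen hg hr2)
    obtain ⟨W, hW, hle⟩ := h x hx (orderOf_eq_prime (hk r hg) fun e => hg1 (hone e))
    exact ⟨W, hW, (map_le_iff hv W).1 hle⟩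
  · intro h x hx ho
    obtain ⟨y, hy, rfl⟩ := hx
    have ho' : orderOf y = r := by rw [← ho]; exact (orderOf_injective _ Subtype.val_injective y).symm
    have hyr : isoGroupEquiv Q y ^ r = 1 := by rw [← map_pow, ← ho', pow_orderOf_eq_one, map_one]
    have hy1 : isoGroupEquiv Q y ≠ 1 := fun e => by
      rw [(isoGroupEquiv Q).injective (e.trans (map_one _).symm), orderOf_one] at ho'
      exact hr'.out.one_lt.ne ho'
    obtain ⟨W, hW, hinv⟩ := h _ hyr hy1
    exact ⟨W, hW, (map_le_iff (fun v => rfl) W).2 hinv⟩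

/-- Involutions in odd dimension fix a subspace of each type. -/
theorem exists_fix_involution {V : Type*} [AddCommGroup V] [Module F V] [FiniteDimensional F V]
    {Q : QuadraticForm F V} (h2 : (2 : F) ≠ 0) (hQ : (polarBilin Q).Nondegenerate) (hn : Odd (finrank F V))
    {f : V →ₗ[F] V} (hfQ : ∀ v, Q (f v) = Q v) (hf : ∀ v, f (f v) = v) {m : ℕ} (hm : Even m) (hm0 : 0 < m)
    (hmn : m < finrank F V) (τ : Prop) :
    ∃ W : Submodule F V, (finrank F W = m ∧ Ndg (polarBilin Q) W ∧ (IsPlus Q W ↔ τ)) ∧ Inv f W := by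
  set A := LinearMap.ker (f - 1)
  set C := LinearMap.ker (f + 1)
  have hA : ∀ v ∈ A, f v = v := fun v hv => sub_eq_zero.1 (LinearMap.mem_ker.1 hv)
  have hC : ∀ v ∈ C, f v = -v := fun v hv => eq_neg_of_add_eq_zero_left (LinearMap.mem_ker.1 hv)
  have horth : ∀ a ∈ A, ∀ c ∈ C, polarBilin Q a c = 0 := fun a ha c hc => by
    have h : polarBilin Q (f a) (f c) = polarBilin Q a c := by
      simp only [polarBilin_apply_apply, polar, ← map_add, hfQ]
    rw [hA a ha, hC c hc, map_neg] at h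
    exact (mul_eq_zero.1 (by linear_combination -h : (2 : F) * polarBilin Q a c = 0)).resolve_left h2
  have hdec : ∀ v, ((2 : F)⁻¹ • (v + f v) ∈ A ∧ (2 : F)⁻¹ • (v - f v) ∈ C) ∧
      v = (2 : F)⁻¹ • (v + f v) + (2 : F)⁻¹ • (v - f v) := fun v => by
    refine ⟨⟨LinearMap.mem_ker.2 ?_, LinearMap.mem_ker.2 ?_⟩, ?_⟩
    · simp [hf, smul_add]; abel
    · simp [hf, smul_sub]
    · rw [← smul_add, show v + f v + (v - f v) = (2 : F) • v by rw [two_smul]; abel, smul_smul,
        inv_mul_cancel₀ h2, one_smul]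
  have hsup : A ⊔ C = ⊤ := eq_top_iff.2 fun v _ =>
    Submodule.mem_sup.2 ⟨_, (hdec v).1.1, _, (hdec v).1.2, (hdec v).2.symm⟩
  have hinf : A ⊓ C = ⊥ := (Submodule.eq_bot_iff _).2 fun v hv => by
    have h := (hA v hv.1).symm.trans (hC v hv.2)
    have : (2 : F) • v = 0 := by rw [two_smul]; nth_rewrite 1 [h]; exact neg_add_cancel v
    exact (smul_eq_zero.1 this).resolve_left h2
  have hndg : ∀ {X Y : Submodule F V}, X ⊔ Y = ⊤ → (∀ x ∈ X, ∀ y ∈ Y, polarBilin Q x y = 0) →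
      Ndg (polarBilin Q) X := by
    intro X Y hs ho u hu h0
    obtain ⟨v, -, hne⟩ := ndg_top_iff.2 hQ u trivial h0
    obtain ⟨x, hx, y, hy, rfl⟩ := Submodule.mem_sup.1 (hs.symm ▸ Submodule.mem_top : v ∈ X ⊔ Y)
    exact ⟨x, hx, by rwa [map_add, ho u hu y hy, add_zero] at hne⟩
  have hsum : finrank F A + finrank F C = finrank F V := by
    have := Submodule.finrank_sup_add_finrank_inf_eq A C
    rw [hsup, hinf, finrank_bot, finrank_top] at this
    omega
  have hne : finrank F A ≠ finrank F C := fun e => Nat.not_odd_iff_even.2 ⟨_, by rw [← hsum, e]⟩ hn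
  obtain ⟨T, hTn, hTinv, hTd⟩ : ∃ T, Ndg (polarBilin Q) T ∧ (∀ X ≤ T, Inv f X) ∧
      finrank F V < 2 * finrank F T := by
    rcases Nat.lt_or_ge (finrank F A) (finrank F C) with h | h
    · exact ⟨C, hndg ((sup_comm _ _).trans hsup) fun x hx y hy => (polar_swap x y).trans (horth y hy x hx),
        fun X hX x hx => by rw [hC x (hX hx)]; exact X.neg_mem hx, by omega⟩
    · exact ⟨A, hndg hsup horth, fun X hX x hx => by rwa [hA x (hX hx)], by omega⟩
  rcases Nat.lt_or_ge m (finrank F T) with hlt | hge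
  · obtain ⟨W, h1, h2', h3, h4⟩ := exists_sub_type' hTn hm τ (by omega) (fun h => by omega) fun h => by omega
    exact ⟨W, ⟨h3, h1, h4⟩, hTinv W h2'⟩
  · obtain ⟨W', hW'n, -, hW'd, hW'p⟩ := exists_sub_type' (ndg_top_iff.2 hQ) hm τ (by rw [finrank_top]; omega)
      (fun h => by omega) fun h => by rw [finrank_top] at h; omega
    obtain ⟨hs', hi', hd', hnd'⟩ := exists_split (T := ⊤) polar_refl hW'n le_top
    rw [finrank_top, top_inf_eq] at hd'
    rw [top_inf_eq] at hs' hi' hnd'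
    obtain ⟨X, hXT, hXn, e, he⟩ := exists_copy (Z := perp (polarBilin Q) W') (hnd' (ndg_top_iff.2 hQ))
      (by
        have h5 := hn
        rw [← hd', hW'd, Nat.odd_add] at h5
        by_contra h6
        exact Nat.not_odd_iff_even.2 hm (h5.2 (Nat.not_odd_iff_even.1 h6))) hTn (by omega)
    obtain ⟨g, hg⟩ := exists_map_subspace hQ e.symm (fun z => by
      conv_rhs => rw [← e.apply_symm_apply z]
      exact (he _).symm)
    refine ⟨W'.map g.1.toLinearMap, (isClass_type (Q := Q) hm τ).map g W' ⟨hW'd, hW'n, hW'p⟩, ?_⟩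
    have hWeq : W'.map g.1.toLinearMap = perp (polarBilin Q) X := by
      refine Submodule.eq_of_le_of_finrank_le ?_ ?_
      · rintro _ ⟨w, hw, rfl⟩
        refine mem_perp.2 fun x hx => ?_
        rw [← hg] at hx
        obtain ⟨z, hz, rfl⟩ := hx
        show polarBilin Q (g.1 z) (g.1 w) = 0
        rw [polarBilin_apply_apply, polar_oGroup, ← polarBilin_apply_apply, polar_swap]
        exact mem_perp.1 hz w hw
      · obtain ⟨-, -, hd'', -⟩ := exists_split (T := ⊤) polar_refl hXn le_top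
        rw [finrank_top, top_inf_eq] at hd''
        rw [LinearEquiv.finrank_map_eq, hW'd]
        have h7 := e.finrank_eq
        omega
    rw [hWeq]
    intro v hv
    refine mem_perp.2 fun x hx => ?_
    have h8 : f (f x) = x := hf x
    rw [← h8, show polarBilin Q (f (f x)) (f v) = polarBilin Q (f x) v by
      simp only [polarBilin_apply_apply, polar, ← map_add, hfQ]]
    exact mem_perp.1 hv _ (hTinv X hXT x hx)

end CfsgLib.Elusive2
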