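import Cfsg.Agent.Elusive2.OrthExtInvol
import Cfsg.Agent.Elusive2.OrthExtOdd
import Cfsg.Agent.Elusive2.OrthExtIndex
import Cfsg.Agent.Elusive2.OrthStd
import Cfsg.Agent.Elusive.ExtField

/-!
Elements of prime order and the normalisers of self-adjoint quadratic fields in orthogonal groups.
-/

set_option autoImplicit false
set_option linter.unusedSectionVars false

namespace CfsgLib.Elusive2

open Module QuadraticMap CfsgLib.Elusive CfsgLib.Quad Matrix Cfsg.Geo

variable {F : Type*} [Field F] [Fintype F] {ι : Type} [Fintype ι] [DecidableEq ι]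

/-- A matrix of the group acts as the corresponding isometry. -/
theorem act_mul {Q : QuadraticForm F (ι → F)} {x y : GL ι F} {g h : oGroup Q}
    (hx : ∀ v, (x : Matrix ι ι F) *ᵥ v = g.1 v) (hy : ∀ v, (y : Matrix ι ι F) *ᵥ v = h.1 v) (v : ι → F) :
    ((x * y : GL ι F) : Matrix ι ι F) *ᵥ v = (g * h).1 v := by
  rw [Units.val_mul, ← Matrix.mulVec_mulVec, hy, hx]; rfl

theorem act_inv {Q : QuadraticForm F (ι → F)} {x : GL ι F} {g : oGroup Q}
    (hx : ∀ v, (x : Matrix ι ι F) *ᵥ v = g.1 v) (v : ι → F) :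
    ((x⁻¹ : GL ι F) : Matrix ι ι F) *ᵥ v = g⁻¹.1 v := by
  conv_lhs => rw [show v = (x : Matrix ι ι F) *ᵥ (g⁻¹.1 v) from ((hx _).trans (g.1.apply_symm_apply v)).symm,
    Matrix.mulVec_mulVec, Units.inv_mul, Matrix.one_mulVec]

/-- Conjugation by a matrix of the group. -/
theorem act_conj {Q : QuadraticForm F (ι → F)} {x y : GL ι F} {g h : oGroup Q}
    (hx : ∀ v, (x : Matrix ι ι F) *ᵥ v = g.1 v) (hy : ∀ v, (y : Matrix ι ι F) *ᵥ v = h.1 v) (v : ι → F) :
    ((y⁻¹ * x * y : GL ι F) : Matrix ι ι F) *ᵥ v = (h⁻¹ * g * h).1 v :=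
  act_mul (act_mul (act_inv hy) hx) hy v

/-- Elements of order `r` and the normaliser of a self-adjoint quadratic field. -/
theorem orth_ext_field_iff (hodd : Odd (Fintype.card F)) (Q : QuadraticForm F (ι → F))
    (hQ : (polarBilin Q).Nondegenerate) {d : ℕ} (hdim : finrank F (ι → F) = 2 * d) (hd : 4 ≤ d)
    (K : Subalgebra F (Matrix ι ι F)) (hK : IsFieldSubalgebra 2 K) (hKf : IsSelfAdjointFor (polar ⇑Q) K)
    (r : ℕ) [hr' : Fact r.Prime] (hΩ : r ∣ (subalgebraNormalizer K).relIndex (omegaGL ⇑Q)) :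
    (∀ x ∈ omegaGL ⇑Q, (∃ z : F, ((x ^ r : GL ι F) : Matrix ι ι F) = z • (1 : Matrix ι ι F)) →
      (∀ z : F, (x : Matrix ι ι F) ≠ z • (1 : Matrix ι ι F)) →
      ∃ g ∈ omegaGL ⇑Q, g⁻¹ * x * g ∈ subalgebraNormalizer K) ↔ r = 2 := by
  classical
  have h2 : (2 : F) ≠ 0 := fun e => by
    have hch : ringChar F = 2 := CharP.ringChar_of_prime_eq_zero Nat.prime_two (by exact_mod_cast e)
    have := FiniteField.even_card_iff_char_two.1 hch
    rw [Nat.odd_iff] at hodd
    omega
  haveI : Nonempty ι := by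
    by_contra h
    rw [not_nonempty_iff] at h
    rw [finrank_fintype_fun_eq_card, Fintype.card_eq_zero] at hdim
    omega
  have hgen : (∃ t : F, t ≠ 0 ∧ t ≠ 1) ∨ finrank F (ι → F) ≠ 4 := Or.inr (by omega)
  -- the generator
  obtain ⟨j₀, hj₀, β, α₀, hjj₀, hroot, hspan₀⟩ := exists_generator hK
  set j := j₀ - (β / 2) • (1 : Matrix ι ι F) with hjdef
  set δ := α₀ + β ^ 2 / 4 with hδdef
  have h4 : (4 : F) ≠ 0 := by rw [show (4 : F) = 2 * 2 by norm_num]; exact mul_ne_zero h2 h2
  have hjK : j ∈ K := sub_mem hj₀ (Subalgebra.smul_mem _ (one_mem _) _)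
  have hjj : j * j = δ • 1 := by
    simp only [hjdef, sub_mul, mul_sub, hjj₀, smul_mul_assoc, mul_smul_comm, one_mul, mul_one, smul_smul, hδdef]
    match_scalars <;> field_simp <;> ring
  have hδ : ¬ IsSquare δ := fun ⟨c, hc⟩ => hroot (c + β / 2) (by
    rw [hδdef] at hc
    field_simp at hc ⊢
    linear_combination -hc)
  have hδ0 : δ ≠ 0 := fun h => hδ (h ▸ IsSquare.zero)
  have hspan : ∀ k ∈ K, ∃ a b : F, k = a • 1 + b • j := fun k hk => by
    obtain ⟨a, b, rfl⟩ := hspan₀ k hk
    exact ⟨a + b * (β / 2), b, by rw [hjdef]; module⟩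
  set J := Matrix.toLin' j with hJdef
  have hJv : ∀ v, J v = j *ᵥ v := fun v => Matrix.toLin'_apply j v
  have hJ : IsJ Q δ J := ⟨fun u v => by rw [hJv, hJv]; exact hKf j hjK u v, fun v => by
    rw [hJv, hJv, Matrix.mulVec_mulVec, hjj, Matrix.smul_mulVec, Matrix.one_mulVec]⟩
  -- membership in the normaliser
  have hmemN : ∀ (y : GL ι F) (g : oGroup Q) (ε : F), (∀ v, (y : Matrix ι ι F) *ᵥ v = g.1 v) →
      (∀ u, g.1 (J u) = ε • J (g.1 u)) → y ∈ subalgebraNormalizer K := fun y g ε hy hc => by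
    refine mem_normalizer_of_conj fun k hk => ?_
    obtain ⟨a, b, rfl⟩ := hspan k hk
    have e : (y : Matrix ι ι F) * j = ε • (j * (y : Matrix ι ι F)) := by
      refine Matrix.toLin'.injective (LinearMap.ext fun v => ?_)
      rw [Matrix.toLin'_apply, ← Matrix.mulVec_mulVec, map_smul, LinearMap.smul_apply, Matrix.toLin'_apply,
        ← Matrix.mulVec_mulVec, hy, hy, ← hJv, ← hJv, hc]
    have : (y : Matrix ι ι F) * (a • 1 + b • j) * ((y⁻¹ : GL ι F) : Matrix ι ι F) = a • 1 + (b * ε) • j := by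
      simp only [mul_add, add_mul, mul_smul_comm, smul_mul_assoc, mul_one, Units.mul_inv, e, smul_smul,
        mul_assoc]
    rw [this]
    exact add_mem (Subalgebra.smul_mem _ (one_mem _) _) (Subalgebra.smul_mem _ hjK _)
  have hcomm : ∀ (y : GL ι F) (g : oGroup Q), r ≠ 2 → (∀ v, (y : Matrix ι ι F) *ᵥ v = g.1 v) → g ^ r = 1 →
      y ∈ subalgebraNormalizer K → ∀ u, g.1 (J u) = J (g.1 u) := fun y g hr2 hy hg hN => by
    obtain ⟨a, b, hab⟩ := hspan _ ((hN j).1 hjK)
    have hyj : ∀ u, g.1 (J u) = a • g.1 u + b • J (g.1 u) := fun u => by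
      have := congrArg (fun M : Matrix ι ι F => M *ᵥ (g.1 u)) hab
      simp only [Matrix.add_mulVec, Matrix.smul_mulVec, Matrix.one_mulVec] at this
      rw [← Matrix.mulVec_mulVec, ← Matrix.mulVec_mulVec, act_inv hy, hy,
        show g⁻¹.1 (g.1 u) = u from g.1.symm_apply_apply u, ← hJv, ← hJv] at this
      exact this
    obtain ⟨v, hv⟩ := exists_ne (0 : ι → F)
    have hJne : ∀ c : F, J v ≠ c • v := fun c e => hδ ⟨c, by
      have e2 := hJ.sq v
      rw [e, map_smul, e, smul_smul] at e2
      exact (smul_left_injective F hv e2).symm⟩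
    obtain ⟨u, hu⟩ := g.1.surjective v
    have e1 := hyj (J u)
    rw [hJ.sq, map_smul, hyj u, map_add, map_smul, map_smul, hJ.sq, hu, smul_add, smul_add, smul_smul,
      smul_smul, smul_smul, smul_smul] at e1
    have e2 : (a * b + b * a) • J v = (δ - a * a - b * (b * δ)) • v := by
      rw [sub_smul, sub_smul, e1, add_smul]; module
    have hab0 : a * b + b * a = 0 := by
      by_contra h0
      exact hJne _ ((smul_right_injective _ h0) (e2.trans (by rw [smul_smul, mul_div_cancel₀ _ h0]) :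
        (a * b + b * a) • J v = (a * b + b * a) • (((δ - a * a - b * (b * δ)) / (a * b + b * a)) • v)))
    rw [hab0, zero_smul] at e2
    have hd0 : δ - a * a - b * (b * δ) = 0 := ((smul_eq_zero.1 e2.symm).resolve_right hv)
    have hb0 : b ≠ 0 := fun h => hδ ⟨a, by rw [h] at hd0; linear_combination hd0⟩
    have ha : a = 0 := (mul_eq_zero.1 (by linear_combination hab0 : (2 * b) * a = 0)).resolve_left
      (mul_ne_zero h2 hb0)
    subst ha
    have hb2 : b * b = 1 := mul_right_cancel₀ hδ0 (by linear_combination -hd0 : b * b * δ = 1 * δ)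
    have hgJ : ∀ u, g.1 (J u) = b • J (g.1 u) := fun u => by rw [hyj, zero_smul, zero_add]
    have hk : ∀ (n : ℕ) u, (g ^ n).1 (J u) = b ^ n • J ((g ^ n).1 u) := by
      intro n
      induction n with
      | zero => intro u; simp
      | succ n ih =>
        intro u
        rw [pow_succ']
        show g.1 ((g ^ n).1 (J u)) = _ • J (g.1 ((g ^ n).1 u))
        rw [ih, map_smul, hgJ, smul_smul, pow_succ]
    have h1 := hk r v
    rw [hg] at h1
    change J v = b ^ r • J v at h1
    obtain ⟨t, ht⟩ := hr'.out.odd_of_ne_two hr2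
    rw [ht, pow_succ, pow_mul, pow_two, hb2, one_pow, one_mul] at h1
    have hb1 : b = 1 := by
      have hJ0 : J v ≠ 0 := fun e => hJne 0 (by rw [e, zero_smul])
      exact (smul_left_injective F hJ0 ((one_smul F (J v)).trans h1 : (1 : F) • J v = b • J v)).symm
    intro u
    rw [hgJ, hb1, one_smul]
  constructor
  · intro hall
    by_contra hr2
    -- every element of order `r` has a conjugate commuting with the structure
    have hconj : ∀ g : oGroup Q, g ^ r = 1 → g ≠ 1 →
        ∃ h : oGroup Q, ∀ u, (h⁻¹ * g * h).1 (J u) = J ((h⁻¹ * g * h).1 u) := by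
      intro g hg hg1
      obtain ⟨x, hx, hv, hk, -⟩ := exists_matrix (mem_commutator_of_odd hQ hgen hg hr2)
      obtain ⟨v₀, hv₀⟩ : ∃ v, Q v ≠ 0 := by
        by_contra hc
        push Not at hc
        obtain ⟨i⟩ := ‹Nonempty ι›
        have h := hQ.1 (Pi.single i 1) fun y => by
          rw [polarBilin_apply_apply, polar, hc, hc, hc]; ring
        simpa using congrFun h i
      obtain ⟨y, hy, hyN⟩ := hall x hx ⟨1, by rw [hk r hg, one_smul, Units.val_one]⟩ fun z hz => hg1 (by
        have hgz : ∀ v, g.1 v = z • v := fun v => by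
          rw [← hv, hz, Matrix.smul_mulVec, Matrix.one_mulVec]
        have hzz : z * z = 1 := by
          have := g.2 v₀
          rw [hgz, QuadraticMap.map_smul, smul_eq_mul] at this
          exact mul_right_cancel₀ hv₀ (this.trans (one_mul _).symm)
        have hpw : ∀ n : ℕ, (g ^ n).1 v₀ = z ^ n • v₀ := by
          intro n
          induction n with
          | zero => simp
          | succ n ih =>
            rw [pow_succ']
            show g.1 ((g ^ n).1 v₀) = _
            rw [ih, map_smul, hgz, smul_smul, pow_succ]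
        have h1 := hpw r
        rw [hg] at h1
        change v₀ = z ^ r • v₀ at h1
        obtain ⟨t, ht⟩ := hr'.out.odd_of_ne_two hr2
        rw [ht, pow_succ, pow_mul, pow_two, hzz, one_pow, one_mul] at h1
        have hz1 : (1 : F) = z := smul_left_injective F
          (fun e : v₀ = 0 => hv₀ (by rw [e, QuadraticMap.map_zero])) ((one_smul F v₀).trans h1)
        exact Subtype.ext (LinearEquiv.ext fun v => (hgz v).trans (by rw [← hz1, one_smul]; rfl)))
      obtain ⟨h, -, hh⟩ := exists_elt hy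
      exact ⟨h, hcomm _ _ hr2 (act_conj hv hh)
        (by
          have e : ∀ n : ℕ, (h⁻¹ * g * h) ^ n = h⁻¹ * g ^ n * h := fun n => by
            induction n with
            | zero => simp
            | succ n ih => rw [pow_succ, pow_succ, ih]; group
          rw [e, hg]; group) hyN⟩
    by_cases hr0 : (r : F) = 0
    · obtain ⟨x, hx, hx1, hno⟩ := exists_no_commute_unipotent hQ hδ hJ hr0 (by omega)
      obtain ⟨h, hh⟩ := hconj x hx hx1
      exact hno h hh
    · -- the order of the group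
      have hfin : Finite (oGroup Q) := finite_oGroup
      let φ : omegaGL ⇑Q → oGroup Q := fun x => (exists_elt x.2).choose
      have hφ : ∀ (x : omegaGL ⇑Q) v, (x.1 : Matrix ι ι F) *ᵥ v = (φ x).1 v := fun x =>
        (exists_elt x.2).choose_spec.2
      have hφC : ∀ x : omegaGL ⇑Q, φ x ∈ commutator (oGroup Q) := fun x => (exists_elt x.2).choose_spec.1
      have hext : ∀ a b : oGroup Q, (∀ v, a.1 v = b.1 v) → a = b := fun a b h =>
        Subtype.ext (LinearEquiv.ext h)
      let Φ : omegaGL ⇑Q →* oGroup Q :=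
        { toFun := φ
          map_one' := hext _ _ fun v => by rw [← hφ, OneMemClass.coe_one, Units.val_one, Matrix.one_mulVec]; rfl
          map_mul' := fun a b => hext _ _ fun v => (hφ (a * b) v).symm.trans (act_mul (hφ a) (hφ b) v) }
      have hΦ : Function.Injective Φ := fun a b h => Subtype.ext (Units.ext (Matrix.toLin'.injective
        (LinearMap.ext fun v => by
          rw [Matrix.toLin'_apply, Matrix.toLin'_apply, hφ, hφ]; exact congrArg (fun g : oGroup Q => g.1 v) h)))
      have hcard : Nat.card (omegaGL ⇑Q) ∣ Nat.card (oGroup Q) := by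
        rw [← Nat.card_congr (MonoidHom.ofInjective hΦ).toEquiv.symm]
        exact Subgroup.card_subgroup_dvd_card _
      have hmul := Subgroup.relIndex_mul_relIndex ⊥ (subalgebraNormalizer K ⊓ omegaGL ⇑Q) (omegaGL ⇑Q)
        bot_le inf_le_right
      rw [Subgroup.relIndex_bot_left, Subgroup.relIndex_bot_left, Subgroup.inf_relIndex_right] at hmul
      have hrO : r ∣ Nat.card (oGroup Q) :=
        (hΩ.trans (dvd_mul_left _ _)).trans (hmul ▸ hcard)
      by_cases hi : 4 ∣ ordq F r
      · obtain ⟨S, hS, hSJ, hSn⟩ := exists_sylow_commute hQ hδ hJ hdim (by omega) hr0 hr2 hi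
        have hSle : S ≤ (((subalgebraNormalizer K).subgroupOf (omegaGL ⇑Q)).map Φ) := fun s hs => by
          obtain ⟨k, hk⟩ := hS ⟨s, hs⟩
          have hsk : s ^ r ^ k = 1 := congrArg Subtype.val hk
          have hsC : s ∈ commutator (oGroup Q) := by
            obtain ⟨t, ht⟩ := (hr'.out.odd_of_ne_two hr2).pow (n := k)
            have hsq : ∀ g : oGroup Q, g * g ∈ commutator (oGroup Q) := fun g => by
              obtain ⟨vs, hvs, rfl⟩ := exists_reflProd hQ hgen g
              rw [← reflProd_append, reflProd_mem_commutator_iff hQ hgen (List.forall_mem_append.2 ⟨hvs, hvs⟩),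
                List.length_append, List.map_append, List.prod_append]
              exact ⟨⟨_, rfl⟩, ⟨_, rfl⟩⟩
            have e : s = s ^ (t + 1) * s ^ (t + 1) := by
              rw [← pow_add, show t + 1 + (t + 1) = r ^ k + 1 by omega, pow_succ, hsk, one_mul]
            rw [e]
            exact hsq _
          obtain ⟨x, hx, hv, -, -⟩ := exists_matrix hsC
          exact ⟨⟨x, hx⟩, hmemN x s 1 hv (fun u => by rw [one_smul, hSJ s hs u]),
            hext _ _ fun v => ((hφ ⟨x, hx⟩ v).symm.trans (hv v))⟩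
        refine hSn ?_
        have h1 : Nat.card S ∣ Nat.card ↥(subalgebraNormalizer K ⊓ omegaGL ⇑Q) := by
          refine (Subgroup.card_dvd_of_le hSle).trans ?_
          rw [Subgroup.card_map_of_injective hΦ, ← Subgroup.inf_subgroupOf_right,
            Nat.card_congr (Subgroup.subgroupOfEquivOfLe inf_le_right).toEquiv]
        refine (Nat.mul_dvd_mul hΩ h1).trans ?_
        rw [mul_comm]
        exact hmul ▸ hcard
      · obtain ⟨x, hx, hx1, hno⟩ := exists_no_commute_semisimple hQ hδ hJ hr0 hr2 hi hrO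
        obtain ⟨h, hh⟩ := hconj x hx hx1
        exact hno h hh
  · rintro rfl x hx ⟨z, hxz⟩ -
    obtain ⟨g, hg, hv⟩ := exists_elt hx
    have hgg : ∀ v, g.1 (g.1 v) = z • v := fun v => by
      have := congrArg (fun M : Matrix ι ι F => M *ᵥ v) hxz
      simp only [Units.val_pow_eq_pow_val, pow_two, Units.val_mul, Matrix.smul_mulVec, Matrix.one_mulVec] at this
      rwa [← Matrix.mulVec_mulVec, hv, hv] at this
    have hz : z = 1 ∨ z = -1 := by
      obtain ⟨v₀, -, hv₀⟩ := exists_aniso h2 (ndg_top_iff.2 hQ) (by rw [finrank_top]; omega)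
      have e := (g.2 (g.1 v₀)).trans (g.2 v₀)
      rw [hgg, QuadraticMap.map_smul, smul_eq_mul] at e
      exact mul_self_eq_one_iff.1 (mul_right_cancel₀ hv₀ (e.trans (one_mul _).symm))
    obtain ⟨k, rfl⟩ : ∃ k, d = k + 1 := ⟨d - 1, by omega⟩
    obtain ⟨h, hh, ε, hε⟩ := exists_commutator_conj_sq hQ hδ hJ hdim (by omega) hgen hg hz hgg
    obtain ⟨y, hy, hyv, -, -⟩ := exists_matrix hh
    exact ⟨y, hy, hmemN _ _ ε (act_conj hv hyv) hε⟩

end CfsgLib.Elusive2
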