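import Cfsg.Agent.Elusive2.OrthExtConj

/-!
An element of the commutator subgroup squaring to a scalar has a conjugate, by that subgroup, normalising
a given quadratic structure.
-/

set_option autoImplicit false
set_option linter.unusedSectionVars false
set_option linter.unusedSimpArgs false

namespace CfsgLib.Elusive2

open Module QuadraticMap CfsgLib.Elusive CfsgLib.Quad

variable {F V : Type*} [Field F] [AddCommGroup V] [Module F V] [Fintype F] [FiniteDimensional F V]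
  {Q : QuadraticForm F V} {δ : F} {J : V →ₗ[F] V}

/-- A rotation commuting with the structure: two reflections in the plane of `v` and `J v`. -/
theorem exists_rot (hδ : ¬ IsSquare δ) (hJ : IsJ Q δ J) {v : V} (hc : polarBilin Q v v ≠ 0) :
    ∃ w, Q w ≠ 0 ∧ Q v * Q w =
      -(Q v * Q v) * QuadraticAlgebra.norm (valP Q (δ := δ) J v) ∧
      ∀ u, (refl Q v * refl Q w).1 (J u) = J ((refl Q v * refl Q w).1 u) := by
  have h2 := two_ne_zero_of_nsq hδ
  set c := polarBilin Q v v with hc'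
  set b := polarBilin Q v (J v) with hb
  have hD := det_ne_zero hδ (b := b) (Or.inl hc)
  have hca : c = 2 * Q v := polar_self' v
  have ha : Q v ≠ 0 := fun h => hc (by rw [hca, h, mul_zero])
  have hN : QuadraticAlgebra.norm (valP Q (δ := δ) J v) = b * b - δ * c * c := by
    rw [QuadraticAlgebra.norm_def]; show b * b + 0 * b * c - δ * c * c = _; ring
  set w := (-b) • v + c • J v with hw
  have hsw : polarBilin Q (J v) v = b := hJ.sa v v
  have hQw : Q w = Q v * (δ * c * c - b * b) := by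
    refine mul_left_cancel₀ h2 ?_
    rw [← polar_self', hw]
    simp only [map_add, map_smul, LinearMap.add_apply, LinearMap.smul_apply, smul_eq_mul, hJ.polar_JJ,
      hsw, ← hb, ← hc']
    rw [hca]; ring
  have hvw : polarBilin Q v w = 0 := by
    simp only [hw, map_add, map_smul, smul_eq_mul, ← hb, ← hc']
    ring
  have hw0 : Q w ≠ 0 := by rw [hQw]; exact mul_ne_zero ha hD
  refine ⟨w, hw0, by rw [hQw, hN]; ring, fun u => ?_⟩
  have key : ∀ z, (refl Q v * refl Q w).1 z =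
      z - (2 : F) • ((piJ Q δ J v).1 z • v + (piJ Q δ J v).2 z • J v) := fun z => by
    show (refl Q v).1 ((refl Q w).1 z) = _
    rw [refl_apply, refl_apply, ← polarBilin_apply_apply, ← polarBilin_apply_apply]
    simp only [map_add, map_smul, LinearMap.add_apply, LinearMap.smul_apply, polar_swap w v, hvw,
      smul_eq_mul, mul_zero, add_zero, polar_swap z v, polar_swap z w]
    simp only [hw, piJ, map_add, map_smul, LinearMap.add_apply, LinearMap.smul_apply, LinearMap.sub_apply,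
      smul_eq_mul, ← hb, ← hc']
    rw [← hw, hQw]
    generalize polarBilin Q v z = x, polarBilin Q (J v) z = y
    clear_value c b
    subst hca
    generalize hDD : δ * (2 * Q v) * (2 * Q v) - b * b = D at hD ⊢
    rw [hw]
    match_scalars <;> field_simp <;> subst hDD <;> ring
  obtain ⟨e1, e2⟩ := piJ_apply_J hJ v u
  rw [key, key, e1, e2]
  simp only [map_sub, map_smul, map_add, hJ.sq]
  module

/-- An element of the commutator-free part commuting with the structure, of non-square spinor norm. -/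
theorem exists_corr (hQ : (polarBilin Q).Nondegenerate) (hδ : ¬ IsSquare δ) (hJ : IsJ Q δ J)
    (hd : 4 ≤ finrank F V) :
    ∃ vs : List V, (∀ v ∈ vs, Q v ≠ 0) ∧ Even vs.length ∧ ¬ IsSquare ((vs.map fun v => Q v).prod) ∧
      ∀ u, (reflProd Q vs).1 (J u) = J ((reflProd Q vs).1 u) := by
  have := fact_nsq hδ
  have h2 := two_ne_zero_of_nsq hδ
  have hT : Ndg (polarBilin Q) (⊤ : Submodule F V) := ndg_top_iff.2 hQ
  obtain ⟨v₁, -, hv₁⟩ := exists_valP_eq hδ hJ hT (fun _ _ => Submodule.mem_top) (by rw [finrank_top]; exact hd)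
    (⟨0, 1⟩ : QuadraticAlgebra F δ 0)
  have hδ0 : δ ≠ 0 := fun h => hδ (h ▸ IsSquare.zero)
  -- a value of the other class, off the ground field
  obtain ⟨z, hz, hzi⟩ : ∃ z : QuadraticAlgebra F δ 0,
      ¬ IsSquare ((-δ) * QuadraticAlgebra.norm z) ∧ z.im ≠ 0 := by
    obtain ⟨x, y, hxy⟩ : ∃ x y : F, ¬ IsSquare ((-δ) * (x * x - δ * (y * y))) := by
      by_cases h1 : IsSquare (-δ)
      · obtain ⟨η, hη⟩ := FiniteField.exists_nonsquare (F := F) fun h => h2 (by
          rw [← Nat.cast_ofNat, ← h]; exact ringChar.Nat.cast_ringChar)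
        obtain ⟨x, y, hxy⟩ := exists_two_sq' hδ η
        refine ⟨x, y, fun e => hη ?_⟩
        rw [hxy] at e
        rcases eq_or_ne η 0 with h0 | h0
        · exact h0 ▸ IsSquare.zero
        · exact (((isSquare_mul_iff h2 (neg_ne_zero.2 hδ0) h0)).1 e).1 h1
      · exact ⟨1, 0, by simpa using h1⟩
    rcases eq_or_ne y 0 with rfl | hy
    · have hx : x ≠ 0 := fun h => hxy (by simp [h])
      refine ⟨⟨x * (1 + δ), 2 * x⟩, fun e => hxy ?_, mul_ne_zero h2 hx⟩
      have h1 : (1 - δ) ≠ 0 := fun e => hδ ⟨1, by linear_combination -e⟩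
      obtain ⟨s, hs⟩ := e
      refine ⟨s / (1 - δ), ?_⟩
      rw [QuadraticAlgebra.norm_def] at hs
      simp only [zero_mul, add_zero] at hs
      field_simp
      linear_combination hs
    · refine ⟨⟨x, y⟩, fun e => hxy ?_, hy⟩
      rw [QuadraticAlgebra.norm_def] at e
      simpa [mul_assoc] using e
  obtain ⟨v₂, -, hv₂⟩ := exists_valP_eq hδ hJ hT (fun _ _ => Submodule.mem_top) (by rw [finrank_top]; exact hd) z
  have hc₁ : polarBilin Q v₁ v₁ = 1 := congrArg QuadraticAlgebra.im hv₁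
  have hc₂ : polarBilin Q v₂ v₂ = z.im := congrArg QuadraticAlgebra.im hv₂
  obtain ⟨w₁, hw₁, hq₁, hcm₁⟩ := exists_rot hδ hJ (v := v₁) (by rw [hc₁]; exact one_ne_zero)
  obtain ⟨w₂, hw₂, hq₂, hcm₂⟩ := exists_rot hδ hJ (v := v₂) (by rw [hc₂]; exact hzi)
  have hne : ∀ {v : V}, polarBilin Q v v ≠ 0 → Q v ≠ 0 := fun h e => h (by rw [polar_self', e, mul_zero])
  have ha₁ : Q v₁ ≠ 0 := hne (by rw [hc₁]; exact one_ne_zero)
  have ha₂ : Q v₂ ≠ 0 := hne (by rw [hc₂]; exact hzi)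
  refine ⟨[v₁, w₁, v₂, w₂], by simp [ha₁, hw₁, ha₂, hw₂], ⟨2, rfl⟩, ?_, fun u => ?_⟩
  · simp only [List.map_cons, List.map_nil, List.prod_cons, List.prod_nil, mul_one]
    rw [← mul_assoc, hq₁, hq₂, hv₁, hv₂]
    intro e
    refine hz ?_
    obtain ⟨s, hs⟩ := e
    refine ⟨s / (Q v₁ * Q v₂), ?_⟩
    rw [QuadraticAlgebra.norm_def] at hs
    simp only [zero_mul, mul_zero, add_zero] at hs
    field_simp
    linear_combination hs
  · have e : reflProd Q [v₁, w₁, v₂, w₂] = (refl Q v₁ * refl Q w₁) * (refl Q v₂ * refl Q w₂) := by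
      simp [reflProd_cons, reflProd_nil, mul_assoc]
    rw [e]
    show (refl Q v₁ * refl Q w₁).1 ((refl Q v₂ * refl Q w₂).1 (J u)) = _
    rw [hcm₂, hcm₁]
    rfl
where
  exists_two_sq' {F : Type _} [Field F] [Fintype F] {δ : F} (hδ : ¬ IsSquare δ) (η : F) :
      ∃ x y : F, x * x - δ * (y * y) = η := by
    have hodd : Fintype.card F % 2 = 1 := FiniteField.odd_card_of_char_ne_two fun h =>
      two_ne_zero_of_nsq hδ (by rw [← Nat.cast_ofNat, ← h]; exact ringChar.Nat.cast_ringChar)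
    have hδ0 : -δ ≠ 0 := neg_ne_zero.2 fun h => hδ (h ▸ IsSquare.zero)
    obtain ⟨x, y, h⟩ := FiniteField.exists_root_sum_quadratic
      (f := (Polynomial.X : Polynomial F) ^ 2)
      (g := Polynomial.C (-δ) * Polynomial.X ^ 2 - Polynomial.C η) (Polynomial.degree_X_pow 2)
      (by
        have hlt : Polynomial.degree (Polynomial.C η) <
            Polynomial.degree (Polynomial.C (-δ) * Polynomial.X ^ 2) := by
          rw [Polynomial.degree_C_mul_X_pow 2 hδ0]
          exact lt_of_le_of_lt Polynomial.degree_C_le (by norm_num)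
        rw [Polynomial.degree_sub_eq_left_of_degree_lt hlt, Polynomial.degree_C_mul_X_pow 2 hδ0]; rfl) hodd
    simp only [Polynomial.eval_mul, Polynomial.eval_sub, Polynomial.eval_C, Polynomial.eval_pow,
      Polynomial.eval_X] at h
    exact ⟨x, y, by linear_combination h⟩

theorem pair_perp_inv {f : V →ₗ[F] V} (hf : ∀ u v, polarBilin Q (f u) (f v) = polarBilin Q u v)
    {v w u : V} (hv : f v = w) (hw : f w = -v)
    (hu : u ∈ perp (polarBilin Q) (Submodule.span F (Set.range ![v, w]))) :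
    f u ∈ perp (polarBilin Q) (Submodule.span F (Set.range ![v, w])) := by
  have e1 := mem_perp.1 hu v (mem_pair.2 ⟨1, 0, by simp⟩)
  have e2 := mem_perp.1 hu w (mem_pair.2 ⟨0, 1, by simp⟩)
  have k1 := hf v u
  rw [hv, e1] at k1
  have k2 := hf w u
  rw [hw, e2, map_neg, LinearMap.neg_apply, neg_eq_zero] at k2
  refine mem_perp.2 fun z hz => ?_
  obtain ⟨x, y, rfl⟩ := mem_pair.1 hz
  simp [k1, k2]

/-- Compatible twin structures for an element squaring to a scalar. -/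
theorem exists_twin_of_sq (hQ : (polarBilin Q).Nondegenerate) (hδ : ¬ IsSquare δ) {d : ℕ}
    (hd : finrank F V = 2 * (d + 1)) {f : V →ₗ[F] V}
    (hf : ∀ u v, polarBilin Q (f u) (f v) = polarBilin Q u v)
    (hdet : LinearMap.det f = 1) {z : F} (hz : z = 1 ∨ z = -1) (hff : ∀ v, f (f v) = z • v) :
    ∃ (ε : F) (v : V) (J₁ J₂ : V →ₗ[F] V), Q v ≠ 0 ∧ IsJ Q δ J₁ ∧ IsJ Q δ J₂ ∧
      (∀ u, f (J₁ u) = ε • J₁ (f u)) ∧ (∀ u, f (J₂ u) = ε • J₂ (f u)) ∧
      (∀ u, (refl Q v).1 (J₁ u) = J₂ ((refl Q v).1 u)) := by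
  have h2 := two_ne_zero_of_nsq hδ
  have hT : Ndg (polarBilin Q) (⊤ : Submodule F V) := ndg_top_iff.2 hQ
  rcases hz with rfl | rfl
  · -- involution
    simp only [one_smul] at hff
    set A : F → Submodule F V := fun t => LinearMap.ker (f - t • LinearMap.id) with hA
    have hmem : ∀ {t : F} {u : V}, u ∈ A t ↔ f u = t • u := fun {t u} => by
      simp [hA, LinearMap.mem_ker, sub_eq_zero]
    have hP : ∀ (t : F), t * t = 1 → ∀ W : Submodule F V, W ≤ A t → Ndg (polarBilin Q) W →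
        2 ≤ finrank F W → ∃ v w, v ∈ W ∧ w ∈ W ∧ GoodPair Q f 1 v w ∧
          (W ⊓ perp (polarBilin Q) (Submodule.span F (Set.range ![v, w]))) ≤ A t := by
      intro t ht W hWt hW hdW
      obtain ⟨v, hv, hv0⟩ := exists_aniso h2 hW (by omega)
      have hn : Ndg (polarBilin Q) (Submodule.span F {v}) := fun x hx hx0 => by
        obtain ⟨a, rfl⟩ := Submodule.mem_span_singleton.1 hx
        refine ⟨v, Submodule.mem_span_singleton_self v, ?_⟩
        rw [map_smul, LinearMap.smul_apply, polar_self', smul_eq_mul]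
        exact mul_ne_zero (fun e => hx0 (by rw [e, zero_smul])) (mul_ne_zero h2 hv0)
      obtain ⟨-, -, hsum, hn'⟩ := exists_split polar_refl hn ((Submodule.span_singleton_le_iff_mem _ _).2 hv)
      rw [finrank_span_singleton (fun e => hv0 (by rw [e, QuadraticMap.map_zero]))] at hsum
      obtain ⟨w, hw, hw0⟩ := exists_aniso h2 (hn' hW) (by omega)
      exact ⟨v, w, hv, hw.1, ⟨hv0, hw0, mem_perp.1 hw.2 v (Submodule.mem_span_singleton_self v),
        Or.inl ⟨t, ht, hmem.1 (hWt hv), hmem.1 (hWt hw.1), rfl⟩⟩, inf_le_left.trans hWt⟩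
    have horth : ∀ x ∈ A 1, ∀ y ∈ A (-1), polarBilin Q x y = 0 := fun x hx y hy => by
      refine eq_zero_of_two h2 ?_
      conv_lhs => rw [← hf x y, hmem.1 hx, hmem.1 hy]
      simp
    have hsup : A 1 ⊔ A (-1) = ⊤ := eq_top_iff.2 fun u _ =>
      Submodule.mem_sup.2 ⟨(2⁻¹ : F) • (u + f u), hmem.2 (by simp [hff, add_comm]),
        (2⁻¹ : F) • (u - f u), hmem.2 (by
          rw [map_smul, map_sub, hff, neg_one_smul, ← smul_neg, neg_sub]),
        by match_scalars <;> field_simp <;> ring⟩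
    have hinf : A 1 ⊓ A (-1) = ⊥ := (Submodule.eq_bot_iff _).2 fun u hu => by
      have e := (hmem.1 hu.2).symm.trans (hmem.1 hu.1)
      rw [neg_one_smul, one_smul] at e
      have : (2 : F) • u = 0 := by rw [two_smul]; exact add_eq_zero_iff_eq_neg.2 e.symm
      exact (smul_eq_zero.1 this).resolve_left h2
    have hndg : ∀ t, (t = 1 ∨ t = -1) → Ndg (polarBilin Q) (A t) := by
      intro t ht u hu h0
      obtain ⟨w, -, hne⟩ := hT u Submodule.mem_top h0
      obtain ⟨x, hx, y, hy, rfl⟩ := Submodule.mem_sup.1 (hsup.symm ▸ Submodule.mem_top : w ∈ A 1 ⊔ A (-1))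
      rcases ht with rfl | rfl
      · refine ⟨x, hx, fun e => hne ?_⟩
        rw [map_add, e, horth u hu y hy, add_zero]
      · refine ⟨y, hy, fun e => hne ?_⟩
        rw [map_add, e, polar_refl _ _ (horth x hx u hu), add_zero]
    obtain ⟨k, hk⟩ := involution_fix_even (g := f) (m := d + 1) (LinearMap.ext hff) h2 hdet hd
    have hk1 : finrank F (A 1) = 2 * k := by
      have : A 1 = LinearMap.ker (f - 1) := by simp [hA, Module.End.one_eq_id]
      rw [this, hk]; ring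
    have hk2 : finrank F (A (-1)) = 2 * (d + 1 - k) := by
      have := Submodule.finrank_sup_add_finrank_inf_eq (A 1) (A (-1))
      rw [hsup, hinf, finrank_top, finrank_bot] at this
      omega
    -- first plane in a non-trivial eigenspace
    obtain ⟨t, t', ht, htt, ht', htt', hpos, hsup', horth', ⟨n, hn⟩, ⟨n', hn'⟩⟩ :
        ∃ t t' : F, (t = 1 ∨ t = -1) ∧ t * t = 1 ∧ (t' = 1 ∨ t' = -1) ∧ t' * t' = 1 ∧
          2 ≤ finrank F (A t) ∧ A t ⊔ A t' = ⊤ ∧ (∀ x ∈ A t, ∀ y ∈ A t', polarBilin Q x y = 0) ∧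
          (∃ n, finrank F (A t) = 2 * n) ∧ ∃ n', finrank F (A t') = 2 * n' := by
      rcases Nat.eq_zero_or_pos k with rfl | hk0
      · exact ⟨-1, 1, Or.inr rfl, by ring, Or.inl rfl, one_mul 1, by omega, sup_comm (A 1) _ ▸ hsup,
          fun x hx y hy => polar_refl _ _ (horth y hy x hx), ⟨_, hk2⟩, ⟨_, hk1⟩⟩
      · exact ⟨1, -1, Or.inl rfl, one_mul 1, Or.inr rfl, by ring, by omega, hsup, horth, ⟨_, hk1⟩, ⟨_, hk2⟩⟩
    obtain ⟨v, w, hv, hw, hg, hle⟩ := hP t htt (A t) le_rfl (hndg t ht) hpos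
    obtain ⟨hpn, hpd⟩ := hg.ndg h2
    have hple : Submodule.span F (Set.range ![v, w]) ≤ A t := fun u hu => by
      obtain ⟨x, y, rfl⟩ := mem_pair.1 hu
      exact Submodule.add_mem _ (Submodule.smul_mem _ _ hv) (Submodule.smul_mem _ _ hw)
    obtain ⟨hs1, -, hs2, hs3⟩ := exists_split polar_refl hpn hple
    obtain ⟨Ja, hJa⟩ := exists_jOn (δ := δ) h2 hf (fun W => W ≤ A t) (hP t htt) (n - 1) _ hle
      (hs3 (hndg t ht)) (by omega)
    obtain ⟨Jb, hJb⟩ := exists_jOn (δ := δ) h2 hf (fun W => W ≤ A t') (hP t' htt') n' _ le_rfl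
      (hndg t' ht') hn'
    have hJ := hJa.sup hJb fun x hx y hy => horth' x hx.1 y hy
    refine ⟨1, exists_twin h2 hf hg (fun y hy => ?_) (by rw [← sup_assoc, hs1, hsup']) ⟨_, hJ⟩⟩
    obtain ⟨a, ha, b, hb, rfl⟩ := Submodule.mem_sup.1 hy
    refine ⟨?_, ?_⟩ <;> rw [map_add, horth' _ (by assumption) b hb, add_zero]
    · exact mem_perp.1 ha.2 v (mem_pair.2 ⟨1, 0, by simp⟩)
    · exact mem_perp.1 ha.2 w (mem_pair.2 ⟨0, 1, by simp⟩)
  · -- quarter turn
    simp only [neg_one_smul] at hff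
    have hQf : ∀ v, Q (f v) = Q v := fun v =>
      mul_left_cancel₀ h2 (by rw [← polar_self', ← polar_self', hf])
    have hP : ∀ W : Submodule F V, Inv f W → Ndg (polarBilin Q) W → 2 ≤ finrank F W →
        ∃ v w, v ∈ W ∧ w ∈ W ∧ GoodPair Q f (-1) v w ∧
          Inv f (W ⊓ perp (polarBilin Q) (Submodule.span F (Set.range ![v, w]))) := by
      intro W hWi hW hdW
      obtain ⟨v, hv, hv0⟩ := exists_aniso h2 hW (by omega)
      refine ⟨v, f v, hv, hWi v hv, ⟨hv0, (hQf v).symm ▸ hv0, eq_zero_of_two h2 ?_,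
        Or.inr ⟨rfl, hff v, (hQf v).symm, rfl⟩⟩, fun u hu => ⟨hWi u hu.1, pair_perp_inv hf rfl (hff v) hu.2⟩⟩
      conv_lhs => rw [← hf v (f v), hff, map_neg, polar_swap]
    obtain ⟨v, w, -, -, hg, hinv⟩ := hP ⊤ (fun _ _ => Submodule.mem_top) hT (by rw [finrank_top]; omega)
    obtain ⟨hpn, hpd⟩ := hg.ndg h2
    obtain ⟨hs1, -, hs2, hs3⟩ := exists_split (T := ⊤) polar_refl hpn le_top
    rw [finrank_top] at hs2
    obtain ⟨Ja, hJa⟩ := exists_jOn (δ := δ) h2 hf (Inv f) hP d _ hinv (hs3 hT) (by omega)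
    refine ⟨-1, exists_twin h2 hf hg ?_ hs1 ⟨_, hJa⟩⟩
    exact fun y hy => ⟨mem_perp.1 hy.2 v (mem_pair.2 ⟨1, 0, by simp⟩),
      mem_perp.1 hy.2 w (mem_pair.2 ⟨0, 1, by simp⟩)⟩

/-- The conjugation into the normaliser of the structure. -/
theorem exists_commutator_conj_sq (hQ : (polarBilin Q).Nondegenerate) (hδ : ¬ IsSquare δ) (hJ : IsJ Q δ J)
    {d : ℕ} (hd : finrank F V = 2 * (d + 1)) (hd4 : 1 ≤ d)
    (hgen : (∃ t : F, t ≠ 0 ∧ t ≠ 1) ∨ finrank F V ≠ 4) {x : oGroup Q} (hx : x ∈ commutator (oGroup Q))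
    {z : F} (hz : z = 1 ∨ z = -1) (hxx : ∀ v, x.1 (x.1 v) = z • v) :
    ∃ g ∈ commutator (oGroup Q), ∃ ε : F, ∀ u, (g⁻¹ * x * g).1 (J u) = ε • J ((g⁻¹ * x * g).1 u) := by
  have hdet : LinearMap.det x.1.toLinearMap = 1 := by
    have h : detO Q x = 1 := Abelianization.commutator_subset_ker (detO Q) hx
    simpa [detO] using congrArg Units.val h
  obtain ⟨ε, v, J₁, J₂, hv, hJ₁, hJ₂, hc₁, hc₂, ht⟩ :=
    exists_twin_of_sq hQ hδ hd (f := x.1.toLinearMap) (fun a b => bilin_isom x a b) hdet hz hxx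
  obtain ⟨h, hh⟩ := exists_conj_J hQ hδ hJ hJ₁ hd
  obtain ⟨vs, hvs, hvsh⟩ := exists_reflProd hQ hgen h
  -- even parity
  obtain ⟨ws, hws, hwev, J', hJ', hwh, hxJ'⟩ : ∃ ws : List V, (∀ a ∈ ws, Q a ≠ 0) ∧ Even ws.length ∧
      ∃ J' : V →ₗ[F] V, IsJ Q δ J' ∧ (∀ u, (reflProd Q ws).1 (J u) = J' ((reflProd Q ws).1 u)) ∧
        ∀ u, x.1 (J' u) = ε • J' (x.1 u) := by
    rcases Nat.even_or_odd vs.length with he | ho
    · exact ⟨vs, hvs, he, J₁, hJ₁, hvsh ▸ hh, hc₁⟩
    · refine ⟨v :: vs, List.forall_mem_cons.2 ⟨hv, hvs⟩, by simpa using ho.add_one, J₂, hJ₂,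
        fun u => ?_, hc₂⟩
      rw [reflProd_cons, ← hvsh]
      show (refl Q v).1 (h.1 (J u)) = _
      rw [hh, ht]
      rfl
  -- spinor norm
  obtain ⟨us, hus, huev, hun, hucm⟩ := exists_corr hQ hδ hJ (by omega)
  obtain ⟨g, hg, hgJ⟩ : ∃ g ∈ commutator (oGroup Q), ∀ u, g.1 (J u) = J' (g.1 u) := by
    by_cases hsq : IsSquare ((ws.map fun a => Q a).prod)
    · exact ⟨_, (reflProd_mem_commutator_iff hQ hgen hws).2 ⟨hwev, hsq⟩, hwh⟩
    · have hall : ∀ a ∈ ws ++ us, Q a ≠ 0 := List.forall_mem_append.2 ⟨hws, hus⟩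
      refine ⟨_, (reflProd_mem_commutator_iff hQ hgen hall).2
        ⟨by rw [List.length_append]; exact hwev.add huev, ?_⟩, fun u => ?_⟩
      · rw [List.map_append, List.prod_append, isSquare_mul_iff (two_ne_zero_of_nsq hδ)
          (prod_ne_zero_of_forall hws) (prod_ne_zero_of_forall hus)]
        exact iff_of_false hsq hun
      · rw [reflProd_append]
        show (reflProd Q ws).1 ((reflProd Q us).1 (J u)) = _
        rw [hucm, hwh]
        rfl
  refine ⟨g, hg, ε, fun u => g.1.injective ?_⟩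
  have e : ∀ a, g.1 ((g⁻¹ * x * g).1 a) = x.1 (g.1 a) := fun a => g.1.apply_symm_apply _
  rw [e, hgJ, hxJ', map_smul, hgJ, e]

end CfsgLib.Elusive2
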