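import Cfsg.Agent.Elusive2.OrthType
import Cfsg.Agent.AutPOm.Types

/-!
Existence and isometry of non-degenerate subspaces of a given type.
-/

set_option autoImplicit false
set_option linter.unusedSectionVars false

namespace CfsgLib.Elusive2

open Module QuadraticMap CfsgLib.Quad CfsgLib.QuadStd

variable {F V V' : Type*} [Field F] [AddCommGroup V] [Module F V] [AddCommGroup V'] [Module F V']
  {Q : QuadraticForm F V} {Q' : QuadraticForm F V'}

theorem ndg_comp {W : Submodule F V} (hW : Ndg (polarBilin Q) W) :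
    (polarBilin (Q.comp W.subtype)).Nondegenerate := by
  have h1 : ∀ w : W, (∀ u : W, polarBilin Q (w : V) u = 0) → w = 0 := fun w h => by
    by_contra h0
    obtain ⟨v, hv, hne⟩ := hW w w.2 fun e => h0 (Subtype.ext e)
    exact hne (h ⟨v, hv⟩)
  exact ⟨fun w hw => h1 w fun u => hw u, fun u hu => h1 u fun w => (polar_swap _ _).trans (hu w)⟩

theorem ndg_top_iff : Ndg (polarBilin Q) ⊤ ↔ (polarBilin Q).Nondegenerate := by
  refine ⟨fun h => ?_, fun h u _ h0 => ?_⟩
  · have h1 : ∀ x, (∀ y, polarBilin Q x y = 0) → x = 0 := fun x hx => by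
      by_contra h0
      obtain ⟨v, -, hne⟩ := h x trivial h0
      exact hne (hx v)
    exact ⟨fun x hx => h1 x hx, fun y hy => h1 y fun x => (polar_swap _ _).trans (hy x)⟩
  · by_contra hc
    push Not at hc
    exact h0 (h.1 u fun v => hc v trivial)

theorem isPlus_congr {X : Submodule F V} {Y : Submodule F V'} (e : X ≃ₗ[F] Y)
    (he : ∀ x : X, Q' (e x) = Q x) (h : IsPlus Q X) : IsPlus Q' Y := by
  obtain ⟨U, hUX, hU, hd⟩ := h
  refine ⟨((U.comap X.subtype).map e.toLinearMap).map Y.subtype, Submodule.map_subtype_le _ _, ?_, ?_⟩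
  · rintro _ ⟨_, ⟨x, hx, rfl⟩, rfl⟩
    exact (he x).trans (hU _ hx)
  · rw [Submodule.finrank_map_subtype_eq, LinearEquiv.finrank_map_eq,
      (Submodule.comapSubtypeEquivOfLe hUX).finrank_eq, hd, e.finrank_eq]

theorem isPlus_plusQ (h : ℕ) : IsPlus (plusQ (F := F) h) ⊤ := by
  refine ⟨CfsgLib.AutPOm.plusHalf F h, le_top, fun u hu => ?_, ?_⟩
  · have hu' : ∀ i, u (Sum.inr i) = 0 := fun i => congrFun (LinearMap.mem_ker.mp hu) i
    simp [plusQ_coe, Cfsg.quadFormPlus, hu']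
  · rw [CfsgLib.AutPOm.finrank_plusHalf, finrank_top, finrank_fintype_fun_eq_card]
    simp [two_mul]

/-- The coordinate subspace on a set of indices. -/
def suppIn (F : Type*) [Field F] {ι : Type*} (s : Set ι) : Submodule F (ι → F) where
  carrier := {x | ∀ i, i ∉ s → x i = 0}
  zero_mem' := fun _ _ => rfl
  add_mem' := fun {x y} hx hy i hi => by simp [hx i hi, hy i hi]
  smul_mem' := fun c x hx i hi => by simp [hx i hi]

variable [Fintype F] [FiniteDimensional F V] [FiniteDimensional F V']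

theorem not_isPlus_minusQ {a b : F} (hab : ∀ z₁ z₂ : F, z₁ ^ 2 + a * z₁ * z₂ + b * z₂ ^ 2 = 0 → z₁ = 0 ∧ z₂ = 0)
    (k : ℕ) : ¬ IsPlus (minusQ k a b) ⊤ := by
  intro htop
  set P := suppIn F (Set.range (Sum.inl : Fin k ⊕ Fin k → (Fin k ⊕ Fin k) ⊕ Fin 2)) with hP
  set A := suppIn F (Set.range (Sum.inr : Fin 2 → (Fin k ⊕ Fin k) ⊕ Fin 2)) with hA
  have hP0 : ∀ x ∈ P, ∀ i, x (Sum.inr i) = 0 := fun x hx i => hx _ (by simp)
  have hA0 : ∀ x ∈ A, ∀ i, x (Sum.inl i) = 0 := fun x hx i => hx _ (by simp)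
  have hinf : P ⊓ A = ⊥ := (Submodule.eq_bot_iff _).2 fun x hx => funext fun i => by
    rcases i with i | i
    exacts [hA0 x hx.2 i, hP0 x hx.1 i]
  have hsup : P ⊔ A = ⊤ := eq_top_iff.2 fun x _ => by
    refine Submodule.mem_sup.2 ⟨Sum.elim (x ∘ Sum.inl) 0, ?_, Sum.elim 0 (x ∘ Sum.inr), ?_, ?_⟩
    · rintro (i | i) hi
      · exact absurd ⟨i, rfl⟩ hi
      · rfl
    · rintro (i | i) hi
      · rfl
      · exact absurd ⟨i, rfl⟩ hi
    · funext i; rcases i with i | i <;> simp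
  have horth : ∀ x ∈ P, ∀ y ∈ A, polarBilin (minusQ k a b) x y = 0 := fun x hx y hy => by
    rw [polarBilin_apply_apply, polar, minusQ_coe]
    simp [Cfsg.quadFormMinus, hP0 x hx, hA0 y hy]
  have hn : Ndg (polarBilin (minusQ k a b)) ⊤ := ndg_top_iff.2 (minusQ_nondeg hab k)
  have hpn : ∀ {X Y : Submodule F ((Fin k ⊕ Fin k) ⊕ Fin 2 → F)}, X ⊔ Y = ⊤ →
      (∀ x ∈ X, ∀ y ∈ Y, polarBilin (minusQ k a b) x y = 0) → Ndg (polarBilin (minusQ k a b)) X := by
    intro X Y hs ho u hu h0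
    obtain ⟨v, -, hne⟩ := hn u trivial h0
    obtain ⟨x, hx, y, hy, rfl⟩ := Submodule.mem_sup.1 (hs.symm ▸ Submodule.mem_top : v ∈ X ⊔ Y)
    exact ⟨x, hx, by rwa [map_add, ho u hu y hy, add_zero] at hne⟩
  have hPn := hpn hsup horth
  have hAn := hpn ((sup_comm A P).trans hsup) fun x hx y hy => (polar_swap _ _).trans (horth y hy x hx)
  let eP : P ≃ₗ[F] (Fin k ⊕ Fin k → F) :=
    { toFun := fun x j => x.1 (Sum.inl j)
      map_add' := fun _ _ => rfl
      map_smul' := fun _ _ => rfl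
      invFun := fun y => ⟨Sum.elim y 0, by rintro (i | i) hi; exacts [absurd ⟨i, rfl⟩ hi, rfl]⟩
      left_inv := fun x => Subtype.ext (funext fun i => by
        rcases i with i | i
        exacts [rfl, (hP0 _ x.2 i).symm])
      right_inv := fun y => rfl }
  let eA : A ≃ₗ[F] (Fin 2 → F) :=
    { toFun := fun x j => x.1 (Sum.inr j)
      map_add' := fun _ _ => rfl
      map_smul' := fun _ _ => rfl
      invFun := fun y => ⟨Sum.elim 0 y, by rintro (i | i) hi; exacts [rfl, absurd ⟨i, rfl⟩ hi]⟩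
      left_inv := fun x => Subtype.ext (funext fun i => by
        rcases i with i | i
        exacts [(hA0 _ x.2 i).symm, rfl])
      right_inv := fun y => rfl }
  have hPd : finrank F P = 2 * k := by rw [eP.finrank_eq, finrank_fintype_fun_eq_card]; simp [two_mul]
  have hAd : finrank F A = 2 := by rw [eA.finrank_eq, finrank_fintype_fun_eq_card]; simp
  have hPp : IsPlus (minusQ k a b) P := by
    refine isPlus_congr (Q := plusQ k) (X := ⊤) (LinearEquiv.trans Submodule.topEquiv eP.symm) (fun x => ?_)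
      (isPlus_plusQ k)
    show minusQ k a b (Sum.elim x.1 0) = plusQ k x.1
    rw [minusQ_coe, plusQ_coe]
    simp [Cfsg.quadFormMinus, Cfsg.quadFormPlus]
  have hAp : ¬ IsPlus (minusQ k a b) A := by
    rintro ⟨U, hUA, hU, hUd⟩
    obtain ⟨u, hu, hu0⟩ := U.exists_mem_ne_zero_of_ne_bot fun e => by rw [e, finrank_bot, hAd] at hUd; omega
    refine hu0 (funext fun i => ?_)
    have h := hU u hu
    rw [minusQ_coe] at h
    simp [Cfsg.quadFormMinus, hA0 u (hUA hu)] at h
    obtain ⟨h1, h2⟩ := hab _ _ h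
    rcases i with i | i
    · exact hA0 u (hUA hu) i
    · fin_cases i <;> assumption
  have := (isPlus_sup hPn hAn ⟨k, by omega⟩ ⟨1, by omega⟩ hinf horth).1 (hsup.symm ▸ htop)
  exact hAp (this.1 hPp)

/-- A fixed anisotropic coefficient. -/
theorem exists_zeta (F : Type*) [Field F] [Finite F] : ∃ a b : F,
    ∀ z₁ z₂ : F, z₁ ^ 2 + a * z₁ * z₂ + b * z₂ ^ 2 = 0 → z₁ = 0 ∧ z₂ = 0 :=
  CfsgLib.AutPOm.exists_aniso_pair F

/-- Every non-degenerate subspace of even dimension is isometric to one of the two models. -/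
theorem exists_model {W : Submodule F V} (hW : Ndg (polarBilin Q) W) {h : ℕ} (hd : finrank F W = 2 * h)
    {a b : F} (hab : ∀ z₁ z₂ : F, z₁ ^ 2 + a * z₁ * z₂ + b * z₂ ^ 2 = 0 → z₁ = 0 ∧ z₂ = 0) :
    (IsPlus Q W ∧ ∃ φ : W ≃ₗ[F] (Fin h ⊕ Fin h → F), ∀ w : W, plusQ h (φ w) = Q w) ∨
      (¬ IsPlus Q W ∧ ∃ φ : W ≃ₗ[F] ((Fin (h - 1) ⊕ Fin (h - 1)) ⊕ Fin 2 → F),
        ∀ w : W, minusQ (h - 1) a b (φ w) = Q w) := by
  rcases classify_even (ndg_comp hW) hd with ⟨φ, hφ⟩ | ⟨ζ, φ, -, hζ, hφ⟩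
  · refine Or.inl ⟨isPlus_congr (Submodule.topEquiv.trans φ.symm) (fun x => ?_) (isPlus_plusQ h), φ, fun w => (hφ w).symm⟩
    show Q ((φ.symm x.1 : W) : V) = plusQ h x.1
    exact (hφ (φ.symm x.1)).trans (by rw [φ.apply_symm_apply])
  · obtain ⟨χ, hχ⟩ := CfsgLib.AutPOm.minusQ_isometric (h - 1) hab (plane_aniso hζ)
    have hφ' : ∀ w : W, minusQ (h - 1) a b ((φ.trans χ) w) = Q w := fun w => by
      rw [LinearEquiv.trans_apply, hχ]
      exact (hφ w).symm
    refine Or.inr ⟨fun hp => not_isPlus_minusQ hab (h - 1) ?_, φ.trans χ, hφ'⟩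
    exact isPlus_congr ((φ.trans χ).trans Submodule.topEquiv.symm) hφ' hp

/-- Subspaces of the same dimension and type are isometric. -/
theorem exists_isometry {X : Submodule F V} {Y : Submodule F V'} (hX : Ndg (polarBilin Q) X)
    (hY : Ndg (polarBilin Q') Y) {h : ℕ} (hXd : finrank F X = 2 * h) (hYd : finrank F Y = 2 * h)
    (ht : IsPlus Q X ↔ IsPlus Q' Y) : ∃ e : X ≃ₗ[F] Y, ∀ x : X, Q' (e x) = Q x := by
  obtain ⟨a, b, hab⟩ := exists_zeta F
  rcases exists_model hX hXd hab with ⟨hp, φ, hφ⟩ | ⟨hp, φ, hφ⟩ <;>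
    rcases exists_model hY hYd hab with ⟨hp', ψ, hψ⟩ | ⟨hp', ψ, hψ⟩
  · exact ⟨φ.trans ψ.symm, fun x => by rw [LinearEquiv.trans_apply, ← hψ, ψ.apply_symm_apply, hφ]⟩
  · exact absurd (ht.1 hp) hp'
  · exact absurd (ht.2 hp') hp
  · exact ⟨φ.trans ψ.symm, fun x => by rw [LinearEquiv.trans_apply, ← hψ, ψ.apply_symm_apply, hφ]⟩

/-- Subspaces of dimension at least two represent every scalar. -/
theorem represents {W : Submodule F V} (hW : Ndg (polarBilin Q) W) (h2 : 2 ≤ finrank F W) (c : F) :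
    ∃ z ∈ W, Q z = c := by
  by_cases hs : ∃ e ∈ W, e ≠ 0 ∧ Q e = 0
  · obtain ⟨e, he, he0, hQe⟩ := hs
    obtain ⟨f, hf, hQf, hef⟩ := exists_hyp_pair hW he he0 hQe
    refine ⟨e + c • f, W.add_mem he (W.smul_mem _ hf), ?_⟩
    rw [quad_add', QuadraticMap.map_smul, hQe, hQf, map_smul, hef, smul_zero, smul_eq_mul, mul_one]
    ring
  push Not at hs
  have hd : finrank F W = 2 := by
    by_contra hne
    obtain ⟨e, he, he0, hQe⟩ := exists_sing_sub hW (by omega)
    exact hs e he he0 hQe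
  obtain ⟨ζ, φ, hζ, hφ⟩ := plane_normal (ndg_comp hW) hd fun w hw => by
    by_contra h0
    exact hs w w.2 (fun e => h0 (Subtype.ext e)) hw
  obtain ⟨z, hz⟩ := planeQ_surjective (plane_aniso hζ) c
  refine ⟨(φ.symm ![z.1, z.2] : W), Submodule.coe_mem _, ?_⟩
  refine (hφ _).trans ?_
  rw [φ.apply_symm_apply, ← hz, planeQ_apply]
  simp

/-- Planes of both types. -/
theorem exists_plane_type {W : Submodule F V} (hW : Ndg (polarBilin Q) W) (h3 : 3 ≤ finrank F W) (τ : Prop) :
    ∃ X, Ndg (polarBilin Q) X ∧ X ≤ W ∧ finrank F X = 2 ∧ (IsPlus Q X ↔ τ) := by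
  classical
  obtain ⟨e, he, he0, hQe⟩ := exists_sing_sub hW h3
  obtain ⟨f, hf, hQf, hef⟩ := exists_hyp_pair hW he he0 hQe
  obtain ⟨hn, hd2, hpl⟩ := hyp_plane_ndg hQe hQf hef
  have hle : Submodule.span F (Set.range ![e, f]) ≤ W := by
    rw [Submodule.span_le]; rintro _ ⟨j, rfl⟩; fin_cases j <;> assumption
  by_cases hτ : τ
  · exact ⟨_, hn, hle, hd2, iff_of_true hpl hτ⟩
  obtain ⟨-, -, hdim, hnd⟩ := exists_split polar_refl hn hle
  set R := W ⊓ perp (polarBilin Q) (Submodule.span F (Set.range ![e, f]))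
  have hperp : ∀ z ∈ R, polarBilin Q e z = 0 ∧ polarBilin Q f z = 0 := fun z hz =>
    ⟨mem_perp.1 hz.2 e (Submodule.subset_span ⟨0, rfl⟩), mem_perp.1 hz.2 f (Submodule.subset_span ⟨1, rfl⟩)⟩
  have hee : polarBilin Q e e = 0 := by rw [polarBilin_apply_apply, polar_self, hQe, smul_zero]
  have hff : polarBilin Q f f = 0 := by rw [polarBilin_apply_apply, polar_self, hQf, smul_zero]
  -- an anisotropic plane is not of plus type
  suffices ∃ u ∈ W, ∃ v ∈ W, polarBilin Q u u * polarBilin Q v v - polarBilin Q u v * polarBilin Q u v ≠ 0 ∧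
      ∀ x y : F, Q (x • u + y • v) = 0 → x = 0 ∧ y = 0 by
    obtain ⟨u, hu, v, hv, hdet, han⟩ := this
    obtain ⟨hXn, hXd⟩ := span_pair_ndg (Q := Q) hdet
    refine ⟨_, hXn, ?_, hXd, iff_of_false ?_ hτ⟩
    · rw [Submodule.span_le]; rintro _ ⟨j, rfl⟩; fin_cases j <;> assumption
    · rintro ⟨U, hU, hUs, hUd⟩
      obtain ⟨w, hw, hw0⟩ := U.exists_mem_ne_zero_of_ne_bot fun e => by rw [e, finrank_bot, hXd] at hUd; omega
      obtain ⟨c, rfl⟩ := (Submodule.mem_span_range_iff_exists_fun F).1 (hU hw)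
      rw [Fin.sum_univ_two] at hw hw0
      simp only [Matrix.cons_val_zero, Matrix.cons_val_one] at hw hw0
      obtain ⟨ha, hb⟩ := han _ _ (hUs _ hw)
      exact hw0 (by rw [ha, hb, zero_smul, zero_smul, add_zero])
  have hquad : ∀ (u v : V) (x y : F), Q (x • u + y • v) = x * x * Q u + y * y * Q v + x * y * polarBilin Q u v :=
    fun u v x y => by
      simp only [quad_add', QuadraticMap.map_smul, map_smul, LinearMap.smul_apply, smul_eq_mul]
      ring
  rcases Nat.lt_or_ge (finrank F R) 2 with hR1 | hR2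
  · -- odd characteristic
    obtain ⟨z, hz, hz0⟩ := R.exists_mem_ne_zero_of_ne_bot fun h => by rw [h, finrank_bot] at hdim; omega
    obtain ⟨w, hw, hwz⟩ := hnd hW z hz hz0
    have hR : finrank F R = 1 := by omega
    obtain ⟨t, ht⟩ := (finrank_eq_one_iff_of_nonzero' (⟨z, hz⟩ : R) fun h => hz0 (congrArg Subtype.val h)).1 hR ⟨w, hw⟩
    have ht' : t • z = w := congrArg Subtype.val ht
    rw [← ht', map_smul, polarBilin_apply_apply, polar_self, smul_eq_mul, nsmul_eq_mul, Nat.cast_ofNat] at hwz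
    have h2 : (2 : F) ≠ 0 := fun h => hwz (by rw [h]; ring)
    have hc : Q z ≠ 0 := fun h => hwz (by rw [h]; ring)
    obtain ⟨η, hη⟩ := FiniteField.exists_nonsquare (F := F) (fun h => h2 (by
      haveI := ringChar.of_eq h
      exact CharTwo.two_eq_zero))
    have hη0 : η ≠ 0 := fun h => hη (h ▸ IsSquare.zero)
    refine ⟨e + (-(Q z) * η) • f, W.add_mem he (W.smul_mem _ hf), z, hz.1, ?_, fun x y h => ?_⟩
    · simp only [map_add, map_smul, LinearMap.add_apply, LinearMap.smul_apply, (hperp z hz).1, (hperp z hz).2,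
        hee, hff, hef, polar_swap f e, polarBilin_apply_apply Q z z, polar_self, smul_eq_mul, nsmul_eq_mul,
        Nat.cast_ofNat]
      intro h
      refine mul_ne_zero (mul_ne_zero (mul_ne_zero h2 h2) (mul_ne_zero hc hc)) hη0 ?_
      linear_combination -h
    · rw [hquad] at h
      simp only [quad_add', QuadraticMap.map_smul, hQe, hQf, map_add, map_smul, LinearMap.add_apply,
        LinearMap.smul_apply, hef, (hperp z hz).1, (hperp z hz).2, smul_eq_mul, mul_zero, add_zero, mul_one,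
        zero_add] at h
      have h' : y * y = η * (x * x) := mul_left_cancel₀ hc (by linear_combination h)
      by_cases hx : x = 0
      · rw [hx, mul_zero, mul_zero] at h'
        exact ⟨hx, mul_self_eq_zero.1 h'⟩
      · exact absurd ⟨y / x, by field_simp; linear_combination -h'⟩ hη
  · obtain ⟨a, b, hab⟩ := exists_zeta F
    obtain ⟨ζ, hζ⟩ : ∃ ζ : F, ∀ t : F, t ^ 2 + t + ζ ≠ 0 := by
      obtain ⟨c, hc⟩ : ∃ c : F, ∀ t : F, t * t + t ≠ c := by
        by_contra h
        push Not at h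
        have hinj := Finite.injective_iff_surjective.mpr (fun c => h c : Function.Surjective fun t : F => t * t + t)
        exact one_ne_zero (neg_eq_zero.mp (hinj (a₁ := -1) (a₂ := 0) (by simp)))
      exact ⟨-c, fun t ht => hc t (by linear_combination ht)⟩
    obtain ⟨z, hz, hQz⟩ := represents (hnd hW) hR2 ζ
    have hfz : polarBilin Q f z = 0 := (hperp z hz).2
    refine ⟨e + f, W.add_mem he hf, f + z, W.add_mem hf hz.1, ?_, fun x y h => ?_⟩
    · simp only [map_add, LinearMap.add_apply, hee, hff, hef, polar_swap f e, (hperp z hz).1, hfz,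
        polar_swap z f, polarBilin_apply_apply Q z z, polar_self, hQz, nsmul_eq_mul, Nat.cast_ofNat]
      intro h
      by_cases h2 : (2 : F) = 0
      · exact one_ne_zero (α := F) (by linear_combination -h + (2 * ζ) * h2)
      · refine hζ (-1 / 2) ?_
        field_simp
        linear_combination h
    · rw [hquad] at h
      simp only [quad_add', hQe, hQf, hQz, hfz, map_add, LinearMap.add_apply, hff, hef, (hperp z hz).1,
        add_zero, zero_add, mul_one] at h
      exact plane_aniso hζ x y (by linear_combination h)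

/-- Proper non-degenerate subspaces of even dimension of both types. -/
theorem exists_sub_type : ∀ (b : ℕ) (W : Submodule F V), Ndg (polarBilin Q) W → 2 * (b + 1) < finrank F W →
    ∀ τ : Prop, ∃ X, Ndg (polarBilin Q) X ∧ X ≤ W ∧ finrank F X = 2 * (b + 1) ∧ (IsPlus Q X ↔ τ) := by
  intro b
  induction b with
  | zero => exact fun W hW hd τ => exists_plane_type hW (by omega) τ
  | succ b ih =>
    intro W hW hd τ
    obtain ⟨X, hXn, hXW, hXd, hXp⟩ := exists_plane_type hW (by omega) True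
    obtain ⟨-, -, hdim, hnd⟩ := exists_split polar_refl hXn hXW
    obtain ⟨Y, hYn, hYR, hYd, hYp⟩ := ih _ (hnd hW) (by omega) τ
    have horth : ∀ x ∈ X, ∀ y ∈ Y, polarBilin Q x y = 0 := fun x hx y hy => mem_perp.1 (hYR hy).2 x hx
    have hinf : X ⊓ Y = ⊥ :=
      le_bot_iff.1 ((inf_le_inf_left X (hYR.trans inf_le_right)).trans (inf_perp polar_refl hXn).le)
    refine ⟨X ⊔ Y, hXn.sup polar_refl hYn horth, sup_le hXW (hYR.trans inf_le_left), ?_, ?_⟩
    · have := Submodule.finrank_sup_add_finrank_inf_eq X Y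
      rw [hinf, finrank_bot] at this
      omega
    · rw [isPlus_sup hXn hYn ⟨1, by omega⟩ ⟨b + 1, by omega⟩ hinf horth]
      simp only [hXp, true_iff, hYp]

/-- Subspaces of even dimension of a prescribed type, when there is room. -/
theorem exists_sub_type' {W : Submodule F V} (hW : Ndg (polarBilin Q) W) {b : ℕ} (hb : Even b)
    (τ : Prop) (hle : b ≤ finrank F W) (h0 : b = 0 → τ) (hfull : b = finrank F W → (IsPlus Q W ↔ τ)) :
    ∃ X, Ndg (polarBilin Q) X ∧ X ≤ W ∧ finrank F X = b ∧ (IsPlus Q X ↔ τ) := by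
  obtain ⟨j, rfl⟩ := hb
  rcases Nat.eq_zero_or_pos j with rfl | hj
  · exact ⟨⊥, Ndg.bot, bot_le, by simp, iff_of_true IsPlus.bot (h0 rfl)⟩
  rcases Nat.eq_or_lt_of_le hle with he | hlt
  · exact ⟨W, hW, le_rfl, he.symm, hfull he⟩
  obtain ⟨i, rfl⟩ : ∃ i, j = i + 1 := ⟨j - 1, by omega⟩
  obtain ⟨X, h1, h2, h3, h4⟩ := exists_sub_type i W hW (by omega) τ
  exact ⟨X, h1, h2, by omega, h4⟩

end CfsgLib.Elusive2
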