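import Cfsg.Agent.Elusive2.OrthTwo
import Cfsg.Agent.Elusive2.OrthSub
import Cfsg.Agent.Quad.OmegaMem
import Mathlib.Algebra.QuadraticAlgebra.Basic
import Mathlib.FieldTheory.Finite.Basic

/-!
Self-adjoint endomorphisms squaring to a non-square scalar: their conjugacy in the orthogonal group,
and their existence compatible with an element squaring to a scalar.
-/

set_option autoImplicit false
set_option linter.unusedSectionVars false

namespace CfsgLib.Elusive2

open Module QuadraticMap CfsgLib.Elusive CfsgLib.Quad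

variable {F V : Type*} [Field F] [AddCommGroup V] [Module F V] {Q : QuadraticForm F V}

/-- Self-adjoint with square the scalar `δ`. -/
structure IsJ (Q : QuadraticForm F V) (δ : F) (J : V →ₗ[F] V) : Prop where
  sa : ∀ u v, polarBilin Q (J u) v = polarBilin Q u (J v)
  sq : ∀ v, J (J v) = δ • v

/-- The square class invariant of a vector, in the quadratic extension. -/
def valP (Q : QuadraticForm F V) {δ : F} (J : V →ₗ[F] V) (v : V) : QuadraticAlgebra F δ 0 :=
  ⟨polarBilin Q v (J v), polarBilin Q v v⟩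

namespace IsJ

variable {δ : F} {J : V →ₗ[F] V}

theorem polar_JJ (hJ : IsJ Q δ J) (v : V) : polarBilin Q (J v) (J v) = δ * polarBilin Q v v := by
  rw [hJ.sa, hJ.sq, map_smul, smul_eq_mul]

theorem valP_smul_add (hJ : IsJ Q δ J) (x y : F) (v : V) :
    valP Q (δ := δ) J (x • v + y • J v) =
      (⟨x, y⟩ : QuadraticAlgebra F δ 0) * ⟨x, y⟩ * valP Q J v := by
  refine QuadraticAlgebra.ext ?_ ?_ <;>
    simp only [valP, map_add, map_smul, LinearMap.add_apply, LinearMap.smul_apply, smul_eq_mul,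
      QuadraticAlgebra.re_mul, QuadraticAlgebra.im_mul, hJ.sq, hJ.polar_JJ, hJ.sa] <;> ring

theorem valP_add (hJ : IsJ Q δ J) {v w : V} (h1 : polarBilin Q v w = 0)
    (h2 : polarBilin Q (J v) w = 0) :
    valP Q (δ := δ) J (v + w) = valP Q J v + valP Q J w := by
  have h3 : polarBilin Q w v = 0 := polar_refl v w h1
  have h4 : polarBilin Q v (J w) = 0 := by rw [← hJ.sa]; exact h2
  have h5 : polarBilin Q w (J v) = 0 := polar_refl _ _ h2
  refine QuadraticAlgebra.ext ?_ ?_ <;>
    simp [valP, map_add, LinearMap.add_apply, h1, h3, h4, h5]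

end IsJ

section Finite

variable [Fintype F] [FiniteDimensional F V] {δ : F}

theorem two_ne_zero_of_nsq (hδ : ¬ IsSquare δ) : (2 : F) ≠ 0 := fun h => by
  have h2 : ringChar F = 2 := CharP.ringChar_of_prime_eq_zero Nat.prime_two (by exact_mod_cast h)
  exact hδ (FiniteField.isSquare_of_char_two h2 δ)

theorem fact_nsq (hδ : ¬ IsSquare δ) : Fact (∀ r : F, r ^ 2 ≠ δ + 0 * r) :=
  ⟨fun r e => hδ ⟨r, by rw [← pow_two, e]; ring⟩⟩

theorem det_ne_zero (hδ : ¬ IsSquare δ) {c b : F} (h : c ≠ 0 ∨ b ≠ 0) : δ * c * c - b * b ≠ 0 := by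
  intro e
  rcases eq_or_ne c 0 with rfl | hc
  · exact (h.resolve_left (by simp)) (mul_self_eq_zero.1 (by linear_combination -e))
  · exact hδ ⟨b / c, by field_simp; linear_combination e⟩

variable {J : V →ₗ[F] V}

/-- In the extension, being a square is being of square norm. -/
theorem isSquare_iff_norm (hδ : ¬ IsSquare δ) (z : QuadraticAlgebra F δ 0) (hz : z ≠ 0) :
    IsSquare z ↔ IsSquare (QuadraticAlgebra.norm z) := by
  have := fact_nsq hδ
  have h2 := two_ne_zero_of_nsq hδ
  let _ : Fintype (QuadraticAlgebra F δ 0) := Fintype.ofEquiv _ (QuadraticAlgebra.equivProd δ (0 : F)).symm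
  set q := Fintype.card F with hq
  have hcard : Fintype.card (QuadraticAlgebra F δ 0) = q * q := by
    rw [Fintype.card_congr (QuadraticAlgebra.equivProd δ (0 : F)), Fintype.card_prod]
  have hinj : Function.Injective (algebraMap F (QuadraticAlgebra F δ 0)) := (algebraMap F (QuadraticAlgebra F δ 0)).injective
  have hring : ringChar F ≠ 2 := fun h => h2 (by
    rw [← Nat.cast_ofNat, ← h]; exact ringChar.Nat.cast_ringChar)
  have h2K : (2 : (QuadraticAlgebra F δ 0)) ≠ 0 := fun h => h2 (hinj (by rw [map_zero, ← h, map_ofNat]))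
  have hringK : ringChar (QuadraticAlgebra F δ 0) ≠ 2 := fun h => h2K (by
    rw [← Nat.cast_ofNat, ← h]; exact ringChar.Nat.cast_ringChar)
  have hodd : q % 2 = 1 := FiniteField.odd_card_of_char_ne_two hring
  have hδ0 : δ ≠ 0 := fun h => hδ (h ▸ IsSquare.zero)
  have hδq : δ ^ (q / 2) = -1 := by
    rcases FiniteField.pow_dichotomy hring hδ0 with h | h
    · exact absurd ((FiniteField.isSquare_iff hring hδ0).2 h) hδ
    · exact h
  set j : (QuadraticAlgebra F δ 0) := ⟨0, 1⟩ with hj
  have hjj : j * j = algebraMap F (QuadraticAlgebra F δ 0) δ := by ext <;> simp [hj]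
  have hjq : j ^ q = -j := by
    rw [← Nat.div_add_mod q 2, hodd, pow_succ, pow_mul, pow_two, hjj, ← map_pow, hδq, map_neg,
      map_one, neg_one_mul]
  have hzd : z = algebraMap F (QuadraticAlgebra F δ 0) z.re + algebraMap F (QuadraticAlgebra F δ 0) z.im * j := by ext <;> simp [hj]
  have hp := (FiniteField.card F (ringChar F))
  obtain ⟨n, hpr, hn⟩ := hp
  have : Fact (ringChar F).Prime := ⟨hpr⟩
  have : CharP (QuadraticAlgebra F δ 0) (ringChar F) := charP_of_injective_algebraMap hinj _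
  have hzq : z ^ q = star z := by
    conv_lhs => rw [hzd, hq, hn, add_pow_char_pow, ← hn, ← hq, mul_pow, ← map_pow, ← map_pow,
      FiniteField.pow_card, FiniteField.pow_card, hjq]
    ext <;> simp [hj]
  have hN : z ^ (q + 1) = algebraMap F (QuadraticAlgebra F δ 0) (QuadraticAlgebra.norm z) := by
    rw [pow_succ', hzq, QuadraticAlgebra.algebraMap_norm_eq_mul_star]
  have hN0 : QuadraticAlgebra.norm z ≠ 0 := fun h => hz (QuadraticAlgebra.norm_eq_zero_iff_eq_zero.1 h)
  have hexp : q * q / 2 = (q + 1) * (q / 2) := by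
    obtain ⟨k, hk⟩ : ∃ k, q = 2 * k + 1 := ⟨q / 2, by omega⟩
    rw [hk, show (2 * k + 1) * (2 * k + 1) = 2 * ((2 * k + 1 + 1) * k) + 1 by ring,
      show (2 * k + 1) / 2 = k by omega]
    omega
  rw [FiniteField.isSquare_iff hringK hz, FiniteField.isSquare_iff hring hN0, hcard, hexp, pow_mul,
    hN, ← map_pow, ← hq]
  exact ⟨fun h => hinj (h.trans (map_one _).symm), fun h => by rw [h, map_one]⟩

/-- Every element of the extension is a combination of two squares with given non-zero coefficients. -/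
theorem exists_two_sq (hδ : ¬ IsSquare δ) {z₁ z₂ : QuadraticAlgebra F δ 0} (h₁ : z₁ ≠ 0) (h₂ : z₂ ≠ 0)
    (z : QuadraticAlgebra F δ 0) : ∃ x y, x * x * z₁ + y * y * z₂ = z := by
  have := fact_nsq hδ
  let _ : Fintype (QuadraticAlgebra F δ 0) := Fintype.ofEquiv _ (QuadraticAlgebra.equivProd δ (0 : F)).symm
  have hodd : Fintype.card (QuadraticAlgebra F δ 0) % 2 = 1 := by
    rw [Fintype.card_congr (QuadraticAlgebra.equivProd δ (0 : F)), Fintype.card_prod, Nat.mul_mod,
      FiniteField.odd_card_of_char_ne_two fun h => two_ne_zero_of_nsq hδ (by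
        rw [← Nat.cast_ofNat, ← h]; exact ringChar.Nat.cast_ringChar)]
  obtain ⟨x, y, h⟩ := FiniteField.exists_root_sum_quadratic
    (f := Polynomial.C z₁ * Polynomial.X ^ 2) (g := Polynomial.C z₂ * Polynomial.X ^ 2 - Polynomial.C z)
    (Polynomial.degree_C_mul_X_pow 2 h₁)
    (by
      have hlt : Polynomial.degree (Polynomial.C z) < Polynomial.degree (Polynomial.C z₂ * Polynomial.X ^ 2) := by
        rw [Polynomial.degree_C_mul_X_pow 2 h₂]
        exact lt_of_le_of_lt Polynomial.degree_C_le (by norm_num)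
      rw [Polynomial.degree_sub_eq_left_of_degree_lt hlt, Polynomial.degree_C_mul_X_pow 2 h₂]; rfl) hodd
  simp only [Polynomial.eval_mul, Polynomial.eval_sub, Polynomial.eval_C, Polynomial.eval_pow,
    Polynomial.eval_X] at h
  exact ⟨x, y, by linear_combination h⟩

/-- Orthogonal projection on the plane of `v` and `J v`. -/
noncomputable def piJ (Q : QuadraticForm F V) (δ : F) (J : V →ₗ[F] V) (v : V) : (V →ₗ[F] F) × (V →ₗ[F] F) :=
  let c := polarBilin Q v v
  let b := polarBilin Q v (J v)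
  let D := δ * c * c - b * b
  (D⁻¹ • ((δ * c) • polarBilin Q v - b • polarBilin Q (J v)),
    D⁻¹ • (c • polarBilin Q (J v) - b • polarBilin Q v))

/-- The value at a vector is nonzero iff its real and imaginary part are not both zero. -/
theorem valP_ne_zero_iff (J : V →ₗ[F] V) (v : V) :
    valP Q (δ := δ) J v ≠ 0 ↔ polarBilin Q v v ≠ 0 ∨ polarBilin Q v (J v) ≠ 0 := by
  constructor
  · intro h
    by_contra hh
    push Not at hh
    exact h (QuadraticAlgebra.ext hh.2 hh.1)
  · rintro h e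
    rcases h with h | h
    · exact h (congrArg QuadraticAlgebra.im e)
    · exact h (congrArg QuadraticAlgebra.re e)


theorem piJ_spec (hδ : ¬ IsSquare δ) (hJ : IsJ Q δ J) {v : V} (hv : valP Q (δ := δ) J v ≠ 0) (u : V) :
    let π := (piJ Q δ J v).1 u • v + (piJ Q δ J v).2 u • J v
    polarBilin Q v π = polarBilin Q v u ∧ polarBilin Q (J v) π = polarBilin Q (J v) u := by
  have hD := det_ne_zero hδ ((valP_ne_zero_iff J v).1 hv)
  intro π
  have hsw : polarBilin Q (J v) v = polarBilin Q v (J v) := hJ.sa v v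
  constructor <;>
  · simp only [π, piJ, map_add, map_smul, LinearMap.smul_apply, LinearMap.sub_apply, smul_eq_mul,
      hJ.polar_JJ, hsw]
    generalize polarBilin Q v v = c, polarBilin Q v (J v) = b, polarBilin Q v u = x,
      polarBilin Q (J v) u = y at hD ⊢
    generalize hDD : δ * c * c - b * b = D at hD ⊢
    field_simp
    subst hDD
    ring

theorem plane_ndg (hδ : ¬ IsSquare δ) (hJ : IsJ Q δ J) {v : V} (hv : valP Q (δ := δ) J v ≠ 0) :
    Ndg (polarBilin Q) (Submodule.span F (Set.range ![v, J v])) ∧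
      finrank F (Submodule.span F (Set.range ![v, J v])) = 2 :=
  span_pair_ndg (Q := Q) (by
    rw [hJ.polar_JJ]
    intro e
    exact det_ne_zero hδ ((valP_ne_zero_iff J v).1 hv) (by linear_combination e))

theorem mem_plane {v u : V} :
    u ∈ Submodule.span F (Set.range ![v, J v]) ↔ ∃ x y : F, x • v + y • J v = u := by
  rw [Submodule.mem_span_range_iff_exists_fun]
  constructor
  · rintro ⟨c, hc⟩
    exact ⟨c 0, c 1, by rw [← hc, Fin.sum_univ_two]; rfl⟩
  · rintro ⟨x, y, h⟩
    exact ⟨![x, y], by rw [Fin.sum_univ_two, ← h]; rfl⟩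

theorem inv_plane (hJ : IsJ Q δ J) (v : V) : Inv J (Submodule.span F (Set.range ![v, J v])) := by
  intro u hu
  obtain ⟨x, y, rfl⟩ := mem_plane.1 hu
  exact mem_plane.2 ⟨y * δ, x, by rw [map_add, map_smul, map_smul, hJ.sq, smul_smul, add_comm]⟩

theorem mem_perp_plane {v u : V} :
    u ∈ perp (polarBilin Q) (Submodule.span F (Set.range ![v, J v])) ↔
      polarBilin Q v u = 0 ∧ polarBilin Q (J v) u = 0 := by
  rw [mem_perp]
  refine ⟨fun h => ⟨h _ (mem_plane.2 ⟨1, 0, by simp⟩), h _ (mem_plane.2 ⟨0, 1, by simp⟩)⟩, ?_⟩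
  rintro ⟨h1, h2⟩ w hw
  obtain ⟨x, y, rfl⟩ := mem_plane.1 hw
  simp [h1, h2]

theorem inv_perp (hJ : IsJ Q δ J) {W : Submodule F V} (hW : Inv J W) : Inv J (perp (polarBilin Q) W) := fun u hu =>
  mem_perp.2 fun w hw => by rw [← hJ.sa]; exact mem_perp.1 hu _ (hW w hw)

theorem exists_valP_ne_zero (hδ : ¬ IsSquare δ) {W : Submodule F V} (hW : Ndg (polarBilin Q) W) (hd : 0 < finrank F W) :
    ∃ v ∈ W, valP Q (δ := δ) J v ≠ 0 := by
  obtain ⟨v, hv, hv0⟩ := exists_aniso (two_ne_zero_of_nsq hδ) hW hd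
  refine ⟨v, hv, (valP_ne_zero_iff J v).2 (Or.inl ?_)⟩
  rw [polarBilin_apply_apply, polar_self, two_nsmul, ← two_mul]
  exact mul_ne_zero (two_ne_zero_of_nsq hδ) hv0

/-- In dimension at least four every value is taken. -/
theorem exists_valP_eq (hδ : ¬ IsSquare δ) (hJ : IsJ Q δ J) {W : Submodule F V} (hW : Ndg (polarBilin Q) W) (hWJ : Inv J W)
    (hd : 4 ≤ finrank F W) (z : QuadraticAlgebra F δ 0) : ∃ v ∈ W, valP Q J v = z := by
  obtain ⟨v, hv, hv0⟩ := exists_valP_ne_zero hδ (J := J) hW (by omega)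
  obtain ⟨hn, hd2⟩ := plane_ndg hδ hJ hv0
  have hle : Submodule.span F (Set.range ![v, J v]) ≤ W := fun u hu => by
    obtain ⟨x, y, rfl⟩ := mem_plane.1 hu
    exact W.add_mem (W.smul_mem _ hv) (W.smul_mem _ (hWJ v hv))
  obtain ⟨-, -, hsum, hn'⟩ := exists_split polar_refl hn hle
  obtain ⟨w, hw, hw0⟩ := exists_valP_ne_zero hδ (J := J) (hn' hW) (by omega)
  obtain ⟨h1, h2⟩ := mem_perp_plane.1 hw.2
  obtain ⟨x, y, hxy⟩ := exists_two_sq hδ hv0 hw0 z
  refine ⟨(x.re • v + x.im • J v) + (y.re • w + y.im • J w),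
    W.add_mem (W.add_mem (W.smul_mem _ hv) (W.smul_mem _ (hWJ v hv)))
      (W.add_mem (W.smul_mem _ hw.1) (W.smul_mem _ (hWJ w hw.1))), ?_⟩
  have h3 : polarBilin Q (J v) (J w) = 0 := by rw [hJ.sa, hJ.sq, map_smul, h1, smul_zero]
  have h4 : polarBilin Q v (J w) = 0 := by rw [← hJ.sa]; exact h2
  rw [hJ.valP_add, hJ.valP_smul_add, hJ.valP_smul_add, ← hxy]
  · simp only [map_add, map_smul, LinearMap.add_apply, LinearMap.smul_apply, h1, h2, h3, h4]
    simp
  · simp only [map_add, map_smul, hJ.sq, LinearMap.add_apply, LinearMap.smul_apply, h1, h2, h3, h4]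
    simp

/-- A plane is of plus type iff its norm is a square. -/
theorem plane_plus_iff (hδ : ¬ IsSquare δ) (hJ : IsJ Q δ J) {v : V} (hv : valP Q (δ := δ) J v ≠ 0) :
    IsPlus Q (Submodule.span F (Set.range ![v, J v])) ↔
      IsSquare (QuadraticAlgebra.norm (valP Q (δ := δ) J v)) := by
  have h2 := two_ne_zero_of_nsq hδ
  obtain ⟨-, hd⟩ := plane_ndg hδ hJ hv
  have hQ : ∀ x y : F, 2 * Q (x • v + y • J v) =
      (x * x + δ * y * y) * polarBilin Q v v + 2 * x * y * polarBilin Q v (J v) := fun x y => by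
    have : 2 * Q (x • v + y • J v) = polarBilin Q (x • v + y • J v) (x • v + y • J v) := by
      rw [polarBilin_apply_apply, polar_self, two_nsmul, two_mul]
    rw [this]
    simp only [map_add, map_smul, LinearMap.add_apply, LinearMap.smul_apply, smul_eq_mul, hJ.polar_JJ,
      hJ.sa v v]
    ring
  set c := polarBilin Q v v with hc
  set b := polarBilin Q v (J v) with hb
  have hN : QuadraticAlgebra.norm (valP Q (δ := δ) J v) = b * b - δ * c * c := by
    rw [QuadraticAlgebra.norm_def]; show b * b + 0 * b * c - δ * c * c = _; ring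
  rw [hN]
  constructor
  · rintro ⟨U, hU, hUs, hUd⟩
    obtain ⟨u, hu, hu0⟩ := U.exists_mem_ne_zero_of_ne_bot fun e => by
      rw [e, finrank_bot] at hUd; omega
    obtain ⟨x, y, rfl⟩ := mem_plane.1 (hU hu)
    have e := hQ x y
    rw [hUs _ hu, mul_zero] at e
    rcases eq_or_ne y 0 with rfl | hy
    · have hx : x ≠ 0 := fun h => hu0 (by simp [h])
      have hc0 : c = 0 :=
        (mul_eq_zero.1 (by linear_combination -e : x * x * c = 0)).resolve_left (mul_ne_zero hx hx)
      exact ⟨b, by rw [hc0]; ring⟩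
    · refine ⟨(x * c + y * b) / y, ?_⟩
      field_simp
      linear_combination c * e
  · rintro ⟨s, hs⟩
    obtain ⟨x, y, hxy, h0⟩ : ∃ x y : F, (x ≠ 0 ∨ y ≠ 0) ∧
        (x * x + δ * y * y) * c + 2 * x * y * b = 0 := by
      rcases eq_or_ne c 0 with hc0 | hc0
      · exact ⟨1, 0, Or.inl one_ne_zero, by rw [hc0]; ring⟩
      · exact ⟨s - b, c, Or.inr hc0, by linear_combination (-c) * hs⟩
    refine ⟨Submodule.span F {x • v + y • J v}, ?_, ?_, ?_⟩
    · rw [Submodule.span_le, Set.singleton_subset_iff]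
      exact mem_plane.2 ⟨x, y, rfl⟩
    · intro u hu
      obtain ⟨t, rfl⟩ := Submodule.mem_span_singleton.1 hu
      have := hQ x y
      rw [h0] at this
      rw [QuadraticMap.map_smul, (mul_eq_zero.1 this).resolve_left h2, smul_zero]
    · rw [hd, finrank_span_singleton]
      intro e
      have h1 := congrArg (polarBilin Q v) e
      have h3 := congrArg (polarBilin Q (J v)) e
      simp only [map_add, map_smul, map_zero, smul_eq_mul, hJ.polar_JJ, hJ.sa v v] at h1 h3
      have hD := det_ne_zero hδ ((valP_ne_zero_iff J v).1 hv)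
      rcases hxy with h | h
      · exact h ((mul_eq_zero.1 (by linear_combination (δ * c) * h1 - b * h3 :
          x * (δ * c * c - b * b) = 0)).resolve_right hD)
      · exact h ((mul_eq_zero.1 (by linear_combination c * h3 - b * h1 :
          y * (δ * c * c - b * b) = 0)).resolve_right hD)

end Finite

end CfsgLib.Elusive2
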