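import Cfsg.Agent.Elusive2.OrthStd

/-!
Even dimensional non-degenerate subspaces of odd dimensional orthogonal spaces: odd primes prime to the characteristic.
-/

set_option autoImplicit false
set_option linter.unusedSectionVars false

namespace CfsgLib.Elusive2

open Module QuadraticMap CfsgLib.Elusive CfsgLib.Quad

variable {F V : Type*} [Field F] [Fintype F] [AddCommGroup V] [Module F V] [FiniteDimensional F V]
  {Q : QuadraticForm F V} {r : ℕ} [hr' : Fact r.Prime]

theorem perp_bot : perp (polarBilin Q) (⊥ : Submodule F V) = ⊤ := eq_top_iff.2 fun v _ =>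
  mem_perp.2 fun w hw => by rw [(Submodule.mem_bot F).1 hw, map_zero, LinearMap.zero_apply]

/-- If every element of order `r` has an invariant member, the dimension is at least a block. -/
theorem blockDim_le_of_all (hQ : (polarBilin Q).Nondegenerate) (hr : (r : F) ≠ 0) (hr2 : r ≠ 2) {m : ℕ}
    {P : Submodule F V → Prop} (hC : IsClass Q m P) (hne : ∃ W, P W) (hdvd : r ∣ Nat.card {W // P W}) {n : ℕ}
    (hn : finrank F V = n) (hodd : Odd n)
    (hall : ∀ g : oGroup Q, g ^ r = 1 → g ≠ 1 → ∃ W, P W ∧ Inv g.1.toLinearMap W) :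
    blockDim (ordq F r) ≤ n ∧ blockDim (ordq F r) ≤ m := by
  have hc := blockDim_pos (F := F) (r := r) hr
  have h1 : (blockDim (ordq F r)) ≤ n := by
    by_contra hcn
    push Not at hcn
    obtain ⟨W, hW⟩ := hne
    refine no_member_fixed hQ hr hr2 hC hdvd (g := 1) (one_pow r) ?_ (fun s hs0 hle => ?_) W hW fun v _ => mem_fixS.2 rfl
    · have := Submodule.finrank_le W
      rw [hC.dim W hW] at this
      omega
    · have := Submodule.finrank_le (fixS ((1 : oGroup Q).1.toLinearMap))
      have := Nat.le_mul_of_pos_left (blockDim (ordq F r)) hs0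
      omega
  refine ⟨h1, ?_⟩
  by_contra hmc
  push Not at hmc
  have hQt := ndg_top_iff.2 hQ
  have hS : 0 < (n / blockDim (ordq F r)) := Nat.div_pos h1 hc
  have hlt : (n / blockDim (ordq F r)) * (blockDim (ordq F r)) < n := lt_of_le_of_ne (Nat.div_mul_le_self n (blockDim (ordq F r))) fun e =>
    Nat.not_even_iff_odd.2 hodd (e ▸ (blockDim_even _).mul_left (n / blockDim (ordq F r)))
  obtain ⟨X, hXn, -, hXd, hXp⟩ := exists_sub_type' hQt ((blockDim_even (ordq F r)).mul_left (n / blockDim (ordq F r)))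
    (blkType (ordq F r) (n / blockDim (ordq F r))) (by rw [finrank_top, hn]; exact hlt.le)
    (fun h => by have := Nat.mul_pos hS hc; omega) (fun h => by rw [finrank_top, hn] at h; omega)
  obtain ⟨g, hg, hgf⟩ := exists_fpf_on hQt hr hr2 (n / blockDim (ordq F r)) X hXn hXd hXp
  have hfd : finrank F (fixS g.1.toLinearMap) = n - (n / blockDim (ordq F r)) * (blockDim (ordq F r)) := by
    obtain ⟨-, -, h2, -⟩ := exists_split (T := ⊤) polar_refl hXn le_top
    rw [top_inf_eq, finrank_top] at h2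
    rw [hgf]
    omega
  have hkc : n - (n / blockDim (ordq F r)) * (blockDim (ordq F r)) < (blockDim (ordq F r)) := by
    have := Nat.lt_div_mul_add (a := n) hc
    omega
  have hg1 : g ≠ 1 := fun e => by
    have h9 : fixS ((1 : oGroup Q).1.toLinearMap) = ⊤ := eq_top_iff.2 fun v _ => mem_fixS.2 rfl
    rw [e, h9, finrank_top, hn] at hfd
    have := Nat.mul_pos hS hc
    omega
  obtain ⟨W, hW, hinv⟩ := hall g hg hg1
  refine no_member_fixed hQ hr hr2 hC hdvd hg hmc (fun s hs0 hle => ?_) W hW ?_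
  · have := Nat.le_mul_of_pos_left (blockDim (ordq F r)) hs0
    omega
  have hP := orthPack_of_elt hQt hg
  obtain ⟨a, Xb, Xa, -, -, -, -, -, -, hWd, -⟩ := hP.ndg_parts hr hr2 hinv (hC.ndg W hW)
  obtain ⟨-, hM, hMF⟩ := split_fix_mov hP.pack hr hinv (hC.ndg W hW)
  obtain ⟨a', ha', -⟩ := hP.shape hr hr2 _ (W.map (g.1.toLinearMap - 1)) rfl hinv.map_sub.1 hM hMF
  have hsum := dim_split (f := g.1.toLinearMap) W
  rw [hC.dim W hW, ha'] at hsum
  have ha0 : a' = 0 := by
    by_contra h0
    have := Nat.le_mul_of_pos_left (blockDim (ordq F r)) (Nat.pos_of_ne_zero h0)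
    omega
  rw [ha0, zero_mul] at hsum
  have hle : finrank F W ≤ finrank F ↥(W ⊓ fixS g.1.toLinearMap) := by rw [hC.dim W hW]; omega
  exact inf_eq_left.1 (Submodule.eq_of_le_of_finrank_le (inf_le_left : W ⊓ fixS g.1.toLinearMap ≤ W) hle)

/-- The criterion. -/
theorem all_fix_odd_iff (hQ : (polarBilin Q).Nondegenerate) (h2 : (2 : F) ≠ 0) (hr : (r : F) ≠ 0) (hr2 : r ≠ 2)
    {n : ℕ} (hn : finrank F V = n) (hodd : Odd n) {m : ℕ} (hm : Even m) (hm0 : 0 < m) (hmn : m < n) (τ : Prop)
    (hdvd : r ∣ Nat.card {W : Submodule F V // finrank F W = m ∧ Ndg (polarBilin Q) W ∧ (IsPlus Q W ↔ τ)}) :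
    (∀ g : oGroup Q, g ^ r = 1 → g ≠ 1 → ∃ W : Submodule F V,
        (finrank F W = m ∧ Ndg (polarBilin Q) W ∧ (IsPlus Q W ↔ τ)) ∧ Inv g.1.toLinearMap W) ↔
      (blockDim (ordq F r) ≤ m ∧ m % blockDim (ordq F r) < n % blockDim (ordq F r) ∧
        (m % blockDim (ordq F r) = 0 → (τ ↔ blkType (ordq F r) (m / blockDim (ordq F r))))) := by
  classical
  have hc := blockDim_pos (F := F) (r := r) hr
  have hce := blockDim_even (ordq F r)
  have hQt := ndg_top_iff.2 hQ
  have hC := isClass_type (Q := Q) hm τ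
  have hne : ∃ W : Submodule F V, finrank F W = m ∧ Ndg (polarBilin Q) W ∧ (IsPlus Q W ↔ τ) := by
    obtain ⟨W, h1, -, h3, h4⟩ := exists_sub_type' hQt hm τ (by rw [finrank_top, hn]; omega) (fun h => by omega)
      (fun h => by rw [finrank_top, hn] at h; omega)
    exact ⟨W, h3, h1, h4⟩
  have hiff := forall_fix_iff (P := fun W => finrank F W = m ∧ Ndg (polarBilin Q) W ∧ (IsPlus Q W ↔ τ)) hQt hr hr2 n
    hn (Or.inr h2) (FeasEven n (ordq F r) m (Even n → IsPlus Q ⊤) τ) fun f s hP hs => fix_even_iff hP hr hr2 hn hs hm τ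
  have hnc : ∀ s, s * (blockDim (ordq F r)) ≠ n := fun s e => Nat.not_even_iff_odd.2 hodd (e ▸ hce.mul_left s)
  have hkmod : (n % (blockDim (ordq F r))) % 2 = 1 := by
    rw [Nat.mod_mod_of_dvd n (even_iff_two_dvd.1 hce)]
    exact Nat.odd_iff.1 hodd
  have hlmod : (m % (blockDim (ordq F r))) % 2 = 0 := by
    rw [Nat.mod_mod_of_dvd m (even_iff_two_dvd.1 hce)]
    exact Nat.even_iff.1 hm
  constructor
  · intro hall
    obtain ⟨hcn, hcm⟩ := blockDim_le_of_all hQ hr hr2 hC hne hdvd hn hodd hall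
    refine ⟨hcm, ?_⟩
    have hS : 0 < n / (blockDim (ordq F r)) := Nat.div_pos hcn hc
    obtain ⟨a, b, has, hmd, hbn, hb0, -⟩ := hiff.1 hall (n / (blockDim (ordq F r)))
      ⟨hS, Nat.div_mul_le_self n (blockDim (ordq F r)), fun e => absurd e (hnc _)⟩
      (Or.inr (lt_of_le_of_ne (Nat.div_mul_le_self n (blockDim (ordq F r))) (hnc _)))
    have h1 := Nat.div_add_mod n (blockDim (ordq F r))
    have h1' := Nat.mod_lt n hc
    rw [mul_comm (blockDim (ordq F r)) (n / (blockDim (ordq F r)))] at h1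
    have hbc : b < (blockDim (ordq F r)) := by omega
    have hb : b = m % (blockDim (ordq F r)) := by rw [hmd, Nat.add_mul_mod_self_right, Nat.mod_eq_of_lt hbc]
    have ha : a = m / (blockDim (ordq F r)) := by rw [hmd, Nat.add_mul_div_right _ _ hc, Nat.div_eq_of_lt hbc, zero_add]
    refine ⟨by omega, fun h0 => ?_⟩
    rw [← ha]
    exact hb0 (hb.trans h0)
  · rintro ⟨hcm, hlk, hτ⟩
    refine hiff.2 fun s hs _ => ?_
    obtain ⟨hs0, hsn, -⟩ := hs
    have hsn' := hnc s
    have hdiv := Nat.div_add_mod m (blockDim (ordq F r))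
    rw [mul_comm (blockDim (ordq F r)) (m / (blockDim (ordq F r)))] at hdiv
    rcases Nat.lt_or_ge s (m / (blockDim (ordq F r))) with hlt | hge
    · have h := Nat.mul_le_mul_right (blockDim (ordq F r)) (show s + 1 ≤ m / (blockDim (ordq F r)) by omega)
      rw [Nat.add_mul, Nat.one_mul] at h
      exact ⟨s, m - s * (blockDim (ordq F r)), le_rfl, by omega, by omega, fun h0 => by omega, fun h0 => by omega⟩
    · have hdn := Nat.div_add_mod n (blockDim (ordq F r))
      rw [mul_comm (blockDim (ordq F r)) (n / (blockDim (ordq F r)))] at hdn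
      have h := Nat.mul_le_mul_right (blockDim (ordq F r)) ((Nat.le_div_iff_mul_le hc).2 hsn)
      refine ⟨m / (blockDim (ordq F r)), m % (blockDim (ordq F r)), hge, by omega, by omega, hτ, fun h0 => ?_⟩
      exfalso
      have h0' : n = m % (blockDim (ordq F r)) + s * (blockDim (ordq F r)) := h0.symm
      have : (n % (blockDim (ordq F r))) % 2 = 0 := by
        rw [h0', Nat.add_mul_mod_self_right, Nat.mod_mod, hlmod]
      omega

end CfsgLib.Elusive2
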