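import Cfsg.Agent.Elusive2.Block
import Cfsg.Agent.Elusive.SympPlanes

/-!
Non-degenerate invariant subspaces of symplectic isometries of odd prime order prime to the characteristic.
-/

set_option autoImplicit false
set_option linter.unusedSectionVars false

namespace CfsgLib.Elusive2

open Module Polynomial CfsgLib.Elusive

variable {F V : Type*} [Field F] [AddCommGroup V] [Module F V]
  {B : V →ₗ[F] V →ₗ[F] F} {f : V →ₗ[F] V} {r : ℕ}

/-- The block size: `i` for even `i`, `2 i` otherwise. -/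
def blockDim (i : ℕ) : ℕ := if Even i then i else 2 * i

theorem blockDim_even (i : ℕ) : Even (blockDim i) := by
  unfold blockDim
  split
  · assumption
  · exact even_two_mul i

theorem le_blockDim (i : ℕ) : i ≤ blockDim i := by
  unfold blockDim
  split <;> omega

theorem dvd_blockDim (i : ℕ) : i ∣ blockDim i := by
  unfold blockDim
  split
  · exact dvd_rfl
  · exact dvd_mul_left i 2

theorem blockDim_dvd {i n : ℕ} (h : i ∣ n) (hn : Even n) : blockDim i ∣ n := by
  unfold blockDim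
  split
  · exact h
  · rename_i hi
    exact Nat.Coprime.mul_dvd_of_dvd_of_dvd
      (Nat.coprime_two_left.2 (Nat.not_even_iff_odd.1 hi)) (even_iff_two_dvd.1 hn) h

theorem alt_refl (halt : ∀ v, B v v = 0) : ∀ u v, B u v = 0 → B v u = 0 := fun u v h => by
  have := halt (u + v)
  simp only [map_add, LinearMap.add_apply, halt, h, add_zero, zero_add] at this
  exact this

theorem alt_swap (halt : ∀ v, B v v = 0) (u v : V) : B v u = -B u v := by
  have := halt (u + v)
  simp only [map_add, LinearMap.add_apply, halt, add_zero, zero_add] at this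
  exact eq_neg_of_add_eq_zero_left this

theorem exists_plane [FiniteDimensional F V] (halt : ∀ v, B v v = 0) {W : Submodule F V}
    (hW : Ndg B W) (hne : W ≠ ⊥) : ∃ X, Ndg B X ∧ X ≤ W ∧ finrank F X = 2 := by
  obtain ⟨u, hu, hu0⟩ := W.exists_mem_ne_zero_of_ne_bot hne
  obtain ⟨v, hv, huv⟩ := hW u hu hu0
  have hvu : B v u ≠ 0 := fun h => huv (alt_refl halt v u h)
  have hle : Submodule.span F (Set.range ![u, v]) ≤ W := by
    rw [Submodule.span_le]
    rintro _ ⟨j, rfl⟩
    fin_cases j <;> assumption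
  refine ⟨_, ?_, hle, ?_⟩
  · intro x hx hx0
    obtain ⟨c, rfl⟩ := (Submodule.mem_span_range_iff_exists_fun F).1 hx
    by_cases hc : c 0 = 0
    · refine ⟨u, Submodule.subset_span ⟨0, rfl⟩, ?_⟩
      have hc1 : c 1 ≠ 0 := fun h => hx0 (by simp [Fin.sum_univ_two, hc, h])
      simp [Fin.sum_univ_two, hc, hc1, hvu]
    · refine ⟨v, Submodule.subset_span ⟨1, rfl⟩, ?_⟩
      simp [Fin.sum_univ_two, halt, hc, huv]
  · rw [finrank_span_eq_card, Fintype.card_fin]
    refine Fintype.linearIndependent_iff.2 fun c hc => ?_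
    rw [Fin.sum_univ_two] at hc
    simp only [Matrix.cons_val_zero, Matrix.cons_val_one] at hc
    have h1 := congrArg (fun z => B z v) hc
    have h2 := congrArg (fun z => B z u) hc
    simp [halt, huv] at h1
    simp [halt, hvu] at h2
    intro j
    fin_cases j <;> assumption

theorem ndg_even [FiniteDimensional F V] (halt : ∀ v, B v v = 0) :
    ∀ (n : ℕ) (W : Submodule F V), finrank F W = n → Ndg B W → Even n := by
  intro n
  induction n using Nat.strong_induction_on with
  | _ n ih =>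
    intro W hd hW
    rcases eq_or_ne W ⊥ with rfl | hne
    · rw [finrank_bot] at hd; exact hd ▸ ⟨0, rfl⟩
    obtain ⟨X, hX, hXW, hX2⟩ := exists_plane halt hW hne
    obtain ⟨-, -, hdim, hnd⟩ := exists_split (alt_refl halt) hX hXW
    have h := ih _ (by omega) _ rfl (hnd hW)
    rw [← hd, ← hdim, hX2]
    exact even_two.add h

/-- An alternating form with an isometry of order `r`. -/
structure IsSympPack (B : V →ₗ[F] V →ₗ[F] F) (f : V →ₗ[F] V) (r : ℕ) : Prop extends IsPack B f r where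
  alt : ∀ v, B v v = 0
  top : Ndg B ⊤

variable [Fintype F] [FiniteDimensional F V] [hr' : Fact r.Prime]

theorem selfDual_id {p : ℕ} [Fact p.Prime] [CharP F p] (hi : Even (ordq F r))
    (h0 : 0 < ordq F r) : SelfDual p r (RingHom.id F) := by
  obtain ⟨e, -, hcard⟩ := FiniteField.card F p
  obtain ⟨j, hj⟩ := hi
  refine ⟨(e : ℕ) * j, ?_, fun x => ?_⟩
  · rw [pow_mul, ← hcard]
    set y : ZMod r := ((Fintype.card F : ℕ) : ZMod r) with hy
    have h2 : y ^ j * y ^ j = 1 := by rw [← pow_add, ← hj]; exact pow_orderOf_eq_one y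
    have h1 : y ^ j ≠ 1 := fun h => by
      have := orderOf_dvd_of_pow_eq_one h
      rw [← show ordq F r = orderOf y from rfl] at this
      have := Nat.le_of_dvd (by omega) this
      omega
    rw [← ZMod.natCast_eq_zero_iff, Nat.cast_add, Nat.cast_pow, ← hy, Nat.cast_one,
      (mul_self_eq_one_iff.1 h2).resolve_left h1, neg_add_cancel]
  · rw [pow_mul, ← hcard, FiniteField.pow_card_pow, RingHom.id_apply]

theorem IsSympPack.exists_block (hP : IsSympPack B f r) (hr : (r : F) ≠ 0) (hr2 : r ≠ 2)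
    {W : Submodule F V} (hW : Inv f W) (hWn : Ndg B W) (hfix : W ⊓ fixS f = ⊥) (hne : W ≠ ⊥) :
    ∃ X, Inv f X ∧ Ndg B X ∧ X ≤ W ∧ finrank F X = blockDim (ordq F r) := by
  unfold blockDim
  split
  · rename_i hi
    obtain ⟨p, hp⟩ := CharP.exists F
    have : Fact p.Prime := ⟨CharP.char_is_prime F p⟩
    exact exists_block_selfDual hP.toIsPack hr hr2 (selfDual_id (p := p) hi (ordq_pos hr))
      hW hWn hfix hne
  · rename_i hi
    obtain ⟨X, U, h1, h2, h3, h4, -⟩ := exists_block_pair hP.toIsPack hr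
      (fun U _ _ hd hn => hi (hd ▸ ndg_even hP.alt _ U rfl hn)) hW hWn hfix hne
    exact ⟨X, h1, h2, h3, h4⟩

theorem IsSympPack.blockDim_dvd_mov (hP : IsSympPack B f r) (hr : (r : F) ≠ 0) {W : Submodule F V}
    (hW : Inv f W) (hWn : Ndg B W) : blockDim (ordq F r) ∣ finrank F (W.map (f - 1)) :=
  blockDim_dvd (mov_dvd hP.pow_r hr hW)
    (ndg_even hP.alt _ _ rfl (split_fix_mov hP.toIsPack hr hW hWn).2.1)

theorem IsSympPack.fix_ndg (hP : IsSympPack B f r) (hr : (r : F) ≠ 0) :
    Ndg B (fixS f) ∧ Ndg B (movS f) ∧ movS f ⊓ fixS f = ⊥ := by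
  have h := split_fix_mov hP.toIsPack hr (Inv.top f) hP.top
  rwa [top_inf_eq, Submodule.map_top] at h

/-- The dimensions of invariant non-degenerate subspaces. -/
theorem IsSympPack.exists_ndg_iff (hP : IsSympPack B f r) (hr : (r : F) ≠ 0) (hr2 : r ≠ 2) (m : ℕ) :
    (∃ W, Inv f W ∧ Ndg B W ∧ finrank F W = m) ↔
      ∃ a b, Even b ∧ b ≤ finrank F (fixS f) ∧ a * blockDim (ordq F r) ≤ finrank F (movS f) ∧
        m = b + a * blockDim (ordq F r) := by
  constructor
  · rintro ⟨W, hW, hWn, rfl⟩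
    obtain ⟨a, ha⟩ := hP.blockDim_dvd_mov hr hW hWn
    refine ⟨a, finrank F ↥(W ⊓ fixS f), ndg_even hP.alt _ _ rfl (split_fix_mov hP.toIsPack hr hW hWn).1,
      Submodule.finrank_mono inf_le_right, ?_, ?_⟩
    · rw [Nat.mul_comm, ← ha]
      exact Submodule.finrank_mono LinearMap.map_le_range
    · rw [Nat.mul_comm, ← ha]
      exact dim_split W
  · rintro ⟨a, b, ⟨b', hb⟩, hbF, ha, rfl⟩
    obtain ⟨hF, hM, hMF⟩ := hP.fix_ndg hr
    obtain ⟨X, hX, hXn, hXle, hXd⟩ := exists_peel hP.toIsPack (CfsgLib.Elusive2.Inv.fixS f) hF (c := 2)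
      (fun W _ hWn hle hne => by
        obtain ⟨Y, hYn, hYW, hYd⟩ := exists_plane hP.alt hWn hne
        exact ⟨Y, Inv.of_le_fix (hYW.trans hle), hYn, hYW, hYd⟩) b' (by omega)
    obtain ⟨Y, hY, hYn, hYle, hYd⟩ := exists_peel hP.toIsPack (CfsgLib.Elusive2.Inv.movS f) hM
      (fun W hW hWn hle hne => hP.exists_block hr hr2 hW hWn
        (le_bot_iff.1 ((inf_le_inf_right _ hle).trans hMF.le)) hne) a ha
    refine ⟨X ⊔ Y, hX.sup hY, hXn.sup hP.refl hYn fun x hx y hy =>
      fix_orth hP.toIsPack (hXle hx) (hYle hy), ?_⟩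
    have := Submodule.finrank_sup_add_finrank_inf_eq X Y
    rw [le_bot_iff.1 ((inf_le_inf hXle hYle).trans (inf_comm (fixS f) _ ▸ hMF.le)), finrank_bot] at this
    omega

/-! ### The standard space -/

section Std

variable {d : ℕ}

theorem ndg_top_symp : Ndg (sympBilin d F) (⊤ : Submodule F (Fin d ⊕ Fin d → F)) := fun _ _ h0 => by
  obtain ⟨v, hv⟩ := CfsgLib.Symp.exists_form_ne_zero h0
  exact ⟨v, Submodule.mem_top, hv⟩

/-- A symplectic matrix with scalar `r`-th power, made of order `r`. -/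
theorem exists_sympPack (hd : 0 < d) (hr2 : r ≠ 2) (x : ↥(Matrix.symplecticGroup (Fin d) F))
    (hx : ∃ z : F, ((x ^ r : ↥(Matrix.symplecticGroup (Fin d) F)) : Matrix (Fin d ⊕ Fin d) (Fin d ⊕ Fin d) F) = z • 1)
    (hns : ∀ z : F, (x : Matrix (Fin d ⊕ Fin d) (Fin d ⊕ Fin d) F) ≠ z • 1) :
    ∃ f : (Fin d ⊕ Fin d → F) →ₗ[F] (Fin d ⊕ Fin d → F),
      IsSympPack (sympBilin d F) f r ∧ f ≠ 1 ∧
        ∀ W : Submodule F (Fin d ⊕ Fin d → F), Inv f W ↔
          W.map (Matrix.toLin' (x : Matrix (Fin d ⊕ Fin d) (Fin d ⊕ Fin d) F)) ≤ W := by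
  obtain ⟨z, hz⟩ := hx
  set M : Matrix (Fin d ⊕ Fin d) (Fin d ⊕ Fin d) F := (x : Matrix (Fin d ⊕ Fin d) (Fin d ⊕ Fin d) F) with hM
  have hMr : M ^ r = z • 1 := by rw [← hz]; simp [hM]
  have hz2 : z * z = 1 := by
    have hne : (Pi.single (Sum.inl ⟨0, hd⟩) 1 : Fin d ⊕ Fin d → F) ≠ 0 := by simp
    obtain ⟨v, hv⟩ := CfsgLib.Symp.exists_form_ne_zero hne
    have h := CfsgLib.Symp.form_smul_smul (x ^ r) (Pi.single (Sum.inl ⟨0, hd⟩) 1) v
    have e : ∀ w, (x ^ r : ↥(Matrix.symplecticGroup (Fin d) F)) • w = z • w := fun w => by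
      show ((x ^ r : ↥(Matrix.symplecticGroup (Fin d) F)) : Matrix (Fin d ⊕ Fin d) (Fin d ⊕ Fin d) F).mulVec w = _
      rw [hz, Matrix.smul_mulVec, Matrix.one_mulVec]
    rw [e, e] at h
    change sympBilin d F _ _ = sympBilin d F _ _ at h
    rw [map_smul, map_smul, LinearMap.smul_apply,
      smul_eq_mul, smul_eq_mul, ← mul_assoc] at h
    exact mul_right_cancel₀ hv (h.trans (one_mul _).symm)
  have hzr : z ^ r * z = 1 := by
    obtain ⟨k, hk⟩ := hr'.out.odd_of_ne_two hr2
    rw [hk, pow_succ, pow_mul, pow_two, hz2, one_pow, one_mul, hz2]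
  refine ⟨Matrix.toLinAlgEquiv' (z • M), ⟨⟨alt_refl fun v => CfsgLib.Symp.form_self v, fun u v => ?_, ?_,
    hr'.out.pos⟩, fun v => CfsgLib.Symp.form_self v, ndg_top_symp⟩, fun e => ?_, fun W => ?_⟩
  · rw [map_smul Matrix.toLinAlgEquiv', LinearMap.smul_apply, LinearMap.smul_apply, map_smul, map_smul,
      LinearMap.smul_apply, smul_smul, hz2, one_smul]
    exact CfsgLib.Symp.form_smul_smul x u v
  · rw [← map_pow, _root_.smul_pow, hMr, smul_smul, hzr, one_smul, map_one]
  · have h1 : z • M = 1 := Matrix.toLinAlgEquiv'.injective (e.trans (map_one _).symm)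
    refine hns z ?_
    show M = z • 1
    rw [← h1, smul_smul, hz2, one_smul]
  · constructor
    · rintro h _ ⟨w, hw, rfl⟩
      have := h w hw
      rw [map_smul Matrix.toLinAlgEquiv', LinearMap.smul_apply] at this
      have h2 := W.smul_mem z this
      rw [smul_smul, hz2, one_smul] at h2
      exact h2
    · intro h w hw
      rw [map_smul Matrix.toLinAlgEquiv', LinearMap.smul_apply]
      exact W.smul_mem z (h ⟨w, hw, rfl⟩)

end Std

end CfsgLib.Elusive2
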