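import Cfsg.Agent.Elusive2.OrthSub
import Cfsg.Agent.Elusive2.Symp
import Cfsg.Agent.Quad.Orders

/-!
Invariant non-degenerate subspaces of orthogonal transformations of odd prime order prime to the characteristic.
-/

set_option autoImplicit false
set_option linter.unusedSectionVars false

namespace CfsgLib.Elusive2

open Module QuadraticMap CfsgLib.Elusive

variable {F V : Type*} [Field F] [AddCommGroup V] [Module F V] {Q : QuadraticForm F V} {f : V →ₗ[F] V} {r : ℕ}

/-- A non-degenerate quadratic form with an isometry of order `r`. -/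
structure IsOrthPack (Q : QuadraticForm F V) (f : V →ₗ[F] V) (r : ℕ) : Prop where
  top : Ndg (polarBilin Q) ⊤
  quad : ∀ v, Q (f v) = Q v
  pow_r : f ^ r = 1
  pos : 0 < r

theorem IsOrthPack.pack (hP : IsOrthPack Q f r) : IsPack (polarBilin Q) f r :=
  ⟨polar_refl, fun u v => by
    simp only [polarBilin_apply_apply, polar, ← map_add, hP.quad], hP.pow_r, hP.pos⟩

/-- The type of a sum of `s` blocks. -/
def blkType (i s : ℕ) : Prop := Odd i ∨ Even s

theorem blkType_add (i s t : ℕ) : blkType i (s + t) ↔ (blkType i s ↔ blkType i t) := by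
  unfold blkType
  rcases Nat.even_or_odd i with hi | hi
  · simp [Nat.not_odd_iff_even.2 hi, Nat.even_add]
  · simp [hi]

theorem blkType_zero (i : ℕ) : blkType i 0 := Or.inr Even.zero

theorem blkType_one (i : ℕ) : blkType i 1 ↔ Odd i := by simp [blkType]

variable [Fintype F] [FiniteDimensional F V] [hr' : Fact r.Prime]

/-- An isometry of odd order of an odd dimensional space has a fixed vector. -/
theorem no_fpf_odd {U : Submodule F V} (hU : Ndg (polarBilin Q) U) (hinv : Inv f U) (hP : IsOrthPack Q f r)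
    (hr2 : r ≠ 2) (hd : Odd (finrank F U)) : ¬ (U ⊓ fixS f = ⊥) := by
  intro hfix
  by_cases h2 : (2 : F) = 0
  · have := ndg_even (B := polarBilin Q) (fun v => by
      rw [polarBilin_apply_apply, polar_self, nsmul_eq_mul, Nat.cast_ofNat, h2, zero_mul]) _ U rfl hU
    exact (Nat.not_odd_iff_even.2 this) hd
  classical
  let g : U →ₗ[F] U := f.restrict hinv
  let bas := Module.finBasis F U
  set n := finrank F U
  let A := LinearMap.toMatrix bas bas g
  let Bf : LinearMap.BilinForm F U := (polarBilin Q).compl₁₂ U.subtype U.subtype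
  let M : Matrix (Fin n) (Fin n) F := LinearMap.BilinForm.toMatrix bas Bf
  have hM : M.det ≠ 0 := by
    refine (LinearMap.BilinForm.nondegenerate_iff_det_ne_zero (B := Bf) bas).1 ?_
    exact ndg_comp_aux hU
  have hAM : A.transpose * M * A = M := by
    have e : LinearMap.BilinForm.comp Bf g g = Bf := by
      refine LinearMap.ext₂ fun u v => ?_
      exact hP.pack.isom u v
    have := congrArg (LinearMap.BilinForm.toMatrix bas) e
    rwa [LinearMap.BilinForm.toMatrix_comp bas bas] at this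
  have hAr : A ^ r = 1 := by
    have hg : ∀ k (u : U), (((g ^ k) u : U) : V) = (f ^ k) u := fun k => by
      induction k with
      | zero => intro u; rfl
      | succ k ih => intro u; rw [pow_succ', pow_succ', Module.End.mul_apply, Module.End.mul_apply, ← ih]; rfl
    have hgr : g ^ r = 1 := LinearMap.ext fun u => Subtype.ext (by rw [hg, hP.pow_r]; rfl)
    show LinearMap.toMatrixAlgEquiv bas g ^ r = 1
    rw [← map_pow, hgr, map_one]
  have hdA : A.det = 1 := by
    have h1 : A.det * A.det = 1 := by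
      have := congrArg Matrix.det hAM
      rw [Matrix.det_mul, Matrix.det_mul, Matrix.det_transpose] at this
      exact mul_right_cancel₀ hM (by linear_combination this)
    obtain ⟨j, hj⟩ := hr'.out.odd_of_ne_two hr2
    have h3 := congrArg Matrix.det hAr
    rwa [Matrix.det_pow, Matrix.det_one, hj, pow_succ, pow_mul, pow_two, h1, one_pow, one_mul] at h3
  have hne : (A - 1).det ≠ 0 := by
    intro h0
    obtain ⟨v, hv0, hv⟩ := Matrix.exists_mulVec_eq_zero_iff.2 h0
    rw [Matrix.sub_mulVec, Matrix.one_mulVec, sub_eq_zero] at hv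
    have hu : bas.equivFun.symm v ≠ 0 := fun e => hv0 (bas.equivFun.symm.map_eq_zero_iff.1 e)
    refine hu (Subtype.ext ?_)
    have hgu : g (bas.equivFun.symm v) = bas.equivFun.symm v := by
      refine bas.equivFun.injective (funext fun j => ?_)
      have hrep : ⇑(bas.repr (bas.equivFun.symm v)) = v := by
        rw [← Module.Basis.equivFun_apply, LinearEquiv.apply_symm_apply]
      rw [LinearEquiv.apply_symm_apply, Module.Basis.equivFun_apply, ← LinearMap.toMatrix_mulVec_repr bas bas g, hrep]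
      exact congrFun hv j
    have : ((bas.equivFun.symm v : U) : V) ∈ U ⊓ fixS f :=
      ⟨Submodule.coe_mem _, mem_fixS.2 (congrArg Subtype.val hgu)⟩
    rwa [hfix, Submodule.mem_bot] at this
  -- `(Aᵀ - 1) M A = M (1 - A)`
  have key : (A.transpose - 1) * M * A = M * (1 - A) := by
    rw [Matrix.sub_mul, Matrix.one_mul, Matrix.sub_mul, hAM, Matrix.mul_sub, Matrix.mul_one]
  have hd1 := congrArg Matrix.det key
  rw [Matrix.det_mul, Matrix.det_mul, Matrix.det_mul, hdA, mul_one, show (1 : Matrix (Fin n) (Fin n) F) - A = -(A - 1) by abel,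
    Matrix.det_neg, Fintype.card_fin, hd.neg_one_pow, show A.transpose - 1 = (A - 1).transpose by simp,
    Matrix.det_transpose] at hd1
  exact mul_ne_zero (mul_ne_zero h2 hne) hM (by linear_combination hd1)
where
  ndg_comp_aux {U : Submodule F V} (hU : Ndg (polarBilin Q) U) :
      ((polarBilin Q).compl₁₂ U.subtype U.subtype : LinearMap.BilinForm F U).Nondegenerate := by
    have h1 : ∀ w : U, (∀ u : U, polarBilin Q (w : V) u = 0) → w = 0 := fun w h => by
      by_contra h0
      obtain ⟨v, hv, hne⟩ := hU w w.2 fun e => h0 (Subtype.ext e)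
      exact hne (h ⟨v, hv⟩)
    exact ⟨fun w hw => h1 w hw, fun u hu => h1 u fun w => (polar_swap _ _).trans (hu w)⟩

/-- An isotropic invariant subspace without fixed vectors is totally singular. -/
theorem sing_of_iso0 (hP : IsOrthPack Q f r) {U : Submodule F V} (hU : Inv f U) (hiso : Iso0 (polarBilin Q) U)
    (hfix : U ⊓ fixS f = ⊥) : ∀ u ∈ U, Q u = 0 := by
  intro u hu
  have hsurj : U.map (f - 1) = U := by
    refine Submodule.eq_of_le_of_finrank_le hU.map_sub.2 ?_
    have := dim_split (f := f) U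
    rw [hfix, finrank_bot] at this
    omega
  obtain ⟨v, hv, rfl⟩ := (hsurj.symm ▸ hu : u ∈ U.map (f - 1))
  rw [LinearMap.sub_apply, Module.End.one_apply]
  have h1 := hiso (f v - v) (U.sub_mem (hU v hv) hv) v hv
  have h2 := quad_add' (Q := Q) (f v - v) v
  rw [sub_add_cancel, hP.quad, h1, add_zero] at h2
  linear_combination -h2

/-- The fixed point argument in a plus space. -/
theorem not_isPlus_fpf (hP : IsOrthPack Q f r) (hr2 : r ≠ 2) {W : Submodule F V} (hW : Inv f W)
    (hWn : Ndg (polarBilin Q) W) (hfix : W ⊓ fixS f = ⊥) {k : ℕ} (hd : finrank F W = 2 * (k + 1))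
    (hk : r ∣ Fintype.card F ^ (k + 1) + 1) : ¬ IsPlus Q W := by
  classical
  intro hp
  obtain ⟨a, b, hab⟩ := exists_zeta F
  obtain ⟨-, φ, hφ⟩ := (exists_model hWn hd hab).resolve_right fun h => h.1 hp
  set x : ZMod r := ((Fintype.card F : ℕ) : ZMod r) with hx
  have hxk : x ^ (k + 1) = -1 := by
    have h := (ZMod.natCast_eq_zero_iff _ r).2 hk
    rw [Nat.cast_add, Nat.cast_pow, Nat.cast_one] at h
    exact eq_neg_of_add_eq_zero_left h
  have hne : (-1 : ZMod r) ≠ 1 := fun e => hr2 (by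
    have h : ((2 : ℕ) : ZMod r) = 0 := by push_cast; linear_combination -e
    exact (Nat.prime_dvd_prime_iff_eq hr'.out Nat.prime_two).1 ((ZMod.natCast_eq_zero_iff _ _).1 h))
  have hN : ¬ r ∣ Nat.card {v // Quad.plusQ (F := F) (k + 1) v ≠ 0} := by
    intro h
    have hz := Quad.zeros_plus (F := F) (q := Fintype.card F) Nat.card_eq_fintype_card (k + 1)
    have hsplit : (Nat.card {v // Quad.plusQ (F := F) (k + 1) v = 0} : ℤ) +
        Nat.card {v // Quad.plusQ (F := F) (k + 1) v ≠ 0} = (Fintype.card F : ℤ) ^ (2 * (k + 1)) := by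
      have h := Nat.card_congr (Equiv.sumCompl fun v : Fin (k + 1) ⊕ Fin (k + 1) → F => Quad.plusQ (k + 1) v = 0)
      rw [Nat.card_sum, Nat.card_fun, Nat.card_sum, Nat.card_fin, Nat.card_eq_fintype_card (α := F)] at h
      rw [show 2 * (k + 1) = k + 1 + (k + 1) by ring]
      exact_mod_cast h
    have e := congrArg (fun n : ℤ => (n : ZMod r)) hz
    have e2 := congrArg (fun n : ℤ => (n : ZMod r)) hsplit
    push_cast at e e2
    rw [(ZMod.natCast_eq_zero_iff _ r).2 h] at e2
    rw [← hx, show x ^ (k + 1 + 1) = x ^ (k + 1) * x from pow_succ x (k + 1),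
      show 2 * (k + 1) = (k + 1) + (k + 1) by ring, pow_add, hxk] at e
    rw [← hx, show 2 * (k + 1) = (k + 1) + (k + 1) by ring, pow_add, hxk] at e2
    have h20 : (2 : ZMod r) * x = 2 := by linear_combination e - x * e2
    have h2 : (2 : ZMod r) ≠ 0 := fun e => hne (by linear_combination -e)
    have hx1 : x = 1 := mul_left_cancel₀ h2 (h20.trans (mul_one _).symm)
    rw [hx1, one_pow] at hxk
    exact hne hxk.symm
  let g : W → W := fun w => ⟨f w, hW _ w.2⟩
  have hgr : ∀ w : W, (g^[r]) w = w := fun w => Subtype.ext (by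
    have : ∀ j, (((g^[j]) w : W) : V) = (f ^ j) w := fun j => by
      induction j with
      | zero => rfl
      | succ j ih => rw [Function.iterate_succ', pow_succ', Function.comp_apply, Module.End.mul_apply, ← ih]
    rw [this, hP.pow_r]; rfl)
  let σ : Equiv.Perm W :=
    { toFun := g, invFun := g^[r - 1]
      left_inv := fun w => by
        rw [← Function.iterate_succ_apply, show (r - 1).succ = r by have := hP.pos; omega, hgr]
      right_inv := fun w => by
        rw [← Function.iterate_succ_apply' g, show (r - 1).succ = r by have := hP.pos; omega, hgr] }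
  let τ : Equiv.Perm {v // Quad.plusQ (F := F) (k + 1) v ≠ 0} :=
    ((φ.toEquiv.symm.trans σ).trans φ.toEquiv).subtypeEquiv fun v => by
      show Quad.plusQ (k + 1) v ≠ 0 ↔ Quad.plusQ (k + 1) (φ (σ (φ.symm v))) ≠ 0
      rw [hφ, show ((σ (φ.symm v) : W) : V) = f (φ.symm v : V) from rfl, hP.quad, ← hφ, φ.apply_symm_apply]
  have hτk : ∀ (m : ℕ) v, ((τ ^ m) v).1 = φ ((g^[m]) (φ.symm v.1)) := by
    intro m
    induction m with
    | zero => intro v; exact (φ.apply_symm_apply _).symm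
    | succ m ih =>
      intro v
      rw [pow_succ', Equiv.Perm.mul_apply, Function.iterate_succ_apply']
      show φ (g (φ.symm ((τ ^ m) v).1)) = _
      rw [ih, φ.symm_apply_apply]
  have hτ : τ ^ r ^ 1 = 1 := Equiv.ext fun v => Subtype.ext (by
    rw [pow_one, hτk, hgr, φ.apply_symm_apply]; rfl)
  have := Fintype.ofFinite {v // Quad.plusQ (F := F) (k + 1) v ≠ 0}
  obtain ⟨v, hv⟩ := Equiv.Perm.exists_fixed_point_of_prime (by rwa [← Nat.card_eq_fintype_card]) hτ
  have h1 : φ (g (φ.symm v.1)) = v.1 := congrArg Subtype.val hv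
  have h2 : g (φ.symm v.1) = φ.symm v.1 := φ.injective (h1.trans (φ.apply_symm_apply _).symm)
  have h3 : ((φ.symm v.1 : W) : V) ∈ W ⊓ fixS f := ⟨Submodule.coe_mem _, mem_fixS.2 (congrArg Subtype.val h2)⟩
  rw [hfix, Submodule.mem_bot] at h3
  refine v.2 ?_
  rw [show v.1 = φ (φ.symm v.1) from (φ.apply_symm_apply _).symm, hφ, h3, QuadraticMap.map_zero]

/-- Blocks. -/
theorem IsOrthPack.exists_block (hP : IsOrthPack Q f r) (hr : (r : F) ≠ 0) (hr2 : r ≠ 2) {W : Submodule F V}
    (hW : Inv f W) (hWn : Ndg (polarBilin Q) W) (hfix : W ⊓ fixS f = ⊥) (hne : W ≠ ⊥) :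
    ∃ X, Inv f X ∧ Ndg (polarBilin Q) X ∧ X ≤ W ∧ finrank F X = blockDim (ordq F r) ∧
      (IsPlus Q X ↔ Odd (ordq F r)) := by
  have hi0 := ordq_pos (F := F) (r := r) hr
  rcases Nat.even_or_odd (ordq F r) with hi | hi
  · obtain ⟨p, hp⟩ := CharP.exists F
    have : Fact p.Prime := ⟨CharP.char_is_prime F p⟩
    obtain ⟨X, hX, hXn, hXW, hXd⟩ := exists_block_selfDual hP.pack hr hr2 (selfDual_id (p := p) hi hi0) hW hWn hfix hne
    refine ⟨X, hX, hXn, hXW, by rw [hXd, blockDim, if_pos hi], iff_of_false ?_ (Nat.not_odd_iff_even.2 hi)⟩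
    obtain ⟨j, hj⟩ := hi
    obtain ⟨k, rfl⟩ : ∃ k, j = k + 1 := ⟨j - 1, by omega⟩
    refine not_isPlus_fpf hP hr2 hX hXn (le_bot_iff.1 ((inf_le_inf_right _ hXW).trans hfix.le))
      (k := k) (by omega) ?_
    set x : ZMod r := ((Fintype.card F : ℕ) : ZMod r) with hx
    have hxi : orderOf x = k + 1 + (k + 1) := hj
    have h1 : x ^ (k + 1) * x ^ (k + 1) = 1 := by rw [← pow_add, ← hxi]; exact pow_orderOf_eq_one x
    rw [← ZMod.natCast_eq_zero_iff, Nat.cast_add, Nat.cast_pow, Nat.cast_one, ← hx]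
    rcases mul_self_eq_one_iff.1 h1 with e | e
    · exact absurd (Nat.le_of_dvd (by omega) (orderOf_dvd_of_pow_eq_one e)) (by omega)
    · rw [e, neg_add_cancel]
  · obtain ⟨X, U, hX, hXn, hXW, hXd, hU, hiso, hUX, hUd⟩ := exists_block_pair hP.pack hr
      (fun U hU hf hd hn => no_fpf_odd hn hU hP hr2 (hd ▸ hi) hf) hW hWn hfix hne
    refine ⟨X, hX, hXn, hXW, by rw [hXd, blockDim, if_neg (Nat.not_even_iff_odd.2 hi)], iff_of_true ?_ hi⟩
    exact ⟨U, hUX, sing_of_iso0 hP hU hiso
      (le_bot_iff.1 ((inf_le_inf_right _ (hUX.trans hXW)).trans hfix.le)), by omega⟩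

theorem blockDim_pos (hr : (r : F) ≠ 0) : 0 < blockDim (ordq F r) :=
  lt_of_lt_of_le (ordq_pos hr) (le_blockDim _)

/-- The shape of a moved subspace. -/
theorem IsOrthPack.shape (hP : IsOrthPack Q f r) (hr : (r : F) ≠ 0) (hr2 : r ≠ 2) :
    ∀ (n : ℕ) (W : Submodule F V), finrank F W = n → Inv f W → Ndg (polarBilin Q) W → W ⊓ fixS f = ⊥ →
      ∃ s, n = s * blockDim (ordq F r) ∧ (IsPlus Q W ↔ blkType (ordq F r) s) := by
  intro n
  induction n using Nat.strong_induction_on with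
  | _ n ih =>
    intro W hn hW hWn hfix
    rcases eq_or_ne W ⊥ with rfl | hne
    · exact ⟨0, by rw [← hn, finrank_bot, zero_mul], iff_of_true IsPlus.bot (blkType_zero _)⟩
    obtain ⟨X, hX, hXn, hXW, hXd, hXp⟩ := hP.exists_block hr hr2 hW hWn hfix hne
    obtain ⟨hsup, hinf, hdim, hnd⟩ := exists_split polar_refl hXn hXW
    have hc := blockDim_pos (F := F) (r := r) hr
    obtain ⟨s, hs, hsp⟩ := ih _ (by omega) _ rfl (hW.inf (perp_inv hP.pack hX)) (hnd hWn)
      (le_bot_iff.1 ((inf_le_inf_right _ inf_le_left).trans hfix.le))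
    refine ⟨s + 1, by rw [Nat.add_mul, Nat.one_mul, ← hn, ← hdim, hXd, hs]; ring, ?_⟩
    conv_lhs => rw [← hsup]
    rw [isPlus_sup hXn (hnd hWn) (hXd ▸ blockDim_even _) (hs ▸ (blockDim_even _).mul_left s) hinf
      fun x hx y hy => mem_perp.1 hy.2 x hx, blkType_add, blkType_one, hXp, hsp]
    tauto

/-- Sums of `a` blocks inside a moved subspace. -/
theorem IsOrthPack.exists_blocks (hP : IsOrthPack Q f r) (hr : (r : F) ≠ 0) (hr2 : r ≠ 2) {W : Submodule F V}
    (hW : Inv f W) (hWn : Ndg (polarBilin Q) W) (hfix : W ⊓ fixS f = ⊥) {a : ℕ}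
    (ha : a * blockDim (ordq F r) ≤ finrank F W) :
    ∃ X, Inv f X ∧ Ndg (polarBilin Q) X ∧ X ≤ W ∧ finrank F X = a * blockDim (ordq F r) ∧
      (IsPlus Q X ↔ blkType (ordq F r) a) := by
  obtain ⟨X, hX, hXn, hXW, hXd⟩ := exists_peel hP.pack hW hWn (fun U hU hUn hle hne => by
    obtain ⟨Y, h1, h2, h3, h4, -⟩ := hP.exists_block hr hr2 hU hUn
      (le_bot_iff.1 ((inf_le_inf_right _ hle).trans hfix.le)) hne
    exact ⟨Y, h1, h2, h3, h4⟩) a ha
  obtain ⟨s, hs, hsp⟩ := hP.shape hr hr2 _ X rfl hX hXn (le_bot_iff.1 ((inf_le_inf_right _ hXW).trans hfix.le))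
  refine ⟨X, hX, hXn, hXW, hXd, ?_⟩
  rwa [Nat.eq_of_mul_eq_mul_right (blockDim_pos hr) (hs.symm.trans hXd)] at hsp

/-- The fixed and moved parts. -/
theorem IsOrthPack.fix_mov (hP : IsOrthPack Q f r) (hr : (r : F) ≠ 0) (hr2 : r ≠ 2) :
    ∃ s, finrank F (movS f) = s * blockDim (ordq F r) ∧ (IsPlus Q (movS f) ↔ blkType (ordq F r) s) ∧
      finrank F (fixS f) + s * blockDim (ordq F r) = finrank F V ∧
      Ndg (polarBilin Q) (fixS f) ∧ Ndg (polarBilin Q) (movS f) ∧ movS f ⊓ fixS f = ⊥ ∧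
      (Even (finrank F V) → (IsPlus Q (fixS f) ↔ (IsPlus Q ⊤ ↔ blkType (ordq F r) s))) := by
  obtain ⟨hF, hM, hMF⟩ := split_fix_mov hP.pack hr (Inv.top f) hP.top
  rw [top_inf_eq] at hF
  rw [Submodule.map_top] at hM hMF
  obtain ⟨s, hs, hsp⟩ := hP.shape hr hr2 _ (movS f) rfl (Inv.movS f) hM hMF
  have hd := fix_add_mov (f := f)
  refine ⟨s, hs, hsp, by rw [← hs]; exact hd, hF, hM, hMF, fun he => ?_⟩
  have hinf : fixS f ⊓ movS f = ⊥ := (inf_comm _ _).trans hMF
  have hsup : fixS f ⊔ movS f = ⊤ := Submodule.eq_top_of_finrank_eq (by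
    have := Submodule.finrank_sup_add_finrank_inf_eq (fixS f) (movS f)
    rw [hinf, finrank_bot] at this
    omega)
  have h := isPlus_sup (Q := Q) hF hM (by
    rw [← hd, Nat.even_add] at he
    exact he.2 (hs ▸ (blockDim_even _).mul_left s)) (hs ▸ (blockDim_even _).mul_left s) hinf
    fun x hx y hy => fix_orth hP.pack hx hy
  rw [show fixS f ⊔ LinearMap.range (f - 1) = ⊤ from hsup] at h
  rw [h, show IsPlus Q (LinearMap.range (f - 1)) ↔ blkType (ordq F r) s from hsp]
  by_cases h1 : IsPlus Q (fixS f) <;> by_cases h2 : blkType (ordq F r) s <;> simp [h1, h2]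

/-- Invariant non-degenerate subspaces split into fixed vectors and blocks. -/
theorem IsOrthPack.ndg_parts (hP : IsOrthPack Q f r) (hr : (r : F) ≠ 0) (hr2 : r ≠ 2) {W : Submodule F V}
    (hW : Inv f W) (hWn : Ndg (polarBilin Q) W) :
    ∃ a Xb Xa, Ndg (polarBilin Q) Xb ∧ Xb ≤ fixS f ∧ Ndg (polarBilin Q) Xa ∧ Xa ≤ movS f ∧
      finrank F Xa = a * blockDim (ordq F r) ∧ (IsPlus Q Xa ↔ blkType (ordq F r) a) ∧
      finrank F W = finrank F Xb + a * blockDim (ordq F r) ∧
      (Even (finrank F W) → (IsPlus Q W ↔ (IsPlus Q Xb ↔ blkType (ordq F r) a))) := by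
  obtain ⟨hF, hM, hMF⟩ := split_fix_mov hP.pack hr hW hWn
  obtain ⟨a, ha, hap⟩ := hP.shape hr hr2 _ (W.map (f - 1)) rfl hW.map_sub.1 hM hMF
  have hd : finrank F W = finrank F ↥(W ⊓ fixS f) + a * blockDim (ordq F r) := by
    rw [← ha]; exact dim_split W
  refine ⟨a, W ⊓ fixS f, W.map (f - 1), hF, inf_le_right, hM, LinearMap.map_le_range, ha, hap, hd, fun he => ?_⟩
  have hinf : (W ⊓ fixS f) ⊓ W.map (f - 1) = ⊥ :=
    le_bot_iff.1 ((le_inf inf_le_right (inf_le_left.trans inf_le_right)).trans hMF.le)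
  have hsup : W ⊓ fixS f ⊔ W.map (f - 1) = W := by
    refine Submodule.eq_of_le_of_finrank_le (sup_le inf_le_left hW.map_sub.2) ?_
    have := Submodule.finrank_sup_add_finrank_inf_eq (W ⊓ fixS f) (W.map (f - 1))
    rw [hinf, finrank_bot] at this
    omega
  have h := isPlus_sup (Q := Q) hF hM (by
    rw [hd, Nat.even_add] at he
    exact he.2 ((blockDim_even _).mul_left a)) (ha ▸ (blockDim_even _).mul_left a) hinf
    fun x hx y hy => fix_orth hP.pack hx.2 (LinearMap.map_le_range hy)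
  rw [hsup] at h
  rw [h, hap]

/-- Assembling fixed vectors and blocks. -/
theorem IsOrthPack.exists_ndg_of_parts (hP : IsOrthPack Q f r) (hr : (r : F) ≠ 0) (hr2 : r ≠ 2) {Xb : Submodule F V}
    (hb : Ndg (polarBilin Q) Xb) (hbF : Xb ≤ fixS f) {a : ℕ}
    (ha : a * blockDim (ordq F r) ≤ finrank F (movS f)) :
    ∃ W, Inv f W ∧ Ndg (polarBilin Q) W ∧ finrank F W = finrank F Xb + a * blockDim (ordq F r) ∧
      (Even (finrank F Xb) → (IsPlus Q W ↔ (IsPlus Q Xb ↔ blkType (ordq F r) a))) ∧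
      ∃ Xa, Xb ⊔ Xa = W ∧ Xb ⊓ Xa = ⊥ ∧ finrank F Xa = a * blockDim (ordq F r) ∧
        (IsPlus Q Xa ↔ blkType (ordq F r) a) ∧ (∀ x ∈ Xb, ∀ y ∈ Xa, polarBilin Q x y = 0) := by
  obtain ⟨s, -, -, -, hF, hM, hMF, -⟩ := hP.fix_mov hr hr2
  obtain ⟨Y, hY, hYn, hYle, hYd, hYp⟩ := hP.exists_blocks hr hr2 (Inv.movS f) hM hMF ha
  have horth : ∀ x ∈ Xb, ∀ y ∈ Y, polarBilin Q x y = 0 := fun x hx y hy => fix_orth hP.pack (hbF hx) (hYle hy)
  have hinf : Xb ⊓ Y = ⊥ := le_bot_iff.1 ((le_inf (inf_le_right.trans hYle) (inf_le_left.trans hbF)).trans hMF.le)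
  have hd : finrank F ↥(Xb ⊔ Y) = finrank F Xb + a * blockDim (ordq F r) := by
    have := Submodule.finrank_sup_add_finrank_inf_eq Xb Y
    rw [hinf, finrank_bot] at this
    omega
  refine ⟨Xb ⊔ Y, (Inv.of_le_fix hbF).sup hY, hb.sup polar_refl hYn horth, hd, fun he => ?_, Y, rfl, hinf, hYd, hYp, horth⟩
  rw [isPlus_sup hb hYn he (hYd ▸ (blockDim_even _).mul_left a) hinf horth, hYp]

end CfsgLib.Elusive2
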