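import Cfsg.Agent.Elusive2.OrthStd
import Cfsg.Agent.Quad.OmegaMem

/-!
Elements whose square is a scalar in even dimensional orthogonal groups of odd characteristic, and the
non-degenerate subspaces that they fix.
-/

set_option autoImplicit false
set_option linter.unusedSectionVars false

namespace CfsgLib.Elusive2

open Module QuadraticMap CfsgLib.Elusive CfsgLib.Quad

variable {F V : Type*} [Field F] [Fintype F] [AddCommGroup V] [Module F V] [FiniteDimensional F V]
  {Q : QuadraticForm F V}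

theorem bilin_isom (g : oGroup Q) (a b : V) : polarBilin Q (g.1 a) (g.1 b) = polarBilin Q a b := by
  simp only [polarBilin_apply_apply, polar_oGroup]

theorem exists_aniso (h2 : (2 : F) ≠ 0) {W : Submodule F V} (hW : Ndg (polarBilin Q) W) (hd : 0 < finrank F W) :
    ∃ v ∈ W, Q v ≠ 0 := by
  obtain ⟨u, hu, h0⟩ := W.exists_mem_ne_zero_of_ne_bot fun e => by
    rw [e, finrank_bot] at hd; exact hd.false
  obtain ⟨w, hw, hne⟩ := hW u hu h0
  by_contra hc
  push Not at hc
  refine hne ?_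
  have h := quad_add' (Q := Q) u w
  rw [hc _ (W.add_mem hu hw), hc u hu, hc w hw, zero_add, zero_add] at h
  exact h.symm

/-- An orthogonal pair of vectors of equal value spans a plane on which a product of two reflections is a quarter
turn. -/
theorem quarter_plane (h2 : (2 : F) ≠ 0) {v u : V} (hv : Q v ≠ 0) (hu : Q u = Q v) (ho : polarBilin Q v u = 0) :
    Ndg (polarBilin Q) (Submodule.span F (Set.range ![v, u])) ∧
      finrank F (Submodule.span F (Set.range ![v, u])) = 2 ∧
      (IsPlus Q (Submodule.span F (Set.range ![v, u])) ↔ IsSquare (-1 : F)) ∧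
      Q (v + u) = 2 * Q v ∧
      (refl Q (v + u) * refl Q v).1 v = u ∧ (refl Q (v + u) * refl Q v).1 u = -v ∧
      ∀ x : V, polarBilin Q v x = 0 → polarBilin Q u x = 0 → (refl Q (v + u) * refl Q v).1 x = x := by
  have hvv : polarBilin Q v v = 2 * Q v := by
    rw [polarBilin_apply_apply, polar_self, nsmul_eq_mul, Nat.cast_ofNat]
  have huu : polarBilin Q u u = 2 * Q v := by
    rw [polarBilin_apply_apply, polar_self, nsmul_eq_mul, Nat.cast_ofNat, hu]
  obtain ⟨hn, hd⟩ := span_pair_ndg (Q := Q) (u := v) (v := u) (by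
    rw [hvv, huu, ho, mul_zero, sub_zero]; exact mul_ne_zero (mul_ne_zero h2 hv) (mul_ne_zero h2 hv))
  have hQs : ∀ a b : F, Q (a • v + b • u) = (a * a + b * b) * Q v := fun a b => by
    rw [quad_add', QuadraticMap.map_smul, QuadraticMap.map_smul, hu]
    simp only [map_smul, LinearMap.smul_apply, ho, smul_eq_mul]
    ring
  have hs : Q (v + u) = 2 * Q v := by rw [quad_add', hu, ho]; ring
  have hs0 : Q (v + u) ≠ 0 := by rw [hs]; exact mul_ne_zero h2 hv
  refine ⟨hn, hd, ⟨?_, ?_⟩, hs, ?_, ?_, ?_⟩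
  · rintro ⟨U, hU, hU0, hUd⟩
    obtain ⟨x, hx, hx0⟩ := U.exists_mem_ne_zero_of_ne_bot fun e => by
      rw [e, finrank_bot, hd] at hUd; omega
    obtain ⟨c, hc⟩ := Submodule.mem_span_range_iff_exists_fun F |>.1 (hU hx)
    have h := hU0 x hx
    simp only [Fin.sum_univ_two, Matrix.cons_val_zero, Matrix.cons_val_one] at hc
    rw [← hc, hQs] at h
    have h' := (mul_eq_zero.1 h).resolve_right hv
    have hb : c 1 ≠ 0 := fun e => by
      rw [e, mul_zero, add_zero, mul_self_eq_zero] at h'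
      exact hx0 (by rw [← hc, h', e]; simp)
    exact ⟨c 0 / c 1, by field_simp; linear_combination -h'⟩
  · rintro ⟨s, hs'⟩
    refine ⟨Submodule.span F {v + s • u}, ?_, ?_, ?_⟩
    · rw [Submodule.span_le, Set.singleton_subset_iff]
      exact Submodule.add_mem _ (Submodule.subset_span ⟨0, rfl⟩)
        (Submodule.smul_mem _ _ (Submodule.subset_span ⟨1, rfl⟩))
    · intro x hx
      obtain ⟨a, rfl⟩ := Submodule.mem_span_singleton.1 hx
      rw [smul_add, smul_smul, hQs]
      linear_combination -(a * a * Q v) * hs'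
    · rw [finrank_span_singleton, hd]
      intro e
      have h := congrArg (polarBilin Q v) e
      rw [map_add, map_smul, ho, hvv, map_zero, smul_zero, add_zero] at h
      exact mul_ne_zero h2 hv h
  · show (refl Q (v + u)).1 ((refl Q v).1 v) = u
    rw [refl_self hv, refl_apply, show polar Q (-v) (v + u) = -(2 * Q v) by
      rw [← polarBilin_apply_apply, map_neg, LinearMap.neg_apply, map_add, hvv, ho, add_zero], hs,
      neg_mul_neg, inv_mul_cancel₀ (mul_ne_zero h2 hv), one_smul]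
    abel
  · show (refl Q (v + u)).1 ((refl Q v).1 u) = -v
    rw [refl_fix (d := v) (x := u) ((polar_swap u v).trans ho), refl_apply, show polar Q u (v + u) = 2 * Q v by
      rw [← polarBilin_apply_apply, map_add, huu, polar_swap u v, ho, zero_add], hs,
      neg_mul, inv_mul_cancel₀ (mul_ne_zero h2 hv)]
    module
  · intro x hvx hux
    show (refl Q (v + u)).1 ((refl Q v).1 x) = x
    rw [refl_fix (d := v) (x := x) ((polar_swap x v).trans hvx), refl_fix]
    rw [← polarBilin_apply_apply, map_add, polar_swap x v, polar_swap x u, hvx, hux, add_zero]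

/-- The shape of the subspaces invariant under a square root of `-1`, and the restriction as a product of
reflections. -/
theorem quarter_shape (h2 : (2 : F) ≠ 0) {f : oGroup Q} (hf : ∀ v, f.1 (f.1 v) = -v) :
    ∀ (k : ℕ) (W : Submodule F V), finrank F W ≤ k → Ndg (polarBilin Q) W → Inv f.1.toLinearMap W →
      ∃ j, finrank F W = 2 * j ∧ (IsPlus Q W ↔ (IsSquare (-1 : F) ∨ Even j)) ∧
        (∃ vs : List V, (∀ v ∈ vs, Q v ≠ 0) ∧ vs.length = 2 * j ∧
          (∃ s : F, s ≠ 0 ∧ (vs.map fun v => Q v).prod = 2 ^ j * (s * s)) ∧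
          (∀ x ∈ W, (reflProd Q vs).1 x = f.1 x) ∧ ∀ x ∈ perp (polarBilin Q) W, (reflProd Q vs).1 x = x) ∧
        ∀ l ≤ j, ∃ X, X ≤ W ∧ Ndg (polarBilin Q) X ∧ Inv f.1.toLinearMap X ∧ finrank F X = 2 * l := by
  intro k
  induction k with
  | zero =>
    intro W hd hW _
    obtain rfl : W = ⊥ := Submodule.finrank_eq_zero.1 (by omega)
    refine ⟨0, finrank_bot F V, iff_of_true IsPlus.bot (Or.inr Even.zero),
      ⟨[], by simp, rfl, ⟨1, one_ne_zero, by simp⟩, fun x hx => by
        rw [(Submodule.mem_bot F).1 hx, map_zero, map_zero], fun x _ => rfl⟩,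
      fun l hl => ⟨⊥, bot_le, Ndg.bot, fun x hx => by
        rw [(Submodule.mem_bot F).1 hx, map_zero]; exact zero_mem _, by rw [finrank_bot]; omega⟩⟩
  | succ k ih =>
    intro W hd hW hinv
    rcases Nat.eq_zero_or_pos (finrank F W) with h0 | h0
    · exact ih W (by omega) hW hinv
    obtain ⟨v, hv, hv0⟩ := exists_aniso h2 hW h0
    have hu : Q (f.1 v) = Q v := f.2 v
    have ho : polarBilin Q v (f.1 v) = 0 := by
      have h := bilin_isom f v (f.1 v)
      rw [hf, map_neg, polar_swap (f.1 v) v] at h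
      exact (mul_eq_zero.1 (by linear_combination -h : (2 : F) * polarBilin Q v (f.1 v) = 0)).resolve_left h2
    obtain ⟨hXn, hXd, hXp, hXs, hg1, hg2, hg3⟩ := quarter_plane h2 hv0 hu ho
    set X := Submodule.span F (Set.range ![v, f.1 v]) with hX
    have hXW : X ≤ W := by
      rw [hX, Submodule.span_le]; rintro _ ⟨j, rfl⟩; fin_cases j
      exacts [hv, hinv v hv]
    have hXinv : Inv f.1.toLinearMap X := by
      intro x hx
      obtain ⟨c, rfl⟩ := Submodule.mem_span_range_iff_exists_fun F |>.1 hx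
      simp only [Fin.sum_univ_two, Matrix.cons_val_zero, Matrix.cons_val_one, map_add, map_smul,
        LinearEquiv.coe_coe, hf]
      exact X.add_mem (X.smul_mem _ (Submodule.subset_span ⟨1, rfl⟩))
        (X.smul_mem _ (X.neg_mem (Submodule.subset_span ⟨0, rfl⟩)))
    obtain ⟨hsup, hinf, hdim, hnd⟩ := exists_split polar_refl hXn hXW
    set R := W ⊓ perp (polarBilin Q) X with hR
    have hRinv : Inv f.1.toLinearMap R := fun x hx =>
      ⟨hinv x hx.1, mem_perp.2 fun z hz => by
        have h : polarBilin Q (f.1 z) (f.1 (f.1 x)) = polarBilin Q z (f.1 x) := bilin_isom f z _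
        rw [hf, map_neg, mem_perp.1 hx.2 (f.1 z) (hXinv z hz), neg_zero] at h
        exact h.symm⟩
    obtain ⟨j, hj, hjp, ⟨vs, hvs, hlen, ⟨s, hs0, hprod⟩, hact, hfix⟩, hsub⟩ := ih R (by omega) (hnd hW) hRinv
    have horth : ∀ x ∈ X, ∀ y ∈ R, polarBilin Q x y = 0 := fun x hx y hy => mem_perp.1 hy.2 x hx
    refine ⟨j + 1, by omega, ?_, ⟨(v + f.1 v) :: v :: vs, ?_, by simp [hlen]; omega,
      ⟨Q v * s, mul_ne_zero hv0 hs0, ?_⟩, ?_, ?_⟩, ?_⟩
    · rw [← hsup, isPlus_sup hXn (hnd hW) ⟨1, by omega⟩ ⟨j, by omega⟩ hinf horth, hXp, hjp, Nat.even_add_one]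
      by_cases h1 : IsSquare (-1 : F) <;> by_cases h3 : Even j <;> simp [h1, h3]
    · simp only [List.forall_mem_cons]
      exact ⟨by rw [hXs]; exact mul_ne_zero h2 hv0, hv0, hvs⟩
    · rw [List.map_cons, List.map_cons, List.prod_cons, List.prod_cons, hprod, hXs]; ring
    · intro x hx
      rw [← hsup] at hx
      obtain ⟨a, ha, b, hb, rfl⟩ := Submodule.mem_sup.1 hx
      rw [reflProd_cons, reflProd_cons, ← mul_assoc, map_add, map_add]
      show (refl Q (v + f.1 v) * refl Q v).1 ((reflProd Q vs).1 a) +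
        (refl Q (v + f.1 v) * refl Q v).1 ((reflProd Q vs).1 b) = _
      rw [hfix a (mem_perp.2 fun w hw => (polar_swap _ _).trans (horth a ha w hw)), hact b hb,
        hg3 (f.1 b) (horth v (Submodule.subset_span ⟨0, rfl⟩) _ (hRinv b hb))
          (horth _ (Submodule.subset_span ⟨1, rfl⟩) _ (hRinv b hb))]
      congr 1
      obtain ⟨c, rfl⟩ := Submodule.mem_span_range_iff_exists_fun F |>.1 ha
      simp only [Fin.sum_univ_two, Matrix.cons_val_zero, Matrix.cons_val_one, map_add, map_smul, hf, hg1, hg2]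
    · intro x hx
      rw [reflProd_cons, reflProd_cons, ← mul_assoc]
      show (refl Q (v + f.1 v) * refl Q v).1 ((reflProd Q vs).1 x) = x
      rw [hfix x (mem_perp.2 fun w hw => mem_perp.1 hx w hw.1)]
      exact hg3 x (mem_perp.1 hx v hv) (mem_perp.1 hx _ (hinv v hv))
    · intro l hl
      rcases Nat.eq_zero_or_pos l with rfl | hl0
      · exact ⟨⊥, bot_le, Ndg.bot, fun x hx => by
          rw [(Submodule.mem_bot F).1 hx, map_zero]; exact zero_mem _, by rw [finrank_bot]⟩
      obtain ⟨l, rfl⟩ : ∃ l', l = l' + 1 := ⟨l - 1, by omega⟩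
      obtain ⟨Y, hYR, hYn, hYinv, hYd⟩ := hsub l (by omega)
      have hi : X ⊓ Y = ⊥ := le_bot_iff.1 ((inf_le_inf_left X hYR).trans hinf.le)
      refine ⟨X ⊔ Y, sup_le hXW (hYR.trans inf_le_left),
        hXn.sup polar_refl hYn fun x hx y hy => horth x hx y (hYR hy), fun z hz => ?_, ?_⟩
      · obtain ⟨a, ha, b, hb, rfl⟩ := Submodule.mem_sup.1 hz
        rw [map_add]
        exact Submodule.add_mem_sup (hXinv a ha) (hYinv b hb)
      · have := Submodule.finrank_sup_add_finrank_inf_eq X Y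
        rw [hi, finrank_bot] at this
        omega

/-- Square roots of `-1` exist on subspaces of the right type. -/
theorem exists_quarter (h2 : (2 : F) ≠ 0) : ∀ (j : ℕ) (W : Submodule F V), finrank F W = 2 * j →
    Ndg (polarBilin Q) W → (IsPlus Q W ↔ (IsSquare (-1 : F) ∨ Even j)) →
    ∃ vs : List V, (∀ v ∈ vs, Q v ≠ 0) ∧ vs.length = 2 * j ∧ (vs.map fun v => Q v).prod = 2 ^ j ∧
      (∀ x ∈ W, (reflProd Q vs).1 x ∈ W ∧ (reflProd Q vs).1 ((reflProd Q vs).1 x) = -x) ∧
      ∀ x ∈ perp (polarBilin Q) W, (reflProd Q vs).1 x = x := by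
  intro j
  induction j with
  | zero =>
    intro W hd _ _
    obtain rfl : W = ⊥ := Submodule.finrank_eq_zero.1 (by omega)
    exact ⟨[], by simp, rfl, by simp, fun x hx => by
      rw [(Submodule.mem_bot F).1 hx, map_zero, map_zero]; simp, fun x _ => rfl⟩
  | succ j ih =>
    intro W hd hW htype
    obtain ⟨X, hXn, hXW, hXd, hXp⟩ : ∃ X, Ndg (polarBilin Q) X ∧ X ≤ W ∧ finrank F X = 2 ∧
        (IsPlus Q X ↔ IsSquare (-1 : F)) := by
      rcases Nat.eq_zero_or_pos j with rfl | hj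
      · exact ⟨W, hW, le_rfl, hd, by rw [htype]; simp⟩
      · exact exists_plane_type hW (by omega) _
    obtain ⟨v, hv, hv1⟩ := represents hXn (le_of_eq hXd.symm) 1
    have hv0 : Q v ≠ 0 := by rw [hv1]; exact one_ne_zero
    have hLn : Ndg (polarBilin Q) (Submodule.span F {v}) := by
      intro x hx h0
      obtain ⟨a, rfl⟩ := Submodule.mem_span_singleton.1 hx
      refine ⟨v, Submodule.mem_span_singleton_self v, ?_⟩
      rw [map_smul, LinearMap.smul_apply, polarBilin_apply_apply, polar_self, hv1, nsmul_eq_mul, Nat.cast_ofNat,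
        mul_one, smul_eq_mul]
      exact mul_ne_zero (fun e => h0 (by rw [e, zero_smul])) h2
    obtain ⟨-, -, hdL, hndL⟩ := exists_split (T := X) polar_refl hLn
      (by rw [Submodule.span_le, Set.singleton_subset_iff]; exact hv)
    rw [hXd, finrank_span_singleton (fun e => hv0 (by rw [e, QuadraticMap.map_zero]))] at hdL
    obtain ⟨u, hu, hu0⟩ := exists_aniso h2 (hndL hXn) (by omega)
    have hvu : polarBilin Q v u = 0 := mem_perp.1 hu.2 v (Submodule.mem_span_singleton_self v)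
    obtain ⟨t, ht⟩ : IsSquare (Q u) := by
      obtain ⟨hn, hdd⟩ := span_pair_ndg (Q := Q) (u := v) (v := u) (by
        rw [hvu, mul_zero, sub_zero]
        simp only [polarBilin_apply_apply, polar_self, nsmul_eq_mul, Nat.cast_ofNat, hv1]
        exact mul_ne_zero (mul_ne_zero h2 one_ne_zero) (mul_ne_zero h2 hu0))
      have hspan : Submodule.span F (Set.range ![v, u]) = X := Submodule.eq_of_le_of_finrank_le
        (by rw [Submodule.span_le]; rintro _ ⟨i, rfl⟩; fin_cases i; exacts [hv, hu.1]) (by omega)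
      have hiff : IsPlus Q X ↔ IsSquare (-Q u) := by
        have hQs : ∀ a b : F, Q (a • v + b • u) = a * a + b * b * Q u := fun a b => by
          rw [quad_add', QuadraticMap.map_smul, QuadraticMap.map_smul, hv1]
          simp only [map_smul, LinearMap.smul_apply, hvu, smul_eq_mul]
          ring
        constructor
        · rintro ⟨U, hU, hU0, hUd⟩
          obtain ⟨x, hx, hx0⟩ := U.exists_mem_ne_zero_of_ne_bot fun e => by
            rw [e, finrank_bot, hXd] at hUd; omega
          obtain ⟨c, hc⟩ := Submodule.mem_span_range_iff_exists_fun F |>.1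
            (hspan.symm ▸ hU hx : x ∈ Submodule.span F (Set.range ![v, u]))
          simp only [Fin.sum_univ_two, Matrix.cons_val_zero, Matrix.cons_val_one] at hc
          have h := hU0 x hx
          rw [← hc, hQs] at h
          have hb : c 1 ≠ 0 := fun e => by
            rw [e, mul_zero, zero_mul, add_zero, mul_self_eq_zero] at h
            exact hx0 (by rw [← hc, h, e]; simp)
          exact ⟨c 0 / c 1, by field_simp; linear_combination -h⟩
        · rintro ⟨s, hs⟩
          refine ⟨Submodule.span F {s • v + u}, ?_, ?_, ?_⟩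
          · rw [Submodule.span_le, Set.singleton_subset_iff]
            exact X.add_mem (X.smul_mem _ hv) hu.1
          · intro x hx
            obtain ⟨a, rfl⟩ := Submodule.mem_span_singleton.1 hx
            rw [smul_add, smul_smul, hQs]
            linear_combination -(a * a) * hs
          · rw [finrank_span_singleton, hXd]
            intro e
            have h := congrArg (polarBilin Q u) e
            rw [map_add, map_smul, polar_swap u v, hvu, map_zero, smul_zero, zero_add, polarBilin_apply_apply,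
              polar_self, nsmul_eq_mul, Nat.cast_ofNat] at h
            exact mul_ne_zero h2 hu0 h
      have hneg : (IsSquare (-Q u) ↔ IsSquare (-1 : F)) := hiff.symm.trans hXp
      by_cases h1 : IsSquare (-1 : F)
      · simpa using (hneg.2 h1).mul h1
      · have h := (isSquare_mul_iff h2 (neg_ne_zero.2 hu0) (neg_ne_zero.2 one_ne_zero)).2
          (iff_of_false (hneg.not.2 h1) h1)
        simpa using h
    have ht0 : t ≠ 0 := fun e => hu0 (by rw [ht, e, mul_zero])
    have hu1 : Q (t⁻¹ • u) = Q v := by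
      rw [QuadraticMap.map_smul, ht, hv1, smul_eq_mul]; field_simp
    have ho : polarBilin Q v (t⁻¹ • u) = 0 := by rw [map_smul, hvu, smul_zero]
    obtain ⟨hPn, hPd, -, hPs, hg1, hg2, hg3⟩ := quarter_plane h2 hv0 hu1 ho
    generalize t⁻¹ • u = w, X.smul_mem t⁻¹ hu.1 = hw at hu1 ho hPn hPd hPs hg1 hg2 hg3
    have hspan : Submodule.span F (Set.range ![v, w]) = X := Submodule.eq_of_le_of_finrank_le
      (by rw [Submodule.span_le]; rintro _ ⟨i, rfl⟩; fin_cases i; exacts [hv, hw]) (by omega)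
    obtain ⟨hsup, hinf, hdim, hnd⟩ := exists_split polar_refl hXn hXW
    set R := W ⊓ perp (polarBilin Q) X with hR
    have horth : ∀ x ∈ X, ∀ y ∈ R, polarBilin Q x y = 0 := fun x hx y hy => mem_perp.1 hy.2 x hx
    obtain ⟨vs, hvs, hlen, hprod, hact, hfix⟩ := ih R (by omega) (hnd hW) (by
      rw [← hsup, isPlus_sup hXn (hnd hW) ⟨1, by omega⟩ ⟨j, by omega⟩ hinf horth, hXp, Nat.even_add_one] at htype
      by_cases h1 : IsSquare (-1 : F) <;> by_cases h3 : Even j <;> by_cases h4 : IsPlus Q R <;> simp_all)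
    refine ⟨(v + w) :: v :: vs, ?_, by simp [hlen]; omega, ?_, ?_, ?_⟩
    · simp only [List.forall_mem_cons]
      exact ⟨by rw [hPs]; exact mul_ne_zero h2 hv0, hv0, hvs⟩
    · rw [List.map_cons, List.map_cons, List.prod_cons, List.prod_cons, hprod, hPs, hv1]; ring
    · intro x hx
      rw [← hsup] at hx
      obtain ⟨a, ha, b, hb, rfl⟩ := Submodule.mem_sup.1 hx
      have hA : ∀ a ∈ X, (reflProd Q ((v + w) :: v :: vs)).1 a = (refl Q (v + w) * refl Q v).1 a := fun a ha => by
        rw [reflProd_cons, reflProd_cons, ← mul_assoc]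
        show (refl Q (v + w) * refl Q v).1 ((reflProd Q vs).1 a) = _
        rw [hfix a (mem_perp.2 fun z hz => (polar_swap _ _).trans (horth a ha z hz))]
      have hB : ∀ b ∈ R, (reflProd Q ((v + w) :: v :: vs)).1 b = (reflProd Q vs).1 b := fun b hb => by
        rw [reflProd_cons, reflProd_cons, ← mul_assoc]
        exact hg3 _ (horth v hv _ (hact b hb).1) (horth w hw _ (hact b hb).1)
      have hA' : ∀ a ∈ X, (refl Q (v + w) * refl Q v).1 a ∈ X ∧
          (refl Q (v + w) * refl Q v).1 ((refl Q (v + w) * refl Q v).1 a) = -a := fun a ha => by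
        rw [← hspan] at ha
        obtain ⟨c, rfl⟩ := Submodule.mem_span_range_iff_exists_fun F |>.1 ha
        simp only [Fin.sum_univ_two, Matrix.cons_val_zero, Matrix.cons_val_one, map_add, map_smul, hg1, hg2, map_neg]
        exact ⟨X.add_mem (X.smul_mem _ hw) (X.smul_mem _ (X.neg_mem hv)), by module⟩
      rw [map_add, hA a ha, hB b hb]
      refine ⟨W.add_mem (hXW (hA' a ha).1) (hact b hb).1.1, ?_⟩
      rw [map_add, hA _ (hA' a ha).1, hB _ (hact b hb).1, (hA' a ha).2, (hact b hb).2, neg_add]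
    · intro x hx
      rw [reflProd_cons, reflProd_cons, ← mul_assoc]
      show (refl Q (v + w) * refl Q v).1 ((reflProd Q vs).1 x) = x
      rw [hfix x (mem_perp.2 fun z hz => mem_perp.1 hx z hz.1)]
      exact hg3 x (mem_perp.1 hx v (hXW hv)) (mem_perp.1 hx w (hXW hw))

/-- When some element of the commutator subgroup squares to `-1`. -/
theorem exists_omega_quarter_iff (h2 : (2 : F) ≠ 0) (hQ : (polarBilin Q).Nondegenerate)
    (hgen : (∃ t : F, t ≠ 0 ∧ t ≠ 1) ∨ finrank F V ≠ 4) {d : ℕ} (hn : finrank F V = 2 * d) :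
    (∃ g ∈ commutator (oGroup Q), ∀ v, g.1 (g.1 v) = -v) ↔
      ((IsPlus Q ⊤ ↔ (IsSquare (-1 : F) ∨ Even d)) ∧ (Even d ∨ IsSquare (2 : F))) := by
  have hQt := ndg_top_iff.2 hQ
  have hsq : IsSquare ((2 : F) ^ d) ↔ (Even d ∨ IsSquare (2 : F)) := by
    rcases Nat.even_or_odd d with he | ho
    · exact iff_of_true (he.isSquare_pow _) (Or.inl he)
    · obtain ⟨e, he⟩ := ho
      constructor
      · rintro ⟨a, ha⟩
        refine Or.inr ⟨a / 2 ^ e, ?_⟩
        rw [div_mul_div_comm, ← ha, he, eq_div_iff (mul_ne_zero (pow_ne_zero _ h2) (pow_ne_zero _ h2))]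
        ring
      · rintro (h | h)
        · exact absurd h (Nat.not_even_iff_odd.2 ⟨e, he⟩)
        · exact h.pow d
  constructor
  · rintro ⟨g, hg, hgg⟩
    obtain ⟨j, hj, hjp, ⟨vs, hvs, -, ⟨s, hs0, hprod⟩, hact, -⟩, -⟩ :=
      quarter_shape h2 hgg _ ⊤ le_rfl hQt (fun x _ => trivial)
    rw [finrank_top, hn] at hj
    obtain rfl : d = j := by omega
    refine ⟨hjp, hsq.1 ?_⟩
    rw [show g = reflProd Q vs from Subtype.ext (LinearEquiv.ext fun x => (hact x trivial).symm),
      reflProd_mem_commutator_iff hQ hgen hvs, hprod] at hg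
    obtain ⟨a, ha⟩ := hg.2
    exact ⟨a / s, by rw [div_mul_div_comm, ← ha]; field_simp⟩
  · rintro ⟨h1, h3⟩
    obtain ⟨vs, hvs, hlen, hprod, hact, -⟩ := exists_quarter h2 d ⊤ (by rw [finrank_top, hn]) hQt h1
    exact ⟨_, (reflProd_mem_commutator_iff hQ hgen hvs).2 ⟨⟨d, by omega⟩, hprod ▸ hsq.2 h3⟩,
      fun v => (hact v trivial).2⟩

/-- The eigenspaces of an involution: a large one and its complement. -/
theorem exists_big_eigen (h2 : (2 : F) ≠ 0) (hQ : (polarBilin Q).Nondegenerate) {f : oGroup Q}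
    (hf : ∀ v, f.1 (f.1 v) = v) :
    ∃ T : Submodule F V, Ndg (polarBilin Q) T ∧ finrank F V ≤ 2 * finrank F T ∧
      (∀ X ≤ T, Inv f.1.toLinearMap X ∧ Inv f.1.toLinearMap (perp (polarBilin Q) X)) ∧
      ∀ X ≤ perp (polarBilin Q) T, Inv f.1.toLinearMap X := by
  set A := LinearMap.ker (f.1.toLinearMap - 1)
  set C := LinearMap.ker (f.1.toLinearMap + 1)
  have hA : ∀ v ∈ A, f.1 v = v := fun v hv => sub_eq_zero.1 (LinearMap.mem_ker.1 hv)
  have hC : ∀ v ∈ C, f.1 v = -v := fun v hv => eq_neg_of_add_eq_zero_left (LinearMap.mem_ker.1 hv)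
  have horth : ∀ a ∈ A, ∀ c ∈ C, polarBilin Q a c = 0 := fun a ha c hc => by
    have h := bilin_isom f a c
    rw [hA a ha, hC c hc, map_neg] at h
    exact (mul_eq_zero.1 (by linear_combination -h : (2 : F) * polarBilin Q a c = 0)).resolve_left h2
  have hsup : A ⊔ C = ⊤ := eq_top_iff.2 fun v _ => Submodule.mem_sup.2
    ⟨(2 : F)⁻¹ • (v + f.1 v), LinearMap.mem_ker.2 (by simp [hf, smul_add]; abel),
      (2 : F)⁻¹ • (v - f.1 v), LinearMap.mem_ker.2 (by simp [hf, smul_sub]), by
      rw [← smul_add, show v + f.1 v + (v - f.1 v) = (2 : F) • v by rw [two_smul]; abel, smul_smul,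
        inv_mul_cancel₀ h2, one_smul]⟩
  have hndg : ∀ {X Y : Submodule F V}, X ⊔ Y = ⊤ → (∀ x ∈ X, ∀ y ∈ Y, polarBilin Q x y = 0) →
      Ndg (polarBilin Q) X := by
    intro X Y hs ho u hu h0
    obtain ⟨v, -, hne⟩ := ndg_top_iff.2 hQ u trivial h0
    obtain ⟨x, hx, y, hy, rfl⟩ := Submodule.mem_sup.1 (hs.symm ▸ Submodule.mem_top : v ∈ X ⊔ Y)
    exact ⟨x, hx, by rwa [map_add, ho u hu y hy, add_zero] at hne⟩
  have hsum : finrank F V ≤ finrank F A + finrank F C := by
    have := Submodule.finrank_sup_add_finrank_inf_eq A C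
    rw [hsup, finrank_top] at this
    omega
  have main : ∀ (T U : Submodule F V) (c c' : F), c * c = 1 → c' * c' = 1 → T ⊔ U = ⊤ →
      (∀ x ∈ T, ∀ y ∈ U, polarBilin Q x y = 0) → (∀ v ∈ T, f.1 v = c • v) → (∀ v ∈ U, f.1 v = c' • v) →
      finrank F V ≤ 2 * finrank F T →
      ∃ T : Submodule F V, Ndg (polarBilin Q) T ∧ finrank F V ≤ 2 * finrank F T ∧
        (∀ X ≤ T, Inv f.1.toLinearMap X ∧ Inv f.1.toLinearMap (perp (polarBilin Q) X)) ∧
        ∀ X ≤ perp (polarBilin Q) T, Inv f.1.toLinearMap X := by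
    intro T U c c' hc hc' hs ho hT hU hd
    have hTn := hndg hs ho
    refine ⟨T, hTn, hd, fun X hX => ⟨fun x hx => ?_, fun y hy => mem_perp.2 fun x hx => ?_⟩, fun X hX x hx => ?_⟩
    · show f.1 x ∈ X
      rw [hT x (hX hx)]; exact X.smul_mem _ hx
    · have h := bilin_isom f (c • x) y
      rw [map_smul, hT x (hX hx), smul_smul, hc, one_smul, map_smul, LinearMap.smul_apply,
        mem_perp.1 hy x hx, smul_zero] at h
      exact h
    · show f.1 x ∈ X
      obtain ⟨t, ht, u, hu, he⟩ := Submodule.mem_sup.1 (hs.symm ▸ Submodule.mem_top : x ∈ T ⊔ U)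
      have ht0 : t = 0 := by
        by_contra h0
        obtain ⟨z, hz, hne⟩ := hTn t ht h0
        refine hne ?_
        have h := mem_perp.1 (hX hx) z hz
        rw [← he, map_add, ho z hz u hu, add_zero] at h
        rw [polar_swap]; exact h
      rw [ht0, zero_add] at he
      rw [← he, hU u hu]
      exact X.smul_mem _ (he ▸ hx)
  rcases le_total (finrank F A) (finrank F C) with h | h
  · exact main C A (-1) 1 (by ring) (one_mul 1) (sup_comm A C ▸ hsup)
      (fun x hx y hy => (polar_swap x y).trans (horth y hy x hx))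
      (fun v hv => by rw [hC v hv, neg_one_smul]) (fun v hv => by rw [hA v hv, one_smul]) (by omega)
  · exact main A C 1 (-1) (one_mul 1) (by ring) hsup horth
      (fun v hv => by rw [hA v hv, one_smul]) (fun v hv => by rw [hC v hv, neg_one_smul]) (by omega)

/-- Involutions fix subspaces of one type below half the dimension. -/
theorem involution_fix_type (h2 : (2 : F) ≠ 0) (hQ : (polarBilin Q).Nondegenerate) {d m : ℕ}
    (hn : finrank F V = 2 * d) (hm : Even m) (hm0 : 0 < m) (hmd : m < d) (τ : Prop) {f : oGroup Q}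
    (hf : ∀ v, f.1 (f.1 v) = v) :
    ∃ W : Submodule F V, (finrank F W = m ∧ Ndg (polarBilin Q) W ∧ (IsPlus Q W ↔ τ)) ∧ Inv f.1.toLinearMap W := by
  obtain ⟨T, hT, hTd, hTinv, -⟩ := exists_big_eigen h2 hQ hf
  obtain ⟨X, hXn, hXT, hXd, hXp⟩ := exists_sub_type' hT hm τ (by omega) (fun h => by omega) fun h => by omega
  exact ⟨X, ⟨hXd, hXn, hXp⟩, (hTinv X hXT).1⟩

/-- Involutions fix members of an isometry class below half the dimension. -/
theorem involution_fix_class (h2 : (2 : F) ≠ 0) (hQ : (polarBilin Q).Nondegenerate) {d m : ℕ}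
    (hn : finrank F V = 2 * d) (hm : Odd m) (hmd : m < d) {W₀ : Submodule F V} (hd₀ : finrank F W₀ = m)
    (hn₀ : Ndg (polarBilin Q) W₀) {f : oGroup Q} (hf : ∀ v, f.1 (f.1 v) = v) :
    ∃ W : Submodule F V, (finrank F W = m ∧ Ndg (polarBilin Q) W ∧ ∃ e : W ≃ₗ[F] W₀, ∀ w : W, Q (e w) = Q w) ∧
      Inv f.1.toLinearMap W := by
  obtain ⟨T, hT, hTd, hTinv, -⟩ := exists_big_eigen h2 hQ hf
  obtain ⟨X, hXT, hXn, e, he⟩ := exists_copy hn₀ (hd₀.symm ▸ hm) hT (by omega)
  exact ⟨X, ⟨e.finrank_eq.trans hd₀, hXn, e, he⟩, (hTinv X hXT).1⟩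

/-- Involutions of a minus type space fix subspaces of minus type of every even dimension. -/
theorem involution_fix_minus (h2 : (2 : F) ≠ 0) (hQ : (polarBilin Q).Nondegenerate) (hminus : ¬ IsPlus Q ⊤)
    {d m : ℕ} (hn : finrank F V = 2 * d) (hm : Even m) (hm0 : 0 < m) (hmn : m < 2 * d) {f : oGroup Q}
    (hf : ∀ v, f.1 (f.1 v) = v) :
    ∃ W : Submodule F V, (finrank F W = m ∧ Ndg (polarBilin Q) W ∧ (IsPlus Q W ↔ False)) ∧
      Inv f.1.toLinearMap W := by
  obtain ⟨T, hT, hTd, hTinv, hUinv⟩ := exists_big_eigen h2 hQ hf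
  rcases Nat.lt_or_ge m (finrank F T) with hlt | hge
  · obtain ⟨X, hXn, hXT, hXd, hXp⟩ :=
      exists_sub_type' hT hm False (by omega) (fun h => by omega) fun h => by omega
    exact ⟨X, ⟨hXd, hXn, hXp⟩, (hTinv X hXT).1⟩
  have hQt := ndg_top_iff.2 hQ
  have hcompl : ∀ X : Submodule F V, Ndg (polarBilin Q) X → Even (finrank F X) →
      Ndg (polarBilin Q) (perp (polarBilin Q) X) ∧
        finrank F X + finrank F (perp (polarBilin Q) X) = 2 * d ∧
        (IsPlus Q (perp (polarBilin Q) X) ↔ ¬ IsPlus Q X) := by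
    intro X hX he
    obtain ⟨hsup, hinf, hdim, hnd⟩ := exists_split (T := ⊤) polar_refl hX le_top
    rw [top_inf_eq] at hsup hinf hdim hnd
    rw [finrank_top, hn] at hdim
    refine ⟨hnd hQt, hdim, ?_⟩
    have h := hminus
    rw [← hsup, isPlus_sup hX (hnd hQt) he (by
      obtain ⟨a, ha⟩ := he
      exact ⟨d - a, by omega⟩) hinf fun x hx y hy => mem_perp.1 hy x hx] at h
    by_cases h1 : IsPlus Q X <;> simp_all
  obtain ⟨a, ha⟩ := hm
  by_cases hsmall : 2 * d - m < finrank F T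
  · obtain ⟨X, hXn, hXT, hXd, hXp⟩ := exists_sub_type' hT (b := 2 * d - m) ⟨d - a, by omega⟩ True (by omega)
      (fun h => trivial) fun h => by omega
    obtain ⟨h1, h3, h4⟩ := hcompl X hXn (hXd ▸ ⟨d - a, by omega⟩)
    exact ⟨perp (polarBilin Q) X, ⟨by omega, h1, by rw [h4, hXp]; simp⟩, (hTinv X hXT).2⟩
  obtain ⟨h1, h3, h4⟩ := hcompl T hT ⟨a, by omega⟩
  by_cases hTp : IsPlus Q T
  · exact ⟨_, ⟨by omega, h1, by rw [h4]; simp [hTp]⟩, hUinv _ le_rfl⟩
  · exact ⟨T, ⟨by omega, hT, iff_false_intro hTp⟩, (hTinv T le_rfl).1⟩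

/-- The criterion for elements with scalar square. -/
theorem forall_two_iff {ι : Type} [Fintype ι] [DecidableEq ι] [Nonempty ι] {Q : QuadraticForm F (ι → F)}
    (h2 : (2 : F) ≠ 0) (hQ : (polarBilin Q).Nondegenerate)
    (hgen : (∃ t : F, t ≠ 0 ∧ t ≠ 1) ∨ finrank F (ι → F) ≠ 4) {d : ℕ} (hn : finrank F (ι → F) = 2 * d)
    (P : Submodule F (ι → F) → Prop) (Feas : Prop)
    (hinvol : ∀ f : oGroup Q, (∀ v, f.1 (f.1 v) = v) → ∃ W, P W ∧ Inv f.1.toLinearMap W)
    (hquart : ∀ f : oGroup Q, (∀ v, f.1 (f.1 v) = -v) → ((∃ W, P W ∧ Inv f.1.toLinearMap W) ↔ Feas)) :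
    (∀ x : GL ι F, x ∈ Cfsg.Geo.omegaGL ⇑Q →
      (∃ z : F, ((x ^ 2 : GL ι F) : Matrix ι ι F) = z • (1 : Matrix ι ι F)) →
      (∀ z : F, (x : Matrix ι ι F) ≠ z • (1 : Matrix ι ι F)) →
      ∃ W : Submodule F (ι → F), P W ∧ W.map (Matrix.toLin' (x : Matrix ι ι F)) ≤ W) ↔
    ((IsPlus Q ⊤ ↔ (IsSquare (-1 : F) ∨ Even d)) ∧ (Even d ∨ IsSquare (2 : F)) → Feas) := by
  have hd0 : 0 < finrank F (ι → F) := by rw [finrank_fintype_fun_eq_card]; exact Fintype.card_pos
  obtain ⟨v₀, -, hv₀⟩ := exists_aniso h2 (ndg_top_iff.2 hQ) (by rwa [finrank_top])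
  have hsq : ∀ (g : oGroup Q) (z : F), (∀ v, g.1 v = z • v) → z * z = 1 := fun g z h => by
    have := g.2 v₀
    rw [h, QuadraticMap.map_smul, smul_eq_mul] at this
    exact mul_right_cancel₀ hv₀ (this.trans (one_mul _).symm)
  constructor
  · intro h hex
    obtain ⟨g, hg, hgg⟩ := (exists_omega_quarter_iff h2 hQ hgen hn).2 hex
    obtain ⟨x, hx, hv, -, -⟩ := exists_matrix hg
    refine (hquart g hgg).1 ?_
    obtain ⟨W, hW, hle⟩ := h x hx ⟨-1, Matrix.ext_of_mulVec_single fun i => by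
        rw [pow_two, Units.val_mul, ← Matrix.mulVec_mulVec, hv, hv, hgg, Matrix.smul_mulVec, Matrix.one_mulVec,
          neg_one_smul]⟩ fun z hz => by
      have hgz : ∀ v, g.1 v = z • v := fun v => by rw [← hv, hz, Matrix.smul_mulVec, Matrix.one_mulVec]
      have h1 := hgg v₀
      rw [hgz, hgz, smul_smul, hsq g z hgz, one_smul] at h1
      have h3 : (2 : F) • v₀ = 0 := by rw [two_smul]; nth_rewrite 2 [h1]; exact add_neg_cancel v₀
      exact hv₀ (by rw [(smul_eq_zero.1 h3).resolve_left h2, QuadraticMap.map_zero])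
    exact ⟨W, hW, (map_le_iff hv W).1 hle⟩
  · rintro h x hx ⟨z, hz⟩ -
    obtain ⟨g, hg, hv⟩ := exists_elt hx
    have hgg : ∀ v, g.1 (g.1 v) = z • v := fun v => by
      rw [← hv, ← hv, Matrix.mulVec_mulVec, ← Units.val_mul, ← pow_two, hz, Matrix.smul_mulVec, Matrix.one_mulVec]
    obtain ⟨W, hW, hinv⟩ : ∃ W, P W ∧ Inv g.1.toLinearMap W := by
      rcases mul_self_eq_one_iff.1 (hsq (g * g) z hgg) with rfl | rfl
      · exact hinvol g fun v => by rw [hgg, one_smul]
      · have hneg : ∀ v, g.1 (g.1 v) = -v := fun v => by rw [hgg, neg_one_smul]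
        exact (hquart g hneg).2 (h ((exists_omega_quarter_iff h2 hQ hgen hn).1 ⟨g, hg, hneg⟩))
    exact ⟨W, hW, (map_le_iff hv W).2 hinv⟩

/-- Subspaces of one type fixed by a square root of `-1`. -/
theorem quarter_fix_type (h2 : (2 : F) ≠ 0) (hQ : (polarBilin Q).Nondegenerate) {d m : ℕ}
    (hn : finrank F V = 2 * d) (hm : Even m) (hmn : m ≤ 2 * d) (τ : Prop) {f : oGroup Q}
    (hf : ∀ v, f.1 (f.1 v) = -v) :
    (∃ W : Submodule F V, (finrank F W = m ∧ Ndg (polarBilin Q) W ∧ (IsPlus Q W ↔ τ)) ∧ Inv f.1.toLinearMap W) ↔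
      (τ ↔ (IsSquare (-1 : F) ∨ Even (m / 2))) := by
  constructor
  · rintro ⟨W, ⟨hd, hW, hp⟩, hinv⟩
    obtain ⟨j, hj, hjp, -, -⟩ := quarter_shape h2 hf _ W le_rfl hW hinv
    rw [← hp, hjp, show m / 2 = j by omega]
  · intro h
    obtain ⟨j, hj, -, -, hsub⟩ := quarter_shape h2 hf _ ⊤ le_rfl (ndg_top_iff.2 hQ) fun x _ => trivial
    rw [finrank_top, hn] at hj
    obtain ⟨a, ha⟩ := hm
    obtain ⟨X, -, hXn, hXinv, hXd⟩ := hsub a (by omega)
    obtain ⟨j', hj', hjp', -, -⟩ := quarter_shape h2 hf _ X le_rfl hXn hXinv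
    exact ⟨X, ⟨by omega, hXn, by rw [hjp', h, show m / 2 = j' by omega]⟩, hXinv⟩

/-- No subspace of odd dimension is fixed by a square root of `-1`. -/
theorem quarter_fix_odd (h2 : (2 : F) ≠ 0) {m : ℕ} (hm : Odd m) {f : oGroup Q}
    (hf : ∀ v, f.1 (f.1 v) = -v) {W : Submodule F V} (hd : finrank F W = m) (hW : Ndg (polarBilin Q) W) :
    ¬ Inv f.1.toLinearMap W := by
  intro hinv
  obtain ⟨j, hj, -, -, -⟩ := quarter_shape h2 hf _ W le_rfl hW hinv
  exact Nat.not_even_iff_odd.2 hm ⟨j, by omega⟩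

end CfsgLib.Elusive2
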