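import Cfsg.Agent.Elusive2.OrthStd
import Cfsg.Agent.Elusive.OrthPartition
import Cfsg.Agent.Quad.PlusLevi

/-!
Unipotent elements of orthogonal groups without fixed non-degenerate subspaces of a given kind.
-/

set_option autoImplicit false
set_option linter.unusedSectionVars false

namespace CfsgLib.Elusive2

open Module QuadraticMap CfsgLib.Elusive CfsgLib.Quad

variable {F V : Type*} [Field F] [AddCommGroup V] [Module F V] [FiniteDimensional F V]
  {Q : QuadraticForm F V}

/-- The orthogonal of an invariant subspace is invariant. -/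
theorem inv_perp {g : oGroup Q} {W : Submodule F V} (hW : Inv g.1.toLinearMap W) :
    Inv g.1.toLinearMap (perp (polarBilin Q) W) := by
  have hmap : W.map g.1.toLinearMap = W :=
    Submodule.eq_of_le_of_finrank_eq (Submodule.map_le_iff_le_comap.2 fun w hw => hW w hw)
      (LinearEquiv.finrank_map_eq g.1 W)
  intro y hy
  refine mem_perp.2 fun w hw => ?_
  obtain ⟨w', hw', rfl⟩ := (hmap.symm ▸ hw : w ∈ W.map g.1.toLinearMap)
  show polarBilin Q (g.1 w') (g.1 y) = 0
  rw [polarBilin_apply_apply, polar_oGroup, ← polarBilin_apply_apply]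
  exact mem_perp.1 hy w' hw'

/-- An invariant non-degenerate subspace on which `g - 1` squares to zero with totally singular image. -/
theorem square_zero_shape {g : oGroup Q} {W : Submodule F V} (hW : Ndg (polarBilin Q) W)
    (hinv : Inv g.1.toLinearMap W) (hN : ∀ w ∈ W, g.1 (g.1 w - w) = g.1 w - w)
    (hQN : ∀ w ∈ W, Q (g.1 w - w) = 0) :
    ∃ R : ℕ, finrank F (W.map (g.1.toLinearMap - 1)) = R ∧ Even R ∧ 2 * R ≤ finrank F W ∧
      W.map (g.1.toLinearMap - 1) ≤ W ⊓ LinearMap.ker (g.1.toLinearMap - 1) ∧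
      finrank F ↥(W ⊓ LinearMap.ker (g.1.toLinearMap - 1)) + R = finrank F W ∧
      (2 * R = finrank F W → IsPlus Q W) := by
  set N := g.1.toLinearMap - 1 with hNdef
  have hNa : ∀ v, N v = g.1 v - v := fun v => rfl
  have hle : W.map N ≤ W ⊓ LinearMap.ker N := by
    rintro _ ⟨w, hw, rfl⟩
    refine ⟨W.sub_mem (hinv w hw) hw, LinearMap.mem_ker.2 ?_⟩
    show g.1 (g.1 w - w) - (g.1 w - w) = 0
    rw [hN w hw, sub_self]
  have hrn : finrank F ↥(W ⊓ LinearMap.ker N) + finrank F (W.map N) = finrank F W := by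
    have h := (N.domRestrict W).finrank_range_add_finrank_ker
    have h1 : LinearMap.range (N.domRestrict W) = W.map N := LinearMap.range_domRestrict W N
    have h3 : (LinearMap.ker (N.domRestrict W)).map W.subtype = W ⊓ LinearMap.ker N := by
      ext v
      constructor
      · rintro ⟨w, hw, rfl⟩; exact ⟨w.2, hw⟩
      · rintro ⟨hv, hv'⟩; exact ⟨⟨v, hv⟩, hv', rfl⟩
    have h4 : finrank F (LinearMap.ker (N.domRestrict W)) = finrank F ↥(W ⊓ LinearMap.ker N) := by
      rw [← h3, Submodule.finrank_map_subtype_eq]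
    rw [h1, h4] at h
    omega
  have hle2 := Submodule.finrank_mono hle
  refine ⟨_, rfl, ?_, by omega, hle, hrn, fun he => ⟨W.map N, hle.trans inf_le_left, ?_, he⟩⟩
  · obtain ⟨C, hC⟩ := exists_isCompl ((W ⊓ LinearMap.ker N).comap W.subtype)
    let β : W →ₗ[F] W →ₗ[F] F := ((polarBilin Q).comp (N.comp W.subtype)).compl₂ W.subtype
    have hβ : ∀ u v : W, β u v = polarBilin Q (N u) (v : V) := fun u v => rfl
    have halt : ∀ v : W, β v v = 0 := fun v => by
      have h1 : Q ((v : V) + (g.1 v - v)) = Q (v : V) := by rw [add_sub_cancel, g.2]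
      rw [quad_add', hQN v v.2, add_zero] at h1
      rw [hβ, hNa, polar_swap]
      exact add_left_cancel (h1.trans (add_zero _).symm)
    have hsk : ∀ u v : W, β u v = - β v u := fun u v => by
      have h := halt (u + v)
      simp only [map_add, LinearMap.add_apply, halt, zero_add, add_zero] at h
      exact eq_neg_of_add_eq_zero_right h
    have hCn : Ndg β C := by
      intro u hu h0
      have hNu : N u ≠ 0 := fun e => h0 (by
        have : u ∈ ((W ⊓ LinearMap.ker N).comap W.subtype) ⊓ C := ⟨⟨u.2, e⟩, hu⟩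
        rwa [hC.inf_eq_bot, Submodule.mem_bot] at this)
      obtain ⟨w, hw, hne⟩ := hW (N u) (hle ⟨u, u.2, rfl⟩).1 hNu
      obtain ⟨k, hk, c, hc, he⟩ := Submodule.mem_sup.1
        (hC.sup_eq_top.symm ▸ Submodule.mem_top : (⟨w, hw⟩ : W) ∈ _ ⊔ C)
      refine ⟨c, hc, fun e => hne ?_⟩
      have h : β u ⟨w, hw⟩ = 0 := by
        rw [← he, map_add, e, add_zero, hsk, hβ, show N (k : V) = 0 from hk.2, map_zero, LinearMap.zero_apply,
          neg_zero]
      exact h
    have h5 := ndg_even halt _ C rfl hCn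
    have h6 : finrank F ↥((W ⊓ LinearMap.ker N).comap W.subtype) = finrank F ↥(W ⊓ LinearMap.ker N) :=
      (Submodule.comapSubtypeEquivOfLe inf_le_left).finrank_eq
    have h7 := Submodule.finrank_add_eq_of_isCompl hC
    rwa [show finrank F C = finrank F (W.map N) by omega] at h5
  · rintro _ ⟨w, hw, rfl⟩
    exact hQN w hw

/-- The images on an invariant subspace and on its orthogonal complement make up the image. -/
theorem rank_split [Fintype F] {g : oGroup Q} (hQ : (polarBilin Q).Nondegenerate) {W : Submodule F V}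
    (hW : Ndg (polarBilin Q) W) (hinv : Inv g.1.toLinearMap W) :
    Ndg (polarBilin Q) (perp (polarBilin Q) W) ∧
      finrank F W + finrank F (perp (polarBilin Q) W) = finrank F V ∧
      finrank F (LinearMap.range (g.1.toLinearMap - 1)) ≤
        finrank F (W.map (g.1.toLinearMap - 1)) +
          finrank F ((perp (polarBilin Q) W).map (g.1.toLinearMap - 1)) ∧
      (Even (finrank F W) → Even (finrank F (perp (polarBilin Q) W)) →
        (IsPlus Q ⊤ ↔ (IsPlus Q W ↔ IsPlus Q (perp (polarBilin Q) W)))) := by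
  obtain ⟨hsup, hinf, hdim, hnd⟩ := exists_split (T := ⊤) polar_refl hW le_top
  rw [top_inf_eq] at hsup hinf hdim hnd
  rw [finrank_top] at hdim
  refine ⟨hnd (ndg_top_iff.2 hQ), hdim, ?_, fun h1 h2 => ?_⟩
  · rw [LinearMap.range_eq_map, ← hsup, Submodule.map_sup]
    exact Submodule.finrank_add_le_finrank_add_finrank _ _
  · rw [← hsup]
    exact isPlus_sup hW (hnd (ndg_top_iff.2 hQ)) h1 h2 hinf fun x hx y hy => mem_perp.1 hy x hx

/-! ### A unipotent Levi element -/

/-- The matrix with ones at `(j, j + ⌊d/2⌋)`. -/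
def halfShift (d : ℕ) : Matrix (Fin d) (Fin d) F :=
  Matrix.of fun i j => if j.1 = i.1 + d / 2 ∧ i.1 < d / 2 then 1 else 0

theorem halfShift_sq (d : ℕ) : halfShift (F := F) d * halfShift d = 0 := by
  ext i j
  rw [Matrix.mul_apply]
  refine Finset.sum_eq_zero fun k _ => ?_
  simp only [halfShift, Matrix.of_apply]
  split_ifs <;> first | omega | simp

open Matrix in
theorem exists_levi_unipotent {d : ℕ} (hd : 3 ≤ d) {p : ℕ} [Fact p.Prime] [CharP F p] [Fintype F] :
    ∃ g : oGroup (plusQ (F := F) d), g ∈ commutator (oGroup (plusQ (F := F) d)) ∧ g ^ p = 1 ∧ g ≠ 1 ∧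
      (∀ v, g.1 (g.1 v - v) = g.1 v - v) ∧ (∀ v, plusQ d (g.1 v - v) = 0) ∧
      2 * (d / 2) ≤ finrank F (LinearMap.range (g.1.toLinearMap - 1)) := by
  classical
  have hE := halfShift_sq (F := F) d
  let A : GL (Fin d) F := ⟨1 + halfShift d, 1 - halfShift d,
    by rw [add_mul, one_mul, mul_sub, mul_one, hE]; abel, by rw [sub_mul, one_mul, mul_add, mul_one, hE]; abel⟩
  have hdet : (A : Matrix (Fin d) (Fin d) F).det = 1 := by
    rw [det_of_isUpperTriangular]
    · refine Finset.prod_eq_one fun i _ => ?_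
      show (1 + halfShift (F := F) d) i i = 1
      simp only [Matrix.add_apply, one_apply_eq, halfShift, of_apply]
      rw [if_neg (by omega), add_zero]
    · intro i j hij
      have hij' : j.1 < i.1 := hij
      show (1 + halfShift (F := F) d) i j = 0
      simp only [Matrix.add_apply, halfShift, of_apply]
      rw [one_apply_ne (fun e => by rw [e] at hij'; omega), if_neg (by omega), add_zero]
  have happ : ∀ v, (levi d A).1 v - v =
      Sum.elim (halfShift d *ᵥ (v ∘ Sum.inl)) (-((halfShift d)ᵀ *ᵥ (v ∘ Sum.inr))) := fun v => by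
    rw [levi_apply]
    show Sum.elim ((1 + halfShift d) *ᵥ (v ∘ Sum.inl)) ((1 - halfShift d)ᵀ *ᵥ (v ∘ Sum.inr)) - v = _
    funext s
    cases s <;> simp [add_mulVec, sub_mulVec, transpose_sub, transpose_one]
  have hN : ∀ v, (levi d A).1 ((levi d A).1 v - v) = (levi d A).1 v - v := fun v => by
    refine sub_eq_zero.1 ?_
    rw [happ, happ v, Sum.elim_comp_inl, Sum.elim_comp_inr, mulVec_neg, mulVec_mulVec, mulVec_mulVec,
      ← transpose_mul, hE]
    simp
  have hQN : ∀ v, plusQ d ((levi d A).1 v - v) = 0 := fun v => by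
    rw [happ, plusQ_coe]
    simp only [Cfsg.quadFormPlus, Sum.elim_inl, Sum.elim_inr]
    show (halfShift d *ᵥ (v ∘ Sum.inl)) ⬝ᵥ (-((halfShift d)ᵀ *ᵥ (v ∘ Sum.inr))) = 0
    rw [dotProduct_neg, mulVec_transpose, dotProduct_comm, ← dotProduct_mulVec, mulVec_mulVec, hE, zero_mulVec,
      dotProduct_zero, neg_zero]
  have hrank : 2 * (d / 2) ≤ finrank F (LinearMap.range ((levi d A).1.toLinearMap - 1)) := by
    let a : Fin (d / 2) → Fin d := fun i => ⟨i.1, by omega⟩
    let b : Fin (d / 2) → Fin d := fun i => ⟨i.1 + d / 2, by omega⟩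
    let e : Fin (d / 2) ⊕ Fin (d / 2) → Fin d ⊕ Fin d := Sum.map a b
    have he : Function.Injective e := Function.Injective.sumMap
      (fun i j h => Fin.ext (by simpa [a] using congrArg Fin.val h))
      (fun i j h => Fin.ext (by simpa [b] using congrArg Fin.val h))
    have hli := ((Pi.basisFun F (Fin d ⊕ Fin d)).linearIndependent).comp e he
    have hspan := finrank_span_eq_card hli
    rw [Fintype.card_sum, Fintype.card_fin] at hspan
    have hle : Submodule.span F (Set.range ((Pi.basisFun F (Fin d ⊕ Fin d)) ∘ e)) ≤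
        LinearMap.range ((levi d A).1.toLinearMap - 1) := by
      rw [Submodule.span_le]
      rintro _ ⟨i | i, rfl⟩
      · refine ⟨Pi.single (Sum.inl (b i)) 1, ?_⟩
        refine (happ _).trans ?_
        funext s
        simp only [Function.comp_apply, e, Sum.map_inl, Pi.basisFun_apply]
        rcases s with s | s
        · simp only [Sum.elim_inl, mulVec, dotProduct, Function.comp_apply, Pi.single_apply, Sum.inl.injEq]
          simp [halfShift, a, b, Fin.ext_iff]
          rw [Finset.sum_eq_single (b i) (fun x _ hx => if_neg fun h => hx (Fin.ext h)) (by simp)]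
          simp only [b, if_pos]
          split_ifs <;> first | rfl | omega
        · simp [mulVec, dotProduct, Pi.single_apply]
      · refine ⟨-Pi.single (Sum.inr (a i)) 1, ?_⟩
        refine (happ _).trans ?_
        funext s
        simp only [Function.comp_apply, e, Sum.map_inr, Pi.basisFun_apply]
        rcases s with s | s
        · simp [mulVec, dotProduct, Pi.single_apply]
        · simp only [Sum.elim_inr, mulVec, dotProduct, Function.comp_apply, Pi.single_apply, Sum.inr.injEq,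
            Pi.neg_apply, transpose_apply]
          simp [halfShift, a, b, Fin.ext_iff]
          rw [Finset.sum_eq_single (a i) (fun x _ hx => if_neg fun h => hx (Fin.ext h)) (by simp)]
          simp only [a, if_pos]
          split_ifs <;> first | rfl | omega
    have := Submodule.finrank_mono hle
    omega
  refine ⟨levi d A, ?_, ?_, fun h => ?_, hN, hQN, hrank⟩
  · rw [levi_mem_iff (Or.inr (by omega)), hdet]; exact IsSquare.one
  · have hpow : ∀ k : ℕ, ∀ v, ((levi d A) ^ k).1 v = v + (k : F) • ((levi d A).1 v - v) := fun k => by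
      induction k with
      | zero => intro v; simp
      | succ k ih =>
        intro v
        rw [pow_succ']
        show (levi d A).1 (((levi d A) ^ k).1 v) = _
        rw [ih, map_add, map_smul, hN, Nat.cast_succ, add_smul, one_smul]
        abel
    refine Subtype.ext (LinearEquiv.ext fun v => ?_)
    rw [hpow, CharP.cast_eq_zero, zero_smul, add_zero]
    rfl
  · rw [h] at hrank
    have h0 : LinearMap.range ((1 : oGroup (plusQ (F := F) d)).1.toLinearMap - 1) = ⊥ :=
      LinearMap.range_eq_bot.2 (sub_eq_zero.2 rfl)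
    rw [h0, finrank_bot] at hrank
    omega

/-- Every subspace fixed by the unipotent Levi element of even rank has dimension divisible by four and plus type;
in odd rank it has plus type if its dimension is even. -/
theorem levi_fixed_shape [Fintype F] {d : ℕ} {g : oGroup (plusQ (F := F) d)}
    (hN : ∀ v, g.1 (g.1 v - v) = g.1 v - v) (hQN : ∀ v, plusQ d (g.1 v - v) = 0)
    (hrank : 2 * (d / 2) ≤ finrank F (LinearMap.range (g.1.toLinearMap - 1)))
    {W : Submodule F (Fin d ⊕ Fin d → F)} (hW : Ndg (polarBilin (plusQ (F := F) d)) W)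
    (hinv : Inv g.1.toLinearMap W) :
    (Even d → finrank F W % 4 = 0) ∧ (Even (finrank F W) → IsPlus (plusQ d) W) := by
  obtain ⟨hUn, hdim, hR, hsum⟩ := rank_split (plusQ_nondeg d) hW hinv
  obtain ⟨R, h1, ⟨j, hj⟩, h3, -, -, h5⟩ := square_zero_shape hW hinv (fun w _ => hN w) fun w _ => hQN w
  obtain ⟨R', h1', ⟨j', hj'⟩, h3', -, -, h5'⟩ :=
    square_zero_shape hUn (inv_perp hinv) (fun w _ => hN w) fun w _ => hQN w
  rw [finrank_fintype_fun_eq_card, Fintype.card_sum, Fintype.card_fin] at hdim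
  rw [h1, h1'] at hR
  refine ⟨fun ⟨e, he⟩ => by omega, fun ⟨w, hw⟩ => ?_⟩
  have hUe : Even (finrank F (perp (polarBilin (plusQ (F := F) d)) W)) := ⟨d - w, by omega⟩
  have hV := (hsum ⟨w, hw⟩ hUe).1 (isPlus_plusQ d)
  by_cases hfW : 2 * R = finrank F W
  · exact h5 hfW
  · exact hV.2 (h5' (by omega))

/-! ### An element for minus type and odd dimensional subspaces -/

theorem map_inf_perp (g : oGroup Q) (U Y : Submodule F V) :
    (U ⊓ perp (polarBilin Q) Y).map g.1.toLinearMap =
      U.map g.1.toLinearMap ⊓ perp (polarBilin Q) (Y.map g.1.toLinearMap) := by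
  have hiso : ∀ a b, polarBilin Q (g.1 a) (g.1 b) = polarBilin Q a b := fun a b => by
    simp only [polarBilin_apply_apply, polar_oGroup]
  ext v
  constructor
  · rintro ⟨x, ⟨hx, hx'⟩, rfl⟩
    refine ⟨⟨x, hx, rfl⟩, mem_perp.2 ?_⟩
    rintro _ ⟨y, hy, rfl⟩
    exact (hiso y x).trans (mem_perp.1 hx' y hy)
  · rintro ⟨⟨x, hx, rfl⟩, hp⟩
    exact ⟨x, ⟨hx, mem_perp.2 fun y hy => (hiso y x).symm.trans (mem_perp.1 hp _ ⟨y, hy, rfl⟩)⟩, rfl⟩

/-- Some square class is not represented by a vector with orthogonal of plus type. -/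
theorem exists_bad_class [Fintype F] (h2 : (2 : F) ≠ 0) (hQ : (polarBilin Q).Nondegenerate)
    {U₀ : Submodule F V} (hU : Ndg (polarBilin Q) U₀) {j : ℕ} (hd : finrank F U₀ = 2 * j + 1) :
    ∃ c : F, c ≠ 0 ∧ ∀ k ∈ U₀, ∀ a : F, a ≠ 0 → Q k = a * a * c →
      ¬ IsPlus Q (U₀ ⊓ perp (polarBilin Q) (Submodule.span F {k})) := by
  classical
  obtain ⟨ν, hν⟩ := FiniteField.exists_nonsquare (F := F) fun h => h2 (by
    haveI : CharP F 2 := ringChar.of_eq h
    exact CharP.cast_eq_zero F 2)
  have hν0 : ν ≠ 0 := fun e => hν (e ▸ IsSquare.zero)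
  by_contra hc
  push Not at hc
  obtain ⟨k, hk, a, ha, hQk, hP⟩ := hc 1 one_ne_zero
  obtain ⟨k', hk', a', ha', hQk', hP'⟩ := hc ν hν0
  obtain ⟨hUn, -, -, -⟩ : Ndg (polarBilin Q) (perp (polarBilin Q) U₀) ∧ True ∧ True ∧ True := by
    obtain ⟨-, -, -, hnd⟩ := exists_split (T := ⊤) polar_refl hU le_top
    rw [top_inf_eq] at hnd
    exact ⟨hnd (ndg_top_iff.2 hQ), trivial, trivial, trivial⟩
  have hline : ∀ k ∈ U₀, Q k ≠ 0 →
      Ndg (polarBilin Q) (U₀ ⊓ perp (polarBilin Q) (Submodule.span F {k})) ∧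
        finrank F ↥(U₀ ⊓ perp (polarBilin Q) (Submodule.span F {k})) = 2 * j ∧
        Submodule.span F {k} ⊔ (U₀ ⊓ perp (polarBilin Q) (Submodule.span F {k})) = U₀ := by
    intro k hk h0
    have hn : Ndg (polarBilin Q) (Submodule.span F {k}) := by
      intro x hx hx0
      obtain ⟨b, rfl⟩ := Submodule.mem_span_singleton.1 hx
      refine ⟨k, Submodule.mem_span_singleton_self k, ?_⟩
      rw [map_smul, LinearMap.smul_apply, polarBilin_apply_apply, polar_self, nsmul_eq_mul, Nat.cast_ofNat,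
        smul_eq_mul]
      exact mul_ne_zero (fun e => hx0 (by rw [e, zero_smul])) (mul_ne_zero h2 h0)
    obtain ⟨hs, -, hdim, hnd⟩ := exists_split (T := U₀) polar_refl hn
      (by rw [Submodule.span_le, Set.singleton_subset_iff]; exact hk)
    rw [finrank_span_singleton (fun e => h0 (by rw [e, QuadraticMap.map_zero]))] at hdim
    exact ⟨hnd hU, by omega, hs⟩
  obtain ⟨hHn, hHd, -⟩ := hline k hk (by rw [hQk]; simp [ha])
  have hk0' : Q k' ≠ 0 := by rw [hQk']; exact mul_ne_zero (mul_ne_zero ha' ha') hν0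
  obtain ⟨hHn', hHd', hs'⟩ := hline k' hk' hk0'
  set H := U₀ ⊓ perp (polarBilin Q) (Submodule.span F {k})
  set H' := U₀ ⊓ perp (polarBilin Q) (Submodule.span F {k'}) with hH'
  obtain ⟨e, he⟩ := exists_isometry hHn hHn' hHd hHd' (iff_of_true hP hP')
  have hinf : ∀ X ≤ U₀, X ⊓ perp (polarBilin Q) U₀ = ⊥ := fun X hX =>
    le_bot_iff.1 ((inf_le_inf_right _ hX).trans (inf_perp polar_refl hU).le)
  have ho : ∀ X ≤ U₀, ∀ x ∈ X, ∀ y ∈ perp (polarBilin Q) U₀, polarBilin Q x y = 0 :=
    fun X hX x hx y hy => mem_perp.1 hy x (hX hx)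
  obtain ⟨E, hE⟩ := exists_iso_sup (hinf H inf_le_left) (hinf H' inf_le_left) (ho H inf_le_left)
    (ho H' inf_le_left) e he (LinearEquiv.refl F _) fun y => rfl
  obtain ⟨g, hg⟩ := exists_map_subspace hQ E hE
  have hperp : ∀ y ∈ H' ⊔ perp (polarBilin Q) U₀, polarBilin Q (g.1 k) y = 0 := by
    rw [← hg]
    rintro _ ⟨x, hx, rfl⟩
    obtain ⟨h, hh, u, hu, rfl⟩ := Submodule.mem_sup.1 hx
    show polarBilin Q (g.1 k) (g.1 (h + u)) = 0
    rw [polarBilin_apply_apply, polar_oGroup, ← polarBilin_apply_apply, map_add,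
      mem_perp.1 hh.2 k (Submodule.mem_span_singleton_self k), ho U₀ le_rfl k hk u hu, add_zero]
  set b := polarBilin Q (g.1 k) k' / (2 * Q k')
  have hzero : g.1 k = b • k' := by
    by_contra hne
    obtain ⟨v, -, hv⟩ := ndg_top_iff.2 hQ (g.1 k - b • k') trivial (sub_ne_zero.2 hne)
    refine hv ?_
    obtain ⟨hsup, -, -, -⟩ := exists_split (T := ⊤) polar_refl hU le_top
    rw [top_inf_eq] at hsup
    obtain ⟨u, hu, w, hw, rfl⟩ := Submodule.mem_sup.1 (hsup.symm ▸ Submodule.mem_top : v ∈ _ ⊔ _)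
    obtain ⟨l, hl, h, hh, rfl⟩ := Submodule.mem_sup.1 (hs'.symm ▸ hu : u ∈ _ ⊔ _)
    obtain ⟨s, rfl⟩ := Submodule.mem_span_singleton.1 hl
    simp only [map_sub, map_smul, LinearMap.sub_apply, LinearMap.smul_apply, map_add,
      hperp h (Submodule.mem_sup_left hh), hperp w (Submodule.mem_sup_right hw),
      mem_perp.1 hh.2 k' (Submodule.mem_span_singleton_self k'), ho U₀ le_rfl k' hk' w hw]
    rw [show polarBilin Q k' k' = 2 * Q k' by
      rw [polarBilin_apply_apply, polar_self, nsmul_eq_mul, Nat.cast_ofNat]]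
    simp only [smul_eq_mul, b]
    field_simp
    ring
  have h1 := g.2 k
  rw [hzero, QuadraticMap.map_smul, hQk, hQk', smul_eq_mul] at h1
  have hb : b ≠ 0 := fun e => by
    rw [e] at h1
    simp [ha] at h1
  exact hν ⟨a / (b * a'), by field_simp; linear_combination h1⟩

/-- Over spaces of dimension divisible by four, some element of order `p` fixes no member of a class of odd
dimensional subspaces. -/
theorem exists_unipotent_avoid [Fintype F] {p : ℕ} [hp : Fact p.Prime] [CharP F p] (h2 : (2 : F) ≠ 0)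
    (hpodd : Odd p) (hQ : (polarBilin Q).Nondegenerate) {d : ℕ} (hd : Even d) (hd3 : 3 ≤ d)
    (hn : finrank F V = 2 * d) {m : ℕ} (hm : Odd m) (hmn : m ≤ 2 * d) {W₀ : Submodule F V}
    (hd₀ : finrank F W₀ = m) (hn₀ : Ndg (polarBilin Q) W₀) :
    ∃ g : oGroup Q, g ∈ commutator (oGroup Q) ∧ g ^ p = 1 ∧ g ≠ 1 ∧
      ∀ W : Submodule F V, Ndg (polarBilin Q) W → finrank F W = m →
        (∃ e : W ≃ₗ[F] W₀, ∀ w : W, Q (e w) = Q w) → ¬ Inv g.1.toLinearMap W := by
  classical
  have hQt := ndg_top_iff.2 hQ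
  have h4 : (2 * d) % 4 = 0 := by obtain ⟨e, rfl⟩ := hd; omega
  have hgen : (∃ t : F, t ≠ 0 ∧ t ≠ 1) ∨ finrank F V ≠ 4 := Or.inr (by omega)
  have hhgen : ∀ X : Submodule F V, (∃ t : F, t ≠ 0 ∧ t ≠ 1) ∨ finrank F X ≠ 4 := fun X =>
    Or.inl ⟨-1, neg_ne_zero.2 one_ne_zero, fun e => h2 (by linear_combination -e)⟩
  obtain ⟨U₀, hU₀n, hU₀d, hU₀⟩ : ∃ U₀ : Submodule F V, Ndg (polarBilin Q) U₀ ∧ finrank F U₀ % 4 = 1 ∧
      (U₀ = W₀ ∨ U₀ = perp (polarBilin Q) W₀) := by
    obtain ⟨-, -, hdim, hnd⟩ := exists_split (T := ⊤) polar_refl hn₀ le_top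
    rw [top_inf_eq] at hdim hnd
    rw [finrank_top, hn, hd₀] at hdim
    rcases (show m % 4 = 1 ∨ m % 4 = 3 by have := Nat.odd_iff.1 hm; omega) with h | h
    · exact ⟨W₀, hn₀, hd₀.symm ▸ h, Or.inl rfl⟩
    · exact ⟨_, hnd hQt, by omega, Or.inr rfl⟩
  obtain ⟨c, hc0, hbad⟩ := exists_bad_class h2 hQ hU₀n (j := finrank F U₀ / 2) (by omega)
  obtain ⟨ℓ, -, hℓ⟩ := represents hQt (by rw [finrank_top, hn]; omega) c
  have hℓ0 : ℓ ≠ 0 := fun e => hc0 (by rw [← hℓ, e, QuadraticMap.map_zero])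
  have hℓℓ : polarBilin Q ℓ ℓ = 2 * c := by
    rw [polarBilin_apply_apply, polar_self, nsmul_eq_mul, Nat.cast_ofNat, hℓ]
  have hLn : Ndg (polarBilin Q) (Submodule.span F {ℓ}) := by
    intro x hx hx0
    obtain ⟨b, rfl⟩ := Submodule.mem_span_singleton.1 hx
    refine ⟨ℓ, Submodule.mem_span_singleton_self ℓ, ?_⟩
    rw [map_smul, LinearMap.smul_apply, hℓℓ, smul_eq_mul]
    exact mul_ne_zero (fun e => hx0 (by rw [e, zero_smul])) (mul_ne_zero h2 hc0)
  obtain ⟨hsup, -, hdim, hnd⟩ := exists_split (T := ⊤) polar_refl hLn le_top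
  rw [top_inf_eq] at hsup hdim hnd
  rw [finrank_top, hn, finrank_span_singleton hℓ0] at hdim
  set X := perp (polarBilin Q) (Submodule.span F {ℓ}) with hX
  have hXn := hnd hQt
  have hℓX : ∀ x ∈ X, polarBilin Q ℓ x = 0 := fun x hx => mem_perp.1 hx ℓ (Submodule.mem_span_singleton_self ℓ)
  have hp3 : 3 ≤ p := by have := hp.out.two_le; have := Nat.odd_iff.1 hpodd; omega
  obtain ⟨h, hh, hhp, -, hprof⟩ := exists_orth_unipotent h2 hpodd (ndg_comp hXn)
    (μ := 3 ::ₘ Multiset.replicate (d - 2) 2)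
    (fun e he => by
      rcases Multiset.mem_cons.1 he with rfl | he
      · exact hp3
      · rw [Multiset.eq_of_mem_replicate he]; omega)
    (fun e he => by
      rw [Multiset.count_cons, if_neg (by rintro rfl; exact absurd he (by decide)), add_zero,
        Multiset.count_replicate]
      split
      · obtain ⟨k, rfl⟩ := hd; exact ⟨k - 1, by omega⟩
      · exact Even.zero)
    ⟨3, by simp, by decide⟩
    (by simp only [Multiset.sum_cons, Multiset.sum_replicate, smul_eq_mul]; omega)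
  obtain ⟨vs, hvs, rfl⟩ := exists_reflProd (ndg_comp hXn) (hhgen X) h
  set g := reflProd Q (vs.map fun v : X => (v : V)) with hg
  have hvs' : ∀ v ∈ vs.map (fun v : X => (v : V)), Q v ≠ 0 := fun v hv => by
    obtain ⟨w, hw, rfl⟩ := List.mem_map.1 hv
    exact hvs w hw
  have hgC : g ∈ commutator (oGroup Q) := by
    rw [reflProd_mem_commutator_iff hQ hgen hvs', List.length_map, List.map_map]
    exact (reflProd_mem_commutator_iff (ndg_comp hXn) (hhgen X) hvs).1 hh
  have hgX : ∀ x : X, g.1 (x : V) = ((reflProd (Q.comp X.subtype) vs).1 x : V) ∧ g.1 ℓ = ℓ := by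
    intro x
    rw [hg]
    clear hh hhp hprof hvs hgC hvs' hg g
    induction vs with
    | nil => exact ⟨rfl, rfl⟩
    | cons v vs ih =>
      rw [List.map_cons, reflProd_cons, reflProd_cons]
      refine ⟨?_, ?_⟩
      · show (refl Q (v : V)).1 ((reflProd Q (vs.map fun v : X => (v : V))).1 (x : V)) = _
        rw [ih.1]
        rfl
      · show (refl Q (v : V)).1 ((reflProd Q (vs.map fun v : X => (v : V))).1 ℓ) = ℓ
        rw [ih.2]
        exact refl_fix (hℓX v v.2)
  generalize hh' : reflProd (Q.comp X.subtype) vs = h at hgX hhp hprof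
  clear hh
  have hdec : ∀ v, ∃ (a : F) (x : X), v = a • ℓ + (x : V) ∧ g.1 v = a • ℓ + (h.1 x : V) := fun v => by
    obtain ⟨l, hl, x, hx, rfl⟩ := Submodule.mem_sup.1 (hsup.symm ▸ Submodule.mem_top : v ∈ _ ⊔ X)
    obtain ⟨a, rfl⟩ := Submodule.mem_span_singleton.1 hl
    exact ⟨a, ⟨x, hx⟩, rfl, by rw [map_add, map_smul, (hgX ⟨x, hx⟩).2, (hgX ⟨x, hx⟩).1]⟩
  set M := h.1.toLinearMap - 1 with hM
  have hk1 := hprof 1
  have hk2 := hprof 2
  rw [kerDim, top_inf_eq, profile_cons] at hk1 hk2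
  rw [pow_one] at hk1
  rw [show profile (Multiset.replicate (d - 2) 2) 1 = d - 2 by simp [profile]] at hk1
  rw [show profile (Multiset.replicate (d - 2) 2) 2 = 2 * (d - 2) by simp [profile, mul_comm]] at hk2
  have hMsurj : ∀ x : X, M x = 0 → ∃ z : X, M z = x := by
    have hle : (LinearMap.ker (M ^ 2)).map M ≤ LinearMap.ker M := by
      rintro _ ⟨z, hz, rfl⟩
      rw [LinearMap.mem_ker, ← Module.End.mul_apply, ← pow_two]
      exact hz
    have hrn := (M.domRestrict (LinearMap.ker (M ^ 2))).finrank_range_add_finrank_ker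
    rw [LinearMap.range_domRestrict] at hrn
    have hker : finrank F (LinearMap.ker (M.domRestrict (LinearMap.ker (M ^ 2)))) ≤ finrank F (LinearMap.ker M) := by
      refine LinearMap.finrank_le_finrank_of_injective (f := LinearMap.codRestrict (LinearMap.ker M)
        ((LinearMap.ker (M ^ 2)).subtype.comp (LinearMap.ker (M.domRestrict _)).subtype) fun z => z.2) fun a b hab => ?_
      exact Subtype.ext (Subtype.ext (congrArg Subtype.val hab : _))
    have heq := Submodule.eq_of_le_of_finrank_le hle (by omega)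
    intro x hx
    obtain ⟨z, -, hz⟩ := (heq.symm ▸ hx : x ∈ (LinearMap.ker (M ^ 2)).map M)
    exact ⟨z, hz⟩
  have hfix : ∀ x : X, h.1 x = x → Q (x : V) = 0 := fun x hx => by
    obtain ⟨z, hz⟩ := hMsurj x (sub_eq_zero.2 hx)
    have h1 : polar (Q.comp X.subtype) (h.1 z) (h.1 x) = polar (Q.comp X.subtype) z x := polar_oGroup h z x
    rw [hx, show h.1 z = z + x from sub_eq_iff_eq_add'.1 hz, polar_add_left, add_eq_left, polar_self,
      nsmul_eq_mul, Nat.cast_ofNat] at h1
    exact (mul_eq_zero.1 h1).resolve_left h2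
  have hMsq : finrank F (LinearMap.range (M ^ 2)) = 1 := by
    have := LinearMap.finrank_range_add_finrank_ker (M ^ 2)
    omega
  refine ⟨g, hgC, ?_, ?_, fun W hW hWd hiso hinv => ?_⟩
  · have hpow : ∀ k : ℕ, ∀ (a : F) (x : X), (g ^ k).1 (a • ℓ + (x : V)) = a • ℓ + ((h ^ k).1 x : V) := fun k => by
      induction k with
      | zero => intro a x; rfl
      | succ k ih =>
        intro a x
        rw [pow_succ, pow_succ]
        show (g ^ k).1 (g.1 _) = _
        rw [map_add, map_smul, (hgX x).2, (hgX x).1, ih]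
        rfl
    refine Subtype.ext (LinearEquiv.ext fun v => ?_)
    obtain ⟨a, x, rfl, -⟩ := hdec v
    rw [hpow, hhp]
    rfl
  · intro e
    have h0 : M ^ 2 = 0 := by
      have : M = 0 := sub_eq_zero.2 (LinearMap.ext fun x => Subtype.ext (by
        have := (hgX x).1
        rw [e] at this
        exact this.symm))
      rw [this, zero_pow two_ne_zero]
    rw [h0, LinearMap.range_zero, finrank_bot] at hMsq
    omega
  obtain ⟨hUn, hUd, -, -⟩ := rank_split hQ hW hinv
  rw [hn, hWd] at hUd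
  have hfixg : ∀ v, g.1 v = v → ∃ (a : F) (x : X), v = a • ℓ + (x : V) ∧ h.1 x = x ∧ Q v = a * a * c := by
    intro v hv
    obtain ⟨a, x, rfl, hgv⟩ := hdec v
    have hx : h.1 x = x := Subtype.ext (add_left_cancel (hgv.symm.trans hv))
    refine ⟨a, x, rfl, hx, ?_⟩
    rw [quad_add', QuadraticMap.map_smul, hℓ, hfix x hx, map_smul, LinearMap.smul_apply, hℓX x x.2, smul_zero,
      smul_eq_mul, add_zero, add_zero]
  have hkey : ∀ U : Submodule F V, Ndg (polarBilin Q) U → Inv g.1.toLinearMap U → Odd (finrank F U) →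
      (∀ w ∈ U, g.1 (g.1 w - w) = g.1 w - w) →
      finrank F U % 4 = 1 ∧ ∃ u ∈ U, ∃ a : F, a ≠ 0 ∧ Q u = a * a * c ∧
        IsPlus Q (U ⊓ perp (polarBilin Q) (Submodule.span F {u})) := by
    intro U hU hUi hUodd hN
    have hQN : ∀ w ∈ U, Q (g.1 w - w) = 0 := fun w hw => by
      have h1 : polarBilin Q (g.1 w) (g.1 (g.1 w - w)) = polarBilin Q w (g.1 w - w) := by
        simp only [polarBilin_apply_apply, polar_oGroup]
      rw [hN w hw] at h1
      have h3 : polarBilin Q (g.1 w - w) (g.1 w - w) = 0 := by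
        rw [map_sub (polarBilin Q), LinearMap.sub_apply, h1, sub_self]
      rw [polarBilin_apply_apply, polar_self, nsmul_eq_mul, Nat.cast_ofNat] at h3
      exact (mul_eq_zero.1 h3).resolve_left h2
    obtain ⟨R, -, ⟨r, hr⟩, h2R, -, hK, -⟩ := square_zero_shape hU hUi hN hQN
    set K := U ⊓ LinearMap.ker (g.1.toLinearMap - 1)
    have hKfix : ∀ v ∈ K, g.1 v = v := fun v hv => sub_eq_zero.1 hv.2
    have hodd := Nat.odd_iff.1 hUodd
    obtain ⟨u, hu, hu0⟩ : ∃ u ∈ K, Q u ≠ 0 := by
      by_contra hall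
      push Not at hall
      have := (iso0_of_sing (Q := Q) hall).two_mul_le polar_refl inf_le_left hU
      omega
    obtain ⟨a, x, hux, hx, hQu⟩ := hfixg u (hKfix u hu)
    have ha : a ≠ 0 := fun e => hu0 (by rw [hQu, e]; ring)
    have hln : Ndg (polarBilin Q) (Submodule.span F {u}) := by
      intro y hy hy0
      obtain ⟨b, rfl⟩ := Submodule.mem_span_singleton.1 hy
      refine ⟨u, Submodule.mem_span_singleton_self u, ?_⟩
      rw [map_smul, LinearMap.smul_apply, polarBilin_apply_apply, polar_self, nsmul_eq_mul, Nat.cast_ofNat,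
        smul_eq_mul]
      exact mul_ne_zero (fun e => hy0 (by rw [e, zero_smul])) (mul_ne_zero h2 hu0)
    have hlK : Submodule.span F {u} ≤ K := by rw [Submodule.span_le, Set.singleton_subset_iff]; exact hu
    obtain ⟨-, -, hd1, hnd1⟩ := exists_split (T := U) polar_refl hln (hlK.trans inf_le_left)
    obtain ⟨-, -, hd2, -⟩ := exists_split (T := K) polar_refl hln hlK
    rw [finrank_span_singleton (fun e => hu0 (by rw [e, QuadraticMap.map_zero]))] at hd1 hd2
    have hsing : ∀ v ∈ K ⊓ perp (polarBilin Q) (Submodule.span F {u}), Q v = 0 := by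
      rintro v ⟨hvK, hvp⟩
      obtain ⟨b, y, hvy, hy, hQv⟩ := hfixg v (hKfix v hvK)
      have h0 : polarBilin Q u v = 0 := mem_perp.1 hvp u (Submodule.mem_span_singleton_self u)
      have hxy : polarBilin Q (x : V) (y : V) = 0 := by
        have h1 : Q (((x + y : X) : V)) = 0 := hfix (x + y) (by rw [map_add, hx, hy])
        rw [Submodule.coe_add, quad_add', hfix x hx, hfix y hy, zero_add, zero_add] at h1
        exact h1
      rw [hux, hvy] at h0
      simp only [map_add, map_smul, LinearMap.add_apply, LinearMap.smul_apply, hℓℓ, hℓX y y.2,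
        polar_swap (x : V) ℓ, hℓX x x.2, hxy, smul_eq_mul, mul_zero, add_zero, zero_add] at h0
      have hb : b = 0 := by
        by_contra hb
        exact mul_ne_zero hb (mul_ne_zero ha (mul_ne_zero h2 hc0)) (by linear_combination h0)
      rw [hQv, hb]; ring
    have hle := (iso0_of_sing (Q := Q) hsing).two_mul_le polar_refl
      (inf_le_inf_right _ (inf_le_left : K ≤ U)) (hnd1 hU)
    refine ⟨by omega, u, hu.1, a, ha, hQu, K ⊓ perp (polarBilin Q) (Submodule.span F {u}),
      inf_le_inf_right _ (inf_le_left : K ≤ U), hsing, by omega⟩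
  have hone : (∀ w ∈ W, g.1 (g.1 w - w) = g.1 w - w) ∨
      ∀ w ∈ perp (polarBilin Q) W, g.1 (g.1 w - w) = g.1 w - w := by
    by_contra hc
    push Not at hc
    obtain ⟨⟨w, hw, hw'⟩, u, hu, hu'⟩ := hc
    set G := g.1.toLinearMap - 1
    have hG : ∀ v, ∃ x : X, G (G v) = ((M ^ 2) x : V) := fun v => by
      obtain ⟨a, x, rfl, hgv⟩ := hdec v
      refine ⟨x, ?_⟩
      have h1 : G (a • ℓ + (x : V)) = ((M x : X) : V) := by
        show g.1 _ - _ = _
        rw [hgv]; simp [hM]
      rw [h1, pow_two, Module.End.mul_apply]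
      show g.1 ((M x : X) : V) - _ = _
      rw [(hgX (M x)).1]
      rfl
    obtain ⟨z, hz, hzspan⟩ := finrank_eq_one_iff'.1 hMsq
    obtain ⟨x1, hx1⟩ := hG w
    obtain ⟨x2, hx2⟩ := hG u
    obtain ⟨s1, hs1⟩ := hzspan ⟨(M ^ 2) x1, x1, rfl⟩
    obtain ⟨s2, hs2⟩ := hzspan ⟨(M ^ 2) x2, x2, rfl⟩
    have e1 : G (G w) = s1 • ((z : X) : V) := by
      rw [hx1, ← Submodule.coe_smul]; exact congrArg (fun t : X => (t : V)) (congrArg Subtype.val hs1).symm
    have e2 : G (G u) = s2 • ((z : X) : V) := by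
      rw [hx2, ← Submodule.coe_smul]; exact congrArg (fun t : X => (t : V)) (congrArg Subtype.val hs2).symm
    have hs10 : s1 ≠ 0 := fun e => hw' (sub_eq_zero.1 (e1.trans (by rw [e, zero_smul])))
    have hs20 : s2 ≠ 0 := fun e => hu' (sub_eq_zero.1 (e2.trans (by rw [e, zero_smul])))
    have hW2 : G (G w) ∈ W := by
      have h1 : G w ∈ W := W.sub_mem (hinv w hw) hw
      exact W.sub_mem (hinv _ h1) h1
    have hU2 : G (G u) ∈ perp (polarBilin Q) W := by
      have h1 : G u ∈ perp (polarBilin Q) W := Submodule.sub_mem _ (inv_perp hinv u hu) hu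
      exact Submodule.sub_mem _ (inv_perp hinv _ h1) h1
    rw [e1] at hW2
    rw [e2] at hU2
    have hz0 : ((z : X) : V) ∈ W ⊓ perp (polarBilin Q) W :=
      ⟨(W.smul_mem_iff hs10).1 hW2, (Submodule.smul_mem_iff _ hs20).1 hU2⟩
    rw [inf_perp polar_refl hW, Submodule.mem_bot] at hz0
    exact hz (Subtype.ext (Subtype.ext hz0))
  obtain ⟨e, he⟩ := hiso
  obtain ⟨k, hk⟩ := exists_map_subspace hQ e he
  have hkp : (perp (polarBilin Q) W).map k.1.toLinearMap = perp (polarBilin Q) W₀ := by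
    have h1 := map_inf_perp k ⊤ W
    rwa [top_inf_eq, hk, Submodule.map_top, LinearEquiv.range, top_inf_eq] at h1
  obtain ⟨U, hU, hUi, hUodd, hUN, hUmap⟩ : ∃ U : Submodule F V, Ndg (polarBilin Q) U ∧
      Inv g.1.toLinearMap U ∧ Odd (finrank F U) ∧ (∀ w ∈ U, g.1 (g.1 w - w) = g.1 w - w) ∧
      ((U = W ∧ U₀ = W₀) ∨ (U = perp (polarBilin Q) W ∧ U₀ = perp (polarBilin Q) W₀)) := by
    have hm' : Odd (finrank F (perp (polarBilin Q) W)) := by
      rw [Nat.odd_iff]; have := Nat.odd_iff.1 hm; omega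
    rcases hone with hN | hN
    · have h1 := (hkey W hW hinv (hWd.symm ▸ hm) hN).1
      refine ⟨W, hW, hinv, hWd.symm ▸ hm, hN, Or.inl ⟨rfl, hU₀.resolve_right fun e => ?_⟩⟩
      rw [e, ← hkp, LinearEquiv.finrank_map_eq] at hU₀d
      omega
    · have h1 := (hkey _ hUn (inv_perp hinv) hm' hN).1
      refine ⟨_, hUn, inv_perp hinv, hm', hN, Or.inr ⟨rfl, hU₀.resolve_left fun e => ?_⟩⟩
      rw [e, hd₀] at hU₀d
      omega
  obtain ⟨-, u, hu, a, ha, hQu, hP⟩ := hkey U hU hUi hUodd hUN
  have hUk : U.map k.1.toLinearMap = U₀ := by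
    rcases hUmap with ⟨rfl, rfl⟩ | ⟨rfl, rfl⟩
    exacts [hk, hkp]
  refine hbad (k.1 u) (hUk ▸ ⟨u, hu, rfl⟩) a ha (by rw [k.2, hQu]) ?_
  obtain ⟨S, hS, hS0, hSd⟩ := hP
  have h1 := map_inf_perp k U (Submodule.span F {u})
  rw [hUk, Submodule.map_span, Set.image_singleton] at h1
  refine ⟨S.map k.1.toLinearMap, ?_, ?_, ?_⟩
  · exact (Submodule.map_mono hS).trans h1.le
  · rintro _ ⟨s, hs, rfl⟩
    exact (k.2 s).trans (hS0 s hs)
  · rw [show U₀ ⊓ perp (polarBilin Q) (Submodule.span F {k.1 u}) =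
      (U ⊓ perp (polarBilin Q) (Submodule.span F {u})).map k.1.toLinearMap from h1.symm,
      LinearEquiv.finrank_map_eq, LinearEquiv.finrank_map_eq, hSd]

end CfsgLib.Elusive2
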