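import Cfsg.Agent.Elusive2.OrthEven
import Cfsg.Agent.Elusive2.OrthTwo
import Cfsg.Agent.Elusive2.OrthUnip
import Cfsg.Agent.Elusive2.OrthCharTwo

/-!
Conversions and arithmetic for the even dimensional orthogonal groups.
-/

set_option autoImplicit false

namespace CfsgLib.Elusive2

open Module QuadraticMap CfsgLib.Elusive

theorem div_add_div_of_mod_eq {n m c : ℕ} (hc : 0 < c) (he : m % c = n % c) :
    (n + m - 2 * (n % c)) / c = n / c + m / c := by
  have h1 := Nat.div_add_mod n c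
  have h2 := Nat.div_add_mod m c
  have h3 : n + m - 2 * (n % c) = c * (n / c + m / c) := by rw [Nat.mul_add]; omega
  rw [h3, Nat.mul_div_cancel_left _ hc]

variable {F : Type*} [Field F] [Fintype F]

theorem two_ne_zero_of_odd_card (h : Odd (Fintype.card F)) : (2 : F) ≠ 0 :=
  Ring.two_ne_zero fun e => by
    have := FiniteField.even_card_of_char_two e
    rw [Nat.odd_iff] at h
    omega

theorem isSquare_neg_one_iff_mod (h : Odd (Fintype.card F)) :
    IsSquare (-1 : F) ↔ Fintype.card F % 4 = 1 := by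
  rw [FiniteField.isSquare_neg_one_iff]
  rw [Nat.odd_iff] at h
  omega

theorem isSquare_two_iff_mod (h : Odd (Fintype.card F)) :
    IsSquare (2 : F) ↔ (Fintype.card F % 8 = 1 ∨ Fintype.card F % 8 = 7) := by
  rw [FiniteField.isSquare_two_iff]
  rw [Nat.odd_iff] at h
  omega

theorem exists_sub_two {e : ℕ} {ν : Multiset ℕ} {t : ℕ} (he : e ≠ 2) (h : ν ≤ e ::ₘ e ::ₘ Multiset.replicate t 2) :
    ∃ a b : ℕ, ν = Multiset.replicate a e + Multiset.replicate b 2 ∧ a ≤ 2 := by
  classical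
  refine ⟨(ν.filter (· = e)).card, (ν.filter (¬ · = e)).card, ?_, ?_⟩
  · conv_lhs => rw [← Multiset.filter_add_not (· = e) ν]
    congr 1
    · exact Multiset.eq_replicate_card.2 fun x hx => (Multiset.mem_filter.1 hx).2
    · refine Multiset.eq_replicate_card.2 fun x hx => ?_
      obtain ⟨h1, h2⟩ := Multiset.mem_filter.1 hx
      have h3 := Multiset.mem_of_le h h1
      simp only [Multiset.mem_cons] at h3
      rcases h3 with h3 | h3 | h3
      exacts [absurd h3 h2, absurd h3 h2, Multiset.eq_of_mem_replicate h3]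
  · refine (Multiset.card_le_card (Multiset.filter_le_filter (· = e) h)).trans ?_
    have h0 : (Multiset.replicate t 2).filter (· = e) = 0 :=
      Multiset.filter_eq_nil.2 fun x hx hxe => he (hxe ▸ Multiset.eq_of_mem_replicate hx)
    simp [Multiset.filter_cons, h0]

/-- A group element of prime order as a matrix with scalar power. -/
theorem not_all_fix_of_elt {ι : Type} [Fintype ι] [DecidableEq ι] [Nonempty ι] {Q : QuadraticForm F (ι → F)} {p : ℕ}
    [Fact p.Prime] [CharP F p] {P : Submodule F (ι → F) → Prop} {g : CfsgLib.Quad.oGroup Q}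
    (hg : g ∈ commutator (CfsgLib.Quad.oGroup Q)) (hgp : g ^ p = 1) (hg1 : g ≠ 1)
    (hno : ∀ W, P W → ¬ Inv g.1.toLinearMap W) :
    ¬ ∀ x : GL ι F, x ∈ Cfsg.Geo.omegaGL ⇑Q →
      (∃ z : F, ((x ^ p : GL ι F) : Matrix ι ι F) = z • (1 : Matrix ι ι F)) →
      (∀ z : F, (x : Matrix ι ι F) ≠ z • (1 : Matrix ι ι F)) →
      ∃ W : Submodule F (ι → F), P W ∧ W.map (Matrix.toLin' (x : Matrix ι ι F)) ≤ W := by
  intro hall
  obtain ⟨x, hx, hxp, -, hns, hv⟩ := exists_omega_elt (Fact.out : p.Prime) hg hgp hg1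
  obtain ⟨W, hW, hle⟩ := hall x hx ⟨1, by rw [hxp, one_smul]; rfl⟩ hns
  exact hno W hW ((map_le_iff (fun v => (Matrix.toLin'_apply _ v).symm.trans (hv v)) W).1 hle)

/-- In characteristic two a scalar square is the identity. -/
theorem two_scalar_invol {ι : Type} [Fintype ι] [DecidableEq ι] {Q : QuadraticForm F (ι → F)}
    (h2 : (2 : F) = 0) (hv₀ : ∃ v, Q v ≠ 0) {x : GL ι F} (hx : x ∈ Cfsg.Geo.omegaGL ⇑Q) {z : F}
    (hz : ((x ^ 2 : GL ι F) : Matrix ι ι F) = z • (1 : Matrix ι ι F)) :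
    ∃ g : CfsgLib.Quad.oGroup Q, g ∈ commutator (CfsgLib.Quad.oGroup Q) ∧
      (∀ v, (x : Matrix ι ι F).mulVec v = g.1 v) ∧ ∀ v, g.1 (g.1 v) = v := by
  obtain ⟨g, hg, hv⟩ := exists_elt hx
  have hgg : ∀ v, g.1 (g.1 v) = z • v := fun v => by
    rw [← hv, ← hv, Matrix.mulVec_mulVec, ← Units.val_mul, ← pow_two, hz, Matrix.smul_mulVec, Matrix.one_mulVec]
  obtain ⟨v, hv0⟩ := hv₀
  have h := (g * g).2 v
  rw [show (g * g).1 v = g.1 (g.1 v) from rfl, hgg, QuadraticMap.map_smul, smul_eq_mul] at h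
  have h1 : z * z = 1 := mul_right_cancel₀ hv0 (h.trans (one_mul _).symm)
  have hz1 : z = 1 := by
    rcases mul_self_eq_one_iff.1 h1 with e | e
    · exact e
    · rw [e]; linear_combination -h2
  exact ⟨g, hg, hv, fun w => by rw [hgg, hz1, one_smul]⟩

end CfsgLib.Elusive2
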