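import Cfsg.Agent.Elusive2.Types

/-!
Symplectic elements built from blocks of prescribed types, and their isotropic invariant subspaces.
-/

set_option autoImplicit false
set_option linter.unusedSectionVars false

namespace CfsgLib.Elusive2

open Module Polynomial CfsgLib.Elusive CfsgLib.Symp

variable {F : Type*} [Field F] [Fintype F] {r : ℕ} [hr' : Fact r.Prime]

/-- The form on `s` copies of `F ^ 2j`. -/
def piForm (F : Type*) [Field F] (j s : ℕ) : LinearMap.BilinForm F (Fin s → (Fin j ⊕ Fin j → F)) :=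
  ∑ k, (sympBilin j F).compl₁₂ (LinearMap.proj k) (LinearMap.proj k)

theorem piForm_apply {j s : ℕ} (u v : Fin s → (Fin j ⊕ Fin j → F)) :
    piForm F j s u v = ∑ k, form (u k) (v k) := by
  simp [piForm, LinearMap.sum_apply, LinearMap.compl₁₂_apply]
  rfl

theorem piForm_ndg {j s : ℕ} : Ndg (piForm F j s) ⊤ := fun u _ h0 => by
  classical
  obtain ⟨k, hk⟩ := Function.ne_iff.1 h0
  obtain ⟨w, hw⟩ := exists_form_ne_zero hk
  refine ⟨Pi.single k w, Submodule.mem_top, ?_⟩
  rw [piForm_apply, Finset.sum_eq_single k (fun l _ hl => by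
    rw [Pi.single_eq_of_ne hl]; exact (sympBilin j F (u l)).map_zero)
    fun h => absurd (Finset.mem_univ k) h, Pi.single_eq_same]
  exact hw

theorem aeval_comp_eq {V W : Type*} [AddCommGroup V] [Module F V] [AddCommGroup W] [Module F W]
    {f : V →ₗ[F] V} {g : W →ₗ[F] W} (φ : V →ₗ[F] W) (h : ∀ v, φ (f v) = g (φ v)) (G : F[X]) (v : V) :
    φ (aeval f G v) = aeval g G (φ v) := by
  have hk : ∀ (n : ℕ) v, φ ((f ^ n) v) = (g ^ n) (φ v) := fun n => by
    induction n with
    | zero => intro v; rfl
    | succ n ih => intro v; rw [pow_succ', pow_succ', Module.End.mul_apply, Module.End.mul_apply, h, ih]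
  induction G using Polynomial.induction_on' with
  | add P R hp hR => simp only [map_add, LinearMap.add_apply, hp, hR]
  | monomial k a =>
    simp only [aeval_monomial, Module.End.mul_apply, Module.algebraMap_end_apply, map_smul, hk]

/-- `S` single types and one type repeated `R` times: an element whose isotropic invariant subspaces
in the moved part are bounded by the repeated part. -/
theorem exists_spread (hr : (r : F) ≠ 0) (hr2 : r ≠ 2) (hi : Even (ordq F r)) {d S R e : ℕ}
    (hS : S < (r - 1) / ordq F r) (hR : 0 < R) (hd : 2 * d = (S + R) * ordq F r + 2 * e) :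
    ∃ x : ↥(Matrix.symplecticGroup (Fin d) F), x ^ r = 1 ∧
      (∀ z : F, (x : Matrix (Fin d ⊕ Fin d) (Fin d ⊕ Fin d) F) ≠ z • 1) ∧
      finrank F (fixS (Matrix.toLinAlgEquiv' (x : Matrix (Fin d ⊕ Fin d) (Fin d ⊕ Fin d) F))) = 2 * e ∧
      ∀ W : Submodule F (Fin d ⊕ Fin d → F),
        Inv (Matrix.toLinAlgEquiv' (x : Matrix (Fin d ⊕ Fin d) (Fin d ⊕ Fin d) F)) W →
        Iso0 (sympBilin d F) W →
        W ≤ movS (Matrix.toLinAlgEquiv' (x : Matrix (Fin d ⊕ Fin d) (Fin d ⊕ Fin d) F)) →
        2 * finrank F W ≤ R * ordq F r := by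
  classical
  obtain ⟨j, hj⟩ := hi
  have hi0 := ordq_pos (F := F) hr
  obtain ⟨yT, PT, hPinj, hyT⟩ := exists_sp_types (F := F) hr (j := j) (by omega)
  let τ : Fin (S + R) → Fin ((r - 1) / ordq F r) := fun k => ⟨min k.1 S, lt_of_le_of_lt (min_le_right _ _) hS⟩
  let σ : Fin d ≃ (Fin (S + R) × Fin j) ⊕ Fin e :=
    (Fintype.equivFinOfCardEq (by
      rw [Fintype.card_sum, Fintype.card_prod, Fintype.card_fin, Fintype.card_fin, Fintype.card_fin]
      rw [hj] at hd
      have : (S + R) * (j + j) = 2 * ((S + R) * j) := by ring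
      omega)).symm
  let E := coordE F σ
  let g : Fin (S + R) → Module.End F (Fin j ⊕ Fin j → F) := fun k =>
    Matrix.toLinAlgEquiv' (yT (τ k) : Matrix (Fin j ⊕ Fin j) (Fin j ⊕ Fin j) F)
  have hgr : ∀ k, g k ^ r = 1 := fun k => by
    simp only [g]
    rw [← map_pow, show (yT (τ k) : Matrix (Fin j ⊕ Fin j) (Fin j ⊕ Fin j) F) ^ r = 1 by
      rw [← SubmonoidClass.coe_pow, (hyT _).1]; rfl, map_one]
  let h : Module.End F ((Fin (S + R) → (Fin j ⊕ Fin j → F)) × (Fin e ⊕ Fin e → F)) :=
    (LinearMap.pi fun k => g k ∘ₗ LinearMap.proj k).prodMap LinearMap.id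
  have hh : ∀ (n : ℕ) v, (h ^ n) v = (fun a => (g a ^ n) (v.1 a), v.2) := fun n => by
    induction n with
    | zero => intro v; rfl
    | succ n ih =>
      intro v
      rw [pow_succ', Module.End.mul_apply, ih]
      exact Prod.ext (funext fun a => by show g a ((g a ^ n) (v.1 a)) = (g a ^ (n + 1)) (v.1 a); rw [pow_succ' (g a) n]; rfl) rfl
  let f : Module.End F (Fin d ⊕ Fin d → F) := E.symm.conj h
  have hf : ∀ v, E (f v) = h (E v) := fun v => by simp [f, LinearEquiv.conj_apply]
  have hfk : ∀ (n : ℕ) v, E ((f ^ n) v) = (h ^ n) (E v) := fun n => by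
    induction n with
    | zero => intro v; rfl
    | succ n ih => intro v; rw [pow_succ', pow_succ', Module.End.mul_apply, Module.End.mul_apply, hf, ih]
  have hfr : f ^ r = 1 := LinearMap.ext fun v => E.injective (by
    rw [hfk, hh]; simp only [hgr, Module.End.one_apply])
  have hform : ∀ u v, form (f u) (f v) = form u v := fun u v => by
    rw [form_coordE σ (f u), form_coordE σ u, hf, hf]
    congr 1
    exact Finset.sum_congr rfl fun k _ => form_smul_smul (yT (τ k)) _ _
  let x : ↥(Matrix.symplecticGroup (Fin d) F) :=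
    ⟨Matrix.toLinAlgEquiv'.symm f, mem_iff_form.2 fun u v => by
      have e : ∀ w, (Matrix.toLinAlgEquiv'.symm f).mulVec w = f w := fun w => by
        rw [← Matrix.toLinAlgEquiv'_apply, AlgEquiv.apply_symm_apply]
      rw [e, e]; exact hform u v⟩
  have hxf : Matrix.toLinAlgEquiv' (x : Matrix (Fin d ⊕ Fin d) (Fin d ⊕ Fin d) F) = f :=
    AlgEquiv.apply_symm_apply _ _
  have hfixg : ∀ k, fixS (g k) = ⊥ := fun k => (hyT (τ k)).2.1
  have hfixE : ∀ v, f v = v ↔ (E v).1 = 0 := fun v => by
    rw [← E.injective.eq_iff, hf]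
    constructor
    · intro hv
      funext k
      have : (E v).1 k ∈ fixS (g k) := mem_fixS.2 (congrFun (congrArg Prod.fst hv) k)
      rwa [hfixg, Submodule.mem_bot] at this
    · intro hv
      refine Prod.ext (funext fun k => ?_) rfl
      show g k ((E v).1 k) = (E v).1 k
      rw [hv, Pi.zero_apply, map_zero]
  have hfix : finrank F (fixS f) = 2 * e := by
    have heq : fixS f = (LinearMap.range (LinearMap.inr F (Fin (S + R) → (Fin j ⊕ Fin j → F))
        (Fin e ⊕ Fin e → F))).map E.symm.toLinearMap := by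
      ext v
      rw [mem_fixS, hfixE, Submodule.mem_map]
      constructor
      · exact fun hv => ⟨E v, ⟨(E v).2, Prod.ext hv.symm rfl⟩, E.symm_apply_apply v⟩
      · rintro ⟨_, ⟨w, rfl⟩, rfl⟩
        rw [LinearEquiv.coe_coe, E.apply_symm_apply]
        rfl
    rw [heq, LinearEquiv.finrank_map_eq, LinearMap.finrank_range_of_inj LinearMap.inr_injective,
      finrank_fintype_fun_eq_card, Fintype.card_sum, Fintype.card_fin]
    ring
  refine ⟨x, Subtype.ext (Matrix.toLinAlgEquiv'.injective ?_), fun z hz => ?_, by rw [hxf, hfix], ?_⟩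
  · rw [SubmonoidClass.coe_pow, map_pow, hxf, hfr]
    exact (map_one _).symm
  · -- a scalar of order `r` in the symplectic group is trivial
    have hfv : ∀ v, f v = z • v := fun v => by
      rw [← hxf, hz, map_smul Matrix.toLinAlgEquiv', map_one, LinearMap.smul_apply, Module.End.one_apply]
    have hj0 : 0 < j := by omega
    let v0 : Fin d ⊕ Fin d → F := E.symm (fun _ => Pi.single (Sum.inl ⟨0, hj0⟩) 1, 0)
    have hv0 : v0 ≠ 0 := fun e0 => by
      have := congrFun (congrFun (congrArg Prod.fst (congrArg E e0)) ⟨0, by omega⟩) (Sum.inl ⟨0, hj0⟩)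
      simp only [v0, E.apply_symm_apply, map_zero, Prod.fst_zero, Pi.zero_apply, Pi.single_eq_same] at this
      exact one_ne_zero this
    have hzr : z ^ r = 1 := by
      have hk : ∀ n : ℕ, (f ^ n) v0 = z ^ n • v0 := fun n => by
        induction n with
        | zero => simp
        | succ n ih => rw [pow_succ', Module.End.mul_apply, ih, map_smul, hfv, smul_smul, ← pow_succ]
      have := hk r
      rw [hfr, Module.End.one_apply] at this
      exact smul_left_injective F hv0 (this.symm.trans (one_smul F v0).symm)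
    have hz2 : z * z = 1 := by
      obtain ⟨w, hw⟩ := exists_form_ne_zero hv0
      have h1 := hform v0 w
      rw [hfv, hfv] at h1
      change sympBilin d F _ _ = sympBilin d F _ _ at h1
      rw [map_smul, map_smul, LinearMap.smul_apply, smul_eq_mul, smul_eq_mul, ← mul_assoc] at h1
      exact mul_right_cancel₀ hw (h1.trans (one_mul _).symm)
    have hz1 : z = 1 := by
      obtain ⟨k, hk⟩ := hr'.out.odd_of_ne_two hr2
      rwa [hk, pow_succ, pow_mul, pow_two, hz2, one_pow, one_mul] at hzr
    have h1 := (hfixE v0).1 (by rw [hfv, hz1, one_smul])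
    have := congrFun (congrFun h1 ⟨0, by omega⟩) (Sum.inl ⟨0, hj0⟩)
    simp [v0] at this
  rw [hxf]
  intro W hW hWi hWmov
  have hmov2 : ∀ v ∈ W, (E v).2 = 0 := fun v hv => by
    obtain ⟨u, rfl⟩ := hWmov hv
    rw [LinearMap.sub_apply, Module.End.one_apply, map_sub, hf]
    exact sub_self (E u).2
  -- the component maps
  let π : Fin (S + R) → ((Fin d ⊕ Fin d → F) →ₗ[F] (Fin j ⊕ Fin j → F)) := fun k =>
    (LinearMap.proj k).comp ((LinearMap.fst F _ _).comp E.toLinearMap)
  have hπ : ∀ k v, π k (f v) = g k (π k v) := fun k v => congrFun (congrArg Prod.fst (hf v)) k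
  have hfull : ∀ k, (⊤ : Submodule F (Fin j ⊕ Fin j → F)) ⊓ fixS (g k) = ⊥ := fun k => by
    rw [top_inf_eq, hfixg]
  have hPk : ∀ k G, (∀ v, aeval (g k) G v = 0) ∨ ∀ v, aeval (g k) G v = 0 → v = 0 := fun k G => by
    by_cases hdiv : PT (τ k) ∣ G
    · obtain ⟨H, rfl⟩ := hdiv
      exact Or.inl fun v => by
        rw [map_mul, Module.End.mul_apply, (hyT (τ k)).2.2.2.2.2, LinearMap.zero_apply]
    · refine Or.inr fun v hv => ?_
      by_contra h0
      exact hdiv (dvd_of_kill (hgr k) (Inv.top (g k)) (hfull k) Submodule.mem_top h0 (hyT (τ k)).2.2.1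
        (hyT (τ k)).2.2.2.1.le (by rw [(hyT (τ k)).2.2.2.2.2]; rfl) hv)
  have hndvd : ∀ a b, a ≠ b → ¬ PT a ∣ PT b := fun a b hab hdvd =>
    hab (hPinj (eq_of_monic_of_associated (hyT a).2.2.1 (hyT b).2.2.1
      ((hyT a).2.2.2.2.1.associated_of_dvd (hyT b).2.2.2.2.1 hdvd)))
  -- nothing of `W` is supported on the single types
  have hsingle : ∀ w ∈ W, (∀ k : Fin (S + R), S ≤ k.1 → π k w = 0) → w = 0 := by
    intro w hw hrest
    have hEw : ∀ k, π k w = 0 := by
      intro k
      rcases Nat.lt_or_ge k.1 S with hk | hk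
      swap
      · exact hrest k hk
      let others := (Finset.univ : Finset (Fin (S + R))).filter fun l => l.1 < S ∧ l ≠ k
      let H : F[X] := ∏ l ∈ others, PT (τ l)
      have hHdvd : ¬ PT (τ k) ∣ H := fun hd => by
        obtain ⟨l, hl, hdl⟩ := ((hyT (τ k)).2.2.2.2.1.prime.dvd_finsetProd_iff _).1 hd
        rw [Finset.mem_filter] at hl
        refine hndvd _ _ (fun e => hl.2.2 (Fin.ext ?_)) hdl
        have := congrArg Fin.val e
        simp only [τ, min_eq_left hk.le, min_eq_left hl.2.1.le] at this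
        exact this.symm
      set w' := aeval f H w
      have hw' : w' ∈ W := hW.aeval H w hw
      have hcomp : ∀ l, l ≠ k → π l w' = 0 := fun l hl => by
        rw [aeval_comp_eq (π l) (hπ l)]
        rcases Nat.lt_or_ge l.1 S with hlS | hlS
        · obtain ⟨H', hH'⟩ : PT (τ l) ∣ H :=
            Finset.dvd_prod_of_mem _ (Finset.mem_filter.2 ⟨Finset.mem_univ l, hlS, hl⟩)
          rw [hH', map_mul, Module.End.mul_apply, (hyT (τ l)).2.2.2.2.2, LinearMap.zero_apply]
        · rw [hrest l hlS, map_zero]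
      have h0 : π k w' = 0 := by
        by_contra hne
        let p := Submodule.map (π k) W
        -- the block is irreducible, so it lies in the projection of the support at `k`
        let U := W ⊓ ⨅ l ∈ {l | l ≠ k}, LinearMap.ker (π l)
        have hUinv : Inv (g k) (Submodule.map (π k) U) := by
          rintro _ ⟨v, hv, rfl⟩
          refine ⟨f v, ⟨hW v hv.1, ?_⟩, hπ k v⟩
          simp only [SetLike.mem_coe, Submodule.mem_iInf, LinearMap.mem_ker]
          intro l hl
          have := hv.2
          simp only [SetLike.mem_coe, Submodule.mem_iInf, LinearMap.mem_ker] at this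
          rw [hπ, this l hl, map_zero]
        have hwU : w' ∈ U := ⟨hw', by
          simp only [SetLike.mem_coe, Submodule.mem_iInf, LinearMap.mem_ker]
          exact hcomp⟩
        have htop := irr_eq (hgr k) (U := ⊤) (by
            rw [finrank_top, finrank_fintype_fun_eq_card, Fintype.card_sum, Fintype.card_fin, hj])
          (hfull k) hUinv le_top fun e => hne (by
            have : π k w' ∈ Submodule.map (π k) U := ⟨w', hwU, rfl⟩
            rwa [e, Submodule.mem_bot] at this)
        obtain ⟨v, hv⟩ := exists_form_ne_zero hne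
        obtain ⟨u, hu, rfl⟩ := htop.symm.le (Submodule.mem_top (x := v))
        refine hv ?_
        have h1 : form w' u = 0 := hWi w' hw' u hu.1
        rw [form_coordE σ w' u, hmov2 w' hw', hmov2 u hu.1,
          show form (0 : Fin e ⊕ Fin e → F) 0 = 0 from (sympBilin e F 0).map_zero, add_zero,
          Finset.sum_eq_single k (fun l _ hl => by
            rw [show (E w').1 l = 0 from hcomp l hl]
            exact LinearMap.congr_fun (map_zero (sympBilin j F)) _)
            fun h => absurd (Finset.mem_univ k) h] at h1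
        exact h1
      rw [aeval_comp_eq (π k) (hπ k)] at h0
      rcases hPk k H with hall | hinj
      · exfalso
        refine hHdvd (dvd_of_kill (hgr k) (Inv.top (g k)) (hfull k) Submodule.mem_top
          (u := Pi.single (Sum.inl ⟨0, by omega⟩) 1) (by simp) (hyT (τ k)).2.2.1 (hyT (τ k)).2.2.2.1.le
          (by rw [(hyT (τ k)).2.2.2.2.2]; rfl) (hall _))
      · exact hinj _ h0
    refine E.injective ?_
    rw [map_zero]
    exact Prod.ext (funext hEw) (hmov2 w hw)
  have hrestT : ∀ k : Fin (S + R), S ≤ k.1 → PT (τ k) = PT ⟨S, hS⟩ := fun k hk => by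
    congr 1
    exact Fin.ext (min_eq_right hk)
  -- the projection onto the repeated type
  let ρ : (Fin d ⊕ Fin d → F) →ₗ[F] (Fin R → (Fin j ⊕ Fin j → F)) :=
    LinearMap.pi fun k => π (Fin.natAdd S k)
  have hρ : Function.Injective (ρ.domRestrict W) := by
    rw [← LinearMap.ker_eq_bot, Submodule.eq_bot_iff]
    intro w hw
    refine Subtype.ext (hsingle w.1 w.2 fun k hk => ?_)
    have := congrFun (LinearMap.mem_ker.1 hw) ⟨k.1 - S, by omega⟩
    rwa [show k = Fin.natAdd S ⟨k.1 - S, by omega⟩ from Fin.ext (by simp; omega)]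
  have hsing0 : ∀ w ∈ W, ∀ k : Fin (S + R), k.1 < S → π k w = 0 := by
    intro w hw k hk
    have h0 : aeval f (PT ⟨S, hS⟩) w = 0 := by
      refine hsingle _ (hW.aeval _ w hw) fun l hl => ?_
      rw [aeval_comp_eq (π l) (hπ l), ← hrestT l hl, (hyT (τ l)).2.2.2.2.2, LinearMap.zero_apply]
    have h1 := aeval_comp_eq (π k) (hπ k) (PT ⟨S, hS⟩) w
    rw [h0, map_zero] at h1
    rcases hPk k (PT ⟨S, hS⟩) with hall | hinj
    · exfalso
      refine hndvd (τ k) ⟨S, hS⟩ (fun e => ?_) (dvd_of_kill (hgr k) (Inv.top (g k)) (hfull k) Submodule.mem_top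
        (u := Pi.single (Sum.inl ⟨0, by omega⟩) 1) (by simp) (hyT (τ k)).2.2.1 (hyT (τ k)).2.2.2.1.le
        (by rw [(hyT (τ k)).2.2.2.2.2]; rfl) (hall _))
      have := congrArg Fin.val e
      simp only [τ, min_eq_left hk.le] at this
      omega
    · exact hinj _ h1.symm
  have hWiso : Iso0 (piForm F j R) (W.map ρ) := by
    rintro _ ⟨a, ha, rfl⟩ _ ⟨b, hb, rfl⟩
    have h1 : form a b = 0 := hWi a ha b hb
    rw [form_coordE σ a b, hmov2 a ha, hmov2 b hb,
      show form (0 : Fin e ⊕ Fin e → F) 0 = 0 from (sympBilin e F 0).map_zero, add_zero,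
      Fin.sum_univ_add, Finset.sum_eq_zero (s := Finset.univ) (f := fun i : Fin S =>
        form ((coordE F σ a).1 (Fin.castAdd R i)) ((coordE F σ b).1 (Fin.castAdd R i))) (fun i _ => by
          rw [show (coordE F σ a).1 (Fin.castAdd R i) = 0 from hsing0 a ha (Fin.castAdd R i) i.2]
          exact LinearMap.congr_fun (map_zero (sympBilin j F)) _), zero_add] at h1
    rw [piForm_apply]
    exact h1
  have h2 := hWiso.two_mul_le (alt_refl fun v => by
    rw [piForm_apply]; exact Finset.sum_eq_zero fun k _ => form_self _) le_top piForm_ndg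
  have e1 : finrank F (W.map ρ) = finrank F W := by
    rw [← LinearMap.range_domRestrict]; exact LinearMap.finrank_range_of_inj hρ
  rw [e1, finrank_top, Module.finrank_pi_fintype, Finset.sum_const, Finset.card_univ, Fintype.card_fin,
    finrank_fintype_fun_eq_card, Fintype.card_sum, Fintype.card_fin, smul_eq_mul] at h2
  rw [hj]
  exact h2

end CfsgLib.Elusive2
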