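import Cfsg.Agent.Elusive2.Types
import Cfsg.Agent.Elusive2.OrthExist
import Cfsg.Agent.Elusive2.Spread

/-!
Orthogonal isometries with blocks of pairwise different polynomials: no invariant totally singular subspace moves.
-/

set_option autoImplicit false
set_option linter.unusedSectionVars false

namespace CfsgLib.Elusive2

open Module Polynomial QuadraticMap CfsgLib.Elusive CfsgLib.Quad

variable {F V : Type*} [Field F] [Fintype F] [AddCommGroup V] [Module F V] [FiniteDimensional F V]
  {Q : QuadraticForm F V} {r : ℕ} [hr' : Fact r.Prime]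

/-- The powers of a fixed point free element of minimal dimension have all types. -/
theorem exists_pow_types {g : V →ₗ[F] V} (hg : g ^ r = 1) (hr : (r : F) ≠ 0) (hfix : fixS g = ⊥)
    (hdim : finrank F V = ordq F r) :
    ∃ (e : Fin ((r - 1) / ordq F r) → ℕ) (P : Fin ((r - 1) / ordq F r) → F[X]), Function.Injective P ∧
      ∀ a, ¬ r ∣ e a ∧ (P a).Monic ∧ (P a).natDegree = ordq F r ∧ Irreducible (P a) ∧
        aeval (g ^ e a) (P a) = 0 := by
  classical
  have hi0 := ordq_pos (F := F) hr
  -- cosets of the group generated by `q`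
  have hq0 : ((Fintype.card F : ℕ) : ZMod r) ≠ 0 := fun h => by
    have := hi0
    rw [ordq, h] at this
    simp at this
  let qu : (ZMod r)ˣ := Units.mk0 _ hq0
  have hqu : orderOf qu = ordq F r := by rw [← orderOf_units]; rfl
  have hcard : Nat.card ((ZMod r)ˣ ⧸ Subgroup.zpowers qu) = (r - 1) / ordq F r := by
    have h := Subgroup.card_eq_card_quotient_mul_card_subgroup (Subgroup.zpowers qu)
    rw [Nat.card_zpowers, hqu, Nat.card_units, Nat.card_zmod] at h
    rw [h, Nat.mul_div_cancel _ hi0]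
  have : NeZero r := ⟨hr'.out.ne_zero⟩
  let ε : Fin ((r - 1) / ordq F r) ≃ (ZMod r)ˣ ⧸ Subgroup.zpowers qu :=
    ((Finite.equivFinOfCardEq hcard)).symm
  let e : Fin ((r - 1) / ordq F r) → ℕ := fun a => ((Quotient.out (ε a) : (ZMod r)ˣ) : ZMod r).val
  have he : ∀ a, ((e a : ℕ) : ZMod r) = ((Quotient.out (ε a) : (ZMod r)ˣ) : ZMod r) := fun a =>
    ZMod.natCast_zmod_val _
  have hend : ∀ a, ¬ r ∣ e a := fun a h => by
    rw [← ZMod.natCast_eq_zero_iff, he] at h
    exact Units.ne_zero _ h
  have hr1 : ∀ a, (g ^ e a) ^ r = 1 := fun a => by rw [← pow_mul, mul_comm, pow_mul, hg, one_pow]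
  choose P hPm hPd hPi hP0 using fun a => exists_min_poly (hr1 a) hr (fixS_pow_eq_bot hg hfix (hend a)) hdim
  refine ⟨e, P, fun a b hab => ?_, fun a => ⟨hend a, hPm a, hPd a, hPi a, hP0 a⟩⟩
  -- roots of the polynomial of `g`
  obtain ⟨P0, hP0m, hP0d, hP0i, hP00⟩ := exists_min_poly hg hr hfix hdim
  have : Fact (Irreducible P0) := ⟨hP0i⟩
  set lam : AdjoinRoot P0 := AdjoinRoot.root P0
  have hfix' : (⊤ : Submodule F (V)) ⊓ fixS g = ⊥ := by rw [top_inf_eq, hfix]
  obtain ⟨u, -, hu0⟩ := Submodule.exists_mem_ne_zero_of_ne_bot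
    (p := (⊤ : Submodule F (V))) fun h => by
      have := finrank_top F (V)
      rw [h, finrank_bot, hdim] at this
      omega
  have hroot : ∀ G : F[X], aeval g G = 0 → aeval lam G = 0 := fun G hG => by
    rw [AdjoinRoot.aeval_eq, AdjoinRoot.mk_eq_zero]
    exact dvd_of_kill hg (Inv.top g) hfix' Submodule.mem_top hu0 hP0m hP0d.le
      (by rw [hP00]; rfl) (by rw [hG]; rfl)
  have hlr : lam ^ r = 1 := by
    have := hroot (X ^ r - 1) (by rw [map_sub, map_pow, aeval_X, map_one, hg, sub_self])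
    rwa [map_sub, map_pow, aeval_X, map_one, sub_eq_zero] at this
  have hl1 : lam ≠ 1 := fun h => by
    have h1 : AdjoinRoot.mk P0 (X - 1) = 0 := by rw [map_sub, map_one, AdjoinRoot.mk_X]; exact sub_eq_zero.2 h
    rw [AdjoinRoot.mk_eq_zero] at h1
    have hX : (X - 1 : F[X]) = X - C 1 := by rw [map_one]
    rw [hX] at h1
    have hP1 : P0 = X - C 1 := eq_of_monic_of_associated hP0m (monic_X_sub_C 1)
      (hP0i.associated_of_dvd (irreducible_X_sub_C 1) h1)
    rw [hP1, map_sub, aeval_X, map_one, map_one, sub_eq_zero] at hP00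
    have hu1 : u ∈ (⊤ : Submodule F V) ⊓ fixS g := ⟨trivial, mem_fixS.2 (by rw [hP00]; rfl)⟩
    rw [hfix', Submodule.mem_bot] at hu1
    exact hu0 hu1
  have hord : orderOf lam = r := orderOf_eq_prime hlr hl1
  have hinjr : ∀ {m m' : ℕ}, lam ^ m = lam ^ m' → (m : ZMod r) = (m' : ZMod r) := fun {m m'} h => by
    rw [ZMod.natCast_eq_natCast_iff']
    rw [← pow_mod_orderOf lam m, ← pow_mod_orderOf lam m', hord] at h
    exact pow_injOn_Iio_orderOf (x := lam) (by rw [hord]; exact Nat.mod_lt _ hr'.out.pos)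
      (by rw [hord]; exact Nat.mod_lt _ hr'.out.pos) h
  have hPa : ∀ c, aeval (lam ^ e c) (P c) = 0 := fun c => by
    have := hroot ((P c).comp (X ^ e c)) (by rw [aeval_comp, map_pow, aeval_X, hP0 c])
    rwa [aeval_comp, map_pow, aeval_X] at this
  -- all roots of `P a`
  let roots' : Finset (AdjoinRoot P0) :=
    (Finset.range (ordq F r)).image fun l => lam ^ (e a * Fintype.card F ^ l)
  have hmem : lam ^ e b ∈ roots' := by
    have hinj : Set.InjOn (fun l => lam ^ (e a * Fintype.card F ^ l)) (Finset.range (ordq F r)) := by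
      intro l hl l' hl' h
      simp only [Finset.coe_range, Set.mem_Iio] at hl hl'
      simp only at h
      have h' := hinjr h
      rw [Nat.cast_mul, Nat.cast_mul, Nat.cast_pow, Nat.cast_pow] at h'
      exact pow_injOn_Iio_orderOf hl hl' (mul_left_cancel₀ (by rw [he]; exact Units.ne_zero _) h')
    by_contra hnot
    let Q : (AdjoinRoot P0)[X] := (P a).map (algebraMap F _)
    have hQ0 : Q ≠ 0 := (Polynomial.map_ne_zero_iff (algebraMap F (AdjoinRoot P0)).injective).2 (hPm a).ne_zero
    have hsub : (insert (lam ^ e b) roots').val ⊆ Q.roots := by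
      intro x hx
      rw [Polynomial.mem_roots hQ0, IsRoot.def, Polynomial.eval_map, ← aeval_def]
      replace hx : x ∈ insert (lam ^ e b) roots' := hx
      rcases Finset.mem_insert.1 hx with rfl | hx
      · rw [hab]; exact hPa b
      · obtain ⟨l, -, rfl⟩ := Finset.mem_image.1 hx
        rw [pow_mul]
        exact root_pow_card (hPa a) l
    have hle := Polynomial.card_le_degree_of_subset_roots hsub
    rw [Finset.card_insert_of_notMem hnot, Finset.card_image_of_injOn hinj, Finset.card_range,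
      Polynomial.natDegree_map, hPd a] at hle
    omega
  obtain ⟨l, -, hl⟩ := Finset.mem_image.1 hmem
  replace hl := hinjr hl
  rw [Nat.cast_mul, Nat.cast_pow, he, he] at hl
  have hl' : Quotient.out (ε a) * qu ^ l = Quotient.out (ε b) := Units.ext (by
    rw [Units.val_mul, Units.val_pow_eq_pow_val]; exact hl)
  apply ε.injective
  rw [← QuotientGroup.out_eq' (ε a), ← QuotientGroup.out_eq' (ε b), QuotientGroup.eq, ← hl',
    inv_mul_cancel_left]
  exact Subgroup.pow_mem _ (Subgroup.mem_zpowers qu) l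

/-- Putting an isometry of a block on the orthogonal complement of the support of another one. -/
theorem exists_extend {X : Submodule F V} (hXn : Ndg (polarBilin Q) X) (y : oGroup (Q.comp X.subtype))
    (hyr : y ^ r = 1) {g : oGroup Q} (hgr : g ^ r = 1) (hXfix : ∀ v ∈ X, g.1 v = v) :
    ∃ k : oGroup Q, k ^ r = 1 ∧ (∀ u : X, k.1 (u : V) = (y.1 u : V)) ∧
      ∀ v ∈ perp (polarBilin Q) X, k.1 v = g.1 v := by
  have hc' : IsCompl X (perp (polarBilin Q) X) :=
    IsCompl.of_eq (inf_perp polar_refl hXn) (sup_perp polar_refl hXn)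
  let E := Submodule.prodEquivOfIsCompl X _ hc'
  let h' : V ≃ₗ[F] V := E.symm.trans ((y.1.prodCongr (LinearEquiv.refl F _)).trans E)
  have hh : ∀ v, h' v = (y.1 (E.symm v).1 : V) + ((E.symm v).2 : V) := fun v => rfl
  have hv : ∀ v, v = ((E.symm v).1 : V) + ((E.symm v).2 : V) := fun v => (E.apply_symm_apply v).symm
  have hmem : h' ∈ oGroup Q := fun v => by
    rw [hh]
    conv_rhs => rw [hv v]
    rw [quad_add', quad_add', show Q (y.1 (E.symm v).1 : V) = Q ((E.symm v).1 : V) from y.2 _,
      mem_perp.1 (E.symm v).2.2 _ (y.1 (E.symm v).1).2, mem_perp.1 (E.symm v).2.2 _ (E.symm v).1.2]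
  let h : oGroup Q := ⟨h', hmem⟩
  have hpart1 : ∀ (v : V) (hv' : v ∈ X), h.1 v = (y.1 ⟨v, hv'⟩ : V) := fun v hv' => by
    show h' v = _
    rw [hh, show E.symm v = (⟨v, hv'⟩, 0) from (LinearEquiv.symm_apply_eq _).2 (by simp [E])]
    simp
  have hpart2 : ∀ v ∈ perp (polarBilin Q) X, h.1 v = v := fun v hv' => by
    show h' v = _
    rw [hh, show E.symm v = (0, ⟨v, hv'⟩) from (LinearEquiv.symm_apply_eq _).2 (by simp [E])]
    simp
  have hgperp : ∀ v ∈ perp (polarBilin Q) X, g.1 v ∈ perp (polarBilin Q) X := fun v hv' =>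
    mem_perp.2 fun x hx => by
      rw [← hXfix x hx, polarBilin_apply_apply, polar_oGroup]
      exact mem_perp.1 hv' x hx
  have hcomm : Commute g h := Subtype.ext (LinearEquiv.ext fun v => by
    show g.1 (h.1 v) = h.1 (g.1 v)
    rw [hv v, map_add, map_add, map_add, map_add, hXfix _ (E.symm v).1.2, hpart2 _ (E.symm v).2.2,
      hpart1 _ (E.symm v).1.2, hXfix _ (y.1 _).2, hpart2 _ (hgperp _ (E.symm v).2.2)])
  have hhpow : ∀ (m : ℕ) (u : X) (w : V), w ∈ perp (polarBilin Q) X →
      (h ^ m).1 ((u : V) + w) = ((y ^ m).1 u : V) + w := by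
    intro m
    induction m with
    | zero => intro u w _; rfl
    | succ m ih =>
      intro u w hw
      rw [pow_succ', pow_succ']
      show h.1 ((h ^ m).1 _) = (y.1 ((y ^ m).1 u) : V) + w
      rw [ih u w hw, map_add, hpart1 _ ((y ^ m).1 u).2, hpart2 w hw]
  have hhr : h ^ r = 1 := Subtype.ext (LinearEquiv.ext fun v => by
    rw [hv v, hhpow r _ _ (E.symm v).2.2, hyr]
    rfl)
  refine ⟨g * h, by rw [hcomm.mul_pow, hgr, hhr, one_mul], fun u => ?_, fun v hv' => ?_⟩
  · show g.1 (h.1 (u : V)) = _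
    rw [hpart1 _ u.2, hXfix _ (y.1 _).2]
  · show g.1 (h.1 v) = g.1 v
    rw [hpart2 v hv']

set_option maxHeartbeats 1000000 in
/-- Elements with pairwise different types on a prescribed subspace. -/
theorem exists_distinct (hQ : Ndg (polarBilin Q) ⊤) (hr : (r : F) ≠ 0) (hi : Even (ordq F r))
    (P : Fin ((r - 1) / ordq F r) → F[X]) (hPinj : Function.Injective P)
    (hPm : ∀ a, (P a).Monic) (hPd : ∀ a, (P a).natDegree = ordq F r) (hPi : ∀ a, Irreducible (P a))
    (hblk : ∀ (a : Fin ((r - 1) / ordq F r)) (X : Submodule F V), Ndg (polarBilin Q) X → finrank F X = ordq F r →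
      ¬ IsPlus Q X → ∃ y : oGroup (Q.comp X.subtype), y ^ r = 1 ∧ fixS y.1.toLinearMap = ⊥ ∧
        aeval y.1.toLinearMap (P a) = 0) :
    ∀ s, s ≤ (r - 1) / ordq F r → ∀ W : Submodule F V, Ndg (polarBilin Q) W → finrank F W = s * ordq F r →
      (IsPlus Q W ↔ Even s) →
      ∃ g : oGroup Q, g ^ r = 1 ∧ fixS g.1.toLinearMap = perp (polarBilin Q) W ∧
        (∀ w ∈ W, aeval g.1.toLinearMap
          (∏ a ∈ Finset.univ.filter (fun a : Fin ((r - 1) / ordq F r) => a.1 < s), P a) w = 0) ∧
        ∀ U ≤ W, Inv g.1.toLinearMap U → (∀ u ∈ U, Q u = 0) → U = ⊥ := by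
  classical
  intro s
  induction s with
  | zero =>
    intro _ W _ hd _
    rw [zero_mul, Submodule.finrank_eq_zero] at hd
    subst hd
    refine ⟨1, one_pow r, ?_, fun w hw => by rw [(Submodule.mem_bot F).1 hw, map_zero],
      fun U hU _ _ => le_bot_iff.1 hU⟩
    ext v
    rw [mem_fixS, mem_perp]
    exact iff_of_true rfl fun w hw => by rw [(Submodule.mem_bot F).1 hw, map_zero, LinearMap.zero_apply]
  | succ s ih =>
    intro hst W hW hd hp
    have hi0 := ordq_pos (F := F) hr
    rw [Nat.add_mul, Nat.one_mul] at hd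
    obtain ⟨X, hXn, hXW, hXd, hXp⟩ := exists_sub_type' hW hi False (by omega) (fun h => by omega)
      fun h => by
        obtain rfl : s = 0 := by
          by_contra hs
          have := Nat.mul_pos (Nat.pos_of_ne_zero hs) hi0
          omega
        simpa using hp
    obtain ⟨hsup, hinf, hdim, hnd⟩ := exists_split polar_refl hXn hXW
    set R := W ⊓ perp (polarBilin Q) X with hR
    have horth : ∀ x ∈ X, ∀ y ∈ R, polarBilin Q x y = 0 := fun x hx y hy => mem_perp.1 hy.2 x hx
    obtain ⟨g, hgr, hgf, hkill, hnone⟩ := ih (by omega) R (hnd hW) (by omega) (by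
      have hRe : Even (finrank F R) := (show finrank F R = s * ordq F r by omega) ▸ hi.mul_left s
      have h := isPlus_sup hXn (hnd hW) (hXd ▸ hi) hRe hinf horth
      rw [hsup, hp, hXp, Nat.even_add_one] at h
      by_cases h1 : IsPlus Q R <;> by_cases h2 : Even s <;> simp_all)
    have hXfix : ∀ v ∈ X, g.1 v = v := fun v hv' => by
      have : v ∈ fixS g.1.toLinearMap := by
        rw [hgf]
        exact mem_perp.2 fun w hw => (polar_swap w v).trans (horth v hv' w hw)
      exact mem_fixS.1 this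
    let a₀ : Fin ((r - 1) / ordq F r) := ⟨s, by omega⟩
    obtain ⟨y, hyr, hyf, hy0⟩ := hblk a₀ X hXn hXd (fun h => hXp.1 h)
    obtain ⟨k, hkr, hkX, hkp⟩ := exists_extend hXn y hyr hgr hXfix
    have hRp : R ≤ perp (polarBilin Q) X := inf_le_right
    have hRi : Inv g.1.toLinearMap R := by
      intro v hv
      refine ⟨?_, mem_perp.2 fun x hx => ?_⟩
      · by_contra hnot
        obtain ⟨-, -, -, -⟩ := exists_split (T := ⊤) polar_refl hW le_top
        refine hnot ?_
        have hsupW : W ⊔ perp (polarBilin Q) W = ⊤ := sup_perp polar_refl hW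
        obtain ⟨w, hw, z, hz, he⟩ := Submodule.mem_sup.1 (hsupW.symm ▸ Submodule.mem_top : g.1 v ∈ _)
        have hz0 : z = 0 := by
          by_contra h0
          obtain ⟨t, -, hne⟩ := hQ z trivial h0
          obtain ⟨t₁, ht₁, t₂, ht₂, rfl⟩ := Submodule.mem_sup.1 (hsupW.symm ▸ Submodule.mem_top : t ∈ _)
          refine hne ?_
          rw [map_add, (polar_swap z t₁).trans (mem_perp.1 hz t₁ ht₁), zero_add]
          have hfix2 : g.1 t₂ = t₂ := mem_fixS.1 (hgf.symm ▸ mem_perp.2 fun u hu => mem_perp.1 ht₂ u hu.1)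
          have h1 : polarBilin Q (g.1 v) t₂ = 0 := by
            rw [← hfix2, polarBilin_apply_apply, polar_oGroup]
            exact mem_perp.1 ht₂ v hv.1
          rwa [← he, map_add, LinearMap.add_apply, mem_perp.1 ht₂ w hw, zero_add] at h1
        show g.1 v ∈ W
        rw [← he, hz0, add_zero]
        exact hw
      · rw [← hXfix x hx, polarBilin_apply_apply, LinearEquiv.coe_coe, polar_oGroup]
        exact mem_perp.1 hv.2 x hx
    have hdec : ∀ w ∈ W, ∃ x : X, ∃ v ∈ R, w = (x : V) + v := fun w hw => by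
      rw [← hsup] at hw
      obtain ⟨x, hx, v, hv, rfl⟩ := Submodule.mem_sup.1 hw
      exact ⟨⟨x, hx⟩, v, hv, rfl⟩
    have haX : ∀ (G : F[X]) (x : X), aeval k.1.toLinearMap G (x : V) = ((aeval y.1.toLinearMap G) x : V) :=
      fun G x => (aeval_comp_eq (f := y.1.toLinearMap) (g := k.1.toLinearMap) X.subtype
        (fun v => (hkX v).symm) G x).symm
    have hkR : Inv k.1.toLinearMap R := fun v hv => by
      show k.1 v ∈ R
      rw [hkp v (hRp hv)]
      exact hRi v hv
    let gR : R →ₗ[F] R := g.1.toLinearMap.restrict hRi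
    have haR : ∀ (G : F[X]) (v : R), aeval k.1.toLinearMap G (v : V) = aeval g.1.toLinearMap G (v : V) :=
      fun G v => (aeval_comp_eq (f := gR) (g := k.1.toLinearMap) R.subtype
        (fun u => (hkp u (hRp u.2)).symm) G v).symm.trans
          (aeval_comp_eq (f := gR) (g := g.1.toLinearMap) R.subtype (fun u => rfl) G v)
    set Fil := fun s => (Finset.univ.filter fun a : Fin ((r - 1) / ordq F r) => a.1 < s) with hFil
    have hins : Fil (s + 1) = insert a₀ (Fil s) := by
      ext a
      simp [hFil, a₀, Fin.ext_iff]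
      omega
    have hnotin : a₀ ∉ Fil s := by simp [hFil, a₀]
    refine ⟨k, hkr, ?_, fun w hw => ?_, fun U hUW hUi hU0 => ?_⟩
    · ext v
      rw [mem_fixS]
      obtain ⟨x, hx, z, hz, rfl⟩ := Submodule.mem_sup.1
        ((sup_perp polar_refl hXn).symm ▸ Submodule.mem_top : v ∈ X ⊔ perp (polarBilin Q) X)
      have hgz : g.1 z ∈ perp (polarBilin Q) X := mem_perp.2 fun u hu => by
        rw [← hXfix u hu, polarBilin_apply_apply, polar_oGroup]
        exact mem_perp.1 hz u hu
      have hk : k.1.toLinearMap (x + z) = (y.1 ⟨x, hx⟩ : V) + g.1 z := by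
        show k.1 (x + z) = _
        rw [map_add, hkp z hz, ← hkX ⟨x, hx⟩]
      rw [hk]
      constructor
      · intro e
        have hmem : (y.1 ⟨x, hx⟩ : V) - x ∈ X ⊓ perp (polarBilin Q) X := by
          refine ⟨X.sub_mem (y.1 _).2 hx, ?_⟩
          rw [show (y.1 ⟨x, hx⟩ : V) - x = z - g.1 z from sub_eq_sub_iff_add_eq_add.2 (by rw [e]; abel)]
          exact Submodule.sub_mem _ hz hgz
        rw [inf_perp polar_refl hXn, Submodule.mem_bot, sub_eq_zero] at hmem
        have hxf : (⟨x, hx⟩ : X) ∈ fixS y.1.toLinearMap := mem_fixS.2 (Subtype.ext hmem)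
        rw [hyf, Submodule.mem_bot] at hxf
        have hx0 : x = 0 := congrArg Subtype.val hxf
        rw [hmem] at e
        have hzf : z ∈ fixS g.1.toLinearMap := mem_fixS.2 (add_left_cancel e)
        rw [hgf] at hzf
        rw [hx0, zero_add]
        refine mem_perp.2 fun w hw => ?_
        obtain ⟨x', u, hu, rfl⟩ := hdec w hw
        rw [map_add, LinearMap.add_apply, mem_perp.1 hz _ x'.2, mem_perp.1 hzf u hu, add_zero]
      · intro hm
        have hx0 : x = 0 := by
          by_contra h0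
          obtain ⟨u, hu, hne⟩ := hXn x hx h0
          refine hne ((polar_swap x u).trans ?_)
          have := mem_perp.1 hm u (hXW hu)
          rwa [map_add, mem_perp.1 hz u hu, add_zero] at this
        have hzf : z ∈ fixS g.1.toLinearMap := by
          rw [hgf]
          refine mem_perp.2 fun u hu => ?_
          have := mem_perp.1 hm u hu.1
          rwa [hx0, zero_add] at this
        subst hx0
        rw [show (⟨(0 : V), hx⟩ : X) = 0 from rfl, map_zero, Submodule.coe_zero, zero_add, zero_add]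
        exact mem_fixS.1 hzf
    · obtain ⟨x, v, hv, rfl⟩ := hdec w hw
      show aeval k.1.toLinearMap (∏ a ∈ Fil (s + 1), P a) _ = 0
      rw [hins, Finset.prod_insert hnotin, map_add]
      have h1 : aeval k.1.toLinearMap (P a₀ * ∏ a ∈ Fil s, P a) (x : V) = 0 := by
        rw [haX, map_mul, hy0, zero_mul, LinearMap.zero_apply, Submodule.coe_zero]
      have h2 : aeval k.1.toLinearMap (P a₀ * ∏ a ∈ Fil s, P a) v = 0 := by
        rw [map_mul, Module.End.mul_apply, haR _ ⟨v, hv⟩, show aeval g.1.toLinearMap (∏ a ∈ Fil s, P a) v = 0 from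
          hkill v hv, map_zero]
      rw [h1, h2, add_zero]
    · have hfixy : (⊤ : Submodule F X) ⊓ fixS y.1.toLinearMap = ⊥ := by rw [top_inf_eq, hyf]
      have hyrl : y.1.toLinearMap ^ r = 1 := by rw [toLin_pow, hyr]; rfl
      have hleR : U ≤ R := by
        intro u hu
        obtain ⟨x, v, hv, rfl⟩ := hdec u (hUW hu)
        set G := ∏ a ∈ Fil s, P a with hG
        have hGv : aeval g.1.toLinearMap G v = 0 := hkill v hv
        have hGu : aeval k.1.toLinearMap G ((x : V) + v) = ((aeval y.1.toLinearMap G) x : V) := by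
          rw [map_add, haX, haR _ ⟨v, hv⟩, hGv, add_zero]
        have hmemU : ((aeval y.1.toLinearMap G) x : V) ∈ U := hGu ▸ hUi.aeval G _ hu
        set UX := U.comap X.subtype with hUX
        have hUXi : Inv y.1.toLinearMap UX := fun z hz => by
          show ((y.1 z : X) : V) ∈ U
          rw [← hkX]
          exact hUi _ hz
        have hUXbot : UX = ⊥ := by
          by_contra hne
          have h1 := dim_le_ordq hyrl hUXi (le_bot_iff.1 ((inf_le_inf_right _ le_top).trans hfixy.le)) hne
          have htop : UX = ⊤ := Submodule.eq_top_of_finrank_eq (le_antisymm (Submodule.finrank_le _) (hXd ▸ h1))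
          obtain ⟨z, hz, hz0⟩ := Submodule.exists_mem_ne_zero_of_ne_bot hne
          obtain ⟨t, ht, hne'⟩ := hXn z z.2 fun e => hz0 (Subtype.ext e)
          refine hne' ?_
          have h3 : ∀ w : X, Q (w : V) = 0 := fun w => hU0 _ (htop.symm ▸ Submodule.mem_top : w ∈ UX)
          have h4 := quad_add' (Q := Q) (z : V) t
          rw [← Submodule.coe_mk t ht, ← Submodule.coe_add, h3, h3, h3, zero_add, zero_add] at h4
          exact h4.symm
        have hx0 : aeval y.1.toLinearMap G x = 0 := by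
          have : aeval y.1.toLinearMap G x ∈ UX := hmemU
          rwa [hUXbot, Submodule.mem_bot] at this
        have hxz : x = 0 := by
          by_contra hxne
          have hdvd := dvd_of_kill hyrl (Inv.top _) hfixy Submodule.mem_top hxne (hPm a₀) (hPd a₀).le
            (by rw [hy0, LinearMap.zero_apply]) hx0
          obtain ⟨a, ha, hda⟩ := ((hPi a₀).prime.dvd_finsetProd_iff _).1 hdvd
          exact hnotin (hPinj (eq_of_monic_of_associated (hPm a₀) (hPm a) ((hPi a₀).associated_of_dvd (hPi a) hda)) ▸ ha)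
        rw [hxz, Submodule.coe_zero, zero_add]
        exact hv
      exact hnone U hleR (fun u hu => by
        show g.1 u ∈ U
        rw [← hkp u (hRp (hleR hu))]
        exact hUi u hu) hU0

/-- An element whose invariant totally singular subspaces are fixed pointwise. -/
theorem exists_no_moved_sing (hQ : Ndg (polarBilin Q) ⊤) (hr : (r : F) ≠ 0) (hr2 : r ≠ 2) (hi : Even (ordq F r))
    {s : ℕ} (hs : s ≤ (r - 1) / ordq F r) (hs0 : 0 < s) {W : Submodule F V} (hW : Ndg (polarBilin Q) W)
    (hd : finrank F W = s * ordq F r) (hp : IsPlus Q W ↔ Even s) :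
    ∃ g : oGroup Q, g ^ r = 1 ∧ fixS g.1.toLinearMap = perp (polarBilin Q) W ∧
      ∀ U ≤ W, Inv g.1.toLinearMap U → (∀ u ∈ U, Q u = 0) → U = ⊥ := by
  classical
  have hi0 := ordq_pos (F := F) hr
  have hblock : blockDim (ordq F r) = ordq F r := by rw [blockDim, if_pos hi]
  obtain ⟨X₀, hX₀n, -, hX₀d, hX₀p⟩ := exists_sub_type' hW hi False (by
      rw [hd]; exact Nat.le_mul_of_pos_left _ hs0) (fun h => by omega) fun h => by
      obtain rfl : s = 1 := by
        by_contra hne
        have := Nat.mul_le_mul_right (ordq F r) (show 2 ≤ s by omega)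
        omega
      simpa using hp
  obtain ⟨y₀, hy₀r, hy₀f⟩ := exists_block_elt hr hr2 hX₀n (hX₀d.trans hblock.symm)
    (iff_of_false (fun h => hX₀p.1 h) (Nat.not_odd_iff_even.2 hi))
  have hy₀rl : y₀.1.toLinearMap ^ r = 1 := by rw [toLin_pow, hy₀r]; rfl
  obtain ⟨e, P, hPinj, hP⟩ := exists_pow_types hy₀rl hr hy₀f hX₀d
  obtain ⟨j, hj⟩ := hi
  obtain ⟨g, h1, h2, -, h4⟩ := exists_distinct hQ hr ⟨j, hj⟩ P hPinj (fun a => (hP a).2.1) (fun a => (hP a).2.2.1)
    (fun a => (hP a).2.2.2.1) (fun a X hXn hXd hXp => by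
      obtain ⟨φ, hφ⟩ := exists_isometry hX₀n hXn (h := j) (by omega) (by omega)
        (iff_of_false (fun h => hX₀p.1 h) hXp)
      let Φ := oGroupCongr (Q := Q.comp X₀.subtype) (Q' := Q.comp X.subtype) φ hφ
      have hcomm : ∀ v, φ ((y₀ ^ e a).1 v) = (Φ (y₀ ^ e a)).1 (φ v) := fun v => by simp [Φ, oGroupCongr]
      refine ⟨Φ (y₀ ^ e a), ?_, (Submodule.eq_bot_iff _).2 fun v hv => ?_, LinearMap.ext fun v => ?_⟩
      · rw [← map_pow, ← pow_mul, mul_comm, pow_mul, hy₀r, one_pow, map_one]
      · have hv' : φ.symm v ∈ fixS (y₀.1.toLinearMap ^ e a) := by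
          rw [mem_fixS, toLin_pow]
          apply φ.injective
          show φ ((y₀ ^ e a).1 (φ.symm v)) = φ (φ.symm v)
          rw [hcomm, φ.apply_symm_apply]
          exact mem_fixS.1 hv
        rw [fixS_pow_eq_bot hy₀rl hy₀f (hP a).1, Submodule.mem_bot, LinearEquiv.map_eq_zero_iff] at hv'
        exact hv'
      · obtain ⟨u, rfl⟩ := φ.surjective v
        have := aeval_comp_eq (f := (y₀ ^ e a).1.toLinearMap) (g := (Φ (y₀ ^ e a)).1.toLinearMap)
          φ.toLinearMap hcomm (P a) u
        refine this.symm.trans ?_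
        rw [← toLin_pow, (hP a).2.2.2.2]
        simp) s hs W hW hd hp
  exact ⟨g, h1, h2, h4⟩

end CfsgLib.Elusive2
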