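import Cfsg.Agent.Elusive2.OrthEven
import Cfsg.Agent.Elusive2.OrthSingTypes
import Cfsg.Agent.Elusive2.Iso

/-!
Totally singular subspaces fixed by isometries of odd prime order prime to the characteristic.
-/

set_option autoImplicit false
set_option linter.unusedSectionVars false

namespace CfsgLib.Elusive2

open Module Polynomial QuadraticMap CfsgLib.Elusive CfsgLib.Quad

/-- Room for a totally singular subspace of dimension `b` in a space of dimension `f`. -/
def Room (f b : ℕ) (P : Prop) : Prop := 2 * b < f ∨ (2 * b = f ∧ P)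

theorem Room.mono {f b b' : ℕ} {P : Prop} (h : Room f b P) (hb : b' ≤ b) : Room f b' P := by
  rcases h with h | ⟨h, hP⟩
  · exact Or.inl (by omega)
  · rcases Nat.eq_or_lt_of_le hb with e | e
    · exact Or.inr ⟨by omega, hP⟩
    · exact Or.inl (by omega)

variable {F V : Type*} [Field F] [Fintype F] [AddCommGroup V] [Module F V] [FiniteDimensional F V]
  {Q : QuadraticForm F V} {r : ℕ} [hr' : Fact r.Prime]

/-- Totally singular subspaces up to the Witt index. -/
theorem exists_sing : ∀ (b : ℕ) {T : Submodule F V}, Ndg (polarBilin Q) T →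
    Room (finrank F T) b (IsPlus Q T) → ∃ U ≤ T, (∀ u ∈ U, Q u = 0) ∧ finrank F U = b := by
  intro b
  induction b with
  | zero => exact fun _ _ => ⟨⊥, bot_le, fun u hu => by rw [(Submodule.mem_bot F).1 hu, QuadraticMap.map_zero], finrank_bot F V⟩
  | succ b ih =>
    intro T hT hroom
    rcases hroom with hlt | ⟨he, U, hU, hU0, hUd⟩
    swap
    · exact ⟨U, hU, hU0, by omega⟩
    obtain ⟨e, he, he0, hQe⟩ := exists_sing_sub hT (by omega)
    obtain ⟨f, hf, hQf, hef⟩ := exists_hyp_pair hT he he0 hQe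
    obtain ⟨hn, hd, -⟩ := hyp_plane_ndg hQe hQf hef
    have hle : Submodule.span F (Set.range ![e, f]) ≤ T := by
      rw [Submodule.span_le]; rintro _ ⟨j, rfl⟩; fin_cases j <;> assumption
    obtain ⟨-, -, hdim, hnd⟩ := exists_split polar_refl hn hle
    obtain ⟨U, hU, hU0, hUd⟩ := ih (hnd hT) (Or.inl (by omega))
    have heP : e ∈ Submodule.span F (Set.range ![e, f]) := Submodule.subset_span ⟨0, rfl⟩
    refine ⟨Submodule.span F {e} ⊔ U, sup_le (by rwa [Submodule.span_le, Set.singleton_subset_iff])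
      (hU.trans inf_le_left), ?_, ?_⟩
    · intro x hx
      obtain ⟨l, hl, u, hu, rfl⟩ := Submodule.mem_sup.1 hx
      obtain ⟨c, rfl⟩ := Submodule.mem_span_singleton.1 hl
      rw [quad_add', QuadraticMap.map_smul, hQe, hU0 u hu, map_smul, LinearMap.smul_apply,
        mem_perp.1 (hU hu).2 e heP, smul_zero, smul_zero, add_zero, add_zero]
    · have := Submodule.finrank_sup_add_finrank_inf_eq (Submodule.span F {e}) U
      rw [show Submodule.span F {e} ⊓ U = ⊥ from le_bot_iff.1 ((inf_le_inf
        (by rw [Submodule.span_le, Set.singleton_subset_iff]; exact heP) (hU.trans inf_le_right)).trans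
          (inf_perp polar_refl hn).le), finrank_bot, finrank_span_singleton he0] at this
      omega

/-- A totally singular subspace is at most half of the space. -/
theorem sing_room {T U : Submodule F V} (hT : Ndg (polarBilin Q) T) (hU : U ≤ T) (hU0 : ∀ u ∈ U, Q u = 0) :
    Room (finrank F T) (finrank F U) (IsPlus Q T) := by
  rcases Nat.eq_or_lt_of_le ((iso0_of_sing hU0).two_mul_le polar_refl hU hT) with e | e
  · exact Or.inr ⟨e, U, hU, hU0, e⟩
  · exact Or.inl e

/-- Totally singular invariant subspaces of the moved space, odd `i`. -/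
theorem IsOrthPack.exists_sing_mov_odd {f : V →ₗ[F] V} (hP : IsOrthPack Q f r) (hr : (r : F) ≠ 0) (hr2 : r ≠ 2)
    (hi : Odd (ordq F r)) {a : ℕ} (ha : a * (2 * ordq F r) ≤ finrank F (movS f)) :
    ∃ U, Inv f U ∧ U ≤ movS f ∧ (∀ u ∈ U, Q u = 0) ∧ finrank F U = a * ordq F r := by
  obtain ⟨s, -, -, -, -, hM, hMF, -⟩ := hP.fix_mov hr hr2
  obtain ⟨X, U, -, -, hX, -, hU, hUi, hUX, hUd⟩ := exists_iso_peel hP.pack (c := 2 * ordq F r)
    (e := ordq F r) (L := 1) (CfsgLib.Elusive2.Inv.movS f) hM
    (fun W hW hWn hle hd => exists_block_pair hP.pack hr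
      (fun U hU hf hd hn => no_fpf_odd hn hU hP hr2 (hd ▸ hi) hf) hW hWn
      (le_bot_iff.1 ((inf_le_inf_right _ hle).trans hMF.le)) fun e => by rw [e, finrank_bot] at hd; omega)
    a (Or.inr (by have := ordq_pos (F := F) hr; omega))
  exact ⟨U, hU, hUX.trans hX, sing_of_iso0 hP hU hUi
    (le_bot_iff.1 ((inf_le_inf_right _ (hUX.trans hX)).trans hMF.le)), hUd⟩

/-- Totally singular invariant subspaces of the moved space, even `i`. -/
theorem IsOrthPack.exists_sing_mov_even {f : V →ₗ[F] V} (hP : IsOrthPack Q f r) (hr : (r : F) ≠ 0) (hr2 : r ≠ 2)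
    (hi : Even (ordq F r)) {a : ℕ}
    (ha : a = 0 ∨ ((r - 1) / ordq F r + 2 * a) * ordq F r ≤ finrank F (movS f) + ordq F r) :
    ∃ U, Inv f U ∧ U ≤ movS f ∧ (∀ u ∈ U, Q u = 0) ∧ finrank F U = a * ordq F r := by
  obtain ⟨p, hp⟩ := CharP.exists F
  have : Fact p.Prime := ⟨CharP.char_is_prime F p⟩
  obtain ⟨e, -, hcard⟩ := FiniteField.card F p
  obtain ⟨j, hj⟩ := hi
  have hi0 := ordq_pos (F := F) hr
  have hN : r ∣ p ^ ((e : ℕ) * j) + 1 := by
    rw [pow_mul, ← hcard]
    set y : ZMod r := ((Fintype.card F : ℕ) : ZMod r) with hy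
    have h2 : y ^ j * y ^ j = 1 := by rw [← pow_add, ← hj]; exact pow_orderOf_eq_one y
    have h1 : y ^ j ≠ 1 := fun h => by
      have := orderOf_dvd_of_pow_eq_one h
      rw [← show ordq F r = orderOf y from rfl] at this
      have := Nat.le_of_dvd (by omega) this
      omega
    rw [← ZMod.natCast_eq_zero_iff, Nat.cast_add, Nat.cast_pow, ← hy, Nat.cast_one,
      (mul_self_eq_one_iff.1 h2).resolve_left h1, neg_add_cancel]
  have hσ : ∀ x : F, RingHom.id F x = x ^ p ^ ((e : ℕ) * j) := fun x => by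
    rw [pow_mul, ← hcard, FiniteField.pow_card_pow, RingHom.id_apply]
  have hQ : Fintype.card F ^ ordq F r = p ^ ((e : ℕ) * j) * p ^ ((e : ℕ) * j) := by
    rw [pow_mul, ← hcard, ← pow_add, ← hj]
  obtain ⟨s, -, -, -, -, hM, hMF, -⟩ := hP.fix_mov hr hr2
  obtain ⟨X, U, -, -, hX, -, hU, hUi, hUX, hUd⟩ := exists_iso_peel hP.pack (c := 2 * ordq F r)
    (e := ordq F r) (L := ((r - 1) / ordq F r + 1) * ordq F r) (CfsgLib.Elusive2.Inv.movS f) hM
    (fun W hW hWn hle hd => exists_pair_block hP.pack hr hr2 hN hσ hQ (τ := fun x => x)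
      (fun u v => polar_swap v u) hW hWn (le_bot_iff.1 ((inf_le_inf_right _ hle).trans hMF.le)) hd)
    a (ha.imp id fun h => by
      rw [Nat.add_mul] at h ⊢
      have e1 : a * (2 * ordq F r) = 2 * a * ordq F r := by ring
      omega)
  exact ⟨U, hU, hUX.trans hX, sing_of_iso0 hP hU hUi
    (le_bot_iff.1 ((inf_le_inf_right _ (hUX.trans hX)).trans hMF.le)), hUd⟩

/-- The parts of a fixed totally singular subspace. -/
theorem IsOrthPack.sing_parts {f : V →ₗ[F] V} (hP : IsOrthPack Q f r) (hr : (r : F) ≠ 0) (hr2 : r ≠ 2)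
    {W : Submodule F V} (hW : Inv f W) (hW0 : ∀ w ∈ W, Q w = 0) :
    ∃ a, finrank F W = finrank F ↥(W ⊓ fixS f) + a * ordq F r ∧
      finrank F (W.map (f - 1)) = a * ordq F r ∧
      Room (finrank F (fixS f)) (finrank F ↥(W ⊓ fixS f)) (IsPlus Q (fixS f)) := by
  obtain ⟨a, ha⟩ := mov_dvd hP.pack.pow_r hr hW
  change finrank F (W.map (f - 1)) = ordq F r * a at ha
  obtain ⟨s, -, -, -, hF, -, -, -⟩ := hP.fix_mov hr hr2
  refine ⟨a, ?_, by rw [ha, mul_comm], sing_room hF inf_le_right fun w hw => hW0 w hw.1⟩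
  rw [mul_comm, ← ha]
  exact dim_split W

/-- Members with too small a fixed space do not occur. -/
theorem no_sing_fixed (hQ : (polarBilin Q).Nondegenerate) (hr : (r : F) ≠ 0) (hr2 : r ≠ 2) {m : ℕ}
    (hdvd : r ∣ Nat.card {W : Submodule F V // finrank F W = m ∧ ∀ w ∈ W, Q w = 0}) {g : oGroup Q}
    (hg : g ^ r = 1) (hm : m < ordq F r)
    (hroom : ∀ s, 0 < s → s * blockDim (ordq F r) ≤ finrank F (fixS g.1.toLinearMap) →
      s * blockDim (ordq F r) = finrank F (fixS g.1.toLinearMap) ∧
        ¬ (IsPlus Q (fixS g.1.toLinearMap) ↔ blkType (ordq F r) s)) :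
    ∀ W : Submodule F V, finrank F W = m → (∀ w ∈ W, Q w = 0) → ¬ W ≤ fixS g.1.toLinearMap := by
  classical
  intro W₁ hW₁ hW₁0 hle₁
  have hP := orthPack_of_elt (ndg_top_iff.2 hQ) hg
  set T := fixS g.1.toLinearMap
  have hT : Ndg (polarBilin Q) T := by
    obtain ⟨s, -, -, -, hF, -⟩ := hP.fix_mov hr hr2
    exact hF
  let P : Submodule F V → Prop := fun W => finrank F W = m ∧ ∀ w ∈ W, Q w = 0
  have hclosed : ∀ {W W' : Submodule F V} (e : W ≃ₗ[F] W'), (∀ w : W, Q (e w) = Q w) → P W → P W' :=
    fun {W W'} e he h => ⟨e.finrank_eq.symm.trans h.1, fun w hw => by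
      have h1 := he (e.symm ⟨w, hw⟩)
      rw [e.apply_symm_apply] at h1
      exact h1.trans (h.2 _ (Submodule.coe_mem _))⟩
  have hmap : ∀ (h : oGroup Q) W, P W → P (W.map h.1.toLinearMap) := fun h W hW =>
    hclosed (Submodule.equivMapOfInjective h.1.toLinearMap h.1.injective W) (fun w => h.2 _) hW
  have hfix : ∀ W, P W → W.map g.1.toLinearMap = W → W ≤ T := fun W hW hinv => by
    obtain ⟨a, hsum, -, -⟩ := hP.sing_parts hr hr2 (inv_iff.2 hinv.le) hW.2
    rw [hW.1] at hsum
    have ha0 : a = 0 := by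
      by_contra h0
      have := Nat.le_mul_of_pos_left (ordq F r) (Nat.pos_of_ne_zero h0)
      omega
    rw [ha0, zero_mul] at hsum
    exact inf_eq_left.1 (Submodule.eq_of_le_of_finrank_le (inf_le_left : W ⊓ T ≤ W)
      (by rw [hW.1]; change m ≤ finrank F ↥(W ⊓ fixS g.1.toLinearMap); omega))
  have h1 := card_modEq_fix hg P hmap hfix hdvd
  set Ω := {W // P W ∧ W ≤ T}
  have := Module.finite_of_finite (R := F) (M := V)
  have hfinS : Finite (Submodule F V) := Finite.of_injective (fun W => (W : Set V)) SetLike.coe_injective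
  have := finite_oGroup (Q := Q.comp T.subtype)
  have hTn : (polarBilin (Q.comp T.subtype)).Nondegenerate := ndg_comp hT
  letI : MulAction (oGroup (Q.comp T.subtype)) Ω :=
    { smul := fun h W => ⟨((W.1.comap T.subtype).map h.1.toLinearMap).map T.subtype, hclosed
        (((Submodule.comapSubtypeEquivOfLe W.2.2).symm.trans
          (Submodule.equivMapOfInjective h.1.toLinearMap h.1.injective _)).trans
            (Submodule.equivMapOfInjective T.subtype T.injective_subtype _))
        (fun w => (h.2 _).trans rfl) W.2.1, Submodule.map_subtype_le _ _⟩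
      one_smul := fun W => Subtype.ext (by
        show ((W.1.comap T.subtype).map _).map T.subtype = W.1
        rw [show ((1 : oGroup (Q.comp T.subtype)).1.toLinearMap) = LinearMap.id from rfl, Submodule.map_id,
          Submodule.map_comap_subtype, inf_eq_right.2 W.2.2])
      mul_smul := fun a b W => Subtype.ext (by
        show ((W.1.comap T.subtype).map (a * b).1.toLinearMap).map T.subtype =
          ((((W.1.comap T.subtype).map b.1.toLinearMap).map T.subtype).comap T.subtype |>.map a.1.toLinearMap).map T.subtype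
        rw [Submodule.comap_map_eq_of_injective T.injective_subtype]
        congr 1
        exact Submodule.map_comp _ _ _) }
  have horb : MulAction.orbit (oGroup (Q.comp T.subtype)) (⟨W₁, ⟨hW₁, hW₁0⟩, hle₁⟩ : Ω) = Set.univ :=
    Set.eq_univ_of_forall fun W => by
      let e : W₁ ≃ₗ[F] W.1 := LinearEquiv.ofFinrankEq _ _ (hW₁.trans W.2.1.1.symm)
      obtain ⟨h, hh⟩ := exists_map_subspace hTn
        (((Submodule.comapSubtypeEquivOfLe hle₁).trans e).trans (Submodule.comapSubtypeEquivOfLe W.2.2).symm)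
        fun x => (W.2.1.2 _ (Submodule.coe_mem _)).trans (hW₁0 _ x.2).symm
      refine ⟨h, Subtype.ext ?_⟩
      show Submodule.map T.subtype _ = W.1
      rw [hh, Submodule.map_comap_subtype, inf_eq_right.2 W.2.2]
  have h2 : Nat.card Ω ∣ Nat.card (oGroup (Q.comp T.subtype)) := by
    refine Dvd.intro (Nat.card (MulAction.stabilizer (oGroup (Q.comp T.subtype))
      (⟨W₁, ⟨hW₁, hW₁0⟩, hle₁⟩ : Ω))) ?_
    rw [← Nat.card_congr (Equiv.Set.univ Ω), ← horb, ← Nat.card_prod]
    exact Nat.card_congr (MulAction.orbitProdStabilizerEquivGroup _ _)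
  obtain ⟨s, hs0, hsle, hst⟩ := room_of_dvd (ndg_top_iff.2 hTn) hr hr2 (h1.trans h2)
  obtain ⟨he, hne⟩ := hroom s hs0 hsle
  refine hne (Iff.trans ?_ (hst he))
  exact ⟨fun hp => isPlus_congr Submodule.topEquiv.symm (fun x => rfl) hp,
    fun hp => isPlus_congr Submodule.topEquiv (fun x => rfl) hp⟩

/-- The criterion. -/
def SingCrit (n i t m : ℕ) (εV : Prop) : Prop :=
  i ≤ m ∧ Room (n - topS n i εV * blockDim i) (m % i) (εV ↔ blkType i (topS n i εV)) ∧
    (Even i → 2 * m + t * i < n ∨ (2 * m + t * i = n ∧ (εV ↔ Even t)))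

theorem all_fix_sing (hQ : (polarBilin Q).Nondegenerate) (hr : (r : F) ≠ 0) (hr2 : r ≠ 2) {n m : ℕ}
    (hn : finrank F V = n) (hmn : 2 * m < n) (εV : Prop) (hεV : Even n → (IsPlus Q ⊤ ↔ εV))
    (hdvd : r ∣ Nat.card {W : Submodule F V // finrank F W = m ∧ ∀ w ∈ W, Q w = 0}) :
    (∀ g : oGroup Q, g ^ r = 1 → g ≠ 1 → ∃ W : Submodule F V,
        (finrank F W = m ∧ ∀ w ∈ W, Q w = 0) ∧ Inv g.1.toLinearMap W) ↔
      SingCrit n (ordq F r) ((r - 1) / ordq F r) m εV := by
  classical
  have hQt := ndg_top_iff.2 hQ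
  have hi0 := ordq_pos (F := F) hr
  have hc := blockDim_pos (F := F) (r := r) hr
  have hci : ordq F r ≤ blockDim (ordq F r) := le_blockDim _
  have hc2 : blockDim (ordq F r) ≤ 2 * ordq F r := by unfold blockDim; split <;> omega
  set i := ordq F r with hi_def
  set c := blockDim i with hc_def
  obtain ⟨hspec, hmax⟩ := topS_spec (n := n) (εV := εV) hc (by omega)
  have hbound : n - topS n i εV * c ≤ c ∧
      (n - topS n i εV * c = c → ¬ (εV ↔ blkType i (topS n i εV + 1))) := by
    have h1 := Nat.div_add_mod n c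
    rw [Nat.mul_comm] at h1
    have h2 := Nat.mod_lt n hc
    unfold topS
    rw [← hc_def]
    split
    · rename_i h
      obtain ⟨N, hN⟩ : ∃ N, n / c = N + 1 := ⟨n / c - 1, by
        rcases Nat.eq_zero_or_pos (n / c) with e | e
        · have hk : n % c = 0 := h.1
          rw [e, hk] at h1; omega
        · omega⟩
      obtain ⟨hk, hne'⟩ := h
      change n % c = 0 at hk
      rw [hk, hN, Nat.add_mul, Nat.one_mul] at h1
      rw [hN] at hne' ⊢
      rw [Nat.add_sub_cancel]
      exact ⟨by omega, fun _ => hne'⟩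
    · exact ⟨by omega, fun h => by omega⟩
  have htype : ∀ s, s * c = n → (IsPlus Q ⊤ ↔ εV) := fun s h => hεV (h ▸ (blockDim_even i).mul_left s)
  have hfixtype : ∀ {g : oGroup Q}, g ^ r = 1 → ∀ s, finrank F (movS g.1.toLinearMap) = s * c →
      finrank F (fixS g.1.toLinearMap) = n - s * c ∧ s * c ≤ n ∧
        (∀ b, Room (n - s * c) b (εV ↔ blkType i s) ↔
          Room (finrank F (fixS g.1.toLinearMap)) b (IsPlus Q (fixS g.1.toLinearMap))) := by
    intro g hg s hmov
    obtain ⟨s', hs', -, hsd, -, -, -, hfp⟩ := (orthPack_of_elt hQt hg).fix_mov hr hr2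
    obtain rfl : s' = s := Nat.eq_of_mul_eq_mul_right hc (hs'.symm.trans hmov)
    have hfd : finrank F (fixS g.1.toLinearMap) = n - s' * c := by
      show _ = n - s' * blockDim (ordq F r)
      omega
    refine ⟨hfd, by show s' * blockDim (ordq F r) ≤ n; omega, fun b => ?_⟩
    rw [hfd]
    unfold Room
    constructor <;>
    · rintro (h | ⟨h, hp⟩)
      · exact Or.inl h
      · have hev : Even n := by
          have h3 : n = 2 * b + s' * c := by omega
          rw [h3]
          exact (even_two_mul b).add ((blockDim_even i).mul_left s')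
        have h4 := hfp (hn.symm ▸ hev)
        rw [hεV hev] at h4
        exact Or.inr ⟨h, by first | exact h4.2 hp | exact h4.1 hp⟩
  generalize hS : topS n i εV = S at hspec hmax hbound
  have hSle : S * c ≤ n := hS ▸ topS_le n i εV
  obtain ⟨g₁, hg₁, hmov₁, hg₁ne⟩ : ∃ g : oGroup Q, g ^ r = 1 ∧ finrank F (movS g.1.toLinearMap) = S * c ∧
      (0 < S → g ≠ 1) := by
    obtain ⟨X, hXn, -, hXd, hXp⟩ := exists_sub_type' hQt ((blockDim_even i).mul_left S) (blkType i S)
      (by rw [finrank_top, hn]; exact hSle)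
      (fun h => by
        rcases Nat.mul_eq_zero.1 h with h | h
        · rw [h]; exact blkType_zero _
        · omega)
      (fun h => by rw [finrank_top, hn] at h; exact (htype S h).trans (hspec h))
    obtain ⟨g, hg, hgf⟩ := exists_fpf_on hQt hr hr2 S X hXn hXd hXp
    obtain ⟨-, -, hd2, -⟩ := exists_split (T := ⊤) polar_refl hXn le_top
    rw [top_inf_eq, finrank_top, hn, hXd, ← hc_def] at hd2
    have h1 := fix_add_mov (f := g.1.toLinearMap)
    rw [hgf, hn] at h1
    refine ⟨g, hg, by omega, fun hS0 e => ?_⟩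
    rw [e] at hgf
    have h0 : finrank F (fixS ((1 : oGroup Q).1.toLinearMap)) = n := by
      rw [show fixS ((1 : oGroup Q).1.toLinearMap) = ⊤ from eq_top_iff.2 fun v _ => mem_fixS.2 rfl,
        finrank_top, hn]
    rw [hgf] at h0
    have := Nat.mul_pos hS0 hc
    omega
  constructor
  · intro hall
    obtain ⟨hfd₁, -, hroom₁⟩ := hfixtype hg₁ S hmov₁
    have hP₁ := orthPack_of_elt hQt hg₁
    have him : i ≤ m := by
      by_contra hmi
      push Not at hmi
      obtain ⟨W, ⟨hWd, hW0⟩, hle⟩ : ∃ W : Submodule F V, (finrank F W = m ∧ ∀ w ∈ W, Q w = 0) ∧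
          W ≤ fixS g₁.1.toLinearMap := by
        rcases Nat.eq_zero_or_pos S with h0 | h0
        · obtain ⟨U, -, hU0, hUd⟩ := exists_sing m hQt (Or.inl (by rw [finrank_top, hn]; exact hmn))
          refine ⟨U, ⟨hUd, hU0⟩, le_trans le_top (le_of_eq (Eq.symm ?_))⟩
          refine Submodule.eq_top_of_finrank_eq ?_
          rw [hfd₁, h0, zero_mul, Nat.sub_zero, hn]
        · obtain ⟨W, ⟨hWd, hW0⟩, hinv⟩ := hall g₁ hg₁ (hg₁ne h0)
          refine ⟨W, ⟨hWd, hW0⟩, ?_⟩
          obtain ⟨a, hsum, -, -⟩ := hP₁.sing_parts hr hr2 hinv hW0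
          have ha0 : a = 0 := by
            by_contra ha
            have := Nat.le_mul_of_pos_left (ordq F r) (Nat.pos_of_ne_zero ha)
            omega
          rw [ha0, zero_mul] at hsum
          exact inf_eq_left.1 (Submodule.eq_of_le_of_finrank_le inf_le_left (by omega))
      refine no_sing_fixed hQ hr hr2 hdvd hg₁ hmi (fun s hs0 hsle => ?_) W hWd hW0 hle
      rw [hfd₁] at hsle ⊢
      change s * c ≤ n - S * c at hsle
      show s * c = n - S * c ∧ _
      have h1 := Nat.le_mul_of_pos_left c hs0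
      have he : n - S * c = c := by omega
      have hs1 : s = 1 := by
        by_contra hne1
        have := Nat.mul_le_mul_right c (show 2 ≤ s by omega)
        omega
      subst hs1
      refine ⟨by omega, fun hiff => hbound.2 he ?_⟩
      have hev : Even n := by
        have h3 : n = (S + 1) * c := by rw [Nat.add_mul]; omega
        exact h3 ▸ (blockDim_even i).mul_left _
      obtain ⟨s', hs', -, -, -, -, -, hfp⟩ := hP₁.fix_mov hr hr2
      obtain rfl : s' = S := Nat.eq_of_mul_eq_mul_right hc (hs'.symm.trans hmov₁)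
      rw [hfp (hn.symm ▸ hev), hεV hev] at hiff
      rw [blkType_add]
      by_cases h5 : εV <;> by_cases h6 : blkType i s' <;> by_cases h7 : blkType i 1 <;> simp_all
    have hN : c ≤ n := by omega
    have hS1 : 0 < S := by
      by_contra h0
      obtain rfl : S = 0 := by omega
      omega
    refine ⟨him, ?_, fun hie => ?_⟩
    · rw [hS]
      obtain ⟨W, ⟨hWd, hW0⟩, hinv⟩ := hall g₁ hg₁ (hg₁ne hS1)
      obtain ⟨a, hsum, -, hroom⟩ := hP₁.sing_parts hr hr2 hinv hW0
      refine Room.mono ((hroom₁ _).2 hroom) ?_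
      rw [← hWd, hsum]
      show (_ + a * i) % i ≤ _
      rw [Nat.add_mul_mod_self_right]
      exact Nat.mod_le _ _
    · set t := (r - 1) / i with ht
      have hci' : c = i := by rw [hc_def, blockDim, if_pos hie]
      have ht1 : 0 < t := by
        refine Nat.div_pos (Nat.le_of_dvd (by have := hr'.out.two_le; omega) ?_) hi0
        exact orderOf_dvd_of_pow_eq_one (ZMod.pow_card_sub_one_eq_one fun h0 => by
          have := ordq_pos (F := F) hr
          rw [ordq, h0] at this
          simp at this)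
      obtain ⟨s, hst, hs0, hsn, hstype, hcase⟩ : ∃ s, s ≤ t ∧ 0 < s ∧ s * i ≤ n ∧
          (s * i = n → (εV ↔ Even s)) ∧ (s = t ∨ (s = S ∧ n - S * i < 2 * m)) := by
        rcases Nat.lt_or_ge S t with hlt | hge
        · refine ⟨S, hlt.le, hS1, by rw [← hci']; exact hSle, fun h => ?_, Or.inr ⟨rfl, ?_⟩⟩
          · rw [← hci'] at h
            have := hspec h
            simpa [blkType, Nat.not_odd_iff_even.2 hie] using this
          · rw [← hci']
            omega
        · refine ⟨t, le_rfl, ht1, ?_, fun h => ?_, Or.inl rfl⟩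
          · rw [← hci']; exact (Nat.mul_le_mul_right c hge).trans hSle
          · rw [← hci'] at h
            obtain rfl : t = S := Nat.eq_of_mul_eq_mul_right hc (le_antisymm (Nat.mul_le_mul_right c hge) (h ▸ hSle))
            have := hspec h
            simpa [blkType, Nat.not_odd_iff_even.2 hie] using this
      obtain ⟨W, hWn, -, hWd, hWp⟩ := exists_sub_type' hQt (hie.mul_left s) (Even s)
        (by rw [finrank_top, hn]; exact hsn) (fun h => by
          rcases Nat.mul_eq_zero.1 h with h | h <;> omega)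
        (fun h => by
          rw [finrank_top, hn] at h
          exact (htype s (by rw [hci']; exact h)).trans (hstype h))
      obtain ⟨g, hg, hgf, hnone⟩ := exists_no_moved_sing hQt hr hr2 hie hst hs0 hWn hWd hWp
      obtain ⟨-, -, hd2, -⟩ := exists_split (T := ⊤) polar_refl hWn le_top
      rw [top_inf_eq, finrank_top, hn, hWd] at hd2
      have hfm := fix_add_mov (f := g.1.toLinearMap)
      rw [hgf, hn] at hfm
      have hmov : finrank F (movS g.1.toLinearMap) = s * c := by rw [hci']; omega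
      have hg1 : g ≠ 1 := fun e => by
        rw [e, show movS ((1 : oGroup Q).1.toLinearMap) = ⊥ by
          rw [Submodule.eq_bot_iff]; rintro _ ⟨v, rfl⟩; simp, finrank_bot] at hmov
        rcases Nat.mul_eq_zero.1 hmov.symm with h | h <;> omega
      obtain ⟨U, ⟨hUd, hU0⟩, hinv⟩ := hall g hg hg1
      have hP := orthPack_of_elt hQt hg
      obtain ⟨a, hsum, hamov, hroom⟩ := hP.sing_parts hr hr2 hinv hU0
      have hmovW : movS g.1.toLinearMap ≤ W := by
        intro v hv
        obtain ⟨u, rfl⟩ := hv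
        obtain ⟨w, hw, z, hz, rfl⟩ := Submodule.mem_sup.1
          ((sup_perp polar_refl hWn).symm ▸ Submodule.mem_top : u ∈ W ⊔ perp (polarBilin Q) W)
        have hzf : g.1 z = z := mem_fixS.1 (hgf.symm ▸ hz)
        show g.1 (w + z) - (w + z) ∈ W
        rw [map_add, hzf, add_sub_add_right_eq_sub]
        refine W.sub_mem ?_ hw
        by_contra hnot
        obtain ⟨x, hx, y, hy, he⟩ := Submodule.mem_sup.1
          ((sup_perp polar_refl hWn).symm ▸ Submodule.mem_top : g.1 w ∈ W ⊔ perp (polarBilin Q) W)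
        have hy0 : y = 0 := by
          by_contra h0
          obtain ⟨t', -, hne⟩ := hQt y trivial h0
          obtain ⟨t₁, ht₁, t₂, ht₂, rfl⟩ := Submodule.mem_sup.1
            ((sup_perp polar_refl hWn).symm ▸ Submodule.mem_top : t' ∈ W ⊔ perp (polarBilin Q) W)
          refine hne ?_
          rw [map_add, (polar_swap y t₁).trans (mem_perp.1 hy t₁ ht₁), zero_add]
          have hfix2 : g.1 t₂ = t₂ := mem_fixS.1 (hgf.symm ▸ ht₂)
          have h1 : polarBilin Q (g.1 w) t₂ = 0 := by
            rw [← hfix2, polarBilin_apply_apply, polar_oGroup]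
            exact mem_perp.1 ht₂ w hw
          rwa [← he, map_add, LinearMap.add_apply, mem_perp.1 ht₂ x hx, zero_add] at h1
        exact hnot (by rw [← he, hy0, add_zero]; exact hx)
      have ha0 : U.map (g.1.toLinearMap - 1) = ⊥ := hnone _ (LinearMap.map_le_range.trans hmovW)
        hinv.map_sub.1 fun u hu => hU0 u (hinv.map_sub.2 hu)
      rw [ha0, finrank_bot] at hamov
      rw [← hamov, add_zero, hUd] at hsum
      obtain ⟨-, -, hroom'⟩ := hfixtype hg s hmov
      have hr3 := (hroom' _).2 hroom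
      rw [← hsum, hci'] at hr3
      rcases hcase with rfl | ⟨rfl, hsmall⟩
      · rcases hr3 with h | ⟨h, hp⟩
        · exact Or.inl (by omega)
        · exact Or.inr ⟨by omega, by simpa [blkType, Nat.not_odd_iff_even.2 hie] using hp⟩
      · rcases hr3 with h | ⟨h, -⟩ <;> omega
  · rintro ⟨him, hroomS, hroomT⟩ g hg hg1
    rw [hS] at hroomS
    have hP := orthPack_of_elt hQt hg
    obtain ⟨s, hs, hsp, hsd, -, -, -, hfp⟩ := hP.fix_mov hr hr2
    obtain ⟨hfd, hsn, hroom⟩ := hfixtype hg s hs
    have hadm : Adm n i s εV := by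
      refine ⟨Nat.pos_of_ne_zero fun h0 => ?_, hsn, fun he => ?_⟩
      · rw [h0, zero_mul, Submodule.finrank_eq_zero] at hs
        exact hg1 (movS_eq_bot hs)
      · have hev : Even n := he ▸ (blockDim_even _).mul_left s
        have h1 := hfp (hn.symm ▸ hev)
        rw [Submodule.finrank_eq_zero.1 (show finrank F (fixS g.1.toLinearMap) = 0 by rw [hfd]; simp only [← hc_def] at he ⊢; omega), hεV hev] at h1
        exact h1.1 IsPlus.bot
    have hsS : s ≤ S := hmax s hadm
    have hmonoS : Room (n - s * c) (m % i) (εV ↔ blkType i s) := by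
      rcases Nat.eq_or_lt_of_le hsS with rfl | hlt
      · exact hroomS
      · have h1 := Nat.mul_le_mul_right c (show s + 1 ≤ S by omega)
        rw [Nat.add_mul, Nat.one_mul] at h1
        refine Or.inl ?_
        simp only [Room, ← hc_def, ← hi_def] at hroomS h1 ⊢
        rcases hroomS with h | ⟨h, -⟩ <;> omega
    have hdm := Nat.div_add_mod m i
    rw [Nat.mul_comm] at hdm
    suffices h : ∃ a b, a * i + b = m ∧ Room (n - s * c) b (εV ↔ blkType i s) ∧
        ∃ U, Inv g.1.toLinearMap U ∧ U ≤ movS g.1.toLinearMap ∧ (∀ u ∈ U, Q u = 0) ∧ finrank F U = a * i by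
      obtain ⟨a, b, hab, hb, U, hU, hUM, hU0, hUd⟩ := h
      obtain ⟨s', -, -, -, hF, -, hMF, -⟩ := hP.fix_mov hr hr2
      obtain ⟨U', hU', hU'0, hU'd⟩ := exists_sing b hF ((hroom b).1 hb)
      refine ⟨U' ⊔ U, ⟨?_, fun w hw => ?_⟩, (Inv.of_le_fix hU').sup hU⟩
      · have := Submodule.finrank_sup_add_finrank_inf_eq U' U
        rw [le_bot_iff.1 ((inf_le_inf hU' hUM).trans ((inf_comm _ _).trans hMF).le), finrank_bot] at this
        omega
      · obtain ⟨x, hx, y, hy, rfl⟩ := Submodule.mem_sup.1 hw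
        rw [quad_add', hU'0 x hx, hU0 y hy, fix_orth hP.pack (hU' hx) (hUM hy), add_zero, add_zero]
    rcases Nat.even_or_odd i with hie | hio
    swap
    · have hc2i : c = 2 * i := by rw [hc_def, blockDim, if_neg (Nat.not_even_iff_odd.2 hio)]
      rcases Nat.lt_or_ge s (m / i) with hlt | hge
      · have h1 := Nat.mul_le_mul_right i hlt.le
        refine ⟨s, m - s * i, by omega, Or.inl ?_, hP.exists_sing_mov_odd hr hr2 hio
          (le_of_eq (by rw [hs, ← hc2i]))⟩
        rw [hc2i, show s * (2 * i) = 2 * (s * i) by ring] at hsn ⊢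
        omega
      · exact ⟨m / i, m % i, by omega, hmonoS, hP.exists_sing_mov_odd hr hr2 hio
          ((Nat.mul_le_mul_right _ hge).trans (le_of_eq (by rw [hs, ← hc2i])))⟩
    · set t := (r - 1) / i with ht
      have hci' : c = i := by rw [hc_def, blockDim, if_pos hie]
      have hmovge : ∀ a, a = 0 ∨ t + 2 * a ≤ s + 1 →
          ∃ U, Inv g.1.toLinearMap U ∧ U ≤ movS g.1.toLinearMap ∧ (∀ u ∈ U, Q u = 0) ∧ finrank F U = a * i :=
        fun a ha => hP.exists_sing_mov_even hr hr2 hie (ha.imp id fun h => by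
          have h1 := Nat.mul_le_mul_right i h
          rw [Nat.add_mul s, Nat.one_mul] at h1
          rw [hs]
          show (t + 2 * a) * i ≤ s * c + i
          rw [hci']
          exact h1)
      by_cases hbig : t + 2 * (m / i) ≤ s + 1
      · exact ⟨m / i, m % i, by omega, hmonoS, hmovge _ (Or.inr hbig)⟩
      · obtain ⟨A, hA, hcase⟩ : ∃ A, (A = 0 ∨ t + 2 * A ≤ s + 1) ∧ A < m / i ∧
            (s + 1 ≤ 2 * A + t ∨ s = 2 * A + t) := by
          refine ⟨(s + 1 - t) / 2, ?_, ?_, ?_⟩
          · omega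
          · have : 0 < m / i := Nat.div_pos him hi0
            omega
          · omega
        obtain ⟨hAm, hcase⟩ := hcase
        have h1 := Nat.mul_le_mul_right i hAm.le
        refine ⟨A, m - A * i, by omega, ?_, hmovge A hA⟩
        rw [hci'] at hsn ⊢
        rcases hcase with hlt | heq
        · refine Or.inl ?_
          have h3 := Nat.mul_le_mul_right i hlt
          rw [Nat.add_mul, Nat.add_mul, Nat.one_mul, Nat.mul_assoc] at h3
          rcases hroomT hie with h | ⟨h, -⟩ <;> omega
        · subst heq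
          rw [Nat.add_mul, Nat.mul_assoc] at hsn ⊢
          rcases hroomT hie with h | ⟨h, hp⟩
          · exact Or.inl (by omega)
          · refine Or.inr ⟨by omega, ?_⟩
            rw [blkType, or_iff_right (Nat.not_odd_iff_even.2 hie), Nat.even_add]
            simpa using hp

end CfsgLib.Elusive2
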