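import Cfsg.Agent.Elusive2.OrthSub

/-!
The number of totally singular subspaces of a given dimension is one modulo the characteristic.
-/

set_option autoImplicit false
set_option linter.unusedSectionVars false

namespace CfsgLib.Elusive2

open Module QuadraticMap CfsgLib.Elusive CfsgLib.Quad

variable {F V : Type*} [Field F] [Fintype F] [AddCommGroup V] [Module F V] [FiniteDimensional F V]
  {Q : QuadraticForm F V} {p : ℕ} [hp : Fact p.Prime] [CharP F p]

omit [FiniteDimensional F V] in
theorem card_field_cast : ((Fintype.card F : ℕ) : ZMod p) = 0 := by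
  obtain ⟨e, -, hcard⟩ := FiniteField.card F p
  rw [hcard, Nat.cast_pow, ZMod.natCast_self, zero_pow e.ne_zero]

theorem card_space_cast {T : Submodule F V} (hT : 0 < finrank F T) : ((Nat.card T : ℕ) : ZMod p) = 0 := by
  have : Finite V := Module.finite_of_finite F
  rw [Module.natCard_eq_pow_finrank (K := F), Nat.card_eq_fintype_card (α := F), Nat.cast_pow, card_field_cast,
    zero_pow hT.ne']

/-- Singular vectors in dimension at least three. -/
theorem card_sing_cast {T : Submodule F V} (hT : Ndg (polarBilin Q) T) (h3 : 3 ≤ finrank F T) :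
    ((Nat.card {v : V // v ∈ T ∧ Q v = 0} : ℕ) : ZMod p) = 0 := by
  classical
  have : Finite V := Module.finite_of_finite F
  obtain ⟨e, he, he0, hQe⟩ := exists_sing_sub hT h3
  obtain ⟨f, hf, hQf, hef⟩ := exists_hyp_pair hT he he0 hQe
  obtain ⟨hn, hd, -⟩ := hyp_plane_ndg hQe hQf hef
  have hle : Submodule.span F (Set.range ![e, f]) ≤ T := by
    rw [Submodule.span_le]; rintro _ ⟨j, rfl⟩; fin_cases j <;> assumption
  obtain ⟨hsup, hinf, hdim, -⟩ := exists_split polar_refl hn hle
  set R := T ⊓ perp (polarBilin Q) (Submodule.span F (Set.range ![e, f]))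
  have hRe : ∀ x ∈ R, polarBilin Q e x = 0 := fun x hx => mem_perp.1 hx.2 e (Submodule.subset_span ⟨0, rfl⟩)
  have hRf : ∀ x ∈ R, polarBilin Q f x = 0 := fun x hx => mem_perp.1 hx.2 f (Submodule.subset_span ⟨1, rfl⟩)
  have hQs : ∀ (a b : F) (x : V), x ∈ R → Q (a • e + b • f + x) = a * b + Q x := fun a b x hx => by
    rw [quad_add', quad_add', QuadraticMap.map_smul, QuadraticMap.map_smul, hQe, hQf]
    simp only [map_add, map_smul, LinearMap.add_apply, LinearMap.smul_apply, hef, hRe x hx, hRf x hx, smul_eq_mul]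
    ring
  have hee : polarBilin Q e e = 0 := by rw [polarBilin_apply_apply, polar_self, hQe, smul_zero]
  have hff : polarBilin Q f f = 0 := by rw [polarBilin_apply_apply, polar_self, hQf, smul_zero]
  have hfe : polarBilin Q f e = 1 := (polar_swap f e).trans hef
  have huniq : ∀ (a b a' b' : F) (x x' : V), x ∈ R → x' ∈ R →
      a • e + b • f + x = a' • e + b' • f + x' → a = a' ∧ b = b' ∧ x = x' := by
    intro a b a' b' x x' hx hx' h
    have h1 := congrArg (fun z => polarBilin Q f z) h
    have h2 := congrArg (fun z => polarBilin Q e z) h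
    simp only [map_add, map_smul, hfe, hff, hef, hee, hRf x hx, hRf x' hx', hRe x hx, hRe x' hx', smul_eq_mul,
      mul_one, mul_zero, add_zero, zero_add] at h1 h2
    subst h1 h2
    exact ⟨rfl, rfl, add_left_cancel h⟩
  have hmem : ∀ (a b : F) (x : V), x ∈ R → a • e + b • f + x ∈ T := fun a b x hx =>
    T.add_mem (T.add_mem (T.smul_mem a he) (T.smul_mem b hf)) hx.1
  let Φ : ({b : F // b ≠ 0} × R) ⊕ (F × {x : V // x ∈ R ∧ Q x = 0}) → {v : V // v ∈ T ∧ Q v = 0} := fun s =>
    match s with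
    | Sum.inl (b, x) => ⟨(-Q x.1 / b.1) • e + b.1 • f + x.1, hmem _ _ _ x.2, by
        rw [hQs _ _ _ x.2, div_mul_cancel₀ _ b.2]; ring⟩
    | Sum.inr (a, x) => ⟨a • e + (0 : F) • f + x.1, hmem _ _ _ x.2.1, by rw [hQs _ _ _ x.2.1, x.2.2]; ring⟩
  have hinj : Function.Injective Φ := by
    rintro (⟨b, x⟩ | ⟨a, x⟩) (⟨b', x'⟩ | ⟨a', x'⟩) h <;> have h' := congrArg Subtype.val h <;> simp only [Φ] at h'
    · obtain ⟨-, h2, h3⟩ := huniq _ _ _ _ _ _ x.2 x'.2 h'
      rw [Subtype.ext h2, Subtype.ext h3]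
    · exact absurd (huniq _ _ _ _ _ _ x.2 x'.2.1 h').2.1 b.2
    · exact absurd (huniq _ _ _ _ _ _ x.2.1 x'.2 h').2.1.symm b'.2
    · obtain ⟨h1, -, h3⟩ := huniq _ _ _ _ _ _ x.2.1 x'.2.1 h'
      rw [h1, Subtype.ext h3]
  have hsurj : Function.Surjective Φ := by
    rintro ⟨v, hv, hv0⟩
    obtain ⟨y, hy, x, hx, rfl⟩ := Submodule.mem_sup.1 (hsup.symm ▸ hv : v ∈ _ ⊔ R)
    obtain ⟨c, rfl⟩ := (Submodule.mem_span_range_iff_exists_fun F).1 hy
    simp only [Fin.sum_univ_two, Matrix.cons_val_zero, Matrix.cons_val_one] at hv hv0 ⊢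
    rw [hQs _ _ _ hx] at hv0
    rcases eq_or_ne (c 1) 0 with hb | hb
    · rw [hb, mul_zero, zero_add] at hv0
      exact ⟨Sum.inr (c 0, ⟨x, hx, hv0⟩), Subtype.ext (by simp [Φ, hb])⟩
    · refine ⟨Sum.inl (⟨c 1, hb⟩, ⟨x, hx⟩), Subtype.ext ?_⟩
      have : c 0 = -Q x / c 1 := by field_simp; linear_combination hv0
      simp [Φ, this]
  rw [← Nat.card_congr (Equiv.ofBijective Φ ⟨hinj, hsurj⟩), Nat.card_sum, Nat.card_prod, Nat.card_prod,
    Nat.cast_add, Nat.cast_mul, Nat.cast_mul, card_space_cast (T := R) (by omega), Nat.card_eq_fintype_card (α := F),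
    card_field_cast, mul_zero, zero_mul, add_zero]

/-- The lines of a cone. -/
theorem card_lines_cast (S : V → Prop) (h0 : S 0) (hS : ∀ (a : F) v, S v → S (a • v))
    (hcard : ((Nat.card {v : V // S v} : ℕ) : ZMod p) = 0) :
    ((Nat.card {L : Submodule F V // finrank F L = 1 ∧ ∀ v ∈ L, S v} : ℕ) : ZMod p) = 1 := by
  classical
  have : Finite V := Module.finite_of_finite F
  have hfinS : Finite (Submodule F V) := Finite.of_injective (fun W => (W : Set V)) SetLike.coe_injective
  let α := {L : Submodule F V // finrank F L = 1 ∧ ∀ v ∈ L, S v}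
  have := Fintype.ofFinite α
  let Φ : (Σ L : α, {v : L.1 // v ≠ 0}) ⊕ Unit → {v : V // S v} := fun s =>
    match s with
    | Sum.inl ⟨L, v⟩ => ⟨v.1.1, L.2.2 _ v.1.2⟩
    | Sum.inr _ => ⟨0, h0⟩
  have hline : ∀ (L : α) (v : V), v ∈ L.1 → v ≠ 0 → L.1 = Submodule.span F {v} := fun L v hv hv0 =>
    (Submodule.eq_of_le_of_finrank_eq (by rwa [Submodule.span_le, Set.singleton_subset_iff])
      (by rw [finrank_span_singleton hv0, L.2.1])).symm
  have hinj : Function.Injective Φ := by
    rintro (⟨L, v⟩ | u) (⟨L', v'⟩ | u') h <;> have h' := congrArg Subtype.val h <;> simp only [Φ] at h'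
    · have hv0 : v.1.1 ≠ 0 := fun e => v.2 (Subtype.ext e)
      obtain rfl : L = L' := Subtype.ext ((hline L _ v.1.2 hv0).trans
        (hline L' _ (h' ▸ v'.1.2) hv0).symm)
      rw [show v = v' from Subtype.ext (Subtype.ext h')]
    · exact absurd (Subtype.ext h') v.2
    · exact absurd (Subtype.ext h'.symm) v'.2
    · rfl
  have hsurj : Function.Surjective Φ := by
    rintro ⟨v, hv⟩
    rcases eq_or_ne v 0 with rfl | h
    · exact ⟨Sum.inr (), rfl⟩
    · refine ⟨Sum.inl ⟨⟨Submodule.span F {v}, finrank_span_singleton h, fun w hw => ?_⟩,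
        ⟨v, Submodule.mem_span_singleton_self v⟩, fun e => h (congrArg Subtype.val e)⟩, rfl⟩
      obtain ⟨a, rfl⟩ := Submodule.mem_span_singleton.1 hw
      exact hS a v hv
  have hfib : ∀ L : α, ((Nat.card {v : L.1 // v ≠ 0} : ℕ) : ZMod p) = -1 := fun L => by
    have h1 := Nat.card_congr (Equiv.sumCompl fun v : L.1 => v = 0)
    rw [Nat.card_sum, show Nat.card {v : L.1 // v = 0} = 1 from
      Nat.card_eq_one_iff_unique.2 ⟨⟨fun a b => Subtype.ext (a.2.trans b.2.symm)⟩, ⟨⟨0, rfl⟩⟩⟩] at h1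
    have h2 := card_space_cast (p := p) (T := L.1) (by rw [L.2.1]; omega)
    rw [← h1, Nat.cast_add, Nat.cast_one] at h2
    linear_combination h2
  rw [← Nat.card_congr (Equiv.ofBijective Φ ⟨hinj, hsurj⟩), Nat.card_sum, Nat.card_sigma, Nat.cast_add,
    Nat.cast_sum, Finset.sum_congr rfl fun L _ => hfib L, Finset.sum_const, Finset.card_univ, nsmul_eq_mul,
    Nat.card_unique, Nat.cast_one, ← Nat.card_eq_fintype_card] at hcard
  linear_combination -hcard

/-- The number of totally singular subspaces is one modulo the characteristic. -/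
theorem card_sing_sub_cast : ∀ (m : ℕ) (T : Submodule F V), Ndg (polarBilin Q) T → 2 * m < finrank F T →
    ((Nat.card {W : Submodule F V // W ≤ T ∧ finrank F W = m ∧ ∀ w ∈ W, Q w = 0} : ℕ) : ZMod p) = 1 := by
  classical
  intro m
  have : Finite V := Module.finite_of_finite F
  have hfinS : Finite (Submodule F V) := Finite.of_injective (fun W => (W : Set V)) SetLike.coe_injective
  induction m with
  | zero =>
    intro T _ _
    rw [Nat.card_eq_one_iff_unique.2 ⟨⟨fun a b => Subtype.ext ((Submodule.finrank_eq_zero.1 a.2.2.1).trans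
      (Submodule.finrank_eq_zero.1 b.2.2.1).symm)⟩, ⟨⟨⊥, bot_le, finrank_bot F V, fun w hw => by
        rw [(Submodule.mem_bot F).1 hw, QuadraticMap.map_zero]⟩⟩⟩, Nat.cast_one]
  | succ m ih =>
    intro T hT hd
    let β := {W : Submodule F V // W ≤ T ∧ finrank F W = m + 1 ∧ ∀ w ∈ W, Q w = 0}
    let lam := {L : Submodule F V // finrank F L = 1 ∧ ∀ v ∈ L, v ∈ T ∧ Q v = 0}
    have := Fintype.ofFinite β
    have := Fintype.ofFinite lam
    have hlam : ((Nat.card lam : ℕ) : ZMod p) = 1 :=
      card_lines_cast (fun v => v ∈ T ∧ Q v = 0) ⟨T.zero_mem, QuadraticMap.map_zero Q⟩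
        (fun a v hv => ⟨T.smul_mem a hv.1, by rw [QuadraticMap.map_smul, hv.2, smul_zero]⟩)
        (card_sing_cast hT (by omega))
    let sw : (Σ W : β, {L : lam // L.1 ≤ W.1}) ≃ (Σ L : lam, {W : β // L.1 ≤ W.1}) :=
      { toFun := fun x => ⟨x.2.1, x.1, x.2.2⟩
        invFun := fun x => ⟨x.2.1, x.1, x.2.2⟩
        left_inv := fun _ => rfl
        right_inv := fun _ => rfl }
    have h1 : ∀ W : β, ((Nat.card {L : lam // L.1 ≤ W.1} : ℕ) : ZMod p) = 1 := fun W => by
      refine Eq.trans ?_ (card_lines_cast (p := p) (fun v => v ∈ W.1) W.1.zero_mem (fun a v hv => W.1.smul_mem a hv) ?_)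
      · congr 1
        exact Nat.card_congr
          { toFun := fun L => ⟨L.1.1, L.1.2.1, fun v hv => L.2 hv⟩
            invFun := fun L => ⟨⟨L.1, L.2.1, fun v hv => ⟨W.2.1 (L.2.2 v hv), W.2.2.2 v (L.2.2 v hv)⟩⟩, L.2.2⟩
            left_inv := fun _ => rfl
            right_inv := fun _ => rfl }
      · exact card_space_cast (T := W.1) (by rw [W.2.2.1]; omega)
    have h2 : ∀ L : lam, ((Nat.card {W : β // L.1 ≤ W.1} : ℕ) : ZMod p) = 1 := by
      rintro ⟨L, hL1, hLT⟩
      obtain ⟨e, he, he0⟩ := L.exists_mem_ne_zero_of_ne_bot fun h => by rw [h, finrank_bot] at hL1; omega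
      have hLe : L = Submodule.span F {e} :=
        (Submodule.eq_of_le_of_finrank_eq (by rwa [Submodule.span_le, Set.singleton_subset_iff])
          (by rw [finrank_span_singleton he0, hL1])).symm
      obtain ⟨f, hf, hQf, hef⟩ := exists_hyp_pair hT (hLT e he).1 he0 (hLT e he).2
      obtain ⟨hn, hd2, -⟩ := hyp_plane_ndg (hLT e he).2 hQf hef
      have hle : Submodule.span F (Set.range ![e, f]) ≤ T := by
        rw [Submodule.span_le]; rintro _ ⟨j, rfl⟩; fin_cases j
        exacts [(hLT e he).1, hf]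
      obtain ⟨hsup, hinf, hdim, hnd⟩ := exists_split polar_refl hn hle
      set R := T ⊓ perp (polarBilin Q) (Submodule.span F (Set.range ![e, f])) with hR
      refine Eq.trans ?_ (ih R (hnd hT) (by omega))
      congr 1
      have heP : e ∈ Submodule.span F (Set.range ![e, f]) := Submodule.subset_span ⟨0, rfl⟩
      have hdisj : L ⊓ R = ⊥ := le_bot_iff.1 ((inf_le_inf_right R (by
        rw [hLe, Submodule.span_le, Set.singleton_subset_iff]; exact heP)).trans hinf.le)
      have hdecomp : ∀ W : β, L ≤ W.1 → L ⊔ W.1 ⊓ R = W.1 := fun W hW => by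
        refine le_antisymm (sup_le hW inf_le_left) fun w hw => ?_
        obtain ⟨y, hy, x, hx, rfl⟩ := Submodule.mem_sup.1 (hsup.symm ▸ W.2.1 hw : w ∈ _ ⊔ R)
        obtain ⟨c, rfl⟩ := (Submodule.mem_span_range_iff_exists_fun F).1 hy
        simp only [Fin.sum_univ_two, Matrix.cons_val_zero, Matrix.cons_val_one] at hw ⊢
        have hB : polarBilin Q e (c 0 • e + c 1 • f + x) = 0 :=
          iso0_of_sing W.2.2.2 e (hW he) _ hw
        simp only [map_add, map_smul, hef, mem_perp.1 hx.2 e heP, show polarBilin Q e e = 0 by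
          rw [polarBilin_apply_apply, polar_self, (hLT e he).2, smul_zero], smul_eq_mul, mul_one, mul_zero,
          add_zero, zero_add] at hB
        rw [hB, zero_smul, add_zero] at hw ⊢
        exact Submodule.mem_sup.2 ⟨_, L.smul_mem _ he, x,
          ⟨by simpa using W.1.sub_mem hw (W.1.smul_mem (c 0) (hW he)), hx⟩, rfl⟩
      exact Nat.card_congr
        { toFun := fun W => ⟨W.1.1 ⊓ R, inf_le_right, by
              have h3 := Submodule.finrank_sup_add_finrank_inf_eq L (W.1.1 ⊓ R)
              rw [hdecomp W.1 W.2, le_bot_iff.1 ((inf_le_inf_left L inf_le_right).trans hdisj.le), finrank_bot,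
                W.1.2.2.1] at h3
              omega, fun w hw => W.1.2.2.2 w hw.1⟩
          invFun := fun X => ⟨⟨L ⊔ X.1, sup_le (fun v hv => (hLT v hv).1) (X.2.1.trans inf_le_left), by
              have h3 := Submodule.finrank_sup_add_finrank_inf_eq L X.1
              rw [le_bot_iff.1 ((inf_le_inf_left L X.2.1).trans hdisj.le), finrank_bot, X.2.2.1] at h3
              omega, fun w hw => by
              obtain ⟨l, hl, x, hx, rfl⟩ := Submodule.mem_sup.1 hw
              obtain ⟨a, rfl⟩ := Submodule.mem_span_singleton.1 (hLe ▸ hl)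
              rw [quad_add', (hLT _ hl).2, X.2.2.2 x hx, map_smul, LinearMap.smul_apply,
                mem_perp.1 (X.2.1 hx).2 e heP, smul_zero, add_zero, add_zero]⟩, le_sup_left⟩
          left_inv := fun W => Subtype.ext (Subtype.ext (hdecomp W.1 W.2))
          right_inv := fun X => Subtype.ext (by
            show (L ⊔ X.1) ⊓ R = X.1
            rw [sup_comm, sup_inf_assoc_of_le _ X.2.1, hdisj, sup_bot_eq]) }
    have h3 := congrArg (fun k : ℕ => (k : ZMod p)) (Nat.card_congr sw)
    simp only [Nat.card_sigma, Nat.cast_sum, h1, h2, Finset.sum_const, Finset.card_univ, nsmul_eq_mul, mul_one,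
      ← Nat.card_eq_fintype_card] at h3
    rw [h3, hlam]

/-- The characteristic does not divide the number of totally singular subspaces. -/
theorem not_dvd_card_sing (hQ : Ndg (polarBilin Q) ⊤) {m : ℕ} (hm : 2 * m < finrank F V) :
    ¬ p ∣ Nat.card {W : Submodule F V // finrank F W = m ∧ ∀ w ∈ W, Q w = 0} := by
  intro h
  have h1 := card_sing_sub_cast (p := p) m ⊤ hQ (by rwa [finrank_top])
  rw [Nat.card_congr (Equiv.subtypeEquivRight fun W => (and_iff_right le_top :
    W ≤ (⊤ : Submodule F V) ∧ finrank F W = m ∧ (∀ w ∈ W, Q w = 0) ↔ _)),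
    (ZMod.natCast_eq_zero_iff _ p).2 h] at h1
  exact zero_ne_one h1

end CfsgLib.Elusive2
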