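import Cfsg.Agent.Elusive2.OrthSing
import Cfsg.Agent.Elusive2.OrthTwo
import Cfsg.Agent.Elusive2.OrthUnip

/-!
Totally singular subspaces fixed by elements with scalar square in odd characteristic.
-/

set_option autoImplicit false
set_option linter.unusedSectionVars false

namespace CfsgLib.Elusive2

open Module QuadraticMap CfsgLib.Elusive CfsgLib.Quad

variable {F V : Type*} [Field F] [Fintype F] [AddCommGroup V] [Module F V] [FiniteDimensional F V]
  {Q : QuadraticForm F V}

theorem ndg_line (h2 : (2 : F) ≠ 0) {v : V} (hv : Q v ≠ 0) : Ndg (polarBilin Q) (Submodule.span F {v}) := by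
  intro x hx hx0
  obtain ⟨a, rfl⟩ := Submodule.mem_span_singleton.1 hx
  refine ⟨v, Submodule.mem_span_singleton_self v, ?_⟩
  rw [map_smul, LinearMap.smul_apply, polarBilin_apply_apply, polar_self, nsmul_eq_mul, Nat.cast_ofNat, smul_eq_mul]
  exact mul_ne_zero (fun e => hx0 (by rw [e, zero_smul])) (mul_ne_zero h2 hv)

theorem neg_one_pow_square (h2 : (2 : F) ≠ 0) (c : ℕ) :
    IsSquare ((-1 : F) ^ c) ↔ (IsSquare (-1 : F) ∨ Even c) := by
  rcases Nat.even_or_odd c with h | h
  · exact iff_of_true (h.isSquare_pow _) (Or.inr h)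
  · rw [h.neg_one_pow, or_iff_left (Nat.not_even_iff_odd.2 h)]

/-- Minus one on a subspace as a product of reflections; the type of the subspace by its spinor norm. -/
theorem neg_shape (h2 : (2 : F) ≠ 0) : ∀ (k : ℕ) (W : Submodule F V), finrank F W = k → Ndg (polarBilin Q) W →
    ∃ vs : List V, (∀ v ∈ vs, Q v ≠ 0) ∧ vs.length = k ∧ (∀ x ∈ W, (reflProd Q vs).1 x = -x) ∧
      (∀ x ∈ perp (polarBilin Q) W, (reflProd Q vs).1 x = x) ∧
      ∀ j, k = 2 * j → (IsPlus Q W ↔ IsSquare ((-1 : F) ^ j * (vs.map fun v => Q v).prod)) := by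
  intro k
  induction k using Nat.strong_induction_on with
  | _ k ih =>
    intro W hd hW
    rcases Nat.lt_or_ge k 2 with hk | hk
    · rcases Nat.eq_zero_or_pos k with rfl | h0
      · rw [Submodule.finrank_eq_zero] at hd
        subst hd
        refine ⟨[], by simp, rfl, fun x hx => by rw [(Submodule.mem_bot F).1 hx]; simp, fun x _ => rfl,
          fun j hj => ?_⟩
        obtain rfl : j = 0 := by omega
        exact iff_of_true IsPlus.bot (by simp)
      · obtain rfl : k = 1 := by omega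
        obtain ⟨v, hv, hv0⟩ := exists_aniso h2 hW (by omega)
        refine ⟨[v], by simp [hv0], rfl, fun x hx => ?_, fun x hx => ?_, fun j hj => by omega⟩
        · have hspan : Submodule.span F {v} = W := Submodule.eq_of_le_of_finrank_le
            (by rwa [Submodule.span_le, Set.singleton_subset_iff])
            (by rw [hd, finrank_span_singleton fun e => hv0 (by rw [e, QuadraticMap.map_zero])])
          rw [← hspan] at hx
          obtain ⟨a, rfl⟩ := Submodule.mem_span_singleton.1 hx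
          rw [reflProd_cons, reflProd_nil, mul_one, map_smul, refl_self hv0, smul_neg]
        · rw [reflProd_cons, reflProd_nil, mul_one]
          exact refl_fix ((polar_swap x v).trans (mem_perp.1 hx v hv))
    obtain ⟨v, hv, hv0⟩ := exists_aniso h2 hW (by omega)
    obtain ⟨-, -, hdim, hnd⟩ := exists_split polar_refl (ndg_line h2 hv0)
      (by rwa [Submodule.span_le, Set.singleton_subset_iff] : Submodule.span F {v} ≤ W)
    rw [finrank_span_singleton fun e => hv0 (by rw [e, QuadraticMap.map_zero])] at hdim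
    obtain ⟨u, hu, hu0⟩ := exists_aniso h2 (hnd hW) (by omega)
    have hvu : polarBilin Q v u = 0 := mem_perp.1 hu.2 v (Submodule.mem_span_singleton_self v)
    have hvv : polarBilin Q v v = 2 * Q v := by
      rw [polarBilin_apply_apply, polar_self, nsmul_eq_mul, Nat.cast_ofNat]
    have huu : polarBilin Q u u = 2 * Q u := by
      rw [polarBilin_apply_apply, polar_self, nsmul_eq_mul, Nat.cast_ofNat]
    obtain ⟨hXn, hXd⟩ := span_pair_ndg (Q := Q) (u := v) (v := u) (by
      rw [hvu, hvv, huu, mul_zero, sub_zero]; exact mul_ne_zero (mul_ne_zero h2 hv0) (mul_ne_zero h2 hu0))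
    set X := Submodule.span F (Set.range ![v, u]) with hX
    have hXW : X ≤ W := by
      rw [hX, Submodule.span_le]; rintro _ ⟨j, rfl⟩; fin_cases j
      exacts [hv, hu.1]
    obtain ⟨hsup, hinf, hdim', hnd'⟩ := exists_split polar_refl hXn hXW
    set R := W ⊓ perp (polarBilin Q) X with hR
    obtain ⟨vs, hvs, hlen, hneg, hfix, htype⟩ := ih (k - 2) (by omega) R (by omega) (hnd' hW)
    have horth : ∀ x ∈ X, ∀ y ∈ R, polarBilin Q x y = 0 := fun x hx y hy => mem_perp.1 hy.2 x hx
    have hvX : v ∈ X := Submodule.subset_span ⟨0, rfl⟩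
    have huX : u ∈ X := Submodule.subset_span ⟨1, rfl⟩
    have hQs : ∀ a b : F, Q (a • v + b • u) = a * a * Q v + b * b * Q u := fun a b => by
      rw [quad_add', QuadraticMap.map_smul, QuadraticMap.map_smul]
      simp only [map_smul, LinearMap.smul_apply, hvu, smul_eq_mul]
      ring
    have hiff : IsPlus Q X ↔ IsSquare (-(Q v * Q u)) := by
      constructor
      · rintro ⟨U, hU, hU0, hUd⟩
        obtain ⟨x, hx, hx0⟩ := U.exists_mem_ne_zero_of_ne_bot fun e => by
          rw [e, finrank_bot, hXd] at hUd; omega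
        obtain ⟨c, hc⟩ := (Submodule.mem_span_range_iff_exists_fun F).1 (hU hx)
        simp only [Fin.sum_univ_two, Matrix.cons_val_zero, Matrix.cons_val_one] at hc
        have h := hU0 x hx
        rw [← hc, hQs] at h
        have hb : c 1 ≠ 0 := fun e => by
          rw [e, mul_zero, zero_mul, add_zero, mul_eq_zero, mul_self_eq_zero, or_iff_left hv0] at h
          exact hx0 (by rw [← hc, h, e]; simp)
        exact ⟨c 0 * Q v / c 1, by field_simp; linear_combination -h⟩
      · rintro ⟨s, hs⟩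
        refine ⟨Submodule.span F {s • v + Q v • u}, ?_, ?_, ?_⟩
        · rw [Submodule.span_le, Set.singleton_subset_iff]
          exact X.add_mem (X.smul_mem _ hvX) (X.smul_mem _ huX)
        · intro x hx
          obtain ⟨a, rfl⟩ := Submodule.mem_span_singleton.1 hx
          rw [QuadraticMap.map_smul, hQs, smul_eq_mul]
          linear_combination -(a * a * Q v) * hs
        · rw [finrank_span_singleton, hXd]
          intro e
          have h := congrArg (polarBilin Q u) e
          rw [map_add, map_smul, map_smul, polar_swap u v, hvu, huu, map_zero, smul_zero, zero_add, smul_eq_mul] at h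
          exact mul_ne_zero hv0 (mul_ne_zero h2 hu0) h
    refine ⟨v :: u :: vs, ?_, by simp [hlen]; omega, ?_, ?_, fun j hj => ?_⟩
    · simp only [List.forall_mem_cons]; exact ⟨hv0, hu0, hvs⟩
    · intro x hx
      rw [← hsup] at hx
      obtain ⟨a, ha, b, hb, rfl⟩ := Submodule.mem_sup.1 hx
      rw [reflProd_cons, reflProd_cons]
      show (refl Q v).1 ((refl Q u).1 ((reflProd Q vs).1 (a + b))) = _
      rw [map_add (reflProd Q vs).1, hneg b hb, hfix a (mem_perp.2 fun w hw => (polar_swap w a).trans (horth a ha w hw))]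
      obtain ⟨c, rfl⟩ := (Submodule.mem_span_range_iff_exists_fun F).1 ha
      simp only [Fin.sum_univ_two, Matrix.cons_val_zero, Matrix.cons_val_one, map_add, map_smul, map_neg]
      rw [refl_fix (d := u) (x := v) hvu, refl_self hu0, refl_self hv0, map_neg,
        refl_fix (d := v) (x := u) ((polar_swap u v).trans hvu),
        refl_fix (d := u) (x := b) ((polar_swap b u).trans (horth u huX b hb)),
        refl_fix (d := v) (x := b) ((polar_swap b v).trans (horth v hvX b hb))]
      module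
    · intro x hx
      rw [reflProd_cons, reflProd_cons]
      show (refl Q v).1 ((refl Q u).1 ((reflProd Q vs).1 x)) = x
      rw [hfix x (mem_perp.2 fun w hw => mem_perp.1 hx w hw.1),
        refl_fix ((polar_swap x u).trans (mem_perp.1 hx u hu.1)),
        refl_fix ((polar_swap x v).trans (mem_perp.1 hx v hv))]
    · obtain ⟨i, rfl⟩ : ∃ i, j = i + 1 := ⟨j - 1, by omega⟩
      have hp := prod_ne_zero_of_forall hvs
      rw [← hsup, isPlus_sup hXn (hnd' hW) ⟨1, by omega⟩ ⟨i, by omega⟩ hinf horth, hiff, htype i (by omega),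
        List.map_cons, List.map_cons, List.prod_cons, List.prod_cons, ← isSquare_mul_iff h2
          (neg_ne_zero.2 (mul_ne_zero hv0 hu0)) (mul_ne_zero (pow_ne_zero _ (neg_ne_zero.2 one_ne_zero)) hp),
        pow_succ]
      ring_nf

/-- The eigenspaces of an involution of the commutator subgroup. -/
theorem involution_parts (h2 : (2 : F) ≠ 0) (hQ : (polarBilin Q).Nondegenerate)
    (hgen : (∃ t : F, t ≠ 0 ∧ t ≠ 1) ∨ finrank F V ≠ 4) {g : oGroup Q} (hgC : g ∈ commutator (oGroup Q))
    (hg : ∀ v, g.1 (g.1 v) = v) :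
    ∃ (A C : Submodule F V) (c : ℕ), Ndg (polarBilin Q) A ∧ Ndg (polarBilin Q) C ∧ A ⊓ C = ⊥ ∧ A ⊔ C = ⊤ ∧
      (∀ a ∈ A, ∀ u ∈ C, polarBilin Q a u = 0) ∧ (∀ a ∈ A, g.1 a = a) ∧ (∀ u ∈ C, g.1 u = -u) ∧
      finrank F C = 2 * c ∧ finrank F A + 2 * c = finrank F V ∧
      (IsPlus Q C ↔ (IsSquare (-1 : F) ∨ Even c)) := by
  set A := LinearMap.ker (g.1.toLinearMap - 1)
  set C := LinearMap.ker (g.1.toLinearMap + 1)
  have hA : ∀ v ∈ A, g.1 v = v := fun v hv => sub_eq_zero.1 (LinearMap.mem_ker.1 hv)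
  have hC : ∀ v ∈ C, g.1 v = -v := fun v hv => eq_neg_of_add_eq_zero_left (LinearMap.mem_ker.1 hv)
  have horth : ∀ a ∈ A, ∀ c ∈ C, polarBilin Q a c = 0 := fun a ha c hc => by
    have h := bilin_isom g a c
    rw [hA a ha, hC c hc, map_neg] at h
    exact (mul_eq_zero.1 (by linear_combination -h : (2 : F) * polarBilin Q a c = 0)).resolve_left h2
  have hsup : A ⊔ C = ⊤ := eq_top_iff.2 fun v _ => Submodule.mem_sup.2
    ⟨(2 : F)⁻¹ • (v + g.1 v), LinearMap.mem_ker.2 (by simp [hg, smul_add]; abel),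
      (2 : F)⁻¹ • (v - g.1 v), LinearMap.mem_ker.2 (by simp [hg, smul_sub]), by
      rw [← smul_add, show v + g.1 v + (v - g.1 v) = (2 : F) • v by rw [two_smul]; abel, smul_smul,
        inv_mul_cancel₀ h2, one_smul]⟩
  have hinf : A ⊓ C = ⊥ := (Submodule.eq_bot_iff _).2 fun v hv => by
    have h := (hA v hv.1).symm.trans (hC v hv.2)
    have h3 : (2 : F) • v = 0 := by rw [two_smul]; nth_rewrite 1 [h]; exact neg_add_cancel v
    exact (smul_eq_zero.1 h3).resolve_left h2
  have hndg : ∀ {X Y : Submodule F V}, X ⊔ Y = ⊤ → (∀ x ∈ X, ∀ y ∈ Y, polarBilin Q x y = 0) →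
      Ndg (polarBilin Q) X := by
    intro X Y hs ho u hu h0
    obtain ⟨v, -, hne⟩ := ndg_top_iff.2 hQ u trivial h0
    obtain ⟨x, hx, y, hy, rfl⟩ := Submodule.mem_sup.1 (hs.symm ▸ Submodule.mem_top : v ∈ X ⊔ Y)
    exact ⟨x, hx, by rwa [map_add, ho u hu y hy, add_zero] at hne⟩
  have hAn := hndg hsup horth
  have hCn := hndg ((sup_comm C A).trans hsup) fun x hx y hy => (polar_swap x y).trans (horth y hy x hx)
  have hsum : finrank F A + finrank F C = finrank F V := by
    have := Submodule.finrank_sup_add_finrank_inf_eq A C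
    rw [hsup, hinf, finrank_bot, finrank_top] at this
    omega
  obtain ⟨vs, hvs, hlen, hneg, hfix, htype⟩ := neg_shape h2 _ C rfl hCn
  have heq : g = reflProd Q vs := Subtype.ext (LinearEquiv.ext fun v => by
    obtain ⟨a, ha, c, hc, rfl⟩ := Submodule.mem_sup.1 (hsup.symm ▸ Submodule.mem_top : v ∈ A ⊔ C)
    rw [map_add, map_add, hA a ha, hC c hc, hneg c hc,
      hfix a (mem_perp.2 fun w hw => (polar_swap w a).trans (horth a ha w hw))])
  rw [heq, reflProd_mem_commutator_iff hQ hgen hvs, hlen] at hgC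
  obtain ⟨⟨c, hc⟩, hsq⟩ := hgC
  refine ⟨A, C, c, hAn, hCn, hinf, hsup, horth, hA, hC, by omega, by omega, ?_⟩
  have hp := prod_ne_zero_of_forall hvs
  rw [htype c (by omega), isSquare_mul_iff h2 (pow_ne_zero _ (neg_ne_zero.2 one_ne_zero)) hp,
    iff_true_intro hsq, iff_true, neg_one_pow_square h2]

/-- The Witt index of an even dimensional space, as a bound. -/
theorem exists_witt {T : Submodule F V} {c : ℕ} (hd : finrank F T = 2 * c) :
    ∃ ν, Room (2 * c) ν (IsPlus Q T) ∧ ν ≤ c ∧ c ≤ ν + 1 ∧ (IsPlus Q T → ν = c) := by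
  classical
  by_cases hp : IsPlus Q T
  · exact ⟨c, Or.inr ⟨rfl, hp⟩, le_rfl, Nat.le_succ c, fun _ => rfl⟩
  · rcases Nat.eq_zero_or_pos c with rfl | hc
    · refine absurd ?_ hp
      rw [Submodule.finrank_eq_zero.1 (show finrank F T = 0 by omega)]
      exact IsPlus.bot
    · exact ⟨c - 1, Or.inl (by omega), by omega, by omega, fun h => absurd h hp⟩

/-- Joining totally singular parts of the eigenspaces. -/
theorem sing_join {g : oGroup Q} {A C : Submodule F V} (hAn : Ndg (polarBilin Q) A) (hCn : Ndg (polarBilin Q) C)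
    (hinf : A ⊓ C = ⊥) (horth : ∀ a ∈ A, ∀ u ∈ C, polarBilin Q a u = 0) (hA : ∀ a ∈ A, g.1 a = a)
    (hC : ∀ u ∈ C, g.1 u = -u) {b₁ b₂ : ℕ} (h₁ : Room (finrank F A) b₁ (IsPlus Q A))
    (h₂ : Room (finrank F C) b₂ (IsPlus Q C)) :
    ∃ W : Submodule F V, finrank F W = b₁ + b₂ ∧ (∀ w ∈ W, Q w = 0) ∧ Inv g.1.toLinearMap W := by
  obtain ⟨U, hU, hU0, hUd⟩ := exists_sing b₁ hAn h₁
  obtain ⟨U', hU', hU'0, hU'd⟩ := exists_sing b₂ hCn h₂
  refine ⟨U ⊔ U', ?_, fun w hw => ?_, fun w hw => ?_⟩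
  · have := Submodule.finrank_sup_add_finrank_inf_eq U U'
    rw [le_bot_iff.1 ((inf_le_inf hU hU').trans hinf.le), finrank_bot] at this
    omega
  · obtain ⟨x, hx, y, hy, rfl⟩ := Submodule.mem_sup.1 hw
    rw [quad_add', hU0 x hx, hU'0 y hy, horth x (hU hx) y (hU' hy), add_zero, add_zero]
  · obtain ⟨x, hx, y, hy, rfl⟩ := Submodule.mem_sup.1 hw
    show g.1 (x + y) ∈ U ⊔ U'
    rw [map_add, hA x (hU hx), hC y (hU' hy)]
    exact Submodule.add_mem_sup hx (U'.neg_mem hy)

/-- Involutions fix totally singular subspaces, even dimension. -/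
theorem involution_sing_even (h2 : (2 : F) ≠ 0) (hQ : (polarBilin Q).Nondegenerate)
    (hgen : (∃ t : F, t ≠ 0 ∧ t ≠ 1) ∨ finrank F V ≠ 4) {d m : ℕ} (hn : finrank F V = 2 * d) (hmd : m < d)
    (hcond : IsPlus Q ⊤ → IsSquare (-1 : F) ∨ m + 2 ≤ d) {g : oGroup Q}
    (hgC : g ∈ commutator (oGroup Q)) (hg : ∀ v, g.1 (g.1 v) = v) :
    ∃ W : Submodule F V, finrank F W = m ∧ (∀ w ∈ W, Q w = 0) ∧ Inv g.1.toLinearMap W := by
  obtain ⟨A, C, c, hAn, hCn, hinf, hsup, horth, hA, hC, hCd, hAd, htype⟩ := involution_parts h2 hQ hgen hgC hg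
  rw [hn] at hAd
  have hAd' : finrank F A = 2 * (d - c) := by omega
  obtain ⟨νC, h₂, h21, h22, h23⟩ := exists_witt (Q := Q) hCd
  obtain ⟨νA, h₁, h11, h12, h13⟩ := exists_witt (Q := Q) hAd'
  have hsum : IsPlus Q ⊤ ↔ (IsPlus Q A ↔ IsPlus Q C) := by
    rw [← hsup]
    exact isPlus_sup hAn hCn ⟨d - c, by omega⟩ ⟨c, by omega⟩ hinf horth
  have hle : m ≤ νA + νC := by
    by_cases hC' : IsPlus Q C
    · have := h23 hC'
      omega
    · have h3 : IsPlus Q ⊤ ∨ IsPlus Q A := by
        by_cases hA' : IsPlus Q A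
        · exact Or.inr hA'
        · exact Or.inl (hsum.2 (iff_of_false hA' hC'))
      rcases h3 with h3 | h3
      · rcases hcond h3 with h4 | h4
        · exact absurd (htype.2 (Or.inl h4)) hC'
        · omega
      · have := h13 h3
        omega
  rw [← hAd'] at h₁
  rw [← hCd] at h₂
  obtain ⟨W, h3, h4, h5⟩ := sing_join hAn hCn hinf horth hA hC
    (h₁.mono (min_le_right m νA)) (h₂.mono (show m - min m νA ≤ νC by omega))
  exact ⟨W, by omega, h4, h5⟩

/-- Involutions fix totally singular subspaces, odd dimension. -/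
theorem involution_sing_odd (h2 : (2 : F) ≠ 0) (hQ : (polarBilin Q).Nondegenerate)
    (hgen : (∃ t : F, t ≠ 0 ∧ t ≠ 1) ∨ finrank F V ≠ 4) {d m : ℕ} (hn : finrank F V = 2 * d + 1) (hmd : m ≤ d)
    (hcond : IsSquare (-1 : F) ∨ m < d) {g : oGroup Q}
    (hgC : g ∈ commutator (oGroup Q)) (hg : ∀ v, g.1 (g.1 v) = v) :
    ∃ W : Submodule F V, finrank F W = m ∧ (∀ w ∈ W, Q w = 0) ∧ Inv g.1.toLinearMap W := by
  obtain ⟨A, C, c, hAn, hCn, hinf, hsup, horth, hA, hC, hCd, hAd, htype⟩ := involution_parts h2 hQ hgen hgC hg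
  rw [hn] at hAd
  obtain ⟨νC, h₂, h21, h22, h23⟩ := exists_witt (Q := Q) hCd
  have hνC : m - min m (d - c) ≤ νC := by
    rcases hcond with h | h
    · have := h23 (htype.2 (Or.inl h))
      omega
    · omega
  rw [← hCd] at h₂
  obtain ⟨W, h3, h4, h5⟩ := sing_join hAn hCn hinf horth hA hC
    (b₁ := min m (d - c)) (Or.inl (by omega)) (h₂.mono hνC)
  exact ⟨W, by omega, h4, h5⟩

/-- An involution without invariant totally singular subspaces meeting a minus plane. -/
theorem exists_involution_no_sing (h2 : (2 : F) ≠ 0) (hns : ¬ IsSquare (-1 : F))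
    (hQ : (polarBilin Q).Nondegenerate) (hn : 3 ≤ finrank F V) :
    ∃ g : oGroup Q, g ∈ commutator (oGroup Q) ∧ g * g = 1 ∧ (∀ z : F, ∃ v, g.1 v ≠ z • v) ∧
      ∀ W : Submodule F V, Inv g.1.toLinearMap W → (∀ w ∈ W, Q w = 0) →
        2 * finrank F W + 2 < finrank F V ∨ (2 * finrank F W + 2 = finrank F V ∧ ¬ IsPlus Q ⊤) := by
  have hQt := ndg_top_iff.2 hQ
  obtain ⟨C, hCn, -, hCd, hCp⟩ := exists_plane_type hQt (by rw [finrank_top]; exact hn) False
  have hgen : (∃ t : F, t ≠ 0 ∧ t ≠ 1) ∨ finrank F V ≠ 4 :=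
    Or.inl ⟨-1, neg_ne_zero.2 one_ne_zero, fun e => h2 (by linear_combination -e)⟩
  obtain ⟨vs, hvs, hlen, hneg, hfix, htype⟩ := neg_shape h2 2 C hCd hCn
  obtain ⟨hsup, hinf, hdim, hnd⟩ := exists_split (T := ⊤) polar_refl hCn le_top
  rw [top_inf_eq] at hsup hinf hdim hnd
  rw [finrank_top, hCd] at hdim
  have hAn := hnd hQt
  set g := reflProd Q vs with hgdef
  have hgC : g ∈ commutator (oGroup Q) := by
    refine (reflProd_mem_commutator_iff hQ hgen hvs).2 ⟨⟨1, hlen⟩, ?_⟩
    have h1 := (htype 1 rfl).not.1 (fun h => hCp.1 h)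
    rw [pow_one] at h1
    by_contra hnsq
    exact h1 ((isSquare_mul_iff h2 (neg_ne_zero.2 one_ne_zero) (prod_ne_zero_of_forall hvs)).2
      (iff_of_false hns hnsq))
  refine ⟨g, hgC, ?_, fun z => ?_, fun W hW hW0 => ?_⟩
  · refine Subtype.ext (LinearEquiv.ext fun v => ?_)
    obtain ⟨c, hc, a, ha, rfl⟩ := Submodule.mem_sup.1
      (hsup.symm ▸ Submodule.mem_top : v ∈ C ⊔ perp (polarBilin Q) C)
    show g.1 (g.1 (c + a)) = c + a
    rw [map_add, hneg c hc, hfix a ha, map_add, map_neg, hneg c hc, hfix a ha, neg_neg]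
  · by_contra hall
    push Not at hall
    obtain ⟨c, hc, hc0⟩ := exists_aniso h2 hCn (by omega)
    obtain ⟨a, ha, ha0⟩ := exists_aniso h2 hAn (by omega)
    have h1 : (z + 1) • c = 0 := by rw [add_smul, one_smul, ← hall, hneg c hc, neg_add_cancel]
    have h3 : (z - 1) • a = 0 := by rw [sub_smul, one_smul, ← hall, hfix a ha, sub_self]
    have hz1 := (smul_eq_zero.1 h1).resolve_right fun e => hc0 (by rw [e, QuadraticMap.map_zero])
    have hz2 := (smul_eq_zero.1 h3).resolve_right fun e => ha0 (by rw [e, QuadraticMap.map_zero])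
    exact h2 (by linear_combination hz1 - hz2)
  · have hle : W ≤ perp (polarBilin Q) C := by
      intro w hw
      obtain ⟨c, hc, a, ha, rfl⟩ := Submodule.mem_sup.1
        (hsup.symm ▸ Submodule.mem_top : w ∈ C ⊔ perp (polarBilin Q) C)
      have h1 : g.1 (c + a) ∈ W := hW _ hw
      have h3 : (2 : F) • c ∈ W := by
        have := W.sub_mem hw h1
        rw [map_add, hneg c hc, hfix a ha, show c + a - (-c + a) = c + c by abel, ← two_smul F c] at this
        exact this
      have hQc : Q c = 0 := hW0 c ((W.smul_mem_iff h2).1 h3)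
      have hc0 : c = 0 := by
        by_contra hne
        refine hCp.1 ⟨Submodule.span F {c}, by rwa [Submodule.span_le, Set.singleton_subset_iff], ?_, ?_⟩
        · intro x hx
          obtain ⟨s, rfl⟩ := Submodule.mem_span_singleton.1 hx
          rw [QuadraticMap.map_smul, hQc, smul_zero]
        · rw [finrank_span_singleton hne, hCd]
      rwa [hc0, zero_add]
    rcases sing_room hAn hle hW0 with h | ⟨h, hp⟩
    · exact Or.inl (by omega)
    · refine Or.inr ⟨by omega, fun htop => hCp.1 ?_⟩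
      rw [← hsup, isPlus_sup hCn hAn ⟨1, hCd⟩ ⟨finrank F W, by omega⟩ hinf
        fun x hx y hy => mem_perp.1 hy x hx] at htop
      exact htop.2 hp

/-- Totally singular subspaces of even dimension fixed by a square root of `-1`. -/
theorem quarter_sing_even (h2 : (2 : F) ≠ 0) (hns : ¬ IsSquare (-1 : F)) {f : oGroup Q}
    (hf : ∀ v, f.1 (f.1 v) = -v) :
    ∀ (j : ℕ) (T : Submodule F V), Ndg (polarBilin Q) T → Inv f.1.toLinearMap T → 4 * j ≤ finrank F T →
      ∃ U ≤ T, Inv f.1.toLinearMap U ∧ (∀ u ∈ U, Q u = 0) ∧ finrank F U = 2 * j := by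
  intro j
  induction j with
  | zero =>
    exact fun T _ _ _ => ⟨⊥, bot_le, fun x hx => by rw [(Submodule.mem_bot F).1 hx, map_zero]; exact zero_mem _,
      fun u hu => by rw [(Submodule.mem_bot F).1 hu, QuadraticMap.map_zero], finrank_bot F V⟩
  | succ j ih =>
    intro T hT hTi hd
    obtain ⟨k, hk, -, -, hsub⟩ := quarter_shape h2 hf _ T le_rfl hT hTi
    obtain ⟨X, hXT, hXn, hXi, hXd⟩ := hsub 2 (by omega)
    obtain ⟨k', hk', -, -, hsub'⟩ := quarter_shape h2 hf _ X le_rfl hXn hXi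
    obtain ⟨P, hPX, hPn, hPi, hPd⟩ := hsub' 1 (by omega)
    obtain ⟨v, hv, hv0⟩ := exists_aniso h2 hPn (by omega)
    obtain ⟨-, -, hdP, hndP⟩ := exists_split polar_refl hPn hPX
    obtain ⟨w, hw, hQw⟩ := represents (hndP hXn) (by omega) (-Q v)
    have hvw : polarBilin Q v w = 0 := mem_perp.1 hw.2 v hv
    have hQx : Q (v + w) = 0 := by rw [quad_add', hQw, hvw, add_zero, add_neg_cancel]
    set x := v + w with hx
    have hxX : x ∈ X := X.add_mem (hPX hv) hw.1
    have hfxX : f.1 x ∈ X := hXi x hxX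
    have hxfx : polarBilin Q x (f.1 x) = 0 := by
      have h := bilin_isom f x (f.1 x)
      rw [hf, map_neg, polar_swap (f.1 x) x] at h
      exact (mul_eq_zero.1 (by linear_combination -h : (2 : F) * polarBilin Q x (f.1 x) = 0)).resolve_left h2
    have hx0 : x ≠ 0 := fun e => hv0 (by
      have hvP : v ∈ P ⊓ perp (polarBilin Q) P := ⟨hv, by
        rw [eq_neg_of_add_eq_zero_left (a := v) (b := w) e]; exact Submodule.neg_mem _ hw.2⟩
      rw [inf_perp polar_refl hPn, Submodule.mem_bot] at hvP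
      rw [hvP, QuadraticMap.map_zero])
    have hli : LinearIndependent F ![x, f.1 x] := LinearIndependent.pair_iff.2 fun s t hst => by
      by_cases ht : t = 0
      · subst ht
        rw [zero_smul, add_zero] at hst
        exact ⟨(smul_eq_zero.1 hst).resolve_right hx0, rfl⟩
      · refine absurd ⟨s / t, ?_⟩ hns
        have h1 : f.1 x = (-(s / t)) • x := by
          have h0 : t⁻¹ • (s • x + t • f.1 x) = 0 := by rw [hst, smul_zero]
          rw [smul_add, smul_smul, smul_smul, inv_mul_cancel₀ ht, one_smul] at h0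
          rw [eq_neg_of_add_eq_zero_right h0, neg_smul, div_eq_inv_mul]
        have h3 : f.1 (f.1 x) = ((-(s / t)) * (-(s / t))) • x := by rw [h1, map_smul, h1, smul_smul]
        rw [hf] at h3
        have h4 : ((-(s / t)) * (-(s / t)) + 1) • x = 0 := by rw [add_smul, one_smul, ← h3, neg_add_cancel]
        linear_combination -((smul_eq_zero.1 h4).resolve_right hx0)
    set U := Submodule.span F (Set.range ![x, f.1 x]) with hU
    have hUX : U ≤ X := by
      rw [hU, Submodule.span_le]; rintro _ ⟨i, rfl⟩; fin_cases i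
      exacts [hxX, hfxX]
    have hU0 : ∀ u ∈ U, Q u = 0 := fun u hu => by
      obtain ⟨c, rfl⟩ := (Submodule.mem_span_range_iff_exists_fun F).1 hu
      simp only [Fin.sum_univ_two, Matrix.cons_val_zero, Matrix.cons_val_one]
      rw [quad_add', QuadraticMap.map_smul, QuadraticMap.map_smul, hQx, f.2, hQx]
      simp [hxfx]
    have hUi : Inv f.1.toLinearMap U := fun u hu => by
      obtain ⟨c, rfl⟩ := (Submodule.mem_span_range_iff_exists_fun F).1 hu
      simp only [Fin.sum_univ_two, Matrix.cons_val_zero, Matrix.cons_val_one, map_add, map_smul,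
        LinearEquiv.coe_coe, hf]
      exact U.add_mem (U.smul_mem _ (Submodule.subset_span ⟨1, rfl⟩))
        (U.smul_mem _ (U.neg_mem (Submodule.subset_span ⟨0, rfl⟩)))
    obtain ⟨-, -, hdX, hndX⟩ := exists_split polar_refl hXn hXT
    obtain ⟨U', hU'T, hU'i, hU'0, hU'd⟩ := ih (T ⊓ perp (polarBilin Q) X) (hndX hT)
      (fun y hy => ⟨hTi y hy.1, inv_perp (g := f) hXi y hy.2⟩) (by omega)
    refine ⟨U ⊔ U', sup_le (hUX.trans hXT) (hU'T.trans inf_le_left), fun z hz => ?_, fun z hz => ?_, ?_⟩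
    · obtain ⟨a, ha, b, hb, rfl⟩ := Submodule.mem_sup.1 hz
      rw [map_add]
      exact Submodule.add_mem_sup (hUi a ha) (hU'i b hb)
    · obtain ⟨a, ha, b, hb, rfl⟩ := Submodule.mem_sup.1 hz
      rw [quad_add', hU0 a ha, hU'0 b hb, mem_perp.1 (hU'T hb).2 a (hUX ha), add_zero, add_zero]
    · have := Submodule.finrank_sup_add_finrank_inf_eq U U'
      rw [le_bot_iff.1 ((inf_le_inf hUX (hU'T.trans inf_le_right)).trans (inf_perp polar_refl hXn).le),
        finrank_bot] at this
      have h2U : finrank F U = 2 := by rw [hU, finrank_span_eq_card hli, Fintype.card_fin]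
      omega

/-- Totally singular subspaces fixed by a square root of `-1`. -/
theorem quarter_sing_iff (h2 : (2 : F) ≠ 0) (hQ : (polarBilin Q).Nondegenerate) {d m : ℕ}
    (hn : finrank F V = 2 * d) (hmd : m < d) {f : oGroup Q} (hf : ∀ v, f.1 (f.1 v) = -v) :
    (∃ W : Submodule F V, (finrank F W = m ∧ ∀ w ∈ W, Q w = 0) ∧ Inv f.1.toLinearMap W) ↔
      (IsSquare (-1 : F) ∨ Even m) := by
  have hQt := ndg_top_iff.2 hQ
  constructor
  · rintro ⟨W, ⟨hd, -⟩, hinv⟩
    rcases Nat.even_or_odd m with he | ho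
    · exact Or.inr he
    · refine Or.inl ?_
      let fW : W →ₗ[F] W := f.1.toLinearMap.restrict hinv
      have hsq : fW.comp fW = (-1 : F) • LinearMap.id := LinearMap.ext fun w => Subtype.ext (by
        show f.1 (f.1 (w : V)) = (-1 : F) • (w : V)
        rw [hf, neg_one_smul])
      have h := congrArg LinearMap.det hsq
      rw [LinearMap.det_comp, LinearMap.det_smul, LinearMap.det_id, mul_one, hd, ho.neg_one_pow] at h
      exact ⟨_, h.symm⟩
  · intro h
    by_cases hsq : IsSquare (-1 : F)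
    · obtain ⟨s, hs⟩ := hsq
      have hs0 : s ≠ 0 := fun e => one_ne_zero (α := F) (by rw [e] at hs; linear_combination -hs)
      have hE : ∀ c : F, c * c = -1 → ∀ v ∈ LinearMap.ker (f.1.toLinearMap - c • 1), Q v = 0 ∧ f.1 v = c • v := by
        intro c hc v hv
        have h1 : f.1 v = c • v := sub_eq_zero.1 (LinearMap.mem_ker.1 hv)
        refine ⟨?_, h1⟩
        have h3 := f.2 v
        rw [h1, QuadraticMap.map_smul, hc, smul_eq_mul] at h3
        exact (mul_eq_zero.1 (by linear_combination -h3 : (2 : F) * Q v = 0)).resolve_left h2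
      set E := LinearMap.ker (f.1.toLinearMap - s • 1)
      set E' := LinearMap.ker (f.1.toLinearMap - (-s) • 1)
      have hsup : E ⊔ E' = ⊤ := eq_top_iff.2 fun v _ => by
        have key : ∀ c : F, c * c = -1 → (2 * c)⁻¹ • (f.1 v + c • v) ∈ LinearMap.ker (f.1.toLinearMap - c • 1) :=
          fun c hc => by
          rw [LinearMap.mem_ker]
          show f.1 ((2 * c)⁻¹ • (f.1 v + c • v)) - c • ((2 * c)⁻¹ • (f.1 v + c • v)) = 0
          rw [map_smul, map_add, hf, map_smul, smul_comm c, ← smul_sub,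
            show -v + c • f.1 v - c • (f.1 v + c • v) = (-(1 + c * c)) • v by module, hc, add_neg_cancel, neg_zero,
            zero_smul, smul_zero]
        refine Submodule.mem_sup.2 ⟨_, key s hs.symm, _, key (-s) (by rw [neg_mul_neg]; exact hs.symm), ?_⟩
        rw [mul_neg, inv_neg]
        match_scalars <;> field_simp <;> ring
      have hb : ∀ c : F, c * c = -1 → finrank F (LinearMap.ker (f.1.toLinearMap - c • 1)) ≤ d := fun c hc => by
        have := (iso0_of_sing (Q := Q) fun u hu => (hE c hc u hu).1).two_mul_le polar_refl le_top hQt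
        rw [finrank_top, hn] at this
        omega
      have hdE : d ≤ finrank F E := by
        have h1 := Submodule.finrank_add_le_finrank_add_finrank E E'
        have h3 := hb (-s) (by rw [neg_mul_neg]; exact hs.symm)
        change finrank F E' ≤ d at h3
        rw [hsup, finrank_top, hn] at h1
        omega
      obtain ⟨W, hWE, hWd⟩ : ∃ W ≤ E, finrank F W = m := by
        let b := Module.finBasis F E
        have hli : LinearIndependent F (fun i : Fin m => ((b (i.castLE (hmd.le.trans hdE))) : V)) :=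
          (b.linearIndependent.comp _ (Fin.castLE_injective _)).map' E.subtype (Submodule.ker_subtype E)
        refine ⟨_, Submodule.span_le.2 ?_, (finrank_span_eq_card hli).trans (Fintype.card_fin m)⟩
        rintro _ ⟨i, rfl⟩
        exact Submodule.coe_mem _
      refine ⟨W, ⟨hWd, fun w hw => (hE s hs.symm w (hWE hw)).1⟩, fun w hw => ?_⟩
      show f.1 w ∈ W
      rw [(hE s hs.symm w (hWE hw)).2]
      exact W.smul_mem _ hw
    · obtain ⟨j, hj⟩ := h.resolve_left hsq
      obtain ⟨U, -, hUi, hU0, hUd⟩ := quarter_sing_even h2 hsq hf j ⊤ hQt (fun x _ => trivial)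
        (by rw [finrank_top, hn]; omega)
      exact ⟨U, ⟨by omega, hU0⟩, hUi⟩

/-- The criterion for elements with scalar square. -/
theorem forall_two_comm_iff {ι : Type} [Fintype ι] [DecidableEq ι] [Nonempty ι] {Q : QuadraticForm F (ι → F)}
    (h2 : (2 : F) ≠ 0) (hQ : (polarBilin Q).Nondegenerate)
    (hgen : (∃ t : F, t ≠ 0 ∧ t ≠ 1) ∨ finrank F (ι → F) ≠ 4) {d : ℕ} (hn : finrank F (ι → F) = 2 * d)
    (P : Submodule F (ι → F) → Prop) (Inv2 Feas : Prop)
    (hsuff : Inv2 → ∀ f : oGroup Q, f ∈ commutator (oGroup Q) → (∀ v, f.1 (f.1 v) = v) →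
      ∃ W, P W ∧ Inv f.1.toLinearMap W)
    (hnec : ¬ Inv2 → ∃ f : oGroup Q, f ∈ commutator (oGroup Q) ∧ f * f = 1 ∧ (∀ z : F, ∃ v, f.1 v ≠ z • v) ∧
      ∀ W, P W → ¬ Inv f.1.toLinearMap W)
    (hquart : ∀ f : oGroup Q, (∀ v, f.1 (f.1 v) = -v) → ((∃ W, P W ∧ Inv f.1.toLinearMap W) ↔ Feas)) :
    (∀ x : GL ι F, x ∈ Cfsg.Geo.omegaGL ⇑Q →
      (∃ z : F, ((x ^ 2 : GL ι F) : Matrix ι ι F) = z • (1 : Matrix ι ι F)) →
      (∀ z : F, (x : Matrix ι ι F) ≠ z • (1 : Matrix ι ι F)) →
      ∃ W : Submodule F (ι → F), P W ∧ W.map (Matrix.toLin' (x : Matrix ι ι F)) ≤ W) ↔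
    (Inv2 ∧ ((IsPlus Q ⊤ ↔ (IsSquare (-1 : F) ∨ Even d)) ∧ (Even d ∨ IsSquare (2 : F)) → Feas)) := by
  have hd0 : 0 < finrank F (ι → F) := by rw [finrank_fintype_fun_eq_card]; exact Fintype.card_pos
  obtain ⟨v₀, -, hv₀⟩ := exists_aniso h2 (ndg_top_iff.2 hQ) (by rwa [finrank_top])
  have hsq : ∀ (g : oGroup Q) (z : F), (∀ v, g.1 v = z • v) → z * z = 1 := fun g z h => by
    have := g.2 v₀
    rw [h, QuadraticMap.map_smul, smul_eq_mul] at this
    exact mul_right_cancel₀ hv₀ (this.trans (one_mul _).symm)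
  constructor
  · intro h
    refine ⟨by_contra fun hI => ?_, fun hex => ?_⟩
    · obtain ⟨f, hf, hff, hns, hno⟩ := hnec hI
      obtain ⟨x, hx, hv, hk, -⟩ := exists_matrix hf
      obtain ⟨W, hW, hle⟩ := h x hx ⟨1, by rw [hk 2 (by rw [pow_two]; exact hff), one_smul]; rfl⟩ fun z hz => by
        obtain ⟨v, hv'⟩ := hns z
        exact hv' (by rw [← hv, hz, Matrix.smul_mulVec, Matrix.one_mulVec])
      exact hno W hW ((map_le_iff hv W).1 hle)
    · obtain ⟨g, hg, hgg⟩ := (exists_omega_quarter_iff h2 hQ hgen hn).2 hex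
      obtain ⟨x, hx, hv, -, -⟩ := exists_matrix hg
      refine (hquart g hgg).1 ?_
      obtain ⟨W, hW, hle⟩ := h x hx ⟨-1, Matrix.ext_of_mulVec_single fun i => by
          rw [pow_two, Units.val_mul, ← Matrix.mulVec_mulVec, hv, hv, hgg, Matrix.smul_mulVec, Matrix.one_mulVec,
            neg_one_smul]⟩ fun z hz => by
        have hgz : ∀ v, g.1 v = z • v := fun v => by rw [← hv, hz, Matrix.smul_mulVec, Matrix.one_mulVec]
        have h1 := hgg v₀
        rw [hgz, hgz, smul_smul, hsq g z hgz, one_smul] at h1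
        have h3 : (2 : F) • v₀ = 0 := by rw [two_smul]; nth_rewrite 2 [h1]; exact add_neg_cancel v₀
        exact hv₀ (by rw [(smul_eq_zero.1 h3).resolve_left h2, QuadraticMap.map_zero])
      exact ⟨W, hW, (map_le_iff hv W).1 hle⟩
  · rintro ⟨hI, h⟩ x hx ⟨z, hz⟩ -
    obtain ⟨g, hg, hv⟩ := exists_elt hx
    have hgg : ∀ v, g.1 (g.1 v) = z • v := fun v => by
      rw [← hv, ← hv, Matrix.mulVec_mulVec, ← Units.val_mul, ← pow_two, hz, Matrix.smul_mulVec, Matrix.one_mulVec]
    obtain ⟨W, hW, hinv⟩ : ∃ W, P W ∧ Inv g.1.toLinearMap W := by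
      rcases mul_self_eq_one_iff.1 (hsq (g * g) z hgg) with rfl | rfl
      · exact hsuff hI g hg fun v => by rw [hgg, one_smul]
      · have hneg : ∀ v, g.1 (g.1 v) = -v := fun v => by rw [hgg, neg_one_smul]
        exact (hquart g hneg).2 (h ((exists_omega_quarter_iff h2 hQ hgen hn).1 ⟨g, hg, hneg⟩))
    exact ⟨W, hW, (map_le_iff hv W).2 hinv⟩

end CfsgLib.Elusive2
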