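import Cfsg.Agent.Elusive2.OrthSing
import Cfsg.Agent.Elusive2.OrthSingCount
import Cfsg.Agent.Elusive2.OrthSingTwo
import Cfsg.Agent.Elusive2.OrthPlusMinus

/-!
Arithmetic of the criterion for totally singular subspaces.
-/

set_option autoImplicit false

namespace CfsgLib.Elusive2

theorem mul_cases (X N i : ℕ) :
    (X < N → X * i + i ≤ N * i) ∧ (X = N → X * i = N * i) ∧ (N < X → N * i + i ≤ X * i) := by
  refine ⟨fun h => ?_, fun h => by rw [h], fun h => ?_⟩ <;>
  · have := Nat.mul_le_mul_right i (Nat.succ_le_of_lt h)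
    rw [Nat.succ_mul] at this
    omega

/-- The data of the criterion for even `i`. -/
theorem sing_data (n m i t : ℕ) :
    2 * m + t * i = (t + 2 * (m / i)) * i + 2 * (m % i) ∧ n = n / i * i + n % i := by
  have h1 := Nat.div_add_mod m i
  have h2 := Nat.div_add_mod n i
  refine ⟨?_, by rw [Nat.mul_comm]; omega⟩
  rw [Nat.add_mul, Nat.mul_assoc]
  rw [Nat.mul_comm] at h1
  omega

end CfsgLib.Elusive2
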