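import Cfsg.Agent.Elusive2.Form
import Cfsg.Agent.QuadStd.Split
import Cfsg.Agent.Quad.Plane
import Mathlib.NumberTheory.LegendreSymbol.AddCharacter
import Mathlib.Analysis.Complex.Basic

/-!
The two types of non-degenerate subspaces of even dimension of a finite quadratic space, told apart by the
exponential sum of the form.
-/

set_option autoImplicit false
set_option linter.unusedSectionVars false

namespace CfsgLib.Elusive2

open Module QuadraticMap

variable {F V : Type*} [Field F] [AddCommGroup V] [Module F V] {Q : QuadraticForm F V}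

/-- A subspace containing a totally singular subspace of half its dimension. -/
def IsPlus (Q : QuadraticForm F V) (W : Submodule F V) : Prop :=
  ∃ U : Submodule F V, U ≤ W ∧ (∀ u ∈ U, Q u = 0) ∧ 2 * finrank F U = finrank F W

theorem polar_refl : ∀ u v, polarBilin Q u v = 0 → polarBilin Q v u = 0 := fun u v h => by
  rw [polarBilin_apply_apply, polar_comm]; exact h

theorem polar_swap (u v : V) : polarBilin Q u v = polarBilin Q v u := by
  rw [polarBilin_apply_apply, polarBilin_apply_apply, polar_comm]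

theorem quad_add' (u v : V) : Q (u + v) = Q u + Q v + polarBilin Q u v := by
  rw [polarBilin_apply_apply, polar]; ring

theorem iso0_of_sing {U : Submodule F V} (hU : ∀ u ∈ U, Q u = 0) : Iso0 (polarBilin Q) U :=
  fun u hu v hv => by
    rw [polarBilin_apply_apply, polar, hU _ (U.add_mem hu hv), hU u hu, hU v hv]; ring

theorem IsPlus.bot : IsPlus Q (⊥ : Submodule F V) :=
  ⟨⊥, le_rfl, fun u hu => by rw [(Submodule.mem_bot F).1 hu, QuadraticMap.map_zero], by simp⟩

theorem IsPlus.even {W : Submodule F V} (h : IsPlus Q W) : Even (finrank F W) := by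
  obtain ⟨U, -, -, hd⟩ := h
  exact ⟨finrank F U, by omega⟩

theorem IsPlus.sup [FiniteDimensional F V] {X Y : Submodule F V} (hX : IsPlus Q X) (hY : IsPlus Q Y)
    (hdisj : X ⊓ Y = ⊥) (horth : ∀ x ∈ X, ∀ y ∈ Y, polarBilin Q x y = 0) : IsPlus Q (X ⊔ Y) := by
  obtain ⟨U, hUX, hU, hUd⟩ := hX
  obtain ⟨U', hUY, hU', hUd'⟩ := hY
  refine ⟨U ⊔ U', sup_le_sup hUX hUY, fun w hw => ?_, ?_⟩
  · obtain ⟨u, hu, u', hu', rfl⟩ := Submodule.mem_sup.1 hw
    rw [quad_add', hU u hu, hU' u' hu', horth u (hUX hu) u' (hUY hu')]; ring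
  · have h1 := Submodule.finrank_sup_add_finrank_inf_eq X Y
    have h2 := Submodule.finrank_sup_add_finrank_inf_eq U U'
    rw [hdisj, finrank_bot] at h1
    rw [le_bot_iff.1 ((inf_le_inf hUX hUY).trans hdisj.le), finrank_bot] at h2
    omega

section Sum

variable [Fintype F] [FiniteDimensional F V]

theorem exists_char (F : Type*) [Field F] [Fintype F] :
    ∃ ψ : AddChar F ℂ, ∀ c : F, c ≠ 0 → ∑ x, ψ (x * c) = 0 := by
  classical
  obtain ⟨ψ, hψ⟩ : ∃ ψ : AddChar F ℂ, ψ ≠ 1 := by
    obtain ⟨ψ, hψ⟩ := AddChar.exists_apply_ne_zero.2 (one_ne_zero (α := F))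
    exact ⟨ψ, fun h => hψ (by rw [h]; rfl)⟩
  refine ⟨ψ, fun c hc => ?_⟩
  rw [AddChar.sum_mulShift c (AddChar.IsPrimitive.of_ne_one hψ), if_neg hc, Nat.cast_zero]

/-- The chosen character. -/
noncomputable def chr (F : Type*) [Field F] [Fintype F] : AddChar F ℂ := (exists_char F).choose

theorem sum_chr {c : F} (hc : c ≠ 0) : ∑ x, chr F (x * c) = 0 := (exists_char F).choose_spec c hc

/-- The exponential sum of the form on a subspace. -/
noncomputable def gsum (Q : QuadraticForm F V) (W : Submodule F V) : ℂ := ∑ᶠ w : W, chr F (Q w)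

theorem finite_sub (W : Submodule F V) : Finite W :=
  Module.finite_of_finite (R := F)

theorem gsum_bot : gsum Q (⊥ : Submodule F V) = 1 := by
  rw [gsum, finsum_unique, (Submodule.mem_bot F).1 (default : (⊥ : Submodule F V)).2, QuadraticMap.map_zero,
    AddChar.map_zero_eq_one]

theorem gsum_sup {X Y : Submodule F V} (hdisj : X ⊓ Y = ⊥)
    (horth : ∀ x ∈ X, ∀ y ∈ Y, polarBilin Q x y = 0) : gsum Q (X ⊔ Y) = gsum Q X * gsum Q Y := by
  have := finite_sub X
  have := finite_sub Y
  have := finite_sub (X ⊔ Y)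
  have := Fintype.ofFinite X
  have := Fintype.ofFinite Y
  have := Fintype.ofFinite ↥(X ⊔ Y)
  rw [gsum, gsum, gsum, finsum_eq_sum_of_fintype, finsum_eq_sum_of_fintype, finsum_eq_sum_of_fintype,
    Fintype.sum_mul_sum, ← Fintype.sum_prod_type']
  refine (Fintype.sum_bijective (fun p : X × Y =>
    (⟨p.1 + p.2, Submodule.add_mem_sup p.1.2 p.2.2⟩ : ↥(X ⊔ Y))) ⟨?_, ?_⟩ _ _ fun p => ?_).symm
  · rintro ⟨x, y⟩ ⟨x', y'⟩ h
    have h' : (x : V) + y = x' + y' := congrArg Subtype.val h
    have e : (x : V) - x' = y' - y := by rw [sub_eq_sub_iff_add_eq_add, h']; abel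
    have hx : (x : V) - x' ∈ X ⊓ Y := ⟨X.sub_mem x.2 x'.2, e ▸ Y.sub_mem y'.2 y.2⟩
    rw [hdisj, Submodule.mem_bot, sub_eq_zero] at hx
    exact Prod.ext (Subtype.ext hx) (Subtype.ext (add_left_cancel (hx ▸ h')))
  · rintro ⟨z, hz⟩
    obtain ⟨x, hx, y, hy, rfl⟩ := Submodule.mem_sup.1 hz
    exact ⟨(⟨x, hx⟩, ⟨y, hy⟩), rfl⟩
  · rw [← AddChar.map_add_eq_mul, quad_add', horth _ p.1.2 _ p.2.2, add_zero]

theorem IsPlus.gsum_eq {W : Submodule F V} (hW : Ndg (polarBilin Q) W) (h : IsPlus Q W) :
    gsum Q W = (Fintype.card F : ℂ) ^ (finrank F W / 2) := by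
  classical
  obtain ⟨U, hUW, hU, hUd⟩ := h
  have := finite_sub W
  have := finite_sub U
  have := Fintype.ofFinite W
  have := Fintype.ofFinite U
  have hcardU : (Fintype.card U : ℂ) = (Fintype.card F : ℂ) ^ (finrank F W / 2) := by
    rw [Module.card_eq_pow_finrank (K := F), show finrank F W / 2 = finrank F U by omega, Nat.cast_pow]
  -- the vectors of `W` orthogonal to `U`
  have hperp : ∀ w ∈ W, (∀ u ∈ U, polarBilin Q w u = 0) → w ∈ U := by
    intro w hw hwu
    let L : Submodule F V := U ⊔ Submodule.span F {w}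
    have hLW : L ≤ W := sup_le hUW (Submodule.span_le.2 (by simpa using hw))
    by_contra hwU
    have hlt : finrank F U < finrank F L := Submodule.finrank_lt_finrank_of_lt
      (lt_of_le_of_ne le_sup_left fun e => hwU (by rw [e]; exact Submodule.mem_sup_right (Submodule.mem_span_singleton_self w)))
    let Φ : W →ₗ[F] (L →ₗ[F] F) :=
      LinearMap.compl₂ ((polarBilin Q).comp W.subtype) L.subtype
    have hker : U ≤ (LinearMap.ker Φ).map W.subtype := fun u hu => by
      refine ⟨⟨u, hUW hu⟩, LinearMap.ext fun l => ?_, rfl⟩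
      obtain ⟨u', hu', z, hz, hl⟩ := Submodule.mem_sup.1 l.2
      obtain ⟨t, rfl⟩ := Submodule.mem_span_singleton.1 hz
      show polarBilin Q u (l : V) = 0
      rw [← hl, map_add, map_smul, iso0_of_sing hU u hu u' hu', polar_swap u w, hwu u hu, smul_zero, add_zero]
    have hsurj : LinearMap.range Φ = ⊤ := by
      refine LinearMap.range_eq_top.2 ?_
      have hn := hW
      intro t
      by_contra hc
      obtain ⟨z, hz, hzt⟩ : ∃ z : L, z ≠ 0 ∧ ∀ x : W, Φ x z = 0 := by
        have hne : LinearMap.range Φ ≠ ⊤ := fun e => hc (LinearMap.range_eq_top.1 e t)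
        obtain ⟨φ, hφ0, hφ⟩ := Submodule.exists_le_ker_of_lt_top (p := LinearMap.range Φ) (lt_top_iff_ne_top.2 hne)
        refine ⟨(Module.evalEquiv F L).symm φ, by simpa using hφ0, fun x => ?_⟩
        rw [Module.apply_evalEquiv_symm_apply]
        exact hφ (LinearMap.mem_range_self Φ x)
      obtain ⟨x, hx, hxz⟩ := hn z (hLW z.2) fun e => hz (Subtype.ext e)
      exact hxz ((polar_swap (z : V) x).trans (hzt ⟨x, hx⟩))
    have h1 := Φ.finrank_range_add_finrank_ker
    rw [hsurj, finrank_top, Module.finrank_linearMap, Module.finrank_self, mul_one] at h1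
    have h2 : finrank F U ≤ finrank F (LinearMap.ker Φ) :=
      (Submodule.finrank_mono hker).trans (Submodule.finrank_map_le _ _)
    omega
  -- inner sums
  have hin : ∀ w : W, (∑ u : U, chr F (polarBilin Q (w : V) (u : V))) =
      if (w : V) ∈ U then (Fintype.card U : ℂ) else 0 := by
    intro w
    split_ifs with hw
    · rw [Finset.sum_congr rfl fun u _ => by rw [iso0_of_sing hU _ hw _ u.2, AddChar.map_zero_eq_one],
        Finset.sum_const, Finset.card_univ, nsmul_one]
    · obtain ⟨u₀, hu₀, hne⟩ : ∃ u ∈ U, polarBilin Q (w : V) u ≠ 0 := by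
        by_contra hc
        push Not at hc
        exact hw (hperp _ w.2 hc)
      set T := ∑ u : U, chr F (polarBilin Q (w : V) (u : V)) with hT
      have hshift : ∀ x : F, chr F (x * polarBilin Q (w : V) u₀) * T = T := fun x => by
        rw [hT, Finset.mul_sum]
        refine Fintype.sum_equiv (Equiv.addLeft (⟨x • u₀, U.smul_mem x hu₀⟩ : U)) _ _ fun u => ?_
        rw [← AddChar.map_add_eq_mul]
        simp [mul_comm]
      have h0 := Finset.sum_congr rfl fun x (_ : x ∈ Finset.univ) => hshift x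
      rw [← Finset.sum_mul, sum_chr hne, zero_mul, Finset.sum_const, Finset.card_univ, nsmul_eq_mul] at h0
      exact (mul_eq_zero.1 h0.symm).resolve_left (by exact_mod_cast Fintype.card_ne_zero)
  have key : (Fintype.card U : ℂ) * gsum Q W = (Fintype.card U : ℂ) * Fintype.card U := by
    have hsum : ∀ u : U, gsum Q W = ∑ w : W, chr F (Q (w : V)) * chr F (polarBilin Q (w : V) (u : V)) := by
      intro u
      rw [gsum, finsum_eq_sum_of_fintype]
      refine (Fintype.sum_equiv (Equiv.addRight (⟨u, hUW u.2⟩ : W)) _ _ fun w => ?_).symm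
      rw [← AddChar.map_add_eq_mul]
      simp [quad_add', hU _ u.2]
    calc (Fintype.card U : ℂ) * gsum Q W = ∑ _u : U, gsum Q W := by
          rw [Finset.sum_const, Finset.card_univ, nsmul_eq_mul]
      _ = ∑ w : W, chr F (Q (w : V)) * ∑ u : U, chr F (polarBilin Q (w : V) (u : V)) := by
          rw [Finset.sum_congr rfl fun u _ => hsum u, Finset.sum_comm]
          exact Finset.sum_congr rfl fun w _ => (Finset.mul_sum _ _ _).symm
      _ = ∑ w : W, if (w : V) ∈ U then (Fintype.card U : ℂ) else 0 := Finset.sum_congr rfl fun w _ => by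
          rw [hin]
          split_ifs with hw
          · rw [hU _ hw, AddChar.map_zero_eq_one, one_mul]
          · rw [mul_zero]
      _ = (Fintype.card U : ℂ) * Fintype.card U := by
          rw [← Finset.sum_filter, Finset.sum_const, nsmul_eq_mul, mul_comm]
          congr 2
          rw [← Fintype.card_subtype]
          exact Fintype.card_congr
            ⟨fun w => ⟨w.1.1, w.2⟩, fun u => ⟨⟨u.1, hUW u.2⟩, u.2⟩, fun _ => rfl, fun _ => rfl⟩
  exact (mul_left_cancel₀ (by exact_mod_cast Fintype.card_ne_zero) key).trans hcardU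

/-- A singular vector in a non-degenerate subspace of dimension at least three. -/
theorem exists_sing_sub {W : Submodule F V} (hW : Ndg (polarBilin Q) W) (h3 : 3 ≤ finrank F W) :
    ∃ e ∈ W, e ≠ 0 ∧ Q e = 0 := by
  have hn : (polarBilin (Q.comp W.subtype)).Nondegenerate := by
    have h1 : ∀ w : W, (∀ u : W, polarBilin Q (w : V) u = 0) → w = 0 := fun w h => by
      by_contra h0
      obtain ⟨v, hv, hne⟩ := hW w w.2 fun e => h0 (Subtype.ext e)
      exact hne (h ⟨v, hv⟩)
    exact ⟨fun w hw => h1 w fun u => hw u, fun u hu => h1 u fun w => (polar_swap _ _).trans (hu w)⟩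
  obtain ⟨⟨e, he⟩, he0, hQe⟩ := CfsgLib.QuadStd.exists_sing hn h3
  exact ⟨e, he, fun h => he0 (Subtype.ext h), hQe⟩

/-- A singular vector lies in a hyperbolic plane. -/
theorem exists_hyp_pair {W : Submodule F V} (hW : Ndg (polarBilin Q) W) {e : V} (he : e ∈ W) (he0 : e ≠ 0)
    (hQe : Q e = 0) : ∃ f ∈ W, Q f = 0 ∧ polarBilin Q e f = 1 := by
  obtain ⟨v, hv, hne⟩ := hW e he he0
  set v' := (polarBilin Q e v)⁻¹ • v with hv'
  have h1 : polarBilin Q e v' = 1 := by rw [hv', map_smul, smul_eq_mul, inv_mul_cancel₀ hne]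
  have hee : polarBilin Q e e = 0 := by rw [polarBilin_apply_apply, polar_self, hQe, smul_zero]
  have hv'W : v' ∈ W := W.smul_mem _ hv
  clear_value v'
  refine ⟨v' + (-Q v') • e, W.add_mem hv'W (W.smul_mem _ he), ?_, ?_⟩
  · rw [quad_add', QuadraticMap.map_smul, hQe, map_smul, polar_swap v' e, h1, smul_zero, smul_eq_mul]
    ring
  · rw [map_add, map_smul, hee, smul_zero, h1, add_zero]

/-- The span of two vectors with `det ≠ 0` is non-degenerate of dimension two. -/
theorem span_pair_ndg {u v : V}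
    (hd : polarBilin Q u u * polarBilin Q v v - polarBilin Q u v * polarBilin Q u v ≠ 0) :
    Ndg (polarBilin Q) (Submodule.span F (Set.range ![u, v])) ∧
      finrank F (Submodule.span F (Set.range ![u, v])) = 2 := by
  have key : ∀ a b : F, polarBilin Q (a • u + b • v) u = 0 → polarBilin Q (a • u + b • v) v = 0 →
      a = 0 ∧ b = 0 := fun a b h1 h2 => by
    simp only [map_add, map_smul, LinearMap.add_apply, LinearMap.smul_apply, smul_eq_mul, polar_swap v u] at h1 h2
    constructor
    · exact (mul_eq_zero.1 (by linear_combination (polarBilin Q v v) * h1 - (polarBilin Q u v) * h2 :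
        a * (polarBilin Q u u * polarBilin Q v v - polarBilin Q u v * polarBilin Q u v) = 0)).resolve_right hd
    · exact (mul_eq_zero.1 (by linear_combination (polarBilin Q u u) * h2 - (polarBilin Q u v) * h1 :
        b * (polarBilin Q u u * polarBilin Q v v - polarBilin Q u v * polarBilin Q u v) = 0)).resolve_right hd
  refine ⟨fun x hx hx0 => ?_, ?_⟩
  · obtain ⟨c, rfl⟩ := (Submodule.mem_span_range_iff_exists_fun F).1 hx
    rw [Fin.sum_univ_two] at hx0 ⊢
    simp only [Matrix.cons_val_zero, Matrix.cons_val_one] at hx0 ⊢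
    by_cases h1 : polarBilin Q (c 0 • u + c 1 • v) u = 0
    · refine ⟨v, Submodule.subset_span ⟨1, rfl⟩, fun h2 => hx0 ?_⟩
      obtain ⟨ha, hb⟩ := key _ _ h1 h2
      rw [ha, hb, zero_smul, zero_smul, add_zero]
    · exact ⟨u, Submodule.subset_span ⟨0, rfl⟩, h1⟩
  · rw [finrank_span_eq_card, Fintype.card_fin]
    refine Fintype.linearIndependent_iff.2 fun c hc => ?_
    rw [Fin.sum_univ_two] at hc
    simp only [Matrix.cons_val_zero, Matrix.cons_val_one] at hc
    obtain ⟨ha, hb⟩ := key (c 0) (c 1) (by rw [hc, map_zero, LinearMap.zero_apply])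
      (by rw [hc, map_zero, LinearMap.zero_apply])
    intro i
    fin_cases i <;> assumption

theorem hyp_plane_ndg {e f : V} (he : Q e = 0) (hf : Q f = 0) (hef : polarBilin Q e f = 1) :
    Ndg (polarBilin Q) (Submodule.span F (Set.range ![e, f])) ∧
      finrank F (Submodule.span F (Set.range ![e, f])) = 2 ∧
      IsPlus Q (Submodule.span F (Set.range ![e, f])) := by
  obtain ⟨hn, hd⟩ := span_pair_ndg (Q := Q) (u := e) (v := f) (by
    rw [show polarBilin Q e e = 0 by rw [polarBilin_apply_apply, polar_self, he, smul_zero], hef]; simp)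
  refine ⟨hn, hd, Submodule.span F {e}, Submodule.span_le.2 fun x hx => ?_, fun u hu => ?_, ?_⟩
  · rw [Set.mem_singleton_iff.1 hx]; exact Submodule.subset_span ⟨0, rfl⟩
  · obtain ⟨t, rfl⟩ := Submodule.mem_span_singleton.1 hu
    rw [QuadraticMap.map_smul, he, smul_zero]
  · rw [finrank_span_singleton (fun h => by rw [h, map_zero, LinearMap.zero_apply] at hef; exact zero_ne_one hef),
      hd]

/-- An anisotropic plane has exponential sum `-q`. -/
theorem gsum_plane {W : Submodule F V} (hW : Ndg (polarBilin Q) W) (h2 : finrank F W = 2)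
    (han : ∀ w ∈ W, Q w = 0 → w = 0) : gsum Q W = -(Fintype.card F : ℂ) := by
  classical
  have hn : (polarBilin (Q.comp W.subtype)).Nondegenerate := by
    have h1 : ∀ w : W, (∀ u : W, polarBilin Q (w : V) u = 0) → w = 0 := fun w h => by
      by_contra h0
      obtain ⟨v, hv, hne⟩ := hW w w.2 fun e => h0 (Subtype.ext e)
      exact hne (h ⟨v, hv⟩)
    exact ⟨fun w hw => h1 w fun u => hw u, fun u hu => h1 u fun w => (polar_swap _ _).trans (hu w)⟩
  obtain ⟨ζ, φ, hζ, hφ⟩ := CfsgLib.QuadStd.plane_normal hn h2 fun w hw => Subtype.ext (han w w.2 hw)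
  have hab := CfsgLib.QuadStd.plane_aniso hζ
  have := finite_sub W
  have := Fintype.ofFinite W
  let ψ : W ≃ F × F := φ.toEquiv.trans (finTwoArrowEquiv F)
  have e1 : gsum Q W = ∑ z : F × F, chr F (CfsgLib.Quad.planeQ 1 ζ z) := by
    rw [gsum, finsum_eq_sum_of_fintype]
    refine Fintype.sum_equiv ψ _ _ fun w => ?_
    congr 1
    rw [CfsgLib.Quad.planeQ_apply]
    refine (hφ w).trans ?_
    simp [ψ]
  set g : F → ℕ := fun c => (Finset.univ.filter fun z : F × F => CfsgLib.Quad.planeQ 1 ζ z = c).card with hg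
  have e2 : (∑ z : F × F, chr F (CfsgLib.Quad.planeQ 1 ζ z)) = ∑ c : F, (g c : ℂ) * chr F c := by
    rw [← Finset.sum_fiberwise (Finset.univ : Finset (F × F)) (fun z => CfsgLib.Quad.planeQ 1 ζ z)]
    refine Finset.sum_congr rfl fun c _ => ?_
    rw [Finset.sum_congr rfl fun z hz => by rw [(Finset.mem_filter.1 hz).2], Finset.sum_const, nsmul_eq_mul]
  have g0 : g 0 = 1 := by
    rw [hg]
    refine Finset.card_eq_one.2 ⟨0, Finset.eq_singleton_iff_unique_mem.2 ⟨by simp, fun z hz => ?_⟩⟩
    exact CfsgLib.Quad.planeQ_eq_zero hab (Finset.mem_filter.1 hz).2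
  have gc : ∀ c : F, c ≠ 0 → g c = g 1 := fun c hc => by
    obtain ⟨u, hu⟩ := CfsgLib.Quad.planeQ_surjective hab c
    have hinj : Function.Injective (CfsgLib.Quad.pmul 1 ζ u) := fun x y hxy => by
      have h := congrArg (CfsgLib.Quad.planeQ 1 ζ) (show CfsgLib.Quad.pmul 1 ζ u (x - y) = 0 by rw [map_sub, hxy, sub_self])
      rw [CfsgLib.Quad.planeQ_pmul, hu, QuadraticMap.map_zero] at h
      exact sub_eq_zero.1 (CfsgLib.Quad.planeQ_eq_zero hab ((mul_eq_zero.1 h).resolve_left hc))
    refine (Finset.card_bij (fun z _ => CfsgLib.Quad.pmul 1 ζ u z) (fun z hz => ?_) (fun x _ y _ h => hinj h)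
      fun w hw => ?_).symm
    · rw [Finset.mem_filter] at hz ⊢
      exact ⟨Finset.mem_univ _, by rw [CfsgLib.Quad.planeQ_pmul, hu, hz.2, mul_one]⟩
    · obtain ⟨z, hz⟩ := (Finite.injective_iff_surjective.1 hinj) w
      refine ⟨z, Finset.mem_filter.2 ⟨Finset.mem_univ _, ?_⟩, hz⟩
      have h := (Finset.mem_filter.1 hw).2
      rw [← hz, CfsgLib.Quad.planeQ_pmul, hu] at h
      exact mul_left_cancel₀ hc (h.trans (mul_one c).symm)
  have hsum : (∑ c : F, (g c : ℂ)) = (Fintype.card F : ℂ) ^ 2 := by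
    have := Finset.card_eq_sum_card_fiberwise (s := (Finset.univ : Finset (F × F)))
      (f := fun z => CfsgLib.Quad.planeQ 1 ζ z) (t := Finset.univ) fun _ _ => Finset.mem_univ _
    rw [Finset.card_univ, Fintype.card_prod] at this
    rw [← Nat.cast_sum, ← this, Nat.cast_mul, pow_two]
  have hchi : (∑ c : F, chr F c) = 0 := by simpa using sum_chr (one_ne_zero (α := F))
  have hsplit : ∀ h : F → ℂ, ∑ c, h c = h 0 + ∑ c ∈ Finset.univ.erase 0, h c := fun h =>
    (Finset.add_sum_erase _ _ (Finset.mem_univ 0)).symm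
  have h1 : ((Fintype.card F : ℂ) - 1) * g 1 = (Fintype.card F : ℂ) ^ 2 - 1 := by
    rw [← hsum, hsplit, g0, Finset.sum_congr rfl fun c hc => by rw [gc c (Finset.ne_of_mem_erase hc)],
      Finset.sum_const, Finset.card_erase_of_mem (Finset.mem_univ _), Finset.card_univ, nsmul_eq_mul,
      Nat.cast_sub Fintype.card_pos]
    push_cast
    ring
  have hq1 : (Fintype.card F : ℂ) - 1 ≠ 0 := by
    have := Fintype.one_lt_card (α := F)
    rw [sub_ne_zero]
    exact_mod_cast this.ne'
  have hg1 : (g 1 : ℂ) = Fintype.card F + 1 := mul_left_cancel₀ hq1 (by rw [h1]; ring)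
  rw [e1, e2, hsplit, g0, Finset.sum_congr rfl fun c hc => by rw [gc c (Finset.ne_of_mem_erase hc)],
    ← Finset.mul_sum, hg1]
  have hrest : ∑ c ∈ Finset.univ.erase (0 : F), chr F c = -1 := by
    have := hsplit fun c => chr F c
    rw [hchi, AddChar.map_zero_eq_one] at this
    linear_combination -this
  rw [hrest, AddChar.map_zero_eq_one, Nat.cast_one]
  ring

/-- The sum decides the type. -/
theorem gsum_cases : ∀ (h : ℕ) (W : Submodule F V), Ndg (polarBilin Q) W → finrank F W = 2 * h →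
    (IsPlus Q W ∧ gsum Q W = (Fintype.card F : ℂ) ^ h) ∨
      (¬ IsPlus Q W ∧ gsum Q W = -(Fintype.card F : ℂ) ^ h) := by
  intro h
  induction h using Nat.strong_induction_on with
  | _ h ih =>
    intro W hW hd
    by_cases hp : IsPlus Q W
    · exact Or.inl ⟨hp, (hp.gsum_eq hW).trans (by rw [hd, Nat.mul_div_cancel_left _ two_pos])⟩
    refine Or.inr ⟨hp, ?_⟩
    rcases h with _ | _ | h
    · exact absurd ((Submodule.finrank_eq_zero.1 hd) ▸ IsPlus.bot) hp
    · rw [Nat.mul_one] at hd
      rw [zero_add, pow_one]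
      refine gsum_plane hW hd fun w hw hQ => ?_
      by_contra h0
      refine hp ⟨Submodule.span F {w}, Submodule.span_le.2 (by simpa using hw), fun u hu => ?_, ?_⟩
      · obtain ⟨t, rfl⟩ := Submodule.mem_span_singleton.1 hu
        rw [QuadraticMap.map_smul, hQ, smul_zero]
      · rw [finrank_span_singleton h0, hd]
    · obtain ⟨e, he, he0, hQe⟩ := exists_sing_sub hW (by omega)
      obtain ⟨f, hf, hQf, hef⟩ := exists_hyp_pair hW he he0 hQe
      obtain ⟨hn, h2, hpl⟩ := hyp_plane_ndg hQe hQf hef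
      have hle : Submodule.span F (Set.range ![e, f]) ≤ W := by
        rw [Submodule.span_le]; rintro _ ⟨j, rfl⟩; fin_cases j <;> assumption
      obtain ⟨hsup, hinf, hdim, hnd⟩ := exists_split polar_refl hn hle
      have horth : ∀ x ∈ Submodule.span F (Set.range ![e, f]),
          ∀ y ∈ W ⊓ perp (polarBilin Q) (Submodule.span F (Set.range ![e, f])), polarBilin Q x y = 0 :=
        fun x hx y hy => mem_perp.1 hy.2 x hx
      rcases ih (h + 1) (by omega) _ (hnd hW) (by omega) with ⟨hp', -⟩ | ⟨-, hs⟩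
      · exact absurd (hsup ▸ hpl.sup hp' hinf horth) hp
      · rw [← hsup, gsum_sup hinf horth, hpl.gsum_eq hn, hs, h2, Nat.div_self two_pos, pow_one, pow_succ' _ (h + 1)]
        ring

/-- Types multiply. -/
theorem isPlus_sup {X Y : Submodule F V} (hX : Ndg (polarBilin Q) X) (hY : Ndg (polarBilin Q) Y)
    (hXe : Even (finrank F X)) (hYe : Even (finrank F Y)) (hdisj : X ⊓ Y = ⊥)
    (horth : ∀ x ∈ X, ∀ y ∈ Y, polarBilin Q x y = 0) :
    IsPlus Q (X ⊔ Y) ↔ (IsPlus Q X ↔ IsPlus Q Y) := by
  obtain ⟨a, ha⟩ := hXe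
  obtain ⟨b, hb⟩ := hYe
  have hd : finrank F ↥(X ⊔ Y) = 2 * (a + b) := by
    have := Submodule.finrank_sup_add_finrank_inf_eq X Y
    rw [hdisj, finrank_bot] at this
    omega
  have hq : (Fintype.card F : ℂ) ^ (a + b) ≠ 0 := pow_ne_zero _ (by exact_mod_cast Fintype.card_ne_zero)
  have hmul := gsum_sup hdisj horth
  rcases gsum_cases (a + b) _ (hX.sup polar_refl hY horth) hd with ⟨hs, es⟩ | ⟨hs, es⟩ <;>
    rcases gsum_cases a X hX (by omega) with ⟨hx, ex⟩ | ⟨hx, ex⟩ <;>
    rcases gsum_cases b Y hY (by omega) with ⟨hy, ey⟩ | ⟨hy, ey⟩ <;>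
    simp only [hs, hx, hy, iff_true, iff_false, not_true, not_false_eq_true] <;>
    rw [es, ex, ey] at hmul <;>
    · refine absurd ?_ hq
      rw [pow_add] at hmul ⊢
      first | linear_combination (1 / 2 : ℂ) * hmul | linear_combination (-(1 / 2) : ℂ) * hmul

end Sum

end CfsgLib.Elusive2
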