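import Cfsg.Agent.Elusive2.Symp
import Cfsg.Agent.Classical.SympGeometry

/-!
Numbers of non-degenerate and of totally isotropic subspaces of symplectic spaces, modulo primes.
-/

set_option autoImplicit false
set_option linter.unusedSectionVars false

namespace CfsgLib.Elusive2

open Module CfsgLib.Elusive CfsgLib.Symp CfsgLib.Symp.Geometry

variable {F : Type*} [Field F] [Fintype F] {d : ℕ}

/-- A non-degenerate subspace has a symplectic frame. -/
theorem exists_frame {h : ℕ} {W : Submodule F (Fin d ⊕ Fin d → F)}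
    (hWd : finrank F W = 2 * h) (hW : Ndg (sympBilin d F) W) :
    ∃ v : Fin h ⊕ Fin h → (Fin d ⊕ Fin d → F), LinearIndependent F v ∧
      Submodule.span F (Set.range v) = W ∧
      ∀ i j, form (v i) (v j) =
        Sum.elim (fun a => Sum.elim (fun _ => (0 : F)) (fun b => if a = b then 1 else 0) j)
          (fun a => Sum.elim (fun b => if b = a then -1 else 0) (fun _ => 0) j) i := by
  classical
  obtain ⟨m', k', b, h1, h2, h3, h4⟩ := CfsgLib.Forms.exists_symplectic_basis _ W
    ((formB (Fin d) F).compl₁₂ W.subtype W.subtype) (fun u => form_self u.1) rfl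
  have hk' : k' = 0 := by
    by_contra hne
    have hne0 := b.ne_zero (Sum.inr ⟨0, Nat.pos_of_ne_zero hne⟩)
    obtain ⟨v, hv, hv'⟩ := hW _ (b (Sum.inr ⟨0, Nat.pos_of_ne_zero hne⟩)).2 fun e => hne0 (Subtype.ext e)
    exact hv' (h4 _ ⟨v, hv⟩)
  have hm' : m' = h := by
    have := finrank_eq_card_basis b
    simp [hWd, hk'] at this
    omega
  subst hk' hm'
  refine ⟨fun i => (b (Sum.inl i)).1, (b.linearIndependent.map' W.subtype W.ker_subtype).comp _
    Sum.inl_injective, ?_, ?_⟩
  · refine Submodule.eq_of_le_of_finrank_eq (Submodule.span_le.2 ?_) ?_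
    · rintro _ ⟨i, rfl⟩; exact (b _).2
    · refine Eq.trans (finrank_span_eq_card ((b.linearIndependent.map' W.subtype W.ker_subtype).comp _
        Sum.inl_injective)) ?_
      rw [Fintype.card_sum, Fintype.card_fin, hWd, two_mul]
  · rintro (i | i) (j | j) <;> simp only [Sum.elim_inl, Sum.elim_inr]
    · exact h2 i j
    · exact h1 i j
    · have e := h1 j i
      rw [form_swap]
      simp only [LinearMap.compl₁₂_apply, Submodule.subtype_apply, formB_apply] at e
      rw [e]
      split_ifs <;> simp_all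
    · exact h3 i j

theorem ndg_transitive {h : ℕ} {W W' : Submodule F (Fin d ⊕ Fin d → F)}
    (hWd : finrank F W = 2 * h) (hW : Ndg (sympBilin d F) W) (hW'd : finrank F W' = 2 * h)
    (hW' : Ndg (sympBilin d F) W') :
    ∃ g : Matrix.symplecticGroup (Fin d) F, W.map (Matrix.mulVecLin g.1) = W' := by
  obtain ⟨v, hv, hvs, hvf⟩ := exists_frame hWd hW
  obtain ⟨w, hw, hws, hwf⟩ := exists_frame hW'd hW'
  let fe : Fin (h + h) ≃ Fin h ⊕ Fin h := finSumFinEquiv.symm
  obtain ⟨g, hg⟩ := exists_sp_family (v ∘ fe) (w ∘ fe) (hv.comp _ fe.injective) (hw.comp _ fe.injective)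
    fun i j => by simp only [Function.comp_apply, hvf, hwf]
  refine ⟨g, ?_⟩
  rw [← hvs, ← hws, Submodule.map_span, ← Set.range_comp]
  congr 2
  funext i
  have := hg (fe.symm i)
  simp only [Function.comp_apply, Equiv.apply_symm_apply] at this
  exact this

/-- Orbit counting for non-degenerate subspaces. -/
theorem card_ndg_mul {h : ℕ} (hh : h ≤ d)
    [Nonempty {W : Submodule F (Fin d ⊕ Fin d → F) // finrank F W = 2 * h ∧ Ndg (sympBilin d F) W}] :
    Nat.card {W : Submodule F (Fin d ⊕ Fin d → F) // finrank F W = 2 * h ∧ Ndg (sympBilin d F) W} *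
      (Nat.card (Matrix.symplecticGroup (Fin h) F) * Nat.card (Matrix.symplecticGroup (Fin (d - h)) F)) =
      Nat.card (Matrix.symplecticGroup (Fin d) F) := by
  classical
  obtain ⟨W0, hW0d, hW0⟩ := ‹Nonempty {W : Submodule F (Fin d ⊕ Fin d → F) // finrank F W = 2 * h ∧
    Ndg (sympBilin d F) W}›
  have hmem : ∀ (g : Matrix.symplecticGroup (Fin d) F) x,
      x ∈ W0.map (Matrix.mulVecLin g.1) ↔ g⁻¹ • x ∈ W0 := fun g x => by
    constructor
    · rintro ⟨y, hy, rfl⟩
      rw [show Matrix.mulVecLin g.1 y = g • y from rfl, inv_smul_smul]; exact hy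
    · intro hx
      exact ⟨_, hx, smul_inv_smul g x⟩
  have hsound : ∀ a b : Matrix.symplecticGroup (Fin d) F,
      a⁻¹ * b ∈ stabSub W0 ↔ W0.map (Matrix.mulVecLin a.1) = W0.map (Matrix.mulVecLin b.1) := by
    intro a b
    constructor
    · intro hab
      ext x
      rw [hmem, hmem, hab (b⁻¹ • x), ← mul_smul, mul_inv_cancel_right]
    · intro e v
      have := SetLike.ext_iff.1 e (b • v)
      rw [hmem, hmem, inv_smul_smul] at this
      rw [mul_smul]
      exact this.symm
  have himg : ∀ g : Matrix.symplecticGroup (Fin d) F,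
      finrank F (W0.map (Matrix.mulVecLin g.1)) = 2 * h ∧
        Ndg (sympBilin d F) (W0.map (Matrix.mulVecLin g.1)) := fun g => by
    refine ⟨?_, ?_⟩
    · rw [← (Submodule.equivMapOfInjective (Matrix.mulVecLin g.1)
        (fun a b e => MulAction.injective g e) W0).finrank_eq]
      exact hW0d
    · rintro _ ⟨u, hu, rfl⟩ h0
      obtain ⟨v, hv, hne⟩ := hW0 u hu fun e => h0 (by rw [e, map_zero])
      exact ⟨_, ⟨v, hv, rfl⟩, fun e => hne ((form_smul_smul g u v).symm.trans e)⟩
  let Φ : Matrix.symplecticGroup (Fin d) F ⧸ stabSub W0 →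
      {W : Submodule F (Fin d ⊕ Fin d → F) // finrank F W = 2 * h ∧ Ndg (sympBilin d F) W} :=
    fun x => Quotient.liftOn' x (fun g => ⟨_, himg g⟩) fun a b hab =>
      Subtype.ext ((hsound a b).1 (QuotientGroup.leftRel_apply.1 hab))
  have hbij : Function.Bijective Φ := by
    constructor
    · intro x y
      refine Quotient.inductionOn₂' x y fun a b e => ?_
      exact QuotientGroup.eq.2 ((hsound a b).2 (congrArg Subtype.val e))
    · rintro ⟨W, hWd, hW⟩
      obtain ⟨g, hg⟩ := ndg_transitive hW0d hW0 hWd hW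
      exact ⟨QuotientGroup.mk g, Subtype.ext hg⟩
  obtain ⟨e⟩ := nondeg_stab_equiv hh W0 hW0d fun u hu hall => by
    by_contra h0
    obtain ⟨v, hv, hne⟩ := hW0 u hu h0
    exact hne (hall v hv)
  rw [← Nat.card_prod, ← Nat.card_congr e.toEquiv, ← Nat.card_congr (Equiv.ofBijective Φ hbij),
    mul_comm]
  exact Subgroup.card_mul_index _

/-- The new factors in the order of `Sp_2d` over `Sp_2(d-h)`. -/
theorem not_dvd_factor {r : ℕ} [hr : Fact r.Prime] {h j : ℕ} (hhk : 2 * h ≤ (2 * d) % blockDim (ordq F r))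
    (hj1 : d - h < j) (hj2 : j ≤ d) : ¬ r ∣ Nat.card F ^ (2 * j) - 1 := by
  intro hd
  rw [Nat.card_eq_fintype_card, ← ZMod.natCast_eq_zero_iff,
    Nat.cast_sub (Nat.one_le_pow _ _ Fintype.card_pos), Nat.cast_pow, Nat.cast_one, sub_eq_zero,
    ← orderOf_dvd_iff_pow_eq_one] at hd
  change ordq F r ∣ 2 * j at hd
  obtain ⟨w, hw⟩ := blockDim_dvd hd (even_two_mul j)
  have hle : w ≤ 2 * d / blockDim (ordq F r) := by
    by_contra hlt
    push Not at hlt
    have h1 : blockDim (ordq F r) * (2 * d / blockDim (ordq F r) + 1) ≤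
        blockDim (ordq F r) * w := Nat.mul_le_mul_left _ hlt
    have h2 := Nat.div_add_mod (2 * d) (blockDim (ordq F r))
    rcases Nat.eq_zero_or_pos (blockDim (ordq F r)) with h0 | h0
    · rw [h0, Nat.zero_mul] at hw; omega
    have h3 := Nat.mod_lt (2 * d) h0
    rw [Nat.mul_add, Nat.mul_one] at h1
    omega
  have h1 := Nat.mul_le_mul_left (blockDim (ordq F r)) hle
  have h2 := Nat.div_add_mod (2 * d) (blockDim (ordq F r))
  omega

theorem not_dvd_card_ndg {r : ℕ} [hr : Fact r.Prime] (hrF : (r : F) ≠ 0) {h : ℕ} (hh : h ≤ d)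
    (hhk : 2 * h ≤ (2 * d) % blockDim (ordq F r))
    [Nonempty {W : Submodule F (Fin d ⊕ Fin d → F) // finrank F W = 2 * h ∧ Ndg (sympBilin d F) W}] :
    ¬ r ∣ Nat.card {W : Submodule F (Fin d ⊕ Fin d → F) // finrank F W = 2 * h ∧ Ndg (sympBilin d F) W} := by
  have hq : ¬ r ∣ Nat.card F := fun hd => by
    obtain ⟨n, hp, hcard⟩ := FiniteField.card F (ringChar F)
    rw [Nat.card_eq_fintype_card, hcard] at hd
    have := (Nat.prime_dvd_prime_iff_eq hr.out hp).1 (hr.out.dvd_of_dvd_pow hd)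
    rw [this, ringChar.Nat.cast_ringChar] at hrF
    exact hrF rfl
  have e := card_ndg_mul (F := F) (d := d) hh
  rw [card_Sp d, card_Sp (d - h),
    ← Finset.prod_range_mul_prod_Ico (fun i => Nat.card F ^ (2 * (i + 1)) - 1) (Nat.sub_le d h)] at e
  set P := ∏ i ∈ Finset.range (d - h), (Nat.card F ^ (2 * (i + 1)) - 1)
  have hP : 0 < P := Finset.prod_pos fun i _ =>
    Nat.sub_pos_of_lt (Nat.one_lt_pow (by omega) Finite.one_lt_card)
  set Q := ∏ i ∈ Finset.Ico (d - h) d, (Nat.card F ^ (2 * (i + 1)) - 1)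
  set N := Nat.card {W : Submodule F (Fin d ⊕ Fin d → F) // finrank F W = 2 * h ∧ Ndg (sympBilin d F) W}
  intro hd
  have hdvd : r ∣ Nat.card F ^ (d ^ 2) * Q := by
    refine hd.trans ⟨Nat.card (Matrix.symplecticGroup (Fin h) F) * Nat.card F ^ ((d - h) ^ 2), ?_⟩
    refine Nat.eq_of_mul_eq_mul_right hP ?_
    calc Nat.card F ^ (d ^ 2) * Q * P = Nat.card F ^ (d ^ 2) * (P * Q) := by ring
      _ = N * (Nat.card (Matrix.symplecticGroup (Fin h) F) * (Nat.card F ^ ((d - h) ^ 2) * P)) := e.symm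
      _ = _ := by ring
  rcases hr.out.dvd_mul.1 hdvd with h1 | h1
  · exact hq (hr.out.dvd_of_dvd_pow h1)
  · obtain ⟨i, hi, hi'⟩ := (Prime.dvd_finsetProd_iff hr.out.prime _).1 h1
    rw [Finset.mem_Ico] at hi
    exact not_dvd_factor hhk (by omega) (by omega) hi'

end CfsgLib.Elusive2
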