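import Cfsg.Agent.Elusive2.SympWorst
import Cfsg.Agent.Elusive2.SympCount
import Cfsg.Agent.Elusive.Decomp
import Cfsg.Prelude.Def_GeometricClasses

/-!
Orthogonal decompositions of symplectic spaces into non-degenerate summands of one dimension.
-/

set_option autoImplicit false
set_option linter.unusedSectionVars false

namespace CfsgLib.Elusive2

open Module CfsgLib.Elusive CfsgLib.Symp CfsgLib.Symp.Geometry

variable {F V : Type*} [Field F] [AddCommGroup V] [Module F V] [Fintype F] [FiniteDimensional F V]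
  {B : V →ₗ[F] V →ₗ[F] F} {f : V →ₗ[F] V} {r : ℕ} [hr' : Fact r.Prime]

theorem IsSympPack.exists_ndg_sub (hP : IsSympPack B f r) (hr : (r : F) ≠ 0) (hr2 : r ≠ 2)
    {W : Submodule F V} (hW : Inv f W) (hWn : Ndg B W) {a b : ℕ} (hb2 : Even b)
    (hb : b ≤ finrank F ↥(W ⊓ fixS f)) (ha : a * blockDim (ordq F r) ≤ finrank F (W.map (f - 1))) :
    ∃ X, Inv f X ∧ Ndg B X ∧ X ≤ W ∧ finrank F X = b + a * blockDim (ordq F r) ∧
      finrank F (X.map (f - 1)) = a * blockDim (ordq F r) := by
  obtain ⟨b', hb'⟩ := hb2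
  obtain ⟨hF, hM, hMF⟩ := split_fix_mov hP.toIsPack hr hW hWn
  obtain ⟨X, hX, hXn, hXle, hXd⟩ := exists_peel hP.toIsPack (Inv.of_le_fix (W := W ⊓ fixS f) inf_le_right) hF (c := 2)
    (fun U _ hUn hle hne => by
      obtain ⟨Y, hYn, hYU, hYd⟩ := exists_plane hP.alt hUn hne
      exact ⟨Y, Inv.of_le_fix ((hYU.trans hle).trans inf_le_right), hYn, hYU, hYd⟩) b' (by omega)
  obtain ⟨Y, hY, hYn, hYle, hYd⟩ := exists_peel hP.toIsPack hW.map_sub.1 hM
    (fun U hU hUn hle hne => hP.exists_block hr hr2 hU hUn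
      (le_bot_iff.1 ((inf_le_inf_right _ hle).trans hMF.le)) hne) a ha
  have hXF : X ≤ fixS f := hXle.trans inf_le_right
  have hYF : Y ⊓ fixS f = ⊥ := le_bot_iff.1 ((inf_le_inf_right _ hYle).trans hMF.le)
  have hXY : X ⊓ Y = ⊥ := le_bot_iff.1 ((le_inf inf_le_right (inf_le_left.trans hXF)).trans hYF.le)
  have horth : ∀ x ∈ X, ∀ y ∈ Y, B x y = 0 := fun x hx y hy =>
    fix_orth hP.toIsPack (hXF hx) (LinearMap.map_le_range (hYle hy))
  have hd : finrank F ↥(X ⊔ Y) = b + a * blockDim (ordq F r) := by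
    have := Submodule.finrank_sup_add_finrank_inf_eq X Y
    rw [hXY, finrank_bot] at this
    omega
  refine ⟨X ⊔ Y, hX.sup hY, hXn.sup hP.refl hYn horth,
    sup_le (hXle.trans inf_le_left) (hYle.trans hW.map_sub.2), hd, ?_⟩
  have h1 := dim_split (f := f) Y
  rw [hYF, finrank_bot, Nat.zero_add] at h1
  rw [Submodule.map_sup, show X.map (f - 1) = ⊥ from (Submodule.eq_bot_iff _).2 ?_, bot_sup_eq, ← h1, hYd]
  rintro _ ⟨x, hx, rfl⟩
  rw [LinearMap.sub_apply, Module.End.one_apply, mem_fixS.1 (hXF hx), sub_self]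

/-- Invariant decompositions into `t` summands of dimension `a`. -/
theorem IsSympPack.exists_decomp (hP : IsSympPack B f r) (hr : (r : F) ≠ 0) (hr2 : r ≠ 2) {a : ℕ}
    (hae : Even a) (hℓ : 0 < blockDim (ordq F r)) :
    ∀ (t : ℕ) (W : Submodule F V), Inv f W → Ndg B W → finrank F W = a * t →
      finrank F (W.map (f - 1)) ≤ t * (a / blockDim (ordq F r)) * blockDim (ordq F r) →
      ∃ D : Fin t → Submodule F V, (⨆ j, D j) = W ∧
        ∀ j, finrank F (D j) = a ∧ Ndg B (D j) ∧ Inv f (D j) ∧
          ∀ j', j ≠ j' → ∀ u ∈ D j, ∀ v ∈ D j', B u v = 0 := by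
  intro t
  induction t with
  | zero =>
    intro W _ _ hd _
    refine ⟨Fin.elim0, ?_, fun j => j.elim0⟩
    rw [iSup_of_empty, (Submodule.finrank_eq_zero.1 (hd.trans (Nat.mul_zero a)) : W = ⊥)]
  | succ t ih =>
    intro W hW hWn hd hmov
    set c := blockDim (ordq F r)
    obtain ⟨s, hs⟩ := hP.blockDim_dvd_mov hr hW hWn
    have hsplit := dim_split (f := f) W
    rw [hs, Nat.mul_comm c s] at hsplit
    have hsle : s ≤ (t + 1) * (a / c) :=
      Nat.le_of_mul_le_mul_right (by rwa [hs, Nat.mul_comm c s] at hmov) hℓ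
    set α := min s (a / c) with hα
    have hα1 : α * c ≤ a := (Nat.mul_le_mul_right c (min_le_right _ _)).trans (Nat.div_mul_le_self a c)
    have hα2 : α * c ≤ s * c := Nat.mul_le_mul_right c (min_le_left _ _)
    have hb : a - α * c ≤ finrank F ↥(W ⊓ fixS f) := by
      rw [Nat.mul_comm a (t + 1), Nat.add_mul, Nat.one_mul] at hd
      rcases Nat.le_total s (a / c) with h | h
      · rw [show α = s from min_eq_left h]
        omega
      · rw [show α = a / c from min_eq_right h]
        have h1 := Nat.mul_le_mul_right c hsle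
        rw [Nat.add_mul, Nat.one_mul, Nat.add_mul, Nat.mul_assoc] at h1
        have h2 := Nat.mul_le_mul_left t (Nat.div_mul_le_self a c)
        have h3 := Nat.div_mul_le_self a c
        omega
    obtain ⟨X, hX, hXn, hXW, hXd, hXm⟩ := hP.exists_ndg_sub hr hr2 hW hWn (a := α) (b := a - α * c)
      ((Nat.even_sub hα1).2 ⟨fun _ => (blockDim_even _).mul_left _, fun _ => hae⟩) hb
      (by rw [hs, Nat.mul_comm c s]; exact hα2)
    obtain ⟨hsup, hinf, hdim, hnd⟩ := exists_split hP.refl hXn hXW
    have hW' : Inv f (W ⊓ perp B X) := hW.inf (perp_inv hP.toIsPack hX)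
    have hXd' : finrank F X = a := by rw [hXd]; exact Nat.sub_add_cancel hα1
    have hd' : finrank F ↥(W ⊓ perp B X) = a * t := by rw [Nat.mul_succ] at hd; omega
    have hm' : finrank F ((W ⊓ perp B X).map (f - 1)) + α * c ≤ s * c := by
      have h1 : finrank F ↥(X.map (f - 1) ⊔ (W ⊓ perp B X).map (f - 1)) =
          finrank F (W.map (f - 1)) := by rw [← Submodule.map_sup, hsup]
      have h2 := Submodule.finrank_sup_add_finrank_inf_eq (X.map (f - 1)) ((W ⊓ perp B X).map (f - 1))
      rw [h1, le_bot_iff.1 ((inf_le_inf hX.map_sub.2 hW'.map_sub.2).trans hinf.le), finrank_bot, hXm] at h2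
      rw [Nat.mul_comm c s] at hs
      omega
    obtain ⟨D, hDsup, hD⟩ := ih (W ⊓ perp B X) hW' (hnd hWn) hd' (by
      have h1 : s ≤ α + t * (a / c) := by
        rcases Nat.le_total s (a / c) with h | h
        · rw [show α = s from min_eq_left h]; omega
        · rw [show α = a / c from min_eq_right h]; rw [Nat.add_mul, Nat.one_mul] at hsle; omega
      have h2 := Nat.mul_le_mul_right c h1
      rw [Nat.add_mul] at h2
      omega)
    have hle : ∀ j, D j ≤ W ⊓ perp B X := fun j => hDsup ▸ le_iSup D j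
    refine ⟨Fin.cons X D, ?_, fun j => ?_⟩
    · conv_rhs => rw [← hsup, ← hDsup]
      refine le_antisymm (iSup_le fun j => ?_) (sup_le ?_ (iSup_le fun j => ?_))
      · refine Fin.cases ?_ (fun j => ?_) j
        · rw [Fin.cons_zero]; exact le_sup_left
        · rw [Fin.cons_succ]; exact (le_iSup D j).trans le_sup_right
      · exact le_iSup_of_le (f := (Fin.cons X D : Fin (t + 1) → Submodule F V)) 0 le_rfl
      · exact le_iSup_of_le (f := (Fin.cons X D : Fin (t + 1) → Submodule F V)) j.succ (by rw [Fin.cons_succ])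
    · refine Fin.cases ?_ (fun i => ?_) j
      · rw [Fin.cons_zero]
        refine ⟨hXd', hXn, hX, fun j' => Fin.cases (fun h => absurd rfl h) (fun i _ u hu v hv => ?_) j'⟩
        rw [Fin.cons_succ] at hv
        exact mem_perp.1 (hle i hv).2 u hu
      · rw [Fin.cons_succ]
        refine ⟨(hD i).1, (hD i).2.1, (hD i).2.2.1, fun j' => Fin.cases (fun _ u hu v hv => ?_) (fun i' h u hu v hv => ?_) j'⟩
        · rw [Fin.cons_zero] at hv
          exact hP.refl v u (mem_perp.1 (hle i hu).2 v hv)
        · rw [Fin.cons_succ] at hv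
          exact (hD i).2.2.2 i' (fun e => h (congrArg Fin.succ e)) u hu v hv

/-- A summand moved by `f` produces a large moved space. -/
theorem orbit_moved (hf : f ^ r = 1) {a t : ℕ} {D : Fin t → Submodule F V}
    (hind : iSupIndep D) (hd : ∀ j, finrank F (D j) = a) {π : Equiv.Perm (Fin t)}
    (hmap : ∀ j, (D j).map f = D (π j)) {j : Fin t} (hj : π j ≠ j) (ha : 0 < a) :
    (r - 1) * a ≤ finrank F (movS f) ∧ a ≤ finrank F (fixS f) := by
  classical
  have hpow : ∀ l : ℕ, ∀ v ∈ D j, (f ^ l) v ∈ D ((π ^ l) j) := fun l => by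
    induction l with
    | zero => intro v hv; exact hv
    | succ l ih =>
      intro v hv
      rw [pow_succ', pow_succ', Module.End.mul_apply, Equiv.Perm.mul_apply, ← hmap]
      exact ⟨_, ih v hv, rfl⟩
  have hDinj : Function.Injective D := fun i k e => by
    by_contra hne
    have h1 := hind.pairwiseDisjoint hne
    rw [Function.onFun, e, disjoint_self] at h1
    have := hd k
    rw [h1, finrank_bot] at this
    omega
  have hmapk : ∀ l : ℕ, (D j).map (f ^ l) = D ((π ^ l) j) := fun l => by
    induction l with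
    | zero => exact Submodule.map_id (D j)
    | succ l ih => rw [pow_succ', pow_succ' π, Equiv.Perm.mul_apply, ← hmap, ← ih, Module.End.mul_eq_comp, Submodule.map_comp]
  have hper : (π ^ r) j = j := hDinj (by
    rw [← hmapk, hf]
    exact Submodule.map_id (D j))
  have hfp : ∀ (σ : Equiv.Perm (Fin t)) (k : Fin t), σ k = k → ∀ n : ℕ, (σ ^ n) k = k := fun σ k h n => by
    induction n with
    | zero => rfl
    | succ n ih => rw [pow_succ, Equiv.Perm.mul_apply, h, ih]
  have hinj : ∀ l l' : Fin r, (π ^ (l : ℕ)) j = (π ^ (l' : ℕ)) j → l = l' := by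
    have key : ∀ l l' : ℕ, l ≤ l' → l' < r → (π ^ l) j = (π ^ l') j → l = l' := by
      intro l l' hle hlt h
      by_contra hne
      obtain ⟨n, rfl⟩ := Nat.exists_eq_add_of_le hle
      rw [pow_add, Equiv.Perm.mul_apply, (π ^ l).injective.eq_iff] at h
      obtain ⟨b, hb⟩ : ∃ b : ℕ, (n * b) % r = 1 % r := ⟨((n : ZMod r)⁻¹).val, by
        rw [← ZMod.natCast_eq_natCast_iff', Nat.cast_mul, ZMod.natCast_val, ZMod.cast_id', id, Nat.cast_one,
          mul_inv_cancel₀ fun h0 => by
            have := Nat.le_of_dvd (by omega) ((ZMod.natCast_eq_zero_iff n r).1 h0)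
            omega]⟩
      rw [Nat.mod_eq_of_lt hr'.out.one_lt] at hb
      refine hj ?_
      have h1 : (π ^ (n * b)) j = j := by rw [pow_mul]; exact hfp _ _ h.symm b
      rwa [← Nat.mod_add_div (n * b) r, hb, pow_add, pow_mul, Equiv.Perm.mul_apply, hfp _ _ hper,
        pow_one] at h1
    intro l l' h
    rcases Nat.le_total (l : ℕ) l' with hle | hle
    · exact Fin.ext (key _ _ hle l'.2 h)
    · exact Fin.ext (key _ _ hle l.2 h.symm).symm
  have hindep : ∀ v : Fin r → D j, ∑ l : Fin r, (f ^ (l : ℕ)) (v l).1 = 0 →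
      ∀ l : Fin r, (f ^ (l : ℕ)) (v l).1 = 0 := by
    intro v hv l
    have hI := (hind.comp (f := fun l : Fin r => (π ^ (l : ℕ)) j) (fun a b e => hinj a b e))
    have h := (Submodule.disjoint_def.1 (hI l)) _ (hpow _ _ (v l).2) ?_
    · exact h
    · rw [← Finset.add_sum_erase _ _ (Finset.mem_univ l)] at hv
      rw [eq_neg_of_add_eq_zero_left hv]
      refine Submodule.neg_mem _ (Submodule.sum_mem _ fun k hk => ?_)
      exact Submodule.mem_iSup_of_mem k (Submodule.mem_iSup_of_mem (Finset.ne_of_mem_erase hk) (hpow _ _ (v k).2))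
  have hfinj : ∀ (l : ℕ) v, (f ^ l) v = 0 → v = 0 := fun l v h => by
    have e : (f ^ (r * l)) v = v := by rw [pow_mul, hf, one_pow, Module.End.one_apply]
    have hl : l ≤ r * l := Nat.le_mul_of_pos_left l hr'.out.pos
    rw [← e, ← Nat.sub_add_cancel hl, pow_add, Module.End.mul_apply, h, map_zero]
  obtain ⟨R, hR⟩ : ∃ R, r = R + 1 := ⟨r - 1, by have := hr'.out.pos; omega⟩
  subst hR
  constructor
  · let Φ : (Fin R → D j) →ₗ[F] V :=
      (f - 1).comp (∑ l : Fin R, (f ^ (l : ℕ)).comp ((D j).subtype.comp (LinearMap.proj l)))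
    have hΦinj : Function.Injective Φ := by
      rw [← LinearMap.ker_eq_bot, Submodule.eq_bot_iff]
      intro v hv
      rw [LinearMap.mem_ker] at hv
      let w : Fin (R + 1) → D j := fun l =>
        Fin.cons (α := fun _ => D j) 0 v l - Fin.snoc (α := fun _ => D j) v 0 l
      have hsum : ∑ l : Fin (R + 1), (f ^ (l : ℕ)) (w l).1 = 0 := by
        rw [← hv]
        simp only [w, Submodule.coe_sub, map_sub, Finset.sum_sub_distrib]
        rw [Fin.sum_univ_succ, Fin.sum_univ_castSucc (f := fun l : Fin (R + 1) =>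
          (f ^ (l : ℕ)) (Fin.snoc (α := fun _ => D j) v 0 l).1)]
        simp [Φ, LinearMap.sum_apply, map_sum, Finset.sum_sub_distrib, pow_succ']
      have hw := fun l => hfinj _ _ (hindep w hsum l)
      have hz : ∀ l : ℕ, ∀ h : l < R, v ⟨l, h⟩ = 0 := by
        intro l
        induction l with
        | zero =>
          intro h
          have := hw (Fin.castSucc ⟨0, h⟩)
          simp only [w, Fin.snoc_castSucc, show Fin.castSucc (⟨0, h⟩ : Fin R) = (0 : Fin (R + 1)) from rfl] at this
          rw [show (0 : Fin (R + 1)) = Fin.castSucc ⟨0, h⟩ from rfl, Fin.snoc_castSucc,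
            show Fin.castSucc (⟨0, h⟩ : Fin R) = (0 : Fin (R + 1)) from rfl, Fin.cons_zero, zero_sub] at this
          exact neg_eq_zero.1 (Subtype.ext this)
        | succ l ih =>
          intro h
          have := hw (Fin.castSucc ⟨l + 1, h⟩)
          simp only [w, Fin.snoc_castSucc] at this
          rw [show Fin.castSucc (⟨l + 1, h⟩ : Fin R) = Fin.succ ⟨l, by omega⟩ from rfl, Fin.cons_succ,
            ih, zero_sub] at this
          exact neg_eq_zero.1 (Subtype.ext this)
      exact funext fun l => hz l.1 l.2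
    have hle : LinearMap.range Φ ≤ movS f := LinearMap.range_comp_le_range _ _
    have h1 := Submodule.finrank_mono hle
    rw [LinearMap.finrank_range_of_inj hΦinj, Module.finrank_pi_fintype, Finset.sum_const, Finset.card_univ,
      Fintype.card_fin, hd, smul_eq_mul] at h1
    rwa [Nat.add_sub_cancel]
  · let Ψ : D j →ₗ[F] fixS f :=
      LinearMap.codRestrict (fixS f) (∑ l : Fin (R + 1), (f ^ (l : ℕ)).comp (D j).subtype) fun v => by
        rw [mem_fixS]
        simp only [LinearMap.sum_apply, LinearMap.comp_apply, map_sum, ← Module.End.mul_apply, ← pow_succ']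
        rw [Fin.sum_univ_castSucc (f := fun l : Fin (R + 1) => (f ^ ((l : ℕ) + 1)) ((D j).subtype v)),
          Fin.sum_univ_succ (f := fun l : Fin (R + 1) => (f ^ (l : ℕ)) ((D j).subtype v))]
        simp [hf, add_comm]
    have hinjΨ : Function.Injective Ψ := by
      rw [← LinearMap.ker_eq_bot, Submodule.eq_bot_iff]
      intro v hv
      have h := congrArg Subtype.val (LinearMap.mem_ker.1 hv)
      simp only [Ψ, LinearMap.codRestrict_apply, LinearMap.sum_apply, LinearMap.comp_apply] at h
      exact Subtype.ext (hfinj 0 _ (hindep (fun _ => v) h 0))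
    have := LinearMap.finrank_le_finrank_of_injective hinjΨ
    rwa [hd] at this

end CfsgLib.Elusive2
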