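import Cfsg.Agent.Elusive2.SympDecomp

/-!
The number of ordered orthogonal decompositions of a symplectic space.
-/

set_option autoImplicit false
set_option linter.unusedSectionVars false

namespace CfsgLib.Elusive2

open Module CfsgLib.Elusive CfsgLib.Symp CfsgLib.Symp.Geometry

variable {F : Type*} [Field F] [Fintype F] {d a t : ℕ}

/-- The decompositions counted in the statements. -/
def IsOrthDec (d a : ℕ) {t : ℕ} (D : Fin t → Submodule F (Fin d ⊕ Fin d → F)) : Prop :=
  Cfsg.Geo.IsMDecomposition a D ∧ (∀ j, Ndg (sympBilin d F) (D j)) ∧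
    ∀ j j', j ≠ j' → ∀ u ∈ D j, ∀ v ∈ D j', sympBilin d F u v = 0

theorem IsOrthDec.injective {D : Fin t → Submodule F (Fin d ⊕ Fin d → F)} (hD : IsOrthDec d a D) :
    Function.Injective D := fun j k e => by
  by_contra hne
  have h1 := hD.1.indep.pairwiseDisjoint hne
  rw [Function.onFun, e, disjoint_self] at h1
  have := hD.1.finrank_eq k
  rw [h1, finrank_bot] at this
  exact hD.1.pos.ne this

theorem factorial_dvd_card_orthDec :
    Nat.factorial t ∣ Nat.card {D : Fin t → Submodule F (Fin d ⊕ Fin d → F) // IsOrthDec d a D} := by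
  classical
  set X := {D : Fin t → Submodule F (Fin d ⊕ Fin d → F) // IsOrthDec d a D}
  let sp : X → Set.range (fun D : X => Set.range D.1) := Set.rangeFactorization _
  have hfib : ∀ S, Nat.card {D : X // sp D = S} = Nat.factorial t := by
    rintro ⟨_, D₀, rfl⟩
    have hperm : ∀ σ : Equiv.Perm (Fin t), IsOrthDec d a (D₀.1 ∘ σ) := fun σ =>
      ⟨⟨D₀.2.1.two_le, D₀.2.1.pos, fun i => D₀.2.1.finrank_eq _, D₀.2.1.indep.comp σ.injective,
        (Equiv.iSup_comp σ).trans D₀.2.1.iSup_eq_top⟩, fun j => D₀.2.2.1 _,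
        fun j j' h => D₀.2.2.2 _ _ (σ.injective.ne h)⟩
    let φ : Equiv.Perm (Fin t) → {D : X // sp D = ⟨Set.range D₀.1, D₀, rfl⟩} := fun σ =>
      ⟨⟨D₀.1 ∘ σ, hperm σ⟩, Subtype.ext (σ.surjective.range_comp _)⟩
    have hb : Function.Bijective φ := by
      constructor
      · intro σ τ e
        ext1 j
        exact D₀.2.injective (congrFun (congrArg (fun D => D.1.1) e) j)
      · rintro ⟨D, hD⟩
        have hr : Set.range D.1 = Set.range D₀.1 := congrArg Subtype.val hD
        have hm : ∀ j, ∃ i, D₀.1 i = D.1 j := fun j => by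
          show D.1 j ∈ Set.range D₀.1
          exact hr ▸ Set.mem_range_self j
        choose σ hσ using hm
        have hσi : Function.Injective σ := fun j k e => D.2.injective (by rw [← hσ, ← hσ, e])
        exact ⟨Equiv.ofBijective σ (Finite.injective_iff_bijective.1 hσi),
          Subtype.ext (Subtype.ext (funext hσ))⟩
    rw [← Nat.card_congr (Equiv.ofBijective φ hb), Nat.card_eq_fintype_card, Fintype.card_perm,
      Fintype.card_fin]
  have := Fintype.ofFinite (Set.range (fun D : X => Set.range D.1))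
  rw [← Nat.card_congr (Equiv.sigmaFiberEquiv sp), Nat.card_sigma, Finset.sum_congr rfl fun S _ => hfib S,
    Finset.sum_const, smul_eq_mul]
  exact dvd_mul_left _ _

theorem IsOrthDec.map {D : Fin t → Submodule F (Fin d ⊕ Fin d → F)} (hD : IsOrthDec d a D)
    (g : Matrix.symplecticGroup (Fin d) F) :
    IsOrthDec d a fun j => (D j).map (Matrix.mulVecLin g.1) := by
  have hinj : Function.Injective (Matrix.mulVecLin g.1) := fun u v e => MulAction.injective g e
  refine ⟨⟨hD.1.two_le, hD.1.pos, fun j => ?_, hD.1.indep.map_orderIso (f := Submodule.orderIsoMapComap (LinearEquiv.ofBijective _ ⟨hinj, fun v => ⟨g⁻¹ • v, smul_inv_smul g v⟩⟩)), ?_⟩, fun j => ?_, fun j j' h => ?_⟩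
  · rw [← (Submodule.equivMapOfInjective _ hinj (D j)).finrank_eq]
    exact hD.1.finrank_eq j
  · rw [← Submodule.map_iSup, hD.1.iSup_eq_top, Submodule.map_top, LinearMap.range_eq_top]
    exact fun v => ⟨g⁻¹ • v, smul_inv_smul g v⟩
  · rintro _ ⟨u, hu, rfl⟩ h0
    obtain ⟨v, hv, hne⟩ := hD.2.1 j u hu fun e => h0 (by rw [e, map_zero])
    exact ⟨_, ⟨v, hv, rfl⟩, fun e => hne ((form_smul_smul g u v).symm.trans e)⟩
  · rintro _ ⟨u, hu, rfl⟩ _ ⟨v, hv, rfl⟩
    exact (form_smul_smul g u v).trans (hD.2.2 j j' h u hu v hv)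

theorem orthDec_transitive {D D' : Fin t → Submodule F (Fin d ⊕ Fin d → F)} (hD : IsOrthDec d a D)
    (hD' : IsOrthDec d a D') :
    ∃ g : Matrix.symplecticGroup (Fin d) F, (fun j => (D j).map (Matrix.mulVecLin g.1)) = D' := by
  classical
  rcases Nat.eq_zero_or_pos t with rfl | ht
  · exact ⟨1, funext fun j => j.elim0⟩
  obtain ⟨h, hh⟩ := ndg_even (B := sympBilin d F) (fun v => form_self v) _ (D ⟨0, ht⟩) rfl (hD.2.1 _)
  have ha : a = 2 * h := by rw [← hD.1.finrank_eq ⟨0, ht⟩, hh]; ring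
  choose v hv hvs hvf using fun j => exists_frame (h := h) ((hD.1.finrank_eq j).trans ha) (hD.2.1 j)
  choose w hw hws hwf using fun j => exists_frame (h := h) ((hD'.1.finrank_eq j).trans ha) (hD'.2.1 j)
  let e := (Fintype.equivFin (Fin t × (Fin h ⊕ Fin h))).symm
  have hli : ∀ (E : Fin t → Submodule F (Fin d ⊕ Fin d → F)) (_ : IsOrthDec d a E)
      (u : Fin t → Fin h ⊕ Fin h → (Fin d ⊕ Fin d → F)), (∀ j, LinearIndependent F (u j)) →
      (∀ j, Submodule.span F (Set.range (u j)) = E j) →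
      LinearIndependent F fun x : Fin t × (Fin h ⊕ Fin h) => u x.1 x.2 := by
    intro E hE u hu hus
    refine Fintype.linearIndependent_iff.2 fun c hc => ?_
    rw [Fintype.sum_prod_type] at hc
    rintro ⟨j, i⟩
    refine Fintype.linearIndependent_iff.1 (hu j) (fun i => c (j, i)) ?_ i
    have hmem : ∀ k, ∑ i, c (k, i) • u k i ∈ E k := fun k => hus k ▸
      Submodule.sum_mem _ fun i _ => Submodule.smul_mem _ _ (Submodule.subset_span ⟨i, rfl⟩)
    refine Submodule.disjoint_def.1 (hE.1.indep j) _ (hmem j) ?_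
    rw [← Finset.add_sum_erase _ _ (Finset.mem_univ j)] at hc
    rw [eq_neg_of_add_eq_zero_left hc]
    exact Submodule.neg_mem _ (Submodule.sum_mem _ fun k hk =>
      Submodule.mem_iSup_of_mem k (Submodule.mem_iSup_of_mem (Finset.ne_of_mem_erase hk) (hmem k)))
  obtain ⟨g, hg⟩ := exists_sp_family (fun x => v (e x).1 (e x).2) (fun x => w (e x).1 (e x).2)
    ((hli D hD v hv hvs).comp _ e.injective) ((hli D' hD' w hw hws).comp _ e.injective) fun x y => by
      rcases eq_or_ne (e x).1 (e y).1 with h1 | h1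
      · rw [h1, hvf, hwf]
      · have hv' : ∀ j i, v j i ∈ D j := fun j i => hvs j ▸ Submodule.subset_span ⟨i, rfl⟩
        have hw' : ∀ j i, w j i ∈ D' j := fun j i => hws j ▸ Submodule.subset_span ⟨i, rfl⟩
        exact (hD.2.2 _ _ h1 _ (hv' _ _) _ (hv' _ _)).trans (hD'.2.2 _ _ h1 _ (hw' _ _) _ (hw' _ _)).symm
  refine ⟨g, funext fun j => ?_⟩
  rw [← hvs j, ← hws j, Submodule.map_span, ← Set.range_comp]
  congr 2
  funext i
  have := hg (e.symm (j, i))
  simp only [Equiv.apply_symm_apply] at this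
  exact this

theorem card_orthDec_dvd [Nonempty {D : Fin t → Submodule F (Fin d ⊕ Fin d → F) // IsOrthDec d a D}] :
    Nat.card {D : Fin t → Submodule F (Fin d ⊕ Fin d → F) // IsOrthDec d a D} ∣
      Nat.card (Matrix.symplecticGroup (Fin d) F) := by
  classical
  set G := Matrix.symplecticGroup (Fin d) F
  set X := {D : Fin t → Submodule F (Fin d ⊕ Fin d → F) // IsOrthDec d a D}
  obtain ⟨D0⟩ := ‹Nonempty X›
  let Φ : G → X := fun g => ⟨_, D0.2.map g⟩
  let K := {g : G // Φ g = D0}
  have hmul : ∀ g h : G, ∀ j, ((D0.1 j).map (Matrix.mulVecLin h.1)).map (Matrix.mulVecLin g.1) =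
      (D0.1 j).map (Matrix.mulVecLin (g * h).1) := fun g h j => by
    rw [← Submodule.map_comp, ← Matrix.mulVecLin_mul]
    rfl
  have hone : ∀ j, (D0.1 j).map (Matrix.mulVecLin (1 : G).1) = D0.1 j := fun j => by
    rw [show ((1 : G).1 : Matrix (Fin d ⊕ Fin d) (Fin d ⊕ Fin d) F) = 1 from rfl, Matrix.mulVecLin_one,
      Submodule.map_id]
  have hfib : ∀ D : X, Nat.card {g : G // Φ g = D} = Nat.card K := fun D => by
    obtain ⟨g, hg⟩ := orthDec_transitive D0.2 D.2
    have key : ∀ y : G, Φ (g * y) = D ↔ Φ y = D0 := fun y => by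
      show (⟨_, D0.2.map (g * y)⟩ : X) = D ↔ (⟨_, D0.2.map y⟩ : X) = D0
      rw [Subtype.ext_iff, Subtype.ext_iff]
      show (fun j => (D0.1 j).map (Matrix.mulVecLin (g * y).1)) = D.1 ↔
        (fun j => (D0.1 j).map (Matrix.mulVecLin y.1)) = D0.1
      rw [← hg, funext_iff, funext_iff]
      refine forall_congr' fun j => ?_
      simp only [← hmul]
      exact (Submodule.map_injective_of_injective fun u v e => MulAction.injective g e).eq_iff
    exact Nat.card_congr ((Equiv.subtypeEquiv (Equiv.mulLeft g) fun y => (key y).symm).symm)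
  have := Fintype.ofFinite X
  rw [← Nat.card_congr (Equiv.sigmaFiberEquiv Φ), Nat.card_sigma, Finset.sum_congr rfl fun D _ => hfib D,
    Finset.sum_const, Finset.card_univ, smul_eq_mul, Nat.card_eq_fintype_card (α := X)]
  exact dvd_mul_right _ _

end CfsgLib.Elusive2
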