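import Cfsg.Agent.Elusive2.SympTwo

/-!
Invariant planes of involutions in odd characteristic, and an involution of characteristic two
all of whose non-degenerate invariant subspaces have dimension divisible by four.
-/

set_option autoImplicit false

namespace CfsgLib.Elusive2

open Module CfsgLib.Elusive

variable {F : Type*} [Field F]

/-- Involutions in odd characteristic fix non-degenerate subspaces of every even dimension. -/
theorem exists_inv_planes {d h : ℕ} (hd : 0 < d) (hh : h ≤ d) (h2 : (2 : F) ≠ 0)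
    {x : ↥(Matrix.symplecticGroup (Fin d) F)} {z : F}
    (hx : ((x ^ 2 : ↥(Matrix.symplecticGroup (Fin d) F)) : Matrix (Fin d ⊕ Fin d) (Fin d ⊕ Fin d) F) = z • 1) :
    ∃ W : Submodule F (Fin d ⊕ Fin d → F), finrank F W = 2 * h ∧ Ndg (sympBilin d F) W ∧
      W.map (Matrix.toLin' (x : Matrix (Fin d ⊕ Fin d) (Fin d ⊕ Fin d) F)) ≤ W := by
  obtain ⟨u, w, hp, -⟩ := exists_planes_symp hd h2 hx
  obtain ⟨hu, hw, huw, huw0, halt⟩ := hp
  let g : Fin h ⊕ Fin h → (Fin d ⊕ Fin d → F) :=
    Sum.elim (fun i => u (Fin.castLE hh i)) fun i => w (Fin.castLE hh i)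
  have hinj : Function.Injective (Fin.castLE hh) := Fin.castLE_injective hh
  have hwu : ∀ i j, i ≠ j → sympBilin d F (w i) (u j) = 0 := fun i j hne =>
    alt_refl (fun v => CfsgLib.Symp.form_self v) _ _ (huw j i (Ne.symm hne))
  have hwu0 : ∀ i, sympBilin d F (w i) (u i) ≠ 0 := fun i e =>
    huw0 i (alt_refl (fun v => CfsgLib.Symp.form_self v) _ _ e)
  have key : ∀ c : Fin h ⊕ Fin h → F, c ≠ 0 → ∃ j, sympBilin d F (∑ i, c i • g i) (g j) ≠ 0 := by
    intro c hc
    obtain ⟨i | i, hi⟩ := Function.ne_iff.1 hc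
    · refine ⟨Sum.inr i, ?_⟩
      simp only [Fintype.sum_sum_type, g, Sum.elim_inl, Sum.elim_inr, map_add, map_sum, map_smul,
        LinearMap.add_apply, LinearMap.sum_apply, LinearMap.smul_apply, smul_eq_mul, hw, mul_zero,
        Finset.sum_const_zero, add_zero]
      rw [Finset.sum_eq_single i (fun j _ hj => by rw [huw _ _ fun e => hj (hinj e), mul_zero])
        fun h => absurd (Finset.mem_univ i) h]
      exact mul_ne_zero hi (huw0 _)
    · refine ⟨Sum.inl i, ?_⟩
      simp only [Fintype.sum_sum_type, g, Sum.elim_inl, Sum.elim_inr, map_add, map_sum, map_smul,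
        LinearMap.add_apply, LinearMap.sum_apply, LinearMap.smul_apply, smul_eq_mul, hu, mul_zero,
        Finset.sum_const_zero, zero_add]
      rw [Finset.sum_eq_single i (fun j _ hj => by rw [hwu _ _ fun e => hj (hinj e), mul_zero])
        fun h => absurd (Finset.mem_univ i) h]
      exact mul_ne_zero hi (hwu0 _)
  have hli : LinearIndependent F g := Fintype.linearIndependent_iff.2 fun c hc i => by
    by_contra hi
    obtain ⟨j, hj⟩ := key c fun e => hi (by rw [e]; rfl)
    exact hj (by rw [hc, map_zero, LinearMap.zero_apply])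
  refine ⟨Submodule.span F (Set.range g), by
    rw [finrank_span_eq_card hli, Fintype.card_sum, Fintype.card_fin, two_mul], fun v hv hv0 => ?_, ?_⟩
  · obtain ⟨c, rfl⟩ := (Submodule.mem_span_range_iff_exists_fun F).1 hv
    obtain ⟨j, hj⟩ := key c fun e => hv0 (by simp [e])
    exact ⟨_, Submodule.subset_span ⟨j, rfl⟩, hj⟩
  · rw [Submodule.map_span, Submodule.span_le]
    rintro _ ⟨_, ⟨i | i, rfl⟩, rfl⟩
    all_goals
      obtain ⟨-, hs⟩ | ⟨-, hs⟩ := halt
      · obtain ⟨s, -, h1, h2'⟩ := hs (Fin.castLE hh i)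
        simp only [g, Sum.elim_inl, Sum.elim_inr, SetLike.mem_coe, h1, h2']
        first
          | exact Submodule.smul_mem _ s (Submodule.subset_span ⟨Sum.inl i, rfl⟩)
          | exact Submodule.smul_mem _ s (Submodule.subset_span ⟨Sum.inr i, rfl⟩)
      · obtain ⟨h1, h2'⟩ := hs (Fin.castLE hh i)
        simp only [g, Sum.elim_inl, Sum.elim_inr, SetLike.mem_coe, h1, h2']
        first
          | exact Submodule.subset_span ⟨Sum.inr i, rfl⟩
          | exact Submodule.neg_mem _ (Submodule.subset_span ⟨Sum.inl i, rfl⟩)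

/-- `(a, b) ↦ (a + b reversed, b)`. -/
theorem exists_full_involution (h2 : (2 : F) = 0) {d : ℕ} (hd : 0 < d) (hev : Even d) :
    ∃ x : ↥(Matrix.symplecticGroup (Fin d) F), x ^ 2 = 1 ∧
      (∀ z : F, (x : Matrix (Fin d ⊕ Fin d) (Fin d ⊕ Fin d) F) ≠ z • 1) ∧
      ∀ W : Submodule F (Fin d ⊕ Fin d → F), Ndg (sympBilin d F) W →
        W.map (Matrix.toLin' (x : Matrix (Fin d ⊕ Fin d) (Fin d ⊕ Fin d) F)) ≤ W → 4 ∣ finrank F W := by
  classical
  let N : Module.End F (Fin d ⊕ Fin d → F) :=
    { toFun := fun v => Sum.elim (fun l => v (Sum.inr (Fin.rev l))) fun _ => 0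
      map_add' := fun u v => funext fun l => by cases l <;> simp
      map_smul' := fun c v => funext fun l => by cases l <;> simp }
  have hNN : ∀ v, N (N v) = 0 := fun v => funext fun l => by cases l <;> rfl
  have hneg : ∀ a : F, -a = a := fun a => by linear_combination (-a) * h2
  have hBN : ∀ u v, CfsgLib.Symp.form u (N v) = ∑ l, u (Sum.inr l) * v (Sum.inr (Fin.rev l)) := fun u v => by
    rw [CfsgLib.Symp.form_apply]
    simp [N]
  have hsym : ∀ u v, CfsgLib.Symp.form (N u) v = CfsgLib.Symp.form u (N v) := fun u v => by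
    rw [CfsgLib.Symp.form_swap, hneg, hBN, hBN, ← Equiv.sum_comp (Fin.revPerm (n := d))]
    simp only [Fin.revPerm_apply, Fin.rev_rev]
    exact Finset.sum_congr rfl fun l _ => mul_comm _ _
  have halt : ∀ v, CfsgLib.Symp.form v (N v) = 0 := fun v => by
    rw [hBN]
    refine Finset.sum_involution (fun l _ => Fin.rev l) (fun l _ => ?_) (fun l _ _ => ?_)
      (fun _ _ => Finset.mem_univ _) (fun l _ => Fin.rev_rev l)
    · rw [Fin.rev_rev, mul_comm (v (Sum.inr (Fin.rev l))), ← two_mul, h2, zero_mul]
    · intro e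
      obtain ⟨e', he'⟩ := hev
      have := congrArg Fin.val e
      rw [Fin.val_rev] at this
      omega
  let f : Module.End F (Fin d ⊕ Fin d → F) := 1 + N
  have hff : f ^ 2 = 1 := LinearMap.ext fun v => by
    simp only [f, pow_two, Module.End.mul_apply, LinearMap.add_apply, Module.End.one_apply, map_add, hNN,
      add_zero]
    have : (2 : F) • N v = 0 := by rw [h2, zero_smul]
    rw [two_smul] at this
    rw [add_assoc, this, add_zero]
  have hform : ∀ u v, sympBilin d F (f u) (f v) = sympBilin d F u v := fun u v => by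
    simp only [f, LinearMap.add_apply, Module.End.one_apply, map_add]
    have e1 : sympBilin d F (N u) v = sympBilin d F u (N v) := hsym u v
    have e2 : sympBilin d F (N u) (N v) = 0 := by
      rw [show sympBilin d F (N u) (N v) = sympBilin d F u (N (N v)) from hsym u (N v), hNN, map_zero]
    rw [e1, e2]
    linear_combination (sympBilin d F u (N v)) * h2
  let x : ↥(Matrix.symplecticGroup (Fin d) F) :=
    ⟨Matrix.toLinAlgEquiv'.symm f, CfsgLib.Symp.mem_iff_form.2 fun u v => by
      have e : ∀ w, (Matrix.toLinAlgEquiv'.symm f).mulVec w = f w := fun w => by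
        rw [← Matrix.toLinAlgEquiv'_apply, AlgEquiv.apply_symm_apply]
      rw [e, e]; exact hform u v⟩
  have hxf : Matrix.toLinAlgEquiv' (x : Matrix (Fin d ⊕ Fin d) (Fin d ⊕ Fin d) F) = f :=
    AlgEquiv.apply_symm_apply _ _
  have hsub : f - 1 = N := add_sub_cancel_left 1 N
  refine ⟨x, Subtype.ext (Matrix.toLinAlgEquiv'.injective ?_), fun z hz => ?_, fun W hW hmap => ?_⟩
  · rw [SubmonoidClass.coe_pow, map_pow, hxf, hff]
    exact (map_one _).symm
  · have h := congrFun (LinearMap.congr_fun (hxf.symm.trans (congrArg Matrix.toLinAlgEquiv' hz))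
      (Pi.single (Sum.inr ⟨0, hd⟩) 1)) (Sum.inl (Fin.rev ⟨0, hd⟩))
    simp [f, N, map_smul] at h
  · have hP : IsPack (sympBilin d F) f 2 :=
      ⟨alt_refl fun v => CfsgLib.Symp.form_self v, hform, hff, by norm_num⟩
    refine four_dvd_of_full hP (fun v => CfsgLib.Symp.form_self v) h2
      (fun u _ hu0 => ?_) (fun v => by rw [hsub]; exact halt v) ?_ ?_ hW
    · obtain ⟨v, hv⟩ := CfsgLib.Symp.exists_form_ne_zero hu0
      exact ⟨v, Submodule.mem_top, hv⟩
    · rw [hsub]
      have hr : LinearMap.range N = LinearMap.range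
          ({ toFun := fun a => Sum.elim a fun _ => 0
             map_add' := fun a b => funext fun l => by cases l <;> simp
             map_smul' := fun c a => funext fun l => by cases l <;> simp } :
            (Fin d → F) →ₗ[F] (Fin d ⊕ Fin d → F)) := by
        refine le_antisymm ?_ ?_
        · rintro _ ⟨v, rfl⟩
          exact ⟨fun l => v (Sum.inr (Fin.rev l)), rfl⟩
        · rintro _ ⟨a, rfl⟩
          exact ⟨Sum.elim 0 fun l => a (Fin.rev l), funext fun l => by cases l <;> simp [N]⟩
      rw [hr, LinearMap.finrank_range_of_inj fun a b e => funext fun l => congrFun e (Sum.inl l),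
        finrank_fin_fun, finrank_fintype_fun_eq_card, Fintype.card_sum, Fintype.card_fin, two_mul]
    · intro v hv
      have e : f v = Matrix.toLin' (x : Matrix (Fin d ⊕ Fin d) (Fin d ⊕ Fin d) F) v := by
        rw [← hxf]; rfl
      rw [e]
      exact hmap ⟨v, hv, rfl⟩

end CfsgLib.Elusive2
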