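import Cfsg.Agent.Elusive2.Form
import Cfsg.Agent.Elusive.SympPlanes
import Mathlib.NumberTheory.LegendreSymbol.QuadraticChar.Basic

/-!
Totally isotropic subspaces invariant under involutions of the projective symplectic group.
-/

set_option autoImplicit false

namespace CfsgLib.Elusive2

open Module CfsgLib.Elusive

variable {F : Type*} [Field F] [Fintype F]

omit [Fintype F] in
theorem iso_span {ι : Type*} [Fintype ι] {d : ℕ} {g : ι → (Fin d ⊕ Fin d → F)}
    (h : ∀ i j, sympBilin d F (g i) (g j) = 0) :
    Iso0 (sympBilin d F) (Submodule.span F (Set.range g)) := fun a ha b hb => by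
  obtain ⟨ca, rfl⟩ := (Submodule.mem_span_range_iff_exists_fun F).1 ha
  obtain ⟨cb, rfl⟩ := (Submodule.mem_span_range_iff_exists_fun F).1 hb
  simp [map_sum, map_smul, h]

/-- Involutions fix totally isotropic subspaces. -/
theorem exists_inv_iso {d m : ℕ} (hd : 0 < d) (hmd : m ≤ d) (h2 : (2 : F) ≠ 0)
    (hcond : Even m ∨ IsSquare (-1 : F)) {x : ↥(Matrix.symplecticGroup (Fin d) F)} {z : F}
    (hx : ((x ^ 2 : ↥(Matrix.symplecticGroup (Fin d) F)) : Matrix (Fin d ⊕ Fin d) (Fin d ⊕ Fin d) F) = z • 1) :
    ∃ W : Submodule F (Fin d ⊕ Fin d → F), finrank F W = m ∧ Iso0 (sympBilin d F) W ∧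
      W.map (Matrix.toLin' (x : Matrix (Fin d ⊕ Fin d) (Fin d ⊕ Fin d) F)) ≤ W := by
  classical
  obtain ⟨u, w, hp, -⟩ := exists_planes_symp hd h2 hx
  obtain ⟨hu, hw, huw, huw0, halt⟩ := hp
  have hswap : ∀ x y : Fin d ⊕ Fin d → F, sympBilin d F y x = -sympBilin d F x y := fun x y =>
    CfsgLib.Symp.form_swap y x
  -- pairings of plane vectors
  have hw' : ∀ (a b : F) (k l : Fin d), sympBilin d F (a • u k + b • w k) (w l) =
      if k = l then a * sympBilin d F (u l) (w l) else 0 := fun a b k l => by
    simp only [map_add, map_smul, LinearMap.add_apply, LinearMap.smul_apply, smul_eq_mul, hw, mul_zero, add_zero]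
    split_ifs with h
    · rw [h]
    · rw [huw _ _ h, mul_zero]
  have hu' : ∀ (a b : F) (k l : Fin d), sympBilin d F (a • u k + b • w k) (u l) =
      if k = l then -(b * sympBilin d F (u l) (w l)) else 0 := fun a b k l => by
    simp only [map_add, map_smul, LinearMap.add_apply, LinearMap.smul_apply, smul_eq_mul, hu, mul_zero, zero_add]
    rw [hswap (u l) (w k)]
    split_ifs with h
    · rw [h, mul_neg]
    · rw [huw _ _ (Ne.symm h), neg_zero, mul_zero]
  have hpair : ∀ (a b a' b' : F) (k l : Fin d),
      sympBilin d F (a • u k + b • w k) (a' • u l + b' • w l) =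
        if k = l then (a * b' - b * a') * sympBilin d F (u l) (w l) else 0 := fun a b a' b' k l => by
    rw [map_add (sympBilin d F (a • u k + b • w k)), map_smul, map_smul, smul_eq_mul, smul_eq_mul, hu', hw']
    split_ifs <;> ring
  -- one vector in each of `m` planes
  have hone : ∀ β : F, (∀ i : Fin d, Matrix.toLin' (x : Matrix (Fin d ⊕ Fin d) (Fin d ⊕ Fin d) F)
      ((1 : F) • u i + β • w i) ∈ Submodule.span F {(1 : F) • u i + β • w i}) →
      ∃ W : Submodule F (Fin d ⊕ Fin d → F), finrank F W = m ∧ Iso0 (sympBilin d F) W ∧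
        W.map (Matrix.toLin' (x : Matrix (Fin d ⊕ Fin d) (Fin d ⊕ Fin d) F)) ≤ W := by
    intro β hβ
    let T : Fin m → (Fin d ⊕ Fin d → F) := fun i => (1 : F) • u (Fin.castLE hmd i) + β • w (Fin.castLE hmd i)
    refine ⟨Submodule.span F (Set.range T), ?_, iso_span fun i j => ?_, ?_⟩
    · rw [finrank_span_eq_card (Fintype.linearIndependent_iff.2 fun c hc i => ?_), Fintype.card_fin]
      have h1 := congrArg (fun v => sympBilin d F v (w (Fin.castLE hmd i))) hc
      simp only [map_sum, map_smul, LinearMap.sum_apply, LinearMap.smul_apply, smul_eq_mul, T, hw',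
        (Fin.castLE_injective hmd).eq_iff, mul_ite, mul_zero, Finset.sum_ite_eq', Finset.mem_univ, if_true,
        map_zero, LinearMap.zero_apply] at h1
      simpa [huw0] using h1
    · simp only [T, hpair]
      split_ifs <;> ring
    · rw [Submodule.map_span, Submodule.span_le]
      rintro _ ⟨_, ⟨i, rfl⟩, rfl⟩
      refine Submodule.span_mono ?_ (hβ (Fin.castLE hmd i))
      rintro _ rfl
      exact ⟨i, rfl⟩
  obtain ⟨-, hs⟩ | ⟨-, hs⟩ := halt
  · refine hone 0 fun i => ?_
    obtain ⟨s, -, h1, -⟩ := hs i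
    rw [one_smul, zero_smul, add_zero, h1]
    exact Submodule.smul_mem _ s (Submodule.mem_span_singleton_self _)
  rcases hcond with ⟨h, hm⟩ | ⟨i0, hi0⟩
  swap
  · refine hone i0 fun i => ?_
    rw [map_add, map_smul, map_smul, (hs i).1, (hs i).2]
    have e : (1 : F) • w i + i0 • -u i = (-i0) • ((1 : F) • u i + i0 • w i) := by
      rw [smul_add, smul_smul, smul_smul, neg_mul, neg_mul, ← hi0, neg_neg]
      module
    rw [e]
    exact Submodule.smul_mem _ _ (Submodule.mem_span_singleton_self _)
  -- two planes at a time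
  let A : Fin h → Fin d := fun i => ⟨i.1, by omega⟩
  let C : Fin h → Fin d := fun i => ⟨h + i.1, by omega⟩
  have hAC : ∀ i i', A i ≠ C i' := fun i i' e => by
    have := congrArg Fin.val e; simp [A, C] at this; omega
  have hAinj : Function.Injective A := fun i i' e => Fin.ext (by simpa [A] using congrArg Fin.val e)
  have hCinj : Function.Injective C := fun i i' e => Fin.ext (by simpa [C] using congrArg Fin.val e)
  have hodd : Fintype.card F % 2 = 1 := FiniteField.odd_card_of_char_ne_two fun e => h2 (by
    have := ringChar.Nat.cast_ringChar (R := F); rw [e] at this; exact_mod_cast this)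
  choose a b hab using fun i : Fin h => FiniteField.exists_root_sum_quadratic
    (f := (Polynomial.X ^ 2 : Polynomial F))
    (g := Polynomial.X ^ 2 + Polynomial.C (sympBilin d F (u (C i)) (w (C i)) / sympBilin d F (u (A i)) (w (A i))))
    (Polynomial.degree_X_pow 2) (by rw [Polynomial.degree_X_pow_add_C two_pos]; rfl) hodd
  have heq : ∀ i, (a i * a i + b i * b i) * sympBilin d F (u (A i)) (w (A i)) +
      sympBilin d F (u (C i)) (w (C i)) = 0 := fun i => by
    have := hab i
    simp only [Polynomial.eval_pow, Polynomial.eval_X, Polynomial.eval_add, Polynomial.eval_C] at this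
    have h0 := huw0 (A i)
    field_simp at this
    linear_combination this
  let α : Fin h × Bool → F := fun j => if j.2 then -b j.1 else a j.1
  let β : Fin h × Bool → F := fun j => if j.2 then a j.1 else b j.1
  let γ : Fin h × Bool → F := fun j => if j.2 then 0 else 1
  let δ : Fin h × Bool → F := fun j => if j.2 then 1 else 0
  let T : Fin h × Bool → (Fin d ⊕ Fin d → F) := fun j =>
    (α j • u (A j.1) + β j • w (A j.1)) + (γ j • u (C j.1) + δ j • w (C j.1))
  refine ⟨Submodule.span F (Set.range T), ?_, iso_span fun j j' => ?_, ?_⟩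
  · rw [finrank_span_eq_card (Fintype.linearIndependent_iff.2 fun c hc => ?_), Fintype.card_prod,
      Fintype.card_fin, Fintype.card_bool, hm, mul_two]
    rintro ⟨i, s⟩
    have hTw : ∀ j, sympBilin d F (T j) (w (C i)) =
        if j.1 = i then γ j * sympBilin d F (u (C i)) (w (C i)) else 0 := fun j => by
      simp only [T]
      rw [map_add (sympBilin d F), LinearMap.add_apply, hw', hw', if_neg (hAC _ _), zero_add]
      simp only [hCinj.eq_iff]
    have hTu : ∀ j, sympBilin d F (T j) (u (C i)) =
        if j.1 = i then -(δ j * sympBilin d F (u (C i)) (w (C i))) else 0 := fun j => by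
      simp only [T]
      rw [map_add (sympBilin d F), LinearMap.add_apply, hu', hu', if_neg (hAC _ _), zero_add]
      simp only [hCinj.eq_iff]
    have h1 : ∑ j, c j * (if j.1 = i then γ j * sympBilin d F (u (C i)) (w (C i)) else 0) = 0 := by
      rw [← Finset.sum_congr rfl fun j _ => congrArg (c j * ·) (hTw j)]
      simpa [map_sum, map_smul, LinearMap.sum_apply] using congrArg (fun v => sympBilin d F v (w (C i))) hc
    have h3 : ∑ j, c j * (if j.1 = i then -(δ j * sympBilin d F (u (C i)) (w (C i))) else 0) = 0 := by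
      rw [← Finset.sum_congr rfl fun j _ => congrArg (c j * ·) (hTu j)]
      simpa [map_sum, map_smul, LinearMap.sum_apply] using congrArg (fun v => sympBilin d F v (u (C i))) hc
    simp only [mul_ite, mul_zero, Fintype.sum_prod_type, Fintype.sum_bool, Finset.sum_add_distrib,
      Finset.sum_ite_eq', Finset.mem_univ, if_true] at h1 h3
    simp [γ, δ, huw0] at h1 h3
    cases s <;> assumption
  · obtain ⟨i, s⟩ := j
    obtain ⟨i', s'⟩ := j'
    simp only [T, map_add (sympBilin d F) (_ + _) (_ + _), LinearMap.add_apply]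
    rw [map_add (sympBilin d F (α (i, s) • u (A i) + β (i, s) • w (A i))),
      map_add (sympBilin d F (γ (i, s) • u (C i) + δ (i, s) • w (C i))), hpair, hpair, hpair, hpair,
      if_neg (hAC i i'), if_neg (Ne.symm (hAC i' i))]
    rcases eq_or_ne i i' with rfl | hij
    · rw [if_pos rfl, if_pos rfl]
      cases s <;> cases s' <;> simp only [α, β, γ, δ, if_true, if_false, Bool.false_eq_true] <;>
        first | ring1 | linear_combination heq i | linear_combination -(heq i)
    · rw [if_neg (hAinj.ne hij), if_neg (hCinj.ne hij)]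
      ring
  · rw [Submodule.map_span, Submodule.span_le]
    rintro _ ⟨_, ⟨⟨i, s⟩, rfl⟩, rfl⟩
    simp only [SetLike.mem_coe, T, map_add, map_smul, (hs _).1, (hs _).2]
    cases s
    · have e : α (i, false) • w (A i) + β (i, false) • -u (A i) +
          (γ (i, false) • w (C i) + δ (i, false) • -u (C i)) = T (i, true) := by
        simp [T, α, β, γ, δ]; abel
      rw [e]
      exact Submodule.subset_span ⟨_, rfl⟩
    · have e : α (i, true) • w (A i) + β (i, true) • -u (A i) +
          (γ (i, true) • w (C i) + δ (i, true) • -u (C i)) = -T (i, false) := by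
        simp [T, α, β, γ, δ]; abel
      rw [e]
      exact Submodule.neg_mem _ (Submodule.subset_span ⟨_, rfl⟩)

/-- The standard `J` fixes no subspace of odd dimension when `-1` is not a square. -/
theorem exists_no_odd {d : ℕ} (hd : 0 < d) (hns : ¬ IsSquare (-1 : F)) :
    ∃ x : ↥(Matrix.symplecticGroup (Fin d) F),
      ((x ^ 2 : ↥(Matrix.symplecticGroup (Fin d) F)) : Matrix (Fin d ⊕ Fin d) (Fin d ⊕ Fin d) F) = (-1 : F) • 1 ∧
      (∀ z : F, (x : Matrix (Fin d ⊕ Fin d) (Fin d ⊕ Fin d) F) ≠ z • 1) ∧
      ∀ W : Submodule F (Fin d ⊕ Fin d → F),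
        W.map (Matrix.toLin' (x : Matrix (Fin d ⊕ Fin d) (Fin d ⊕ Fin d) F)) ≤ W → Even (finrank F W) := by
  classical
  refine ⟨⟨Matrix.J (Fin d) F, SymplecticGroup.J_mem (Fin d) F⟩, ?_, fun z hz => ?_, fun W hW => ?_⟩
  · rw [SubmonoidClass.coe_pow, pow_two, Matrix.J_squared, neg_smul, one_smul]
  · have h1 := congrFun (congrFun hz (Sum.inl ⟨0, hd⟩)) (Sum.inr ⟨0, hd⟩)
    simp [Matrix.J] at h1
  · by_contra hodd
    let g : W →ₗ[F] W := (Matrix.toLin' (Matrix.J (Fin d) F)).restrict fun v hv => hW ⟨v, hv, rfl⟩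
    have hg : g * g = (-1 : F) • 1 := LinearMap.ext fun v => Subtype.ext (by
      show Matrix.toLin' (Matrix.J (Fin d) F) (Matrix.toLin' (Matrix.J (Fin d) F) v.1) = (-1 : F) • v.1
      rw [Matrix.toLin'_apply, Matrix.toLin'_apply, Matrix.mulVec_mulVec, Matrix.J_squared,
        Matrix.neg_mulVec, Matrix.one_mulVec, neg_smul, one_smul])
    have h := congrArg LinearMap.det hg
    rw [map_mul, LinearMap.det_smul, map_one, mul_one, (Nat.not_even_iff_odd.1 hodd).neg_one_pow] at h
    exact hns ⟨LinearMap.det g, h.symm⟩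

end CfsgLib.Elusive2
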