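import Cfsg.Agent.Elusive2.Iso
import Cfsg.Agent.Elusive2.Symp

/-!
Totally isotropic invariant subspaces of symplectic isometries of odd prime order.
-/

set_option autoImplicit false
set_option linter.unusedSectionVars false

namespace CfsgLib.Elusive2

open Module Polynomial CfsgLib.Elusive

variable {F V : Type*} [Field F] [AddCommGroup V] [Module F V] [FiniteDimensional F V]
  {B : V →ₗ[F] V →ₗ[F] F} {f : V →ₗ[F] V} {r : ℕ}

theorem exists_line (halt : ∀ v, B v v = 0) {W : Submodule F V} (hne : W ≠ ⊥) :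
    ∃ U, U ≤ W ∧ Iso0 B U ∧ finrank F U = 1 := by
  obtain ⟨u, hu, hu0⟩ := W.exists_mem_ne_zero_of_ne_bot hne
  refine ⟨Submodule.span F {u}, (Submodule.span_singleton_le_iff_mem _ _).2 hu, fun a ha b hb => ?_,
    finrank_span_singleton hu0⟩
  obtain ⟨c, rfl⟩ := Submodule.mem_span_singleton.1 ha
  obtain ⟨c', rfl⟩ := Submodule.mem_span_singleton.1 hb
  simp [halt]

variable [Fintype F] [hr' : Fact r.Prime]

/-- Isotropic subspaces of the fixed space. -/
theorem IsSympPack.exists_iso_fix (hP : IsSympPack B f r) (hr : (r : F) ≠ 0) {b : ℕ}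
    (hb : 2 * b ≤ finrank F (fixS f)) : ∃ U, U ≤ fixS f ∧ Iso0 B U ∧ finrank F U = b := by
  obtain ⟨X, U, -, -, hX, -, -, hUi, hUX, hUd⟩ := exists_iso_peel hP.toIsPack (c := 2) (e := 1) (L := 2)
    (CfsgLib.Elusive2.Inv.fixS f) (hP.fix_ndg hr).1 (fun W hW hWn hle hd => by
      have hne : W ≠ ⊥ := fun e => by rw [e, finrank_bot] at hd; omega
      obtain ⟨Y, hYn, hYW, hYd⟩ := exists_plane hP.alt hWn hne
      obtain ⟨U, hUY, hUi, hUd⟩ := exists_line hP.alt (W := Y) fun e => by rw [e, finrank_bot] at hYd; omega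
      exact ⟨Y, U, Inv.of_le_fix (hYW.trans hle), hYn, hYW, hYd,
        Inv.of_le_fix ((hUY.trans hYW).trans hle), hUi, hUY, hUd⟩) b
    (Or.inr (by omega))
  exact ⟨U, hUX.trans hX, hUi, by rwa [mul_one] at hUd⟩

/-- Joining an isotropic part of the fixed space and of the moved space. -/
theorem IsSympPack.exists_iso_join (hP : IsSympPack B f r) (hr : (r : F) ≠ 0) {a b : ℕ}
    (hb : 2 * b ≤ finrank F (fixS f)) (ha : ∃ U, Inv f U ∧ Iso0 B U ∧ U ≤ movS f ∧ finrank F U = a) :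
    ∃ W, Inv f W ∧ Iso0 B W ∧ finrank F W = b + a := by
  obtain ⟨U, hU, hUi, hUd⟩ := hP.exists_iso_fix hr hb
  obtain ⟨U', hU', hU'i, hU'M, hU'd⟩ := ha
  refine ⟨U ⊔ U', (Inv.of_le_fix hU).sup hU', hUi.sup hP.refl hU'i fun x hx y hy =>
    fix_orth hP.toIsPack (hU hx) (hU'M hy), ?_⟩
  have := Submodule.finrank_sup_add_finrank_inf_eq U U'
  rw [le_bot_iff.1 ((inf_le_inf hU hU'M).trans (inf_comm (fixS f) _ ▸ (hP.fix_ndg hr).2.2.le)),
    finrank_bot] at this
  omega

/-- Isotropic subspaces of the moved space, odd `i`. -/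
theorem IsSympPack.exists_iso_mov_odd (hP : IsSympPack B f r) (hr : (r : F) ≠ 0) (hi : Odd (ordq F r))
    {a : ℕ} (ha : a * (2 * ordq F r) ≤ finrank F (movS f)) :
    ∃ U, Inv f U ∧ Iso0 B U ∧ U ≤ movS f ∧ finrank F U = a * ordq F r := by
  obtain ⟨-, hM, hMF⟩ := hP.fix_ndg hr
  obtain ⟨X, U, -, -, hX, -, hU, hUi, hUX, hUd⟩ := exists_iso_peel hP.toIsPack (c := 2 * ordq F r)
    (e := ordq F r) (L := 1) (CfsgLib.Elusive2.Inv.movS f) hM
    (fun W hW hWn hle hd => exists_block_pair hP.toIsPack hr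
      (fun U _ _ hd hn => Nat.not_even_iff_odd.2 hi (hd ▸ ndg_even hP.alt _ U rfl hn)) hW hWn
      (le_bot_iff.1 ((inf_le_inf_right _ hle).trans hMF.le)) fun e => by rw [e, finrank_bot] at hd; omega)
    a (Or.inr (by have := ordq_pos (F := F) hr; omega))
  exact ⟨U, hU, hUi, hUX.trans hX, hUd⟩

/-- Isotropic subspaces of the moved space, even `i`. -/
theorem IsSympPack.exists_iso_mov_even (hP : IsSympPack B f r) (hr : (r : F) ≠ 0) (hr2 : r ≠ 2)
    (hi : Even (ordq F r)) {a : ℕ}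
    (ha : a = 0 ∨ ((r - 1) / ordq F r + 2 * a) * ordq F r ≤ finrank F (movS f) + ordq F r) :
    ∃ U, Inv f U ∧ Iso0 B U ∧ U ≤ movS f ∧ finrank F U = a * ordq F r := by
  obtain ⟨p, hp⟩ := CharP.exists F
  have : Fact p.Prime := ⟨CharP.char_is_prime F p⟩
  obtain ⟨e, -, hcard⟩ := FiniteField.card F p
  obtain ⟨j, hj⟩ := hi
  have hi0 := ordq_pos (F := F) hr
  have hN : r ∣ p ^ ((e : ℕ) * j) + 1 := by
    rw [pow_mul, ← hcard]
    set y : ZMod r := ((Fintype.card F : ℕ) : ZMod r) with hy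
    have h2 : y ^ j * y ^ j = 1 := by rw [← pow_add, ← hj]; exact pow_orderOf_eq_one y
    have h1 : y ^ j ≠ 1 := fun h => by
      have := orderOf_dvd_of_pow_eq_one h
      rw [← show ordq F r = orderOf y from rfl] at this
      have := Nat.le_of_dvd (by omega) this
      omega
    rw [← ZMod.natCast_eq_zero_iff, Nat.cast_add, Nat.cast_pow, ← hy, Nat.cast_one,
      (mul_self_eq_one_iff.1 h2).resolve_left h1, neg_add_cancel]
  have hσ : ∀ x : F, RingHom.id F x = x ^ p ^ ((e : ℕ) * j) := fun x => by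
    rw [pow_mul, ← hcard, FiniteField.pow_card_pow, RingHom.id_apply]
  have hQ : Fintype.card F ^ ordq F r = p ^ ((e : ℕ) * j) * p ^ ((e : ℕ) * j) := by
    rw [pow_mul, ← hcard, ← pow_add, ← hj]
  obtain ⟨-, hM, hMF⟩ := hP.fix_ndg hr
  obtain ⟨X, U, -, -, hX, -, hU, hUi, hUX, hUd⟩ := exists_iso_peel hP.toIsPack (c := 2 * ordq F r)
    (e := ordq F r) (L := ((r - 1) / ordq F r + 1) * ordq F r) (CfsgLib.Elusive2.Inv.movS f) hM
    (fun W hW hWn hle hd => exists_pair_block hP.toIsPack hr hr2 hN hσ hQ (τ := fun x => -x)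
      (fun u v => alt_swap hP.alt u v) hW hWn (le_bot_iff.1 ((inf_le_inf_right _ hle).trans hMF.le)) hd)
    a (ha.imp id fun h => by
      rw [Nat.add_mul] at h ⊢
      have e1 : a * (2 * ordq F r) = 2 * a * ordq F r := by ring
      omega)
  exact ⟨U, hU, hUi, hUX.trans hX, hUd⟩

/-- The fixed and moved parts of an invariant isotropic subspace. -/
theorem IsSympPack.iso_parts (hP : IsSympPack B f r) (hr : (r : F) ≠ 0) {W : Submodule F V}
    (hW : Inv f W) (hWi : Iso0 B W) :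
    ∃ a, finrank F (W.map (f - 1)) = a * ordq F r ∧ finrank F W = finrank F ↥(W ⊓ fixS f) + a * ordq F r ∧
      2 * finrank F ↥(W ⊓ fixS f) ≤ finrank F (fixS f) := by
  obtain ⟨a, ha⟩ := mov_dvd hP.pow_r hr hW
  change finrank F (W.map (f - 1)) = ordq F r * a at ha
  refine ⟨a, by rw [ha, mul_comm], ?_, (hWi.mono inf_le_left).two_mul_le hP.refl inf_le_right (hP.fix_ndg hr).1⟩
  rw [mul_comm, ← ha]
  exact dim_split W

end CfsgLib.Elusive2
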