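import Cfsg.Agent.Elusive2.SympUnip

/-!
Involutory isometries of alternating forms in characteristic two: small invariant blocks.
-/

set_option autoImplicit false
set_option linter.unusedSectionVars false

namespace CfsgLib.Elusive2

open Module CfsgLib.Elusive

variable {F V : Type*} [Field F] [AddCommGroup V] [Module F V] [FiniteDimensional F V]
  {B : V →ₗ[F] V →ₗ[F] F} {f : V →ₗ[F] V}

theorem two_adj (hP : IsPack B f 2) (h2 : (2 : F) = 0) (u v : V) :
    B ((f - 1) u) v = B u ((f - 1) v) := by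
  have h := unip_adj hP 1 u v
  have hneg : (-1 : F) = 1 := neg_eq_of_add_eq_zero_left (by rw [← h2]; norm_num)
  rw [pow_one, pow_one, pow_one, hneg, one_mul, Nat.add_one_sub_one, pow_one] at h
  rw [h, Module.End.mul_apply, LinearMap.sub_apply, LinearMap.sub_apply, Module.End.one_apply,
    Module.End.one_apply, ← Module.End.mul_apply, ← pow_two, hP.pow_r, Module.End.one_apply, map_sub, map_sub]
  have e : ∀ a b : F, a - b = b - a := fun a b => by linear_combination (a - b) * h2
  exact e _ _

theorem two_sq (hP : IsPack B f 2) (h2 : (2 : F) = 0) (v : V) : (f - 1) ((f - 1) v) = 0 := by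
  have h : f (f v) = v := by rw [← Module.End.mul_apply, ← pow_two, hP.pow_r, Module.End.one_apply]
  simp only [LinearMap.sub_apply, Module.End.one_apply, map_sub, h]
  have : (2 : F) • (v - f v) = 0 := by rw [h2, zero_smul]
  rw [two_smul] at this
  rw [← this]; abel

/-- A plane or a block of dimension four. -/
theorem exists_two_block (hP : IsPack B f 2) (halt : ∀ v, B v v = 0) (h2 : (2 : F) = 0)
    {T : Submodule F V} (hT : Inv f T) (hTn : Ndg B T) (hne : T ≠ ⊥) :
    ∃ X, Inv f X ∧ Ndg B X ∧ X ≤ T ∧ (finrank F X = 2 ∨ finrank F X = 4) := by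
  set N := f - 1 with hN
  have hT' : Inv N T := inv_sub_one_iff.2 hT
  have hNN := two_sq hP h2
  rcases Classical.em (∃ v ∈ T, B v (N v) ≠ 0) with ⟨v, hv, hvv⟩ | hno
  · -- a plane
    have hvv' : B (N v) v ≠ 0 := fun e => hvv (hP.refl _ _ e)
    have hle : Submodule.span F (Set.range ![v, N v]) ≤ T := Submodule.span_le.2 (by
      rintro _ ⟨j, rfl⟩
      fin_cases j
      · exact hv
      · exact hT' v hv)
    refine ⟨_, inv_sub_one_iff.1 (inv_iff.2 ?_), fun x hx hx0 => ?_, hle, Or.inl ?_⟩
    · rw [Submodule.map_span, Submodule.span_le]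
      rintro _ ⟨_, ⟨j, rfl⟩, rfl⟩
      fin_cases j
      · exact Submodule.subset_span ⟨1, rfl⟩
      · show N (N v) ∈ _
        rw [hN, hNN]; exact Submodule.zero_mem _
    · obtain ⟨c, rfl⟩ := (Submodule.mem_span_range_iff_exists_fun F).1 hx
      by_cases hc : c 0 = 0
      · refine ⟨v, Submodule.subset_span ⟨0, rfl⟩, ?_⟩
        have hc1 : c 1 ≠ 0 := fun h => hx0 (by simp [Fin.sum_univ_two, hc, h])
        simp [Fin.sum_univ_two, hc, hc1, hvv']
      · refine ⟨N v, Submodule.subset_span ⟨1, rfl⟩, ?_⟩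
        simp [Fin.sum_univ_two, halt, hc, hvv]
    · rw [finrank_span_eq_card, Fintype.card_fin]
      refine Fintype.linearIndependent_iff.2 fun c hc => ?_
      rw [Fin.sum_univ_two] at hc
      simp only [Matrix.cons_val_zero, Matrix.cons_val_one] at hc
      have h1 := congrArg (fun z => B z (N v)) hc
      have h3 := congrArg (fun z => B z v) hc
      simp [halt, hvv] at h1
      simp [h1, hvv'] at h3
      intro j
      fin_cases j <;> assumption
  push Not at hno
  rcases Classical.em (∃ v ∈ T, N v ≠ 0) with ⟨v, hv, hNv⟩ | hall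
  · -- a block of dimension four
    obtain ⟨w, hw, hne'⟩ := hTn (N v) (hT' v hv) hNv
    obtain ⟨a, ha⟩ : ∃ a, B (N v) w = a := ⟨_, rfl⟩
    rw [ha] at hne'
    have e1 : B v (N w) = a := by rw [← ha, hN, two_adj hP h2]
    have hw0 : B w (N w) = 0 := hno w hw
    have hv0 : B v (N v) = 0 := hno v hv
    have hvNv : B (N v) v = 0 := hP.refl _ _ hv0
    have hwNw : B (N w) w = 0 := hP.refl _ _ hw0
    have e2 : B w (N v) = -a := by rw [← ha, alt_swap halt (N v) w]
    have e3 : B (N w) v = -a := by rw [alt_swap halt v (N w), e1]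
    have e4 : B (N v) (N w) = 0 := by rw [hN, two_adj hP h2, hNN, map_zero]
    have e5 : B (N w) (N v) = 0 := hP.refl _ _ e4
    let g : Fin 4 → V := ![v, N v, w, N w]
    have key : ∀ c : Fin 4 → F, c ≠ 0 → ∃ j, B (∑ i, c i • g i) (g j) ≠ 0 := by
      intro c hc
      by_cases h0 : c 0 = 0
      · by_cases h2' : c 2 = 0
        · by_cases h1 : c 1 = 0
          · have h3 : c 3 ≠ 0 := fun h3 => hc (funext fun j => by fin_cases j <;> assumption)
            refine ⟨0, ?_⟩
            simp [g, Fin.sum_univ_four, h0, h1, h2', e3, h3, hne']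
          · refine ⟨2, ?_⟩
            simp [g, Fin.sum_univ_four, h0, h2', hwNw, h1, ha, hne']
        · refine ⟨1, ?_⟩
          simp [g, Fin.sum_univ_four, h0, halt, e2, e5, h2', hne']
      · refine ⟨3, ?_⟩
        simp [g, Fin.sum_univ_four, halt, e1, e4, hw0, h0, hne']
    have hli : LinearIndependent F g := Fintype.linearIndependent_iff.2 fun c hc i => by
      by_contra hi
      obtain ⟨j, hj⟩ := key c fun e => hi (by rw [e]; rfl)
      exact hj (by rw [hc, map_zero, LinearMap.zero_apply])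
    refine ⟨Submodule.span F (Set.range g), inv_sub_one_iff.1 (inv_iff.2 ?_), fun x hx hx0 => ?_,
      Submodule.span_le.2 ?_, Or.inr (by rw [finrank_span_eq_card hli, Fintype.card_fin])⟩
    · rw [Submodule.map_span, Submodule.span_le]
      rintro _ ⟨_, ⟨j, rfl⟩, rfl⟩
      fin_cases j
      · exact Submodule.subset_span ⟨1, rfl⟩
      · show N (N v) ∈ _
        rw [hN, hNN]; exact Submodule.zero_mem _
      · exact Submodule.subset_span ⟨3, rfl⟩
      · show N (N w) ∈ _
        rw [hN, hNN]; exact Submodule.zero_mem _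
    · obtain ⟨c, rfl⟩ := (Submodule.mem_span_range_iff_exists_fun F).1 hx
      obtain ⟨j, hj⟩ := key c fun e => hx0 (by simp [e])
      exact ⟨_, Submodule.subset_span ⟨j, rfl⟩, hj⟩
    · rintro _ ⟨j, rfl⟩
      fin_cases j
      · exact hv
      · exact hT' v hv
      · exact hw
      · exact hT' w hw
  · -- trivial action
    push Not at hall
    obtain ⟨X, hX, hXT, hX2⟩ := exists_plane halt hTn hne
    refine ⟨X, fun x hx => ?_, hX, hXT, Or.inl hX2⟩
    have := hall x (hXT hx)
    rw [hN, LinearMap.sub_apply, Module.End.one_apply, sub_eq_zero] at this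
    rwa [this]

/-- Invariant non-degenerate subspaces in characteristic two. -/
theorem exists_two_ndg (hP : IsPack B f 2) (halt : ∀ v, B v v = 0) (h2 : (2 : F) = 0) :
    ∀ (n : ℕ) (T : Submodule F V), finrank F T = n → Inv f T → Ndg B T → ∀ m, Even m → m ≤ n →
      (n % 4 = 2 ∨ m % 4 = 0) → ∃ X, Inv f X ∧ Ndg B X ∧ X ≤ T ∧ finrank F X = m := by
  intro n
  induction n using Nat.strong_induction_on with
  | _ n ih =>
    intro T hd hT hTn m hm hmn hcond
    rcases Nat.eq_zero_or_pos m with rfl | hm0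
    · exact ⟨⊥, Inv.bot f, Ndg.bot, bot_le, finrank_bot F V⟩
    rcases eq_or_ne m n with rfl | hne
    · exact ⟨T, hT, hTn, le_rfl, hd⟩
    obtain ⟨Q, hQ, hQn, hQT, hQd⟩ := exists_two_block hP halt h2 hT hTn fun e => by
      rw [e, finrank_bot] at hd; omega
    obtain ⟨-, hinf, hdim, hnd⟩ := exists_split hP.refl hQn hQT
    have hne' : Even n := ndg_even halt n T hd hTn
    have hT' := hT.inf (perp_inv hP hQ)
    obtain ⟨hm2, hn2⟩ : m % 2 = 0 ∧ n % 2 = 0 := ⟨Nat.even_iff.1 hm, Nat.even_iff.1 hne'⟩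
    -- glue the block to a subspace of its orthogonal
    have glueQ : ∀ Y, Inv f Y ∧ Ndg B Y ∧ Y ≤ T ⊓ perp B Q ∧ finrank F Y + finrank F Q = m →
        ∃ X, Inv f X ∧ Ndg B X ∧ X ≤ T ∧ finrank F X = m := by
      rintro Y ⟨hY, hYn, hYT, hYd⟩
      refine ⟨Q ⊔ Y, hQ.sup hY, hQn.sup hP.refl hYn fun x hx y hy => mem_perp.1 (hYT hy).2 x hx,
        sup_le hQT (hYT.trans inf_le_left), ?_⟩
      have h1 := Submodule.finrank_sup_add_finrank_inf_eq Q Y
      rw [le_bot_iff.1 ((inf_le_inf_left Q hYT).trans hinf.le), finrank_bot] at h1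
      omega
    have skip : (∃ X, Inv f X ∧ Ndg B X ∧ X ≤ T ⊓ perp B Q ∧ finrank F X = m) →
        ∃ X, Inv f X ∧ Ndg B X ∧ X ≤ T ∧ finrank F X = m :=
      fun ⟨X, h1, h2, h3, h4⟩ => ⟨X, h1, h2, h3.trans inf_le_left, h4⟩
    rcases hQd with hQ2 | hQ4
    · by_cases h4 : m % 4 = 0
      · exact skip (ih _ (by omega) _ rfl hT' (hnd hTn) m hm (by omega) (Or.inr h4))
      · obtain ⟨Y, hY⟩ := ih _ (by omega) _ rfl hT' (hnd hTn) (m - 2)
          (Nat.even_iff.2 (by omega)) (by omega) (Or.inr (by omega))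
        exact glueQ Y ⟨hY.1, hY.2.1, hY.2.2.1, by omega⟩
    · by_cases h4 : m % 4 = 0
      · obtain ⟨Y, hY⟩ := ih _ (by omega) _ rfl hT' (hnd hTn) (m - 4)
          (Nat.even_iff.2 (by omega)) (by omega) (Or.inr (by omega))
        exact glueQ Y ⟨hY.1, hY.2.1, hY.2.2.1, by omega⟩
      · exact skip (ih _ (by omega) _ rfl hT' (hnd hTn) m hm (by omega) (Or.inl (by omega)))

/-- When `f - 1` has rank half the dimension and is alternating, blocks have dimension divisible by four. -/
theorem four_dvd_of_full (hP : IsPack B f 2) (halt : ∀ v, B v v = 0) (h2 : (2 : F) = 0)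
    (htop : Ndg B ⊤) (ha : ∀ v, B v ((f - 1) v) = 0)
    (hfull : 2 * finrank F (LinearMap.range (f - 1)) = finrank F V) {W : Submodule F V} (hW : Inv f W)
    (hWn : Ndg B W) : 4 ∣ finrank F W := by
  set N := f - 1 with hN
  have hiso : ∀ U : Submodule F V, Iso0 B (U.map N) := by
    rintro U _ ⟨a, -, rfl⟩ _ ⟨b, -, rfl⟩
    rw [hN, two_adj hP h2, two_sq hP h2, map_zero]
  obtain ⟨hsup, hinf, hdim, hnd⟩ := exists_split hP.refl hWn (le_top (a := W))
  have h1 := (hiso W).two_mul_le hP.refl (Submodule.map_le_iff_le_comap.2 fun v hv =>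
    (inv_sub_one_iff.2 hW) v hv) hWn
  have h3 := (hiso (⊤ ⊓ perp B W)).two_mul_le hP.refl ((Submodule.map_le_iff_le_comap (q := ⊤ ⊓ perp B W)).2 fun v hv =>
    (inv_sub_one_iff.2 ((Inv.top f).inf (perp_inv hP hW))) v hv) (hnd htop)
  have h4 : finrank F (LinearMap.range N) ≤
      finrank F (W.map N) + finrank F ((⊤ ⊓ perp B W).map N) := by
    conv_lhs => rw [← Submodule.map_top, ← hsup, Submodule.map_sup]
    exact Submodule.finrank_add_le_finrank_add_finrank _ _
  rw [finrank_top] at hdim
  have heq : 2 * finrank F (W.map N) = finrank F W := by omega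
  -- the pullback form on a complement of the kernel
  obtain ⟨C, hC⟩ := Submodule.exists_isCompl ((LinearMap.ker N).comap W.subtype)
  let D : Submodule F V := C.map W.subtype
  have hD : D.map N = W.map N := by
    refine le_antisymm (Submodule.map_mono (Submodule.map_subtype_le W C)) ?_
    rintro _ ⟨w, hw, rfl⟩
    obtain ⟨a, ha', c, hc, e⟩ := Submodule.mem_sup.1
      (hC.sup_eq_top.symm ▸ Submodule.mem_top : (⟨w, hw⟩ : W) ∈ (LinearMap.ker N).comap W.subtype ⊔ C)
    refine ⟨c.1, ⟨c, hc, rfl⟩, ?_⟩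
    have e' : a.1 + c.1 = w := congrArg Subtype.val e
    rw [← e', map_add, show N a.1 = 0 from ha', zero_add]
  have hDd : finrank F D + finrank F (W.map N) = finrank F W := by
    have h := Submodule.finrank_add_eq_of_isCompl hC
    have e : finrank F ((LinearMap.ker N).comap W.subtype) + finrank F (W.map N) = finrank F W := by
      have := LinearMap.finrank_range_add_finrank_ker (N.domRestrict W)
      rw [LinearMap.range_domRestrict,
        show LinearMap.ker (N.domRestrict W) = (LinearMap.ker N).comap W.subtype from rfl] at this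
      omega
    have e2 : finrank F D = finrank F C := Submodule.finrank_map_subtype_eq W C
    omega
  let S : V →ₗ[F] V →ₗ[F] F := B.compl₂ N
  have hS : ∀ a b, S a b = B a (N b) := fun a b => rfl
  have hev : Even (finrank F D) := ndg_even (B := S) (fun v => by rw [hS]; exact ha v) _ D rfl fun d hd hd0 => by
    by_contra hall
    push Not at hall
    have hker : B d = B d := rfl
    -- `d` pairs trivially with the image of `W`, hence `N d = 0`
    have hz : ∀ y ∈ W, B d (N y) = 0 := fun y hy => by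
      obtain ⟨c, hc, e⟩ := (hD.symm ▸ Submodule.mem_map_of_mem hy : N y ∈ D.map N)
      rw [← e]; exact hall c hc
    have hdW : d ∈ W := Submodule.map_subtype_le W C hd
    have hNd : N d = 0 := by
      by_contra h0
      obtain ⟨y, hy, hne⟩ := hWn (N d) ((inv_sub_one_iff.2 hW) d hdW) h0
      exact hne (by rw [hN, two_adj hP h2]; exact hz y hy)
    obtain ⟨c, hc, rfl⟩ := hd
    have : c ∈ (LinearMap.ker N).comap W.subtype ⊓ C := ⟨hNd, hc⟩
    rw [hC.inf_eq_bot, Submodule.mem_bot] at this
    exact hd0 (by rw [this]; rfl)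
  obtain ⟨t, ht⟩ := hev
  omega

end CfsgLib.Elusive2
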