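import Cfsg.Agent.Elusive2.Symp

/-!
Orthogonal decompositions of unipotent isometries of alternating forms in odd characteristic.
-/

set_option autoImplicit false
set_option linter.unusedSectionVars false

namespace CfsgLib.Elusive2

open Module CfsgLib.Elusive

variable {F V : Type*} [Field F] [AddCommGroup V] [Module F V]
  {B : V →ₗ[F] V →ₗ[F] F} {f : V →ₗ[F] V} {r : ℕ}

theorem inv_sub_one_iff {W : Submodule F V} : Inv (f - 1) W ↔ Inv f W := by
  refine ⟨fun h v hv => ?_, fun h v hv => ?_⟩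
  · have := W.add_mem (h v hv) hv
    rwa [LinearMap.sub_apply, Module.End.one_apply, sub_add_cancel] at this
  · rw [LinearMap.sub_apply, Module.End.one_apply]
    exact W.sub_mem (h v hv) hv

/-- The adjoint of a power of `f - 1`. -/
theorem unip_adj (hP : IsPack B f r) (a : ℕ) (u v : V) :
    B (((f - 1) ^ a) u) v = (-1) ^ a * B u ((((f - 1) * f ^ (r - 1)) ^ a) v) := by
  have hg : ∀ w, f ((f ^ (r - 1)) w) = w := fun w => by
    rw [← Module.End.mul_apply, ← pow_succ', Nat.sub_add_cancel hP.pos, hP.pow_r, Module.End.one_apply]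
  have h1 : ∀ x y, B ((f - 1) x) y = -B x (((f - 1) * f ^ (r - 1)) y) := fun x y => by
    have e : B (f x) y = B x ((f ^ (r - 1)) y) := by
      conv_lhs => rw [← hg y]
      exact hP.isom _ _
    simp only [Module.End.mul_apply, LinearMap.sub_apply, Module.End.one_apply, map_sub, e, hg]
    ring
  induction a generalizing u with
  | zero => simp
  | succ a ih =>
    rw [pow_succ (f - 1) a, Module.End.mul_apply, ih, h1, ← Module.End.mul_apply,
      ← pow_succ' ((f - 1) * f ^ (r - 1)) a, pow_succ (-1 : F) a]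
    ring

variable {k : ℕ} {T : Submodule F V} [FiniteDimensional F V]

theorem nil_pair_zero (hP : IsPack B f r) (hT : Inv f T)
    (hk : ∀ t ∈ T, ((f - 1) ^ (k + 1)) t = 0) {a b : ℕ} (hab : k < a + b) {u v : V}
    (hv : v ∈ T) : B (((f - 1) ^ a) u) (((f - 1) ^ b) v) = 0 := by
  have hcomm : Commute (f - 1) (f ^ (r - 1)) :=
    ((Commute.refl f).sub_left (Commute.one_left f)).pow_right _
  obtain ⟨l, hl⟩ : ∃ l, a + b = l + (k + 1) := ⟨a + b - (k + 1), by omega⟩
  rw [unip_adj hP, hcomm.mul_pow, ← pow_mul, Module.End.mul_apply,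
    ← Module.End.mul_apply (f ^ ((r - 1) * a)), pow_mul, ← (hcomm.pow_pow b a).eq,
    Module.End.mul_apply, ← Module.End.mul_apply, ← pow_add, hl, pow_add, Module.End.mul_apply,
    hk _ (by rw [← pow_mul]; exact hT.pow _ v hv), map_zero, map_zero, mul_zero]

theorem unip_top_pair (hP : IsPack B f r) (hT : Inv f T)
    (hk : ∀ t ∈ T, ((f - 1) ^ (k + 1)) t = 0) {a : ℕ} (ha : a ≤ k) {u v : V} (hv : v ∈ T) :
    B (((f - 1) ^ a) u) (((f - 1) ^ (k - a)) v) = (-1) ^ a * B u (((f - 1) ^ k) v) := by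
  have hcomm : Commute (f - 1) (f ^ (r - 1)) :=
    ((Commute.refl f).sub_left (Commute.one_left f)).pow_right _
  have hfix : ∀ t ∈ T, ((f - 1) ^ k) (f t) = ((f - 1) ^ k) t := fun t ht => by
    have := hk t ht
    rw [pow_succ, Module.End.mul_apply, LinearMap.sub_apply, Module.End.one_apply, map_sub,
      sub_eq_zero] at this
    exact this
  have hj : ∀ j : ℕ, ((f - 1) ^ k) ((f ^ j) v) = ((f - 1) ^ k) v := fun j => by
    induction j with
    | zero => simp
    | succ j ih => rw [pow_succ' f j, Module.End.mul_apply, hfix _ (hT.pow j v hv), ih]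
  rw [unip_adj hP, hcomm.mul_pow, ← pow_mul, Module.End.mul_apply,
    ← Module.End.mul_apply (f ^ ((r - 1) * a)), pow_mul, ← (hcomm.pow_pow (k - a) a).eq,
    Module.End.mul_apply, ← Module.End.mul_apply, ← pow_add, Nat.add_sub_cancel' ha, ← pow_mul, hj]

/-- A block on generators with invertible top Gram matrix. -/
theorem exists_chain_block (hP : IsPack B f r) (hT : Inv f T)
    (hk : ∀ t ∈ T, ((f - 1) ^ (k + 1)) t = 0) {l : ℕ} (v : Fin l → V) (hv : ∀ t, v t ∈ T)
    (hgram : ∀ e : Fin l → F, e ≠ 0 → ∃ s, ∑ t, e t * B (v t) (((f - 1) ^ k) (v s)) ≠ 0) :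
    ∃ X, Inv f X ∧ Ndg B X ∧ X ≤ T ∧ finrank F X = l * (k + 1) ∧
      ∀ j, kerDim (f - 1) X j = l * min j (k + 1) := by
  classical
  let w : Fin (k + 1) × Fin l → V := fun p => ((f - 1) ^ (p.1 : ℕ)) (v p.2)
  have hwT : ∀ p, w p ∈ T := fun p => (inv_sub_one_iff.2 hT).pow _ _ (hv p.2)
  have key : ∀ c : Fin (k + 1) × Fin l → F, c ≠ 0 →
      ∃ p, B (∑ i, c i • w i) (w p) ≠ 0 := by
    intro c hc
    have hex : ∃ a : ℕ, ∃ (h : a < k + 1), ∃ t, c (⟨a, h⟩, t) ≠ 0 := by
      obtain ⟨⟨a, t⟩, h⟩ := Function.ne_iff.1 hc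
      exact ⟨a, a.2, t, h⟩
    obtain ⟨ha, t0, ht0⟩ := Nat.find_spec hex
    set a0 := Nat.find hex
    obtain ⟨s, hs⟩ := hgram (fun t => c (⟨a0, ha⟩, t)) (Function.ne_iff.2 ⟨t0, ht0⟩)
    refine ⟨(⟨k - a0, by omega⟩, s), ?_⟩
    rw [map_sum, LinearMap.sum_apply, Fintype.sum_prod_type, Finset.sum_eq_single ⟨a0, ha⟩]
    · have e : ∀ t, B (c (⟨a0, ha⟩, t) • w (⟨a0, ha⟩, t)) (w (⟨k - a0, by omega⟩, s)) =
          (-1) ^ a0 * (c (⟨a0, ha⟩, t) * B (v t) (((f - 1) ^ k) (v s))) := fun t => by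
        rw [map_smul, LinearMap.smul_apply, smul_eq_mul]
        simp only [w]
        rw [unip_top_pair hP hT hk (Nat.lt_succ_iff.1 ha) (hv s)]
        ring
      rw [Finset.sum_congr rfl fun t _ => e t, ← Finset.mul_sum]
      exact mul_ne_zero (pow_ne_zero _ (neg_ne_zero.2 one_ne_zero)) hs
    · intro a _ hne
      refine Finset.sum_eq_zero fun t _ => ?_
      rw [map_smul, LinearMap.smul_apply, smul_eq_mul]
      rcases Nat.lt_or_ge (a : ℕ) a0 with hlt | hge
      · have := Nat.find_min hex hlt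
        push Not at this
        rw [show c (a, t) = 0 from this a.2 t, zero_mul]
      · have hgt : a0 < (a : ℕ) := lt_of_le_of_ne hge fun e => hne (Fin.ext e.symm)
        simp only [w]
        rw [nil_pair_zero hP hT hk (by omega) (hv s), mul_zero]
    · simp
  have hli : LinearIndependent F w := Fintype.linearIndependent_iff.2 fun c hc i => by
    by_contra hi
    obtain ⟨p, hp⟩ := key c fun e => hi (by rw [e]; rfl)
    exact hp (by rw [hc, map_zero, LinearMap.zero_apply])
  have hwmem : ∀ (j : ℕ) (t : Fin l), ((f - 1) ^ j) (v t) ∈ Submodule.span F (Set.range w) :=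
    fun j t => by
    rcases Nat.lt_or_ge j (k + 1) with h | h
    · exact Submodule.subset_span ⟨(⟨j, h⟩, t), rfl⟩
    · obtain ⟨i, rfl⟩ := Nat.exists_eq_add_of_le h
      rw [pow_add, Module.End.mul_apply, hk _ ((inv_sub_one_iff.2 hT).pow _ _ (hv t))]
      exact Submodule.zero_mem _
  have hle : Submodule.span F (Set.range w) ≤ T := Submodule.span_le.2 (by
    rintro _ ⟨p, rfl⟩; exact hwT p)
  have hinv : Inv (f - 1) (Submodule.span F (Set.range w)) := by
    refine inv_iff.2 ?_
    rw [Submodule.map_span, Submodule.span_le]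
    rintro _ ⟨_, ⟨p, rfl⟩, rfl⟩
    simp only [w, ← Module.End.mul_apply, ← pow_succ']
    exact hwmem _ _
  refine ⟨Submodule.span F (Set.range w), inv_sub_one_iff.1 hinv, fun x hx hx0 => ?_, hle, ?_, fun j => ?_⟩
  · obtain ⟨c, rfl⟩ := (Submodule.mem_span_range_iff_exists_fun F).1 hx
    obtain ⟨p, hp⟩ := key c fun e => hx0 (by simp [e])
    exact ⟨_, Submodule.subset_span ⟨p, rfl⟩, hp⟩
  · rw [finrank_span_eq_card hli, Fintype.card_prod, Fintype.card_fin, Fintype.card_fin, mul_comm]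
  · set S := Submodule.span F (Set.range w)
    have h := LinearMap.finrank_range_add_finrank_ker (((f - 1) ^ j).domRestrict S)
    rw [LinearMap.range_domRestrict,
      show LinearMap.ker (((f - 1) ^ j).domRestrict S) =
        (LinearMap.ker ((f - 1) ^ j)).comap S.subtype from rfl] at h
    have e : finrank F ((LinearMap.ker ((f - 1) ^ j)).comap S.subtype) = kerDim (f - 1) S j := by
      rw [kerDim, ← Submodule.map_comap_subtype S (LinearMap.ker ((f - 1) ^ j))]
      exact (Submodule.finrank_map_subtype_eq S _).symm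
    have himg : S.map ((f - 1) ^ j) = Submodule.span F (Set.range fun p : Fin (k + 1 - j) × Fin l =>
        w (⟨j + p.1, by omega⟩, p.2)) := by
      refine le_antisymm ?_ (Submodule.span_le.2 ?_)
      · rw [Submodule.map_span, Submodule.span_le]
        rintro _ ⟨_, ⟨p, rfl⟩, rfl⟩
        simp only [w, ← Module.End.mul_apply, ← pow_add]
        rcases Nat.lt_or_ge (j + (p.1 : ℕ)) (k + 1) with h | h
        · exact Submodule.subset_span ⟨(⟨p.1, by omega⟩, p.2), rfl⟩
        · obtain ⟨i, hi⟩ := Nat.exists_eq_add_of_le h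
          rw [hi, pow_add, Module.End.mul_apply, hk _ ((inv_sub_one_iff.2 hT).pow _ _ (hv p.2))]
          exact Submodule.zero_mem _
      · rintro _ ⟨p, rfl⟩
        refine ⟨w (⟨p.1, by omega⟩, p.2), Submodule.subset_span ⟨_, rfl⟩, ?_⟩
        simp only [w, ← Module.End.mul_apply, ← pow_add]
    have hd : finrank F (S.map ((f - 1) ^ j)) = (k + 1 - j) * l := by
      rw [himg, show (fun p : Fin (k + 1 - j) × Fin l => w (⟨j + p.1, by omega⟩, p.2)) =
          w ∘ (fun p : Fin (k + 1 - j) × Fin l => ((⟨j + p.1, by omega⟩ : Fin (k + 1)), p.2)) from rfl,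
        finrank_span_eq_card (hli.comp _ fun p p' e => ?_), Fintype.card_prod, Fintype.card_fin, Fintype.card_fin]
      have e1 := congrArg (fun z : Fin (k + 1) × Fin l => (z.1 : ℕ)) e
      have e2 : p.2 = p'.2 := congrArg (fun z : Fin (k + 1) × Fin l => z.2) e
      simp only at e1
      exact Prod.ext (Fin.ext (by omega)) e2
    rw [e, hd, finrank_span_eq_card hli, Fintype.card_prod, Fintype.card_fin, Fintype.card_fin] at h
    rcases Nat.le_total j (k + 1) with hj | hj
    · rw [min_eq_left hj]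
      obtain ⟨i, hi⟩ := Nat.exists_eq_add_of_le hj
      rw [hi, Nat.add_sub_cancel_left, Nat.add_mul] at h
      rw [mul_comm l j]
      omega
    · rw [min_eq_right hj]
      rw [Nat.sub_eq_zero_of_le hj, Nat.zero_mul, Nat.zero_add] at h
      rw [mul_comm l]
      exact h

/-- Partitions allowed for symplectic unipotent elements. -/
def SpPart (μ : Multiset ℕ) : Prop := ∀ a : ℕ, Odd a → Even (μ.count a)

theorem SpPart.sub {μ ν : Multiset ℕ} (hμ : SpPart μ) (hν : SpPart ν) : SpPart (μ - ν) := fun a ha => by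
  rw [Multiset.count_sub]
  rcases Nat.le_total (ν.count a) (μ.count a) with h | h
  · exact (Nat.even_sub h).2 ⟨fun _ => hν a ha, fun _ => hμ a ha⟩
  · rw [Nat.sub_eq_zero_of_le h]
    exact ⟨0, rfl⟩

/-- The partition of a unipotent isometry, with an invariant piece for each admissible sub-partition. -/
theorem exists_sp_partition (hP : IsPack B f r) (halt : ∀ v, B v v = 0) (h2 : (2 : F) ≠ 0) {p : ℕ} :
    ∀ (n : ℕ) (T : Submodule F V), finrank F T = n → Inv f T → Ndg B T →
      (∀ t ∈ T, ((f - 1) ^ p) t = 0) →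
      ∃ μ : Multiset ℕ, (∀ a ∈ μ, 0 < a ∧ a ≤ p) ∧ SpPart μ ∧ μ.sum = n ∧
        (∀ j, kerDim (f - 1) T j = profile μ j) ∧
        ∀ ν ≤ μ, SpPart ν → ∃ X, Inv f X ∧ Ndg B X ∧ X ≤ T ∧ finrank F X = ν.sum := by
  classical
  intro n
  induction n using Nat.strong_induction_on with
  | _ n ih =>
  intro T hd hT hTn hp
  rcases Nat.eq_zero_or_pos n with rfl | hn
  · have hTb : T = ⊥ := Submodule.finrank_eq_zero.1 hd
    refine ⟨0, by simp, fun a _ => by simp, by simp, fun j => ?_, fun ν hν _ => ?_⟩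
    · rw [kerDim, hTb, bot_inf_eq, finrank_bot]; simp [profile]
    · rw [Multiset.le_zero.1 hν]
      exact ⟨⊥, Inv.bot f, Ndg.bot, bot_le, by simp⟩
  have hne : ∃ k : ℕ, ∀ t ∈ T, ((f - 1) ^ k) t = 0 := ⟨p, hp⟩
  obtain ⟨v₀, hv₀, hv₀0⟩ := T.exists_mem_ne_zero_of_ne_bot fun h => by
    rw [h, finrank_bot] at hd; omega
  obtain ⟨k, hk⟩ : ∃ k, Nat.find hne = k + 1 := by
    refine Nat.exists_eq_succ_of_ne_zero fun h => hv₀0 ?_
    simpa [h] using Nat.find_spec hne v₀ hv₀
  have hkz : ∀ t ∈ T, ((f - 1) ^ (k + 1)) t = 0 := hk ▸ Nat.find_spec hne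
  have hkp : k + 1 ≤ p := hk ▸ Nat.find_min' hne hp
  obtain ⟨v, hv, hvk⟩ : ∃ v ∈ T, ((f - 1) ^ k) v ≠ 0 := by
    by_contra hcon
    push Not at hcon
    exact Nat.find_min hne (show k < Nat.find hne by omega) hcon
  obtain ⟨u, hu, huv⟩ : ∃ u ∈ T, B u (((f - 1) ^ k) v) ≠ 0 := by
    obtain ⟨u, hu, h⟩ := hTn _ ((inv_sub_one_iff.2 hT).pow k v hv) hvk
    exact ⟨u, hu, fun e => h (hP.refl _ _ e)⟩
  have hswap : ∀ a ∈ T, ∀ b ∈ T,
      B b (((f - 1) ^ k) a) = -((-1 : F) ^ k) * B a (((f - 1) ^ k) b) := fun a ha b hb => by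
    have := unip_top_pair hP hT hkz (le_refl k) (u := a) hb
    rw [Nat.sub_self, pow_zero, Module.End.one_apply] at this
    rw [alt_swap halt (((f - 1) ^ k) a) b, this]
    ring
  -- generators of the top block
  obtain ⟨l, w, hwT, hgram, hlk⟩ : ∃ (l : ℕ) (w : Fin l → V), (∀ t, w t ∈ T) ∧
      (∀ e : Fin l → F, e ≠ 0 → ∃ s, ∑ t, e t * B (w t) (((f - 1) ^ k) (w s)) ≠ 0) ∧
      ((l = 1 ∧ Even (k + 1)) ∨ (l = 2 ∧ Odd (k + 1))) := by
    rcases Nat.even_or_odd k with hev | hodd
    · have hsw : ∀ a ∈ T, B a (((f - 1) ^ k) a) = 0 := fun a ha => by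
        have := hswap a ha a ha
        rw [hev.neg_one_pow, neg_one_mul, eq_neg_iff_add_eq_zero, ← two_mul] at this
        exact (mul_eq_zero.1 this).resolve_left h2
      refine ⟨2, ![u, v], fun t => by fin_cases t <;> assumption, fun e he => ?_,
        Or.inr ⟨rfl, hev.add_one⟩⟩
      by_cases h0 : e 0 = 0
      · have h1 : e 1 ≠ 0 := fun h1 => he (funext fun t => by fin_cases t <;> assumption)
        refine ⟨0, ?_⟩
        simp only [Fin.sum_univ_two, Matrix.cons_val_zero, Matrix.cons_val_one, h0, zero_mul, zero_add]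
        rw [hswap u hu v hv, hev.neg_one_pow, neg_one_mul, mul_neg]
        exact neg_ne_zero.2 (mul_ne_zero h1 huv)
      · refine ⟨1, ?_⟩
        simp only [Fin.sum_univ_two, Matrix.cons_val_zero, Matrix.cons_val_one, hsw v hv, mul_zero, add_zero]
        exact mul_ne_zero h0 huv
    · obtain ⟨a, ha, haa⟩ : ∃ a ∈ T, B a (((f - 1) ^ k) a) ≠ 0 := by
        by_contra hall
        push Not at hall
        have h := hall (u + v) (T.add_mem hu hv)
        simp only [map_add, LinearMap.add_apply, hall u hu, hall v hv, zero_add, add_zero] at h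
        rw [hswap u hu v hv, hodd.neg_one_pow, neg_neg, one_mul, ← two_mul] at h
        exact huv ((mul_eq_zero.1 h).resolve_left h2)
      refine ⟨1, fun _ => a, fun _ => ha, fun e he => ⟨0, ?_⟩, Or.inl ⟨rfl, hodd.add_one⟩⟩
      simp only [Fin.sum_univ_one]
      exact mul_ne_zero (fun h => he (funext fun t => by rw [Fin.fin_one_eq_zero t, h]; rfl)) haa
  obtain ⟨X, hX, hXn, hXT, hXd, hXp⟩ := exists_chain_block hP hT hkz w hwT hgram
  obtain ⟨hsup, hinf, hdim, hnd⟩ := exists_split hP.refl hXn hXT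
  have hl0 : 0 < l := by omega
  obtain ⟨μ, hμ, hμe, hμs, hμk, hμν⟩ := ih (finrank F ↥(T ⊓ perp B X))
    (by rw [hXd] at hdim; have := Nat.mul_pos hl0 (show 0 < k + 1 by omega); omega) _ rfl
    (hT.inf (perp_inv hP hX)) (hnd hTn) fun t ht => hp t ht.1
  refine ⟨Multiset.replicate l (k + 1) + μ, fun a ha => ?_, fun a ha => ?_, ?_, fun j => ?_,
    fun ν hν hνe => ?_⟩
  · rcases Multiset.mem_add.1 ha with h | h
    · rw [Multiset.eq_of_mem_replicate h]; omega
    · exact hμ a h
  · rw [Multiset.count_add, Multiset.count_replicate]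
    rcases hlk with ⟨rfl, hev⟩ | ⟨rfl, -⟩
    · rw [if_neg (fun e : k + 1 = a => Nat.not_even_iff_odd.2 ha (e ▸ hev)), zero_add]
      exact hμe a ha
    · split_ifs
      · exact even_two.add (hμe a ha)
      · rw [zero_add]; exact hμe a ha
  · rw [Multiset.sum_add, Multiset.sum_replicate, smul_eq_mul, hμs, ← hd, ← hdim, hXd]
  · rw [← hsup, kerDim_sup (inv_sub_one_iff.2 hX) (inv_sub_one_iff.2 (hT.inf (perp_inv hP hX))) hinf,
      hXp, hμk, profile_add]
    congr 1
    simp [profile, Multiset.map_replicate]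
  · by_cases hsub : ν ≤ μ
    · obtain ⟨Y, hY, hYn, hYT, hYd⟩ := hμν ν hsub hνe
      exact ⟨Y, hY, hYn, hYT.trans inf_le_left, hYd⟩
    · have hcnt : ∀ a, ν.count a ≤ (Multiset.replicate l (k + 1)).count a + μ.count a := fun a => by
        rw [← Multiset.count_add]; exact Multiset.count_le_of_le a hν
      have hgt : μ.count (k + 1) < ν.count (k + 1) := by
        by_contra hle
        push Not at hle
        refine hsub (Multiset.le_iff_count.2 fun a => ?_)
        rcases eq_or_ne a (k + 1) with rfl | hne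
        · exact hle
        · have := hcnt a
          rwa [Multiset.count_replicate, if_neg (Ne.symm hne), zero_add] at this
      have hl : l ≤ ν.count (k + 1) := by
        have h1 := hcnt (k + 1)
        rw [Multiset.count_replicate_self] at h1
        rcases hlk with ⟨rfl, -⟩ | ⟨rfl, hodd⟩
        · omega
        · obtain ⟨a, ha⟩ := hνe _ hodd
          omega
      have hνle : ν - Multiset.replicate l (k + 1) ≤ μ := Multiset.sub_le_iff_le_add.2 (by rwa [add_comm])
      have hνe' : SpPart (ν - Multiset.replicate l (k + 1)) := hνe.sub fun a ha => by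
        rw [Multiset.count_replicate]
        rcases hlk with ⟨rfl, hev⟩ | ⟨rfl, -⟩
        · rw [if_neg (fun e : k + 1 = a => Nat.not_even_iff_odd.2 ha (e ▸ hev))]; exact ⟨0, rfl⟩
        · split_ifs
          · exact even_two
          · exact ⟨0, rfl⟩
      obtain ⟨Y, hY, hYn, hYT, hYd⟩ := hμν _ hνle hνe'
      have hXY : X ⊓ Y = ⊥ := le_bot_iff.1 ((inf_le_inf_left X hYT).trans hinf.le)
      refine ⟨X ⊔ Y, hX.sup hY, hXn.sup hP.refl hYn fun x hx y hy => mem_perp.1 (hYT hy).2 x hx,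
        sup_le hXT (hYT.trans inf_le_left), ?_⟩
      have h1 := Submodule.finrank_sup_add_finrank_inf_eq X Y
      rw [hXY, finrank_bot, hXd, hYd] at h1
      have h3 : ν.sum = (Multiset.replicate l (k + 1)).sum + (ν - Multiset.replicate l (k + 1)).sum := by
        rw [← Multiset.sum_add, add_tsub_cancel_of_le (Multiset.le_count_iff_replicate_le.1 hl)]
      rw [Multiset.sum_replicate, smul_eq_mul] at h3
      omega

/-- The partition of an invariant non-degenerate subspace is part of the whole one. -/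
theorem exists_sp_sub_partition (hP : IsPack B f r) (halt : ∀ v, B v v = 0) (h2 : (2 : F) ≠ 0) {p : ℕ}
    (htop : Ndg B ⊤) (hp : ∀ v, ((f - 1) ^ p) v = 0) {μ : Multiset ℕ} (hμ : ∀ a ∈ μ, 0 < a)
    (hprof : ∀ j, kerDim (f - 1) ⊤ j = profile μ j) {W : Submodule F V} (hW : Inv f W)
    (hWn : Ndg B W) : ∃ ν ≤ μ, SpPart ν ∧ ν.sum = finrank F W := by
  obtain ⟨hsup, hinf, -, hnd⟩ := exists_split hP.refl hWn (le_top (a := W))
  obtain ⟨μ₁, h1, he1, hs1, hk1, -⟩ := exists_sp_partition hP halt h2 _ W rfl hW hWn fun t _ => hp t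
  obtain ⟨μ₂, h3, -, -, hk2, -⟩ := exists_sp_partition hP halt h2 _ _ rfl
    ((Inv.top f).inf (perp_inv hP hW)) (hnd htop) fun t _ => hp t
  have : μ₁ + μ₂ = μ := profile_injective
    (fun a ha => (Multiset.mem_add.1 ha).elim (fun h => (h1 a h).1) (fun h => (h3 a h).1)) hμ
    fun j => by rw [profile_add, ← hk1, ← hk2, ← kerDim_sup (inv_sub_one_iff.2 hW)
      (inv_sub_one_iff.2 ((Inv.top f).inf (perp_inv hP hW))) hinf, hsup, hprof]
  exact ⟨μ₁, this ▸ Multiset.le_add_right _ _, he1, hs1⟩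

end CfsgLib.Elusive2
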