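import Cfsg.Agent.Elusive2.Symp
import Cfsg.Agent.Classical.SympGeometry

/-!
Symplectic elements of odd prime order with the smallest possible fixed space.
-/

set_option autoImplicit false
set_option linter.unusedSectionVars false

namespace CfsgLib.Elusive2

open Module CfsgLib.Elusive CfsgLib.Symp

variable {F : Type*} [Field F] [Fintype F] {r : ℕ} [hr' : Fact r.Prime]

/-- An element of order `r` of `Sp_2j` without fixed vectors, `2 j` being the block size. -/
theorem exists_fpf_sp (hr : (r : F) ≠ 0) {j : ℕ} (hj : 2 * j = blockDim (ordq F r)) :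
    ∃ y : ↥(Matrix.symplecticGroup (Fin j) F), y ^ r = 1 ∧
      fixS (Matrix.toLinAlgEquiv' (y : Matrix (Fin j ⊕ Fin j) (Fin j ⊕ Fin j) F)) = ⊥ := by
  classical
  have hj0 : 0 < j := by
    have := le_blockDim (ordq F r)
    have := ordq_pos (F := F) hr
    omega
  have hdvd : r ∣ Nat.card ↥(Matrix.symplecticGroup (Fin j) F) := by
    rw [card_Sp]
    refine Dvd.dvd.mul_left ?_ _
    refine Dvd.dvd.trans ?_ (Finset.dvd_prod_of_mem _ (Finset.mem_range.2 (Nat.sub_lt hj0 Nat.one_pos)))
    rw [Nat.sub_add_cancel hj0, Nat.card_eq_fintype_card, ← ZMod.natCast_eq_zero_iff,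
      Nat.cast_sub (Nat.one_le_pow _ _ Fintype.card_pos), Nat.cast_pow, Nat.cast_one, sub_eq_zero,
      ← orderOf_dvd_iff_pow_eq_one, hj]
    exact dvd_blockDim _
  obtain ⟨y, hy⟩ := exists_prime_orderOf_dvd_card' r hdvd
  have hyr : y ^ r = 1 := hy ▸ pow_orderOf_eq_one y
  set g := Matrix.toLinAlgEquiv' (y : Matrix (Fin j ⊕ Fin j) (Fin j ⊕ Fin j) F) with hg
  have hgr : g ^ r = 1 := by
    rw [hg, ← map_pow, show (y : Matrix (Fin j ⊕ Fin j) (Fin j ⊕ Fin j) F) ^ r = 1 by
      rw [← SubmonoidClass.coe_pow, hyr]; rfl, map_one]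
  have hP : IsSympPack (sympBilin j F) g r := ⟨⟨alt_refl fun v => form_self v,
    fun u v => form_smul_smul y u v, hgr, hr'.out.pos⟩, fun v => form_self v, ndg_top_symp⟩
  have hd := hP.blockDim_dvd_mov hr (Inv.top g) ndg_top_symp
  rw [Submodule.map_top] at hd
  change blockDim (ordq F r) ∣ finrank F (movS g) at hd
  have hmov : movS g ≠ ⊥ := fun hb => by
    have h2 : g = 1 := sub_eq_zero.1 (LinearMap.range_eq_bot.1 hb)
    have : y = 1 := Subtype.ext (Matrix.toLinAlgEquiv'.injective (h2.trans (map_one _).symm))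
    rw [this, orderOf_one] at hy
    exact hr'.out.one_lt.ne hy
  have hs := fix_add_mov (f := g)
  rw [finrank_fintype_fun_eq_card, Fintype.card_sum, Fintype.card_fin] at hs
  have h1 := Nat.le_of_dvd (Nat.pos_of_ne_zero fun e => hmov (Submodule.finrank_eq_zero.1 e)) hd
  refine ⟨y, hyr, Submodule.finrank_eq_zero.1 ?_⟩
  show finrank F (fixS g) = 0
  omega

/-- Coordinates for `s` planes of rank `j` and a rest. -/
def coordE (F : Type*) [Field F] {d s j e : ℕ} (σ : Fin d ≃ (Fin s × Fin j) ⊕ Fin e) :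
    (Fin d ⊕ Fin d → F) ≃ₗ[F] (Fin s → (Fin j ⊕ Fin j → F)) × (Fin e ⊕ Fin e → F) where
  toFun v := (fun k => Sum.elim (fun a => v (Sum.inl (σ.symm (Sum.inl (k, a)))))
      (fun a => v (Sum.inr (σ.symm (Sum.inl (k, a))))),
    Sum.elim (fun l => v (Sum.inl (σ.symm (Sum.inr l)))) (fun l => v (Sum.inr (σ.symm (Sum.inr l)))))
  map_add' u v := Prod.ext (funext fun k => funext fun a => by cases a <;> rfl)
    (funext fun a => by cases a <;> rfl)
  map_smul' c v := Prod.ext (funext fun k => funext fun a => by cases a <;> rfl)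
    (funext fun a => by cases a <;> rfl)
  invFun w := Sum.elim
    (fun l => (σ l).elim (fun p => w.1 p.1 (Sum.inl p.2)) (fun p => w.2 (Sum.inl p)))
    (fun l => (σ l).elim (fun p => w.1 p.1 (Sum.inr p.2)) (fun p => w.2 (Sum.inr p)))
  left_inv v := by
    funext l
    rcases l with l | l <;> rcases h : σ l with ⟨k, a⟩ | a <;> simp [h] <;>
      exact congrArg v (congrArg _ (σ.symm_apply_eq.2 h.symm))
  right_inv w := by
    refine Prod.ext (funext fun k => funext fun a => ?_) (funext fun a => ?_) <;> cases a <;> simp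

theorem form_coordE {d s j e : ℕ} (σ : Fin d ≃ (Fin s × Fin j) ⊕ Fin e) (u v : Fin d ⊕ Fin d → F) :
    form u v = (∑ k, form ((coordE F σ u).1 k) ((coordE F σ v).1 k)) +
      form (coordE F σ u).2 (coordE F σ v).2 := by
  simp only [form_apply]
  rw [← σ.symm.sum_comp, Fintype.sum_sum_type, Fintype.sum_prod_type]
  rfl

/-- An element of order `r` whose fixed space has dimension `2 e`. -/
theorem exists_worst (hr : (r : F) ≠ 0) (hr2 : r ≠ 2) {d s e : ℕ} (hs : 0 < s)
    (hd : 2 * d = s * blockDim (ordq F r) + 2 * e) :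
    ∃ x : ↥(Matrix.symplecticGroup (Fin d) F), x ^ r = 1 ∧
      (∀ z : F, (x : Matrix (Fin d ⊕ Fin d) (Fin d ⊕ Fin d) F) ≠ z • 1) ∧
      finrank F (fixS (Matrix.toLinAlgEquiv' (x : Matrix (Fin d ⊕ Fin d) (Fin d ⊕ Fin d) F))) = 2 * e := by
  classical
  obtain ⟨j, hj⟩ := blockDim_even (ordq F r)
  have hj0 : 0 < j := by
    have := le_blockDim (ordq F r)
    have := ordq_pos (F := F) hr
    omega
  rw [hj] at hd
  obtain ⟨y, hy, hfix⟩ := exists_fpf_sp hr (j := j) (by omega)
  let σ : Fin d ≃ (Fin s × Fin j) ⊕ Fin e :=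
    (Fintype.equivFinOfCardEq (by
      rw [Fintype.card_sum, Fintype.card_prod, Fintype.card_fin, Fintype.card_fin, Fintype.card_fin]
      have : s * (j + j) = 2 * (s * j) := by ring
      omega)).symm
  let E := coordE F σ
  let gy := Matrix.toLinAlgEquiv' (y : Matrix (Fin j ⊕ Fin j) (Fin j ⊕ Fin j) F)
  have hgyr : gy ^ r = 1 := by
    simp only [gy]
    rw [← map_pow, show (y : Matrix (Fin j ⊕ Fin j) (Fin j ⊕ Fin j) F) ^ r = 1 by
      rw [← SubmonoidClass.coe_pow, hy]; rfl, map_one]
  let h : Module.End F ((Fin s → (Fin j ⊕ Fin j → F)) × (Fin e ⊕ Fin e → F)) :=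
    (LinearMap.pi fun k => gy ∘ₗ LinearMap.proj k).prodMap LinearMap.id
  have hh : ∀ (k : ℕ) v, (h ^ k) v = (fun a => (gy ^ k) (v.1 a), v.2) := fun k => by
    induction k with
    | zero => intro v; rfl
    | succ k ih =>
      intro v
      rw [pow_succ', Module.End.mul_apply, ih]
      exact Prod.ext (funext fun a => by rw [pow_succ' gy k]; rfl) rfl
  let f : Module.End F (Fin d ⊕ Fin d → F) := E.symm.conj h
  have hf : ∀ v, E (f v) = h (E v) := fun v => by simp [f, LinearEquiv.conj_apply]
  have hfk : ∀ (k : ℕ) v, E ((f ^ k) v) = (h ^ k) (E v) := fun k => by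
    induction k with
    | zero => intro v; rfl
    | succ k ih => intro v; rw [pow_succ', pow_succ', Module.End.mul_apply, Module.End.mul_apply, hf, ih]
  have hfr : f ^ r = 1 := LinearMap.ext fun v => E.injective (by rw [hfk, hh, hgyr]; rfl)
  have hform : ∀ u v, form (f u) (f v) = form u v := fun u v => by
    rw [form_coordE σ (f u), form_coordE σ u, hf, hf]
    congr 1
    exact Finset.sum_congr rfl fun k _ => form_smul_smul y _ _
  let x : ↥(Matrix.symplecticGroup (Fin d) F) :=
    ⟨Matrix.toLinAlgEquiv'.symm f, mem_iff_form.2 fun u v => by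
      have e : ∀ w, (Matrix.toLinAlgEquiv'.symm f).mulVec w = f w := fun w => by
        rw [← Matrix.toLinAlgEquiv'_apply, AlgEquiv.apply_symm_apply]
      rw [e, e]; exact hform u v⟩
  have hxf : Matrix.toLinAlgEquiv' (x : Matrix (Fin d ⊕ Fin d) (Fin d ⊕ Fin d) F) = f :=
    AlgEquiv.apply_symm_apply _ _
  have hfixf : finrank F (fixS f) = 2 * e := by
    have heq : fixS f = (LinearMap.range (LinearMap.inr F (Fin s → (Fin j ⊕ Fin j → F))
        (Fin e ⊕ Fin e → F))).map E.symm.toLinearMap := by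
      ext v
      rw [mem_fixS, Submodule.mem_map]
      constructor
      · intro hv
        refine ⟨E v, ⟨(E v).2, Prod.ext (funext fun k => ?_) rfl⟩, E.symm_apply_apply v⟩
        have h1 := congrFun (congrArg Prod.fst ((congrArg E hv).symm.trans (hf v))) k
        have : (E v).1 k ∈ fixS gy := mem_fixS.2 h1.symm
        rw [hfix, Submodule.mem_bot] at this
        exact this.symm
      · rintro ⟨_, ⟨w, rfl⟩, rfl⟩
        refine E.injective ?_
        rw [hf, LinearEquiv.coe_coe, E.apply_symm_apply]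
        exact Prod.ext (funext fun k => map_zero gy) rfl
    rw [heq, LinearEquiv.finrank_map_eq, LinearMap.finrank_range_of_inj LinearMap.inr_injective,
      finrank_fintype_fun_eq_card, Fintype.card_sum, Fintype.card_fin]
    ring
  refine ⟨x, Subtype.ext (Matrix.toLinAlgEquiv'.injective ?_), fun z hz => ?_, by rw [hxf, hfixf]⟩
  · rw [SubmonoidClass.coe_pow, map_pow, hxf, hfr]
    exact (map_one _).symm
  · have hfv : ∀ v, f v = z • v := fun v => by
      rw [← hxf, hz, map_smul Matrix.toLinAlgEquiv', map_one, LinearMap.smul_apply, Module.End.one_apply]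
    let v0 : Fin d ⊕ Fin d → F :=
      E.symm (fun _ => Pi.single (Sum.inl ⟨0, hj0⟩) 1, 0)
    have hv0 : v0 ≠ 0 := fun e0 => by
      have := congrFun (congrFun (congrArg Prod.fst (congrArg E e0)) ⟨0, hs⟩) (Sum.inl ⟨0, hj0⟩)
      simp only [v0, E.apply_symm_apply, map_zero, Prod.fst_zero, Pi.zero_apply, Pi.single_eq_same] at this
      exact one_ne_zero this
    have hzr : z ^ r = 1 := by
      have hk : ∀ k : ℕ, (f ^ k) v0 = z ^ k • v0 := fun k => by
        induction k with
        | zero => simp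
        | succ k ih => rw [pow_succ', Module.End.mul_apply, ih, map_smul, hfv, smul_smul, ← pow_succ]
      have := hk r
      rw [hfr, Module.End.one_apply] at this
      exact smul_left_injective F hv0 (this.symm.trans (one_smul F v0).symm)
    have hz2 : z * z = 1 := by
      obtain ⟨w, hw⟩ := exists_form_ne_zero hv0
      have h1 := hform v0 w
      rw [hfv, hfv] at h1
      change sympBilin d F _ _ = sympBilin d F _ _ at h1
      rw [map_smul, map_smul, LinearMap.smul_apply, smul_eq_mul, smul_eq_mul, ← mul_assoc] at h1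
      exact mul_right_cancel₀ hw (h1.trans (one_mul _).symm)
    have hz1 : z = 1 := by
      obtain ⟨k, hk⟩ := hr'.out.odd_of_ne_two hr2
      rwa [hk, pow_succ, pow_mul, pow_two, hz2, one_pow, one_mul] at hzr
    have h1 := congrFun (congrArg Prod.fst ((hf v0).symm.trans
      (congrArg E (by rw [hfv, hz1, one_smul] : f v0 = v0)))) ⟨0, hs⟩
    have h5 : (E v0).1 ⟨0, hs⟩ ∈ fixS gy := mem_fixS.2 h1
    rw [hfix, Submodule.mem_bot] at h5
    have := congrFun h5 (Sum.inl ⟨0, hj0⟩)
    simp [v0] at this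

end CfsgLib.Elusive2
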