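import Cfsg.Agent.Elusive2.Kill
import Cfsg.Agent.Elusive2.SympWorst
import Mathlib.GroupTheory.Coset.Card

/-!
Fixed point free isometries of order `r` with pairwise different polynomials.
-/

set_option autoImplicit false
set_option linter.unusedSectionVars false

namespace CfsgLib.Elusive2

open Module Polynomial CfsgLib.Elusive CfsgLib.Symp

variable {F : Type*} [Field F] [Fintype F] {r : ℕ} [hr' : Fact r.Prime]

theorem fixS_pow_eq_bot {V : Type*} [AddCommGroup V] [Module F V] {g : V →ₗ[F] V}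
    (hg : g ^ r = 1) (hfix : fixS g = ⊥) {e : ℕ} (he : ¬ r ∣ e) : fixS (g ^ e) = ⊥ := by
  refine (Submodule.eq_bot_iff _).2 fun v hv => ?_
  rw [mem_fixS] at hv
  obtain ⟨b, hb⟩ : ∃ b : ℕ, ((e * b : ℕ) : ZMod r) = 1 := ⟨((e : ZMod r)⁻¹).val, by
    rw [Nat.cast_mul, ZMod.natCast_val, ZMod.cast_id', id,
      mul_inv_cancel₀ fun h => he ((ZMod.natCast_eq_zero_iff e r).1 h)]⟩
  have h1 : (g ^ (e * b)) v = v := by
    rw [pow_mul]
    clear hb
    induction b with
    | zero => rfl
    | succ b ih => rw [pow_succ, Module.End.mul_apply, hv, ih]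
  have h2 : g ^ (e * b) = g := by
    rw [← Nat.mod_add_div (e * b) r, pow_add, pow_mul, hg, one_pow, mul_one]
    have : (e * b) % r = 1 % r := (ZMod.natCast_eq_natCast_iff' _ _ _).1 (by rw [hb, Nat.cast_one])
    rw [this, Nat.mod_eq_of_lt hr'.out.one_lt, pow_one]
  have : v ∈ fixS g := mem_fixS.2 (by rw [h2] at h1; exact h1)
  rwa [hfix, Submodule.mem_bot] at this

/-- The minimal polynomial on a space of minimal dimension. -/
theorem exists_min_poly {V : Type*} [AddCommGroup V] [Module F V] [FiniteDimensional F V]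
    {g : V →ₗ[F] V} (hg : g ^ r = 1) (hr : (r : F) ≠ 0) (hfix : fixS g = ⊥)
    (hd : finrank F V = ordq F r) :
    ∃ P : F[X], P.Monic ∧ P.natDegree = ordq F r ∧ Irreducible P ∧ aeval g P = 0 := by
  have hfix' : (⊤ : Submodule F V) ⊓ fixS g = ⊥ := by rw [top_inf_eq, hfix]
  have hne : (⊤ : Submodule F V) ≠ ⊥ := fun e => by
    have := finrank_top F V
    rw [e, finrank_bot] at this
    have := ordq_pos (F := F) hr
    omega
  obtain ⟨U, u, P, -, -, -, -, hu0, hPm, hPd, hPu⟩ := exists_irr hg hr (Inv.top g) hfix' hne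
  refine ⟨P, hPm, natDegree_of_kill hg (Inv.top g) hfix' Submodule.mem_top hu0 hPm hPd hPu,
    irreducible_of_kill hg hr (Inv.top g) hfix' Submodule.mem_top hu0 hPm hPd hPu, ?_⟩
  refine LinearMap.ext fun v => ?_
  obtain ⟨k, hk⟩ := (range_cyc_eq hg (Inv.top g) (by rw [finrank_top, hd]) hfix' Submodule.mem_top hu0).symm ▸
    (Submodule.mem_top : v ∈ (⊤ : Submodule F V))
  rw [← hk]
  show aeval g P (aeval g k u) = 0
  rw [← Module.End.mul_apply, ← map_mul, mul_comm, map_mul, Module.End.mul_apply, hPu, map_zero]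

omit hr' in
theorem root_pow_card {K : Type*} [CommRing K] [Algebra F K] {P : F[X]} {x : K} (hx : aeval x P = 0)
    (l : ℕ) : aeval (x ^ Fintype.card F ^ l) P = 0 := by
  induction l with
  | zero => simpa using hx
  | succ l ih =>
    rw [pow_succ, pow_mul, ← Polynomial.expand_aeval, FiniteField.expand_card, map_pow, ih,
      zero_pow Fintype.card_ne_zero]

/-- Isometries without fixed vectors of all types. -/
theorem exists_sp_types (hr : (r : F) ≠ 0) {j : ℕ} (hj : 2 * j = ordq F r) :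
    ∃ (y : Fin ((r - 1) / ordq F r) → ↥(Matrix.symplecticGroup (Fin j) F))
      (P : Fin ((r - 1) / ordq F r) → F[X]), Function.Injective P ∧ ∀ a, y a ^ r = 1 ∧
        fixS (Matrix.toLinAlgEquiv' (y a : Matrix (Fin j ⊕ Fin j) (Fin j ⊕ Fin j) F)) = ⊥ ∧
        (P a).Monic ∧ (P a).natDegree = ordq F r ∧ Irreducible (P a) ∧
        aeval (Matrix.toLinAlgEquiv' (y a : Matrix (Fin j ⊕ Fin j) (Fin j ⊕ Fin j) F)) (P a) = 0 := by
  classical
  have hi0 := ordq_pos (F := F) hr
  obtain ⟨y0, hy0, hy0f⟩ := exists_fpf_sp hr (j := j) (by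
    rw [blockDim, if_pos (hj ▸ even_two_mul j)]; exact hj)
  set g := Matrix.toLinAlgEquiv' (y0 : Matrix (Fin j ⊕ Fin j) (Fin j ⊕ Fin j) F) with hgdef
  have hg : g ^ r = 1 := by
    rw [hgdef, ← map_pow, show (y0 : Matrix (Fin j ⊕ Fin j) (Fin j ⊕ Fin j) F) ^ r = 1 by
      rw [← SubmonoidClass.coe_pow, hy0]; rfl, map_one]
  have hdim : finrank F (Fin j ⊕ Fin j → F) = ordq F r := by
    rw [finrank_fintype_fun_eq_card, Fintype.card_sum, Fintype.card_fin, ← hj, two_mul]
  -- cosets of the group generated by `q`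
  have hq0 : ((Fintype.card F : ℕ) : ZMod r) ≠ 0 := fun h => by
    have := hi0
    rw [ordq, h] at this
    simp at this
  let qu : (ZMod r)ˣ := Units.mk0 _ hq0
  have hqu : orderOf qu = ordq F r := by rw [← orderOf_units]; rfl
  have hcard : Nat.card ((ZMod r)ˣ ⧸ Subgroup.zpowers qu) = (r - 1) / ordq F r := by
    have h := Subgroup.card_eq_card_quotient_mul_card_subgroup (Subgroup.zpowers qu)
    rw [Nat.card_zpowers, hqu, Nat.card_units, Nat.card_zmod] at h
    rw [h, Nat.mul_div_cancel _ hi0]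
  have : NeZero r := ⟨hr'.out.ne_zero⟩
  let ε : Fin ((r - 1) / ordq F r) ≃ (ZMod r)ˣ ⧸ Subgroup.zpowers qu :=
    ((Finite.equivFinOfCardEq hcard)).symm
  let e : Fin ((r - 1) / ordq F r) → ℕ := fun a => ((Quotient.out (ε a) : (ZMod r)ˣ) : ZMod r).val
  have he : ∀ a, ((e a : ℕ) : ZMod r) = ((Quotient.out (ε a) : (ZMod r)ˣ) : ZMod r) := fun a =>
    ZMod.natCast_zmod_val _
  have hend : ∀ a, ¬ r ∣ e a := fun a h => by
    rw [← ZMod.natCast_eq_zero_iff, he] at h
    exact Units.ne_zero _ h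
  have hgp : ∀ a, Matrix.toLinAlgEquiv' ((y0 ^ e a : ↥(Matrix.symplecticGroup (Fin j) F)) :
      Matrix (Fin j ⊕ Fin j) (Fin j ⊕ Fin j) F) = g ^ e a := fun a => by
    rw [SubmonoidClass.coe_pow, map_pow, hgdef]
  have hr1 : ∀ a, (g ^ e a) ^ r = 1 := fun a => by rw [← pow_mul, mul_comm, pow_mul, hg, one_pow]
  choose P hPm hPd hPi hP0 using fun a => exists_min_poly (hr1 a) hr (fixS_pow_eq_bot hg hy0f (hend a)) hdim
  refine ⟨fun a => y0 ^ e a, P, fun a b hab => ?_, fun a => ⟨by
    rw [← pow_mul, mul_comm, pow_mul, hy0, one_pow], by rw [hgp]; exact fixS_pow_eq_bot hg hy0f (hend a),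
    hPm a, hPd a, hPi a, by rw [hgp]; exact hP0 a⟩⟩
  -- roots of the polynomial of `g`
  obtain ⟨P0, hP0m, hP0d, hP0i, hP00⟩ := exists_min_poly hg hr hy0f hdim
  have : Fact (Irreducible P0) := ⟨hP0i⟩
  set lam : AdjoinRoot P0 := AdjoinRoot.root P0
  have hfix' : (⊤ : Submodule F (Fin j ⊕ Fin j → F)) ⊓ fixS g = ⊥ := by rw [top_inf_eq, hy0f]
  obtain ⟨u, -, hu0⟩ := Submodule.exists_mem_ne_zero_of_ne_bot
    (p := (⊤ : Submodule F (Fin j ⊕ Fin j → F))) fun h => by
      have := finrank_top F (Fin j ⊕ Fin j → F)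
      rw [h, finrank_bot] at this
      omega
  have hroot : ∀ G : F[X], aeval g G = 0 → aeval lam G = 0 := fun G hG => by
    rw [AdjoinRoot.aeval_eq, AdjoinRoot.mk_eq_zero]
    exact dvd_of_kill hg (Inv.top g) hfix' Submodule.mem_top hu0 hP0m hP0d.le
      (by rw [hP00]; rfl) (by rw [hG]; rfl)
  have hlr : lam ^ r = 1 := by
    have := hroot (X ^ r - 1) (by rw [map_sub, map_pow, aeval_X, map_one, hg, sub_self])
    rwa [map_sub, map_pow, aeval_X, map_one, sub_eq_zero] at this
  have hl1 : lam ≠ 1 := fun h => by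
    have h1 : AdjoinRoot.mk P0 (X - 1) = 0 := by rw [map_sub, map_one, AdjoinRoot.mk_X]; exact sub_eq_zero.2 h
    rw [AdjoinRoot.mk_eq_zero] at h1
    have := Polynomial.natDegree_le_of_dvd h1 (X_sub_C_ne_zero (1 : F) |> fun h => by simpa using h)
    rw [show (X - 1 : F[X]) = X - C 1 by rw [map_one], natDegree_X_sub_C] at this
    omega
  have hord : orderOf lam = r := orderOf_eq_prime hlr hl1
  have hinjr : ∀ {m m' : ℕ}, lam ^ m = lam ^ m' → (m : ZMod r) = (m' : ZMod r) := fun {m m'} h => by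
    rw [ZMod.natCast_eq_natCast_iff']
    rw [← pow_mod_orderOf lam m, ← pow_mod_orderOf lam m', hord] at h
    exact pow_injOn_Iio_orderOf (x := lam) (by rw [hord]; exact Nat.mod_lt _ hr'.out.pos)
      (by rw [hord]; exact Nat.mod_lt _ hr'.out.pos) h
  have hPa : ∀ c, aeval (lam ^ e c) (P c) = 0 := fun c => by
    have := hroot ((P c).comp (X ^ e c)) (by rw [aeval_comp, map_pow, aeval_X, hP0 c])
    rwa [aeval_comp, map_pow, aeval_X] at this
  -- all roots of `P a`
  let roots' : Finset (AdjoinRoot P0) :=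
    (Finset.range (ordq F r)).image fun l => lam ^ (e a * Fintype.card F ^ l)
  have hmem : lam ^ e b ∈ roots' := by
    have hinj : Set.InjOn (fun l => lam ^ (e a * Fintype.card F ^ l)) (Finset.range (ordq F r)) := by
      intro l hl l' hl' h
      simp only [Finset.coe_range, Set.mem_Iio] at hl hl'
      simp only at h
      have h' := hinjr h
      rw [Nat.cast_mul, Nat.cast_mul, Nat.cast_pow, Nat.cast_pow] at h'
      exact pow_injOn_Iio_orderOf hl hl' (mul_left_cancel₀ (by rw [he]; exact Units.ne_zero _) h')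
    by_contra hnot
    let Q : (AdjoinRoot P0)[X] := (P a).map (algebraMap F _)
    have hQ0 : Q ≠ 0 := (Polynomial.map_ne_zero_iff (algebraMap F (AdjoinRoot P0)).injective).2 (hPm a).ne_zero
    have hsub : (insert (lam ^ e b) roots').val ⊆ Q.roots := by
      intro x hx
      rw [Polynomial.mem_roots hQ0, IsRoot.def, Polynomial.eval_map, ← aeval_def]
      replace hx : x ∈ insert (lam ^ e b) roots' := hx
      rcases Finset.mem_insert.1 hx with rfl | hx
      · rw [hab]; exact hPa b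
      · obtain ⟨l, -, rfl⟩ := Finset.mem_image.1 hx
        rw [pow_mul]
        exact root_pow_card (hPa a) l
    have hle := Polynomial.card_le_degree_of_subset_roots hsub
    rw [Finset.card_insert_of_notMem hnot, Finset.card_image_of_injOn hinj, Finset.card_range,
      Polynomial.natDegree_map, hPd a] at hle
    omega
  obtain ⟨l, -, hl⟩ := Finset.mem_image.1 hmem
  replace hl := hinjr hl
  rw [Nat.cast_mul, Nat.cast_pow, he, he] at hl
  have hl' : Quotient.out (ε a) * qu ^ l = Quotient.out (ε b) := Units.ext (by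
    rw [Units.val_mul, Units.val_pow_eq_pow_val]; exact hl)
  apply ε.injective
  rw [← QuotientGroup.out_eq' (ε a), ← QuotientGroup.out_eq' (ε b), QuotientGroup.eq, ← hl',
    inv_mul_cancel_left]
  exact Subgroup.pow_mem _ (Subgroup.mem_zpowers qu) l

end CfsgLib.Elusive2
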