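import Cfsg.Agent.Elusive2.Iso
import Cfsg.Agent.Elusive.UnitSimil

/-!
Invariant non-degenerate and totally isotropic subspaces of unitary isometries of odd prime order
prime to the characteristic.
-/

set_option autoImplicit false
set_option linter.unusedSectionVars false

namespace CfsgLib.UnitElusive

open Module CfsgLib.Elusive CfsgLib.Elusive2 CfsgLib.Forms CfsgLib.Unitary

variable {F : Type*} [Field F] [Fintype F] {q : ℕ} (hF : Nat.card F = q ^ 2)

/-- The Hermitian form, semilinear in the first argument. -/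
noncomputable def hB (n : ℕ) : (Fin n → F) →ₛₗ[frobQ hF] (Fin n → F) →ₗ[F] F :=
  LinearMap.mk₂'ₛₗ (frobQ hF) (RingHom.id F) (fun u v => Cfsg.hermForm n F q v u)
    (fun a b c => (uForm hF n).add_right c a b)
    (fun r a c => by simpa [uForm_h, uForm_σ, frobQ_apply] using (uForm hF n).smul_right r c a)
    (fun a b c => herm_add_left n b c a)
    (fun r a c => by simpa using herm_smul_left (q := q) n r c a)

variable {n : ℕ}

theorem hB_apply (u v : Fin n → F) : hB hF n u v = Cfsg.hermForm n F q v u := rfl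

theorem hB_swap (u v : Fin n → F) : hB hF n v u = hB hF n u v ^ q := by
  have h : Cfsg.hermForm n F q u v = 1 * (Cfsg.hermForm n F q v u) ^ q := (uForm hF n).swap v u
  rw [hB_apply, hB_apply, h, one_mul]

theorem hB_refl : ∀ u v : Fin n → F, hB hF n u v = 0 → hB hF n v u = 0 := fun u v h => by
  rw [hB_swap hF u v, h, zero_pow (by have := two_le_q hF; omega)]

theorem hB_ndg_top : Ndg (hB hF n) (⊤ : Submodule F (Fin n → F)) := fun u _ hu => by
  by_contra h
  push Not at h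
  exact hu (uForm_nondeg hF n u fun v => h v trivial)

theorem iso_iff (W : Submodule F (Fin n → F)) :
    (∀ u ∈ W, ∀ v ∈ W, Cfsg.hermForm n F q u v = 0) ↔ Iso0 (hB hF n) W :=
  ⟨fun h u hu v hv => h v hv u hu, fun h u hu v hv => h v hv u hu⟩

theorem ndg_iff (W : Submodule F (Fin n → F)) :
    (∀ u ∈ W, u ≠ 0 → ∃ v ∈ W, Cfsg.hermForm n F q u v ≠ 0) ↔ Ndg (hB hF n) W := by
  constructor <;> intro h u hu hu0 <;> obtain ⟨v, hv, hne⟩ := h u hu hu0
  · exact ⟨v, hv, fun e => hne (hB_refl hF u v e)⟩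
  · exact ⟨v, hv, fun e => hne (hB_refl hF v u e)⟩

theorem pack_one : IsPack (hB hF n) (1 : Module.End F (Fin n → F)) 1 :=
  ⟨hB_refl hF, fun _ _ => rfl, pow_one _, Nat.one_pos⟩

theorem inv_one (W : Submodule F (Fin n → F)) : Inv (1 : Module.End F (Fin n → F)) W := fun _ h => h

theorem exists_aniso {W : Submodule F (Fin n → F)} (hW : Ndg (hB hF n) W) (hne : W ≠ ⊥) :
    ∃ u ∈ W, hB hF n u u ≠ 0 := by
  obtain ⟨u, hu, hu0⟩ := W.exists_mem_ne_zero_of_ne_bot hne
  obtain ⟨v, hv, huv⟩ := hW u hu hu0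
  by_contra hall
  push Not at hall
  set β := hB hF n u v
  have key : ∀ x : F, frobQ hF x + x = 0 := fun x => by
    have h := hall _ (W.add_mem hu (W.smul_mem (x * β⁻¹) hv))
    simp only [map_add, LinearMap.add_apply, map_smulₛₗ, LinearMap.smul_apply, hall u hu, hall v hv,
      RingHom.id_apply, smul_eq_mul, hB_swap hF u v, mul_zero, add_zero, zero_add] at h
    change frobQ hF (x * β⁻¹) * β ^ q + x * β⁻¹ * β = 0 at h
    rwa [← frobQ_apply hF β, ← map_mul, mul_assoc, inv_mul_cancel₀ huv, mul_one] at h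
  refine frobQ_ne_id hF (RingHom.ext fun x => ?_)
  have h1 : (1 : F) = -1 := by
    have := key 1
    rw [map_one] at this
    exact eq_neg_of_add_eq_zero_left this
  have h2 := eq_neg_of_add_eq_zero_left (key x)
  rw [RingHom.id_apply, h2, ← mul_one (-x), neg_mul, ← mul_neg, ← h1, mul_one]

theorem aniso_ne {u : Fin n → F} (hu : hB hF n u u ≠ 0) : u ≠ 0 := fun e => by
  apply hu
  rw [e, map_zero]

theorem ndg_span {u : Fin n → F} (hu : hB hF n u u ≠ 0) :
    Ndg (hB hF n) (Submodule.span F {u}) := fun x hx hx0 => by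
  obtain ⟨c, rfl⟩ := Submodule.mem_span_singleton.1 hx
  have hc : c ≠ 0 := fun e => hx0 (by rw [e, zero_smul])
  refine ⟨u, Submodule.mem_span_singleton_self u, ?_⟩
  rw [map_smulₛₗ, LinearMap.smul_apply]
  exact smul_ne_zero ((map_ne_zero _).2 hc) hu

theorem exists_ndg_dim {T : Submodule F (Fin n → F)} (hT : Ndg (hB hF n) T) {b : ℕ}
    (hb : b ≤ finrank F T) : ∃ X, X ≤ T ∧ Ndg (hB hF n) X ∧ finrank F X = b := by
  obtain ⟨X, -, hX, hXT, hXd⟩ := exists_peel (pack_one hF) (inv_one T) hT (c := 1)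
    (fun W _ hWn _ hne => by
      obtain ⟨u, hu, huu⟩ := exists_aniso hF hWn hne
      exact ⟨_, inv_one _, ndg_span hF huu, (Submodule.span_singleton_le_iff_mem _ _).2 hu,
        finrank_span_singleton (aniso_ne hF huu)⟩) b (by omega)
  exact ⟨X, hXT, hX, by omega⟩

theorem exists_iso_dim {T : Submodule F (Fin n → F)} (hT : Ndg (hB hF n) T) {b : ℕ}
    (hb : 2 * b ≤ finrank F T) : ∃ U, U ≤ T ∧ Iso0 (hB hF n) U ∧ finrank F U = b := by
  obtain ⟨X, U, -, -, hXT, -, -, hUi, hUX, hUd⟩ := exists_iso_peel (pack_one hF) (c := 2) (e := 1)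
    (L := 2) (inv_one T) hT (fun W _ hWn _ hd => by
      have hne : W ≠ ⊥ := fun e => by rw [e, finrank_bot] at hd; omega
      obtain ⟨u, hu, huu⟩ := exists_aniso hF hWn hne
      have hu0 := aniso_ne hF huu
      have hle : Submodule.span F {u} ≤ W := (Submodule.span_singleton_le_iff_mem _ _).2 hu
      obtain ⟨-, -, hdim, hnd⟩ := exists_split (hB_refl hF) (ndg_span hF huu) hle
      rw [finrank_span_singleton hu0] at hdim
      obtain ⟨u', hu', huu'⟩ := exists_aniso hF (hnd hWn) fun e => by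
        rw [e, finrank_bot] at hdim; omega
      have horth : hB hF n u u' = 0 := mem_perp.1 hu'.2 u (Submodule.mem_span_singleton_self u)
      have horth' := hB_refl hF _ _ horth
      set a := hB hF n u u
      set a' := hB hF n u' u'
      have haq : a ^ q = a := (hB_swap hF u u).symm
      have ha'q : a' ^ q = a' := (hB_swap hF u' u').symm
      obtain ⟨k, hk0, hk⟩ := exists_norm (K := F) (Q := q) (by rw [hF, sq]) (a := -a / a')
        (div_ne_zero (neg_ne_zero.2 huu) huu') (by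
          rw [← frobQ_apply hF, map_div₀, map_neg, frobQ_apply, frobQ_apply, haq, ha'q])
      have hw : hB hF n (u + k • u') (u + k • u') = 0 := by
        simp only [map_add, LinearMap.add_apply, map_smulₛₗ, LinearMap.smul_apply, horth, horth',
          RingHom.id_apply, smul_eq_mul, mul_zero, add_zero, zero_add]
        change a + k * (frobQ hF k * a') = 0
        rw [frobQ_apply, ← mul_assoc, ← pow_succ', hk, div_mul_cancel₀ _ huu', add_neg_cancel]
      have hle' : Submodule.span F {u'} ≤ W := (Submodule.span_singleton_le_iff_mem _ _).2 hu'.1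
      refine ⟨Submodule.span F {u} ⊔ Submodule.span F {u'}, Submodule.span F {u + k • u'}, inv_one _,
        (ndg_span hF huu).sup (hB_refl hF) (ndg_span hF huu') ?_, sup_le hle hle', ?_, inv_one _,
        fun x hx y hy => ?_, (Submodule.span_singleton_le_iff_mem _ _).2 (Submodule.add_mem_sup
          (Submodule.mem_span_singleton_self u)
          (Submodule.smul_mem _ k (Submodule.mem_span_singleton_self u'))),
        finrank_span_singleton fun e => ?_⟩
      · intro x hx y hy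
        obtain ⟨c, rfl⟩ := Submodule.mem_span_singleton.1 hx
        obtain ⟨d, rfl⟩ := Submodule.mem_span_singleton.1 hy
        simp [map_smulₛₗ, horth]
      · have h := Submodule.finrank_sup_add_finrank_inf_eq (Submodule.span F {u}) (Submodule.span F {u'})
        rw [finrank_span_singleton hu0, finrank_span_singleton (aniso_ne hF huu'),
          le_bot_iff.1 ((inf_le_inf_left _ ((Submodule.span_singleton_le_iff_mem _ _).2 hu'.2)).trans
            (inf_perp (hB_refl hF) (ndg_span hF huu)).le), finrank_bot] at h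
        exact h
      · obtain ⟨c, rfl⟩ := Submodule.mem_span_singleton.1 hx
        obtain ⟨d, rfl⟩ := Submodule.mem_span_singleton.1 hy
        simp only [map_smulₛₗ, LinearMap.smul_apply, hw, smul_zero]
      · have h2 := congrArg (hB hF n u) e
        rw [map_add, map_smul, horth, smul_zero, add_zero, map_zero] at h2
        exact huu h2) b (Or.inr (by omega))
  exact ⟨U, hUX.trans hXT, hUi, by omega⟩

/-! ### Orders -/

/-- The dimension of the irreducible moved subspaces. -/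
def bdim (i : ℕ) : ℕ := if Even i then i / 2 else i

/-- The dimension of the non-degenerate moved blocks. -/
def cdim (i : ℕ) : ℕ := if i % 4 = 0 then i else if i % 4 = 2 then i / 2 else 2 * i

theorem cdim_eq (i : ℕ) : cdim i = if i % 4 = 2 then bdim i else 2 * bdim i := by
  unfold cdim bdim
  rcases Nat.even_or_odd i with h | h
  · rw [if_pos h]
    obtain ⟨j, rfl⟩ := h
    split_ifs <;> omega
  · rw [if_neg (Nat.not_even_iff_odd.2 h)]
    obtain ⟨j, rfl⟩ := h
    split_ifs <;> omega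

variable {r : ℕ} [hr' : Fact r.Prime]

include hF in
theorem ordq_sq : ordq F r = orderOf ((q : ZMod r) ^ 2) := by
  rw [ordq, ← Nat.card_eq_fintype_card, hF, Nat.cast_pow]

include hF in
theorem qord_pos (hr : (r : F) ≠ 0) : 0 < orderOf (q : ZMod r) := by
  refine orderOf_pos_iff.2 ((isOfFinOrder_pow (n := 2)).1 ?_ |>.resolve_right two_ne_zero)
  rw [← orderOf_pos_iff, ← ordq_sq hF]
  exact ordq_pos hr

include hF in
theorem ordq_eq (hr : (r : F) ≠ 0) : ordq F r = bdim (orderOf (q : ZMod r)) := by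
  rw [ordq_sq hF, orderOf_pow' _ two_ne_zero, bdim]
  rcases Nat.even_or_odd (orderOf (q : ZMod r)) with h | h
  · rw [if_pos h, Nat.gcd_eq_right (even_iff_two_dvd.1 h)]
  · rw [if_neg (Nat.not_even_iff_odd.2 h),
      Nat.Coprime.gcd_eq_one (Nat.coprime_two_right.2 h), Nat.div_one]

theorem cast_two_ne (hr2 : r ≠ 2) : (2 : ZMod r) ≠ 0 := fun h => by
  have h' : ((2 : ℕ) : ZMod r) = 0 := by exact_mod_cast h
  rw [ZMod.natCast_eq_zero_iff] at h'
  exact hr2 ((Nat.prime_dvd_prime_iff_eq hr'.out Nat.prime_two).1 h')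

/-- The half of an even order gives `-1`. -/
theorem pow_half {y : ZMod r} {j : ℕ} (hj : orderOf y = j + j) (hj0 : 0 < j) : y ^ j = -1 := by
  have h2 : y ^ j * y ^ j = 1 := by rw [← pow_add, ← hj, pow_orderOf_eq_one]
  refine (mul_self_eq_one_iff.1 h2).resolve_left fun h => ?_
  have := Nat.le_of_dvd hj0 (orderOf_dvd_of_pow_eq_one h)
  omega

theorem neg_pow_iff (hr2 : r ≠ 2) {i : ℕ} (hi : i = orderOf (q : ZMod r)) (hi0 : 0 < i) (j : ℕ) :
    (-(q : ZMod r)) ^ j = 1 ↔ cdim i ∣ j := by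
  have h2 : (-1 : ZMod r) ≠ 1 := fun h => cast_two_ne (r := r) hr2 (by linear_combination -h)
  have hqi : ∀ k, (q : ZMod r) ^ k = 1 ↔ i ∣ k := fun k => by rw [hi, orderOf_dvd_iff_pow_eq_one]
  have hhalf : ∀ l, i = l + l → (q : ZMod r) ^ l = -1 := fun l hl => pow_half (hi ▸ hl) (by omega)
  have hfwd : (-(q : ZMod r)) ^ j = 1 → i ∣ 2 * j := fun h => by
    rw [← hqi, Nat.mul_comm, pow_mul, ← mul_pow_self_eq h]
  constructor
  · intro h
    obtain ⟨w, hw⟩ := hfwd h
    unfold cdim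
    split_ifs with h4 h4'
    · rcases Nat.even_or_odd j with hje | hjo
      · rwa [hje.neg_pow, hqi] at h
      · exfalso
        rw [← Nat.mul_div_cancel' (Nat.dvd_of_mod_eq_zero h4), Nat.mul_assoc] at hw
        obtain ⟨j', rfl⟩ := hjo
        omega
    · refine ⟨w, Nat.eq_of_mul_eq_mul_left two_pos ?_⟩
      rw [hw, ← Nat.mul_assoc, Nat.mul_div_cancel' (Nat.dvd_of_mod_eq_zero (by omega))]
    · have hio : Odd i := Nat.odd_iff.2 (by omega)
      have hij : i ∣ j := (Nat.Coprime.dvd_mul_left (Nat.coprime_two_right.2 hio)).1 ⟨w, hw⟩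
      rcases Nat.even_or_odd j with hje | hjo
      · exact (Nat.coprime_two_left.2 hio).mul_dvd_of_dvd_of_dvd (even_iff_two_dvd.1 hje) hij
      · rw [hjo.neg_pow, (hqi j).2 hij] at h
        exact absurd h h2
  · rintro ⟨w, rfl⟩
    rw [pow_mul]
    suffices hc : (-(q : ZMod r)) ^ cdim i = 1 by rw [hc, one_pow]
    unfold cdim
    split_ifs with h4 h4'
    · rw [(Nat.even_iff.2 (by omega)).neg_pow, (hqi _).2 dvd_rfl]
    · rw [(Nat.odd_iff.2 (by omega)).neg_pow, hhalf (i / 2) (by omega), neg_neg]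
    · rw [(even_two_mul i).neg_pow, (hqi _).2 (dvd_mul_left i 2)]
where
  mul_pow_self_eq {y : ZMod r} {j : ℕ} (h : (-y) ^ j = 1) : (1 : ZMod r) = (y ^ j) ^ 2 := by
    rw [← pow_mul, Nat.mul_comm, pow_mul, ← neg_sq, ← pow_mul, Nat.mul_comm, pow_mul, h, one_pow]

include hF in
/-- The data of the self-dual case. -/
theorem selfDual_data {p : ℕ} [Fact p.Prime] [CharP F p] (hr : (r : F) ≠ 0) {i : ℕ}
    (hi : i = orderOf (q : ZMod r)) (h4 : i % 4 = 2) :
    ∃ N, r ∣ p ^ N + 1 ∧ (∀ x : F, frobQ hF x = x ^ p ^ N) ∧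
      Fintype.card F ^ ordq F r = p ^ N * p ^ N := by
  obtain ⟨e, hp, hcard⟩ := FiniteField.card F p
  obtain ⟨f, -, hf⟩ := (Nat.dvd_prime_pow hp).1
    (show q ∣ p ^ (e : ℕ) by rw [← hcard, ← Nat.card_eq_fintype_card, hF]; exact dvd_pow_self q two_ne_zero)
  have hb : bdim i = i / 2 := by rw [bdim, if_pos (Nat.even_iff.2 (by omega))]
  have hN : p ^ (f * (i / 2)) = q ^ (i / 2) := by rw [pow_mul, ← hf]
  refine ⟨f * (i / 2), ?_, fun x => ?_, ?_⟩
  · rw [hN, ← ZMod.natCast_eq_zero_iff, Nat.cast_add, Nat.cast_pow, Nat.cast_one,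
      pow_half (j := i / 2) (by omega) (by omega), neg_add_cancel]
  · rw [hN, frobQ_apply]
    obtain ⟨l, hl⟩ : Odd (i / 2) := Nat.odd_iff.2 (by omega)
    rw [hl, pow_succ', pow_mul x q, pow_mul q, ← hF, ← pow_mul]
    rw [show x ^ (q * Nat.card F ^ l) = (x ^ q) ^ Nat.card F ^ l from pow_mul _ _ _,
      Nat.card_eq_fintype_card, FiniteField.pow_card_pow]
  · rw [hN, ← Nat.card_eq_fintype_card, hF, ordq_eq hF hr, ← hi, hb, ← pow_add, ← pow_mul, two_mul]

variable {f : Module.End F (Fin n → F)}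

include hF in
theorem hF_isUnitary : Cfsg.Geo.IsUnitaryFormPow q (Cfsg.hermForm n F q) := by
  refine ⟨herm_add_left n, fun c x v => herm_smul_left n c x v, fun v w => hB_swap hF v w, ?_⟩
  intro u hu
  refine ⟨?_, ?_⟩ <;>
  · obtain ⟨v, -, hv⟩ := hB_ndg_top hF u trivial hu
    first
    | exact ⟨v, fun e => hv e⟩
    | exact ⟨v, fun e => hv (hB_refl hF v u e)⟩

/-- No irreducible non-degenerate moved subspace outside the self-dual case. -/
theorem no_irr_ndg (hP : IsPack (hB hF n) f r) (hr : (r : F) ≠ 0) (hr2 : r ≠ 2) {i : ℕ}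
    (hi : i = orderOf (q : ZMod r)) (h4 : i % 4 ≠ 2) (U : Submodule F (Fin n → F)) (hU : Inv f U)
    (hfix : U ⊓ fixS f = ⊥) (hd : finrank F U = ordq F r) : ¬ Ndg (hB hF n) U := by
  intro hUn
  rw [ordq_eq hF hr, ← hi] at hd
  have hi0 : 0 < i := hi ▸ qord_pos hF hr
  rcases eq_or_ne i 1 with h1 | h1
  · subst h1
    have hq1 : (q : ZMod r) = 1 := orderOf_eq_one_iff.1 hi.symm
    have hd1 : finrank F U = 1 := hd
    obtain ⟨u, hu, huu⟩ := exists_aniso hF hUn fun e => by rw [e, finrank_bot] at hd1; omega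
    obtain ⟨c, hc⟩ := (finrank_eq_one_iff_of_nonzero' (⟨u, hu⟩ : U)
      fun e => aniso_ne hF huu (congrArg Subtype.val e)).1 hd1 ⟨f u, hU u hu⟩
    replace hc : c • u = f u := congrArg Subtype.val hc
    have h := hP.isom u u
    rw [← hc] at h
    simp only [map_smulₛₗ, LinearMap.smul_apply, smul_eq_mul, RingHom.id_apply, frobQ_apply] at h
    have hcq : c ^ (q + 1) = 1 :=
      mul_right_cancel₀ huu ((by rw [pow_succ]; linear_combination h :
        c ^ (q + 1) * hB hF n u u = hB hF n u u).trans (one_mul _).symm)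
    have hk : ∀ k : ℕ, (f ^ k) u = c ^ k • u := fun k => by
      induction k with
      | zero => simp
      | succ k ih => rw [pow_succ', Module.End.mul_apply, ih, map_smul, ← hc, smul_smul, ← pow_succ]
    have hcr : c ^ r = 1 := by
      have := hk r
      rw [hP.pow_r, Module.End.one_apply] at this
      exact smul_left_injective F (aniso_ne hF huu) (this.symm.trans (one_smul F u).symm)
    have hcop : Nat.gcd r (q + 1) = 1 := (Nat.Prime.coprime_iff_not_dvd hr'.out).2 fun h => by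
      rw [← ZMod.natCast_eq_zero_iff, Nat.cast_add, hq1, Nat.cast_one] at h
      exact cast_two_ne (r := r) hr2 (by rw [← one_add_one_eq_two]; exact h)
    have := pow_gcd_eq_one.2 ⟨hcr, hcq⟩
    rw [hcop, pow_one] at this
    have hmem : u ∈ U ⊓ fixS f := ⟨hu, mem_fixS.2 (by rw [← hc, this, one_smul])⟩
    rw [hfix, Submodule.mem_bot] at hmem
    exact aniso_ne hF huu hmem
  · refine CfsgLib.Elusive.UnitSimil.no_fpf hF (hF_isUnitary hF) (r := r) hr2 (j := bdim i) ?_
      (fun h => h1 (hi.trans (orderOf_eq_one_iff.2 h))) hd (fun u hu h => ?_) hP.pow_r hU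
      (fun u v => hP.isom v u) fun v hv e => ?_
    · unfold bdim
      rcases Nat.even_or_odd i with he | ho
      · rw [if_pos he, (Nat.even_iff.2 (show i / 2 % 2 = 0 by
          have := Nat.even_iff.1 he; omega)).neg_pow, pow_half (j := i / 2) (by
            have := Nat.even_iff.1 he; omega) (by have := Nat.even_iff.1 he; omega)]
      · rw [if_neg (Nat.not_even_iff_odd.2 ho), ho.neg_pow, hi, pow_orderOf_eq_one]
    · by_contra h0
      obtain ⟨v, hv, hne⟩ := hUn u hu h0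
      exact hne (hB_refl hF v u (h v hv))
    · have hmem : v ∈ U ⊓ fixS f := ⟨hv, mem_fixS.2 e⟩
      rwa [hfix, Submodule.mem_bot] at hmem

/-- Moved blocks. -/
theorem exists_block (hP : IsPack (hB hF n) f r) (hr : (r : F) ≠ 0) (hr2 : r ≠ 2) {i : ℕ}
    (hi : i = orderOf (q : ZMod r)) {W : Submodule F (Fin n → F)} (hW : Inv f W)
    (hWn : Ndg (hB hF n) W) (hfix : W ⊓ fixS f = ⊥) (hne : W ≠ ⊥) :
    ∃ X, Inv f X ∧ Ndg (hB hF n) X ∧ X ≤ W ∧ finrank F X = cdim i := by
  have hb : ordq F r = bdim i := hi ▸ ordq_eq hF hr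
  rw [cdim_eq, ← hb]
  split
  · rename_i h4
    obtain ⟨p, hp⟩ := CharP.exists F
    have : Fact p.Prime := ⟨CharP.char_is_prime F p⟩
    obtain ⟨N, hN, hσ, -⟩ := selfDual_data (p := p) hF hr hi h4
    exact exists_block_selfDual hP hr hr2 ⟨N, hN, hσ⟩ hW hWn hfix hne
  · rename_i h4
    obtain ⟨X, U, h1, h2, h3, h5, -⟩ := exists_block_pair hP hr (no_irr_ndg hF hP hr hr2 hi h4)
      hW hWn hfix hne
    exact ⟨X, h1, h2, h3, h5⟩

theorem cdim_dvd_mov (hP : IsPack (hB hF n) f r) (hr : (r : F) ≠ 0) (hr2 : r ≠ 2) {i : ℕ}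
    (hi : i = orderOf (q : ZMod r)) {W : Submodule F (Fin n → F)} (hW : Inv f W)
    (hWn : Ndg (hB hF n) W) : cdim i ∣ finrank F (W.map (f - 1)) := by
  obtain ⟨-, hM, hMF⟩ := split_fix_mov hP hr hW hWn
  have hbl : ∀ U, Inv f U → Ndg (hB hF n) U → U ≤ W.map (f - 1) → U ≠ ⊥ →
      ∃ X, Inv f X ∧ Ndg (hB hF n) X ∧ X ≤ U ∧ finrank F X = cdim i := fun U hU hUn hle hne =>
    exists_block hF hP hr hr2 hi hU hUn (le_bot_iff.1 ((inf_le_inf_right _ hle).trans hMF.le)) hne
  obtain ⟨X, hX, hXn, hXle, hXd⟩ := exists_peel hP hW.map_sub.1 hM hbl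
    (finrank F (W.map (f - 1)) / cdim i) (Nat.div_mul_le_self _ _)
  obtain ⟨-, -, hdim, hnd⟩ := exists_split hP.refl hXn hXle
  rcases eq_or_ne (W.map (f - 1) ⊓ perp (hB hF n) X) ⊥ with h | h
  · rw [h, finrank_bot, add_zero] at hdim
    rw [← hdim, hXd]
    exact dvd_mul_left _ _
  · obtain ⟨Y, -, -, hYle, hYd⟩ := hbl _ (hW.map_sub.1.inf (perp_inv hP hX)) (hnd hM) inf_le_left h
    have := Submodule.finrank_mono hYle
    have hmd := Nat.mod_add_div (finrank F (W.map (f - 1))) (cdim i)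
    rw [hXd, Nat.mul_comm] at hdim
    rcases Nat.eq_zero_or_pos (cdim i) with h0 | h0
    · rw [h0]
      have : finrank F ↥(W.map (f - 1)) = 0 := by
        have := qord_pos hF hr
        have hb : ordq F r = bdim i := hi ▸ ordq_eq hF hr
        rw [cdim_eq, ← hb] at h0
        have := ordq_pos (F := F) hr
        split at h0 <;> omega
      rw [this]
    · have := Nat.mod_lt (finrank F (W.map (f - 1))) h0
      omega

theorem fix_mov (hP : IsPack (hB hF n) f r) (hr : (r : F) ≠ 0) :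
    Ndg (hB hF n) (fixS f) ∧ Ndg (hB hF n) (movS f) ∧ movS f ⊓ fixS f = ⊥ := by
  have h := split_fix_mov hP hr (Inv.top f) (hB_ndg_top hF)
  rwa [top_inf_eq, Submodule.map_top] at h

/-- The shape of the moved space. -/
theorem exists_blocks_count (hP : IsPack (hB hF n) f r) (hr : (r : F) ≠ 0) (hr2 : r ≠ 2) {i : ℕ}
    (hi : i = orderOf (q : ZMod r)) :
    ∃ s, finrank F (movS f) = s * cdim i ∧ n = finrank F (fixS f) + s * cdim i := by
  obtain ⟨s, hs⟩ := cdim_dvd_mov hF hP hr hr2 hi (Inv.top f) (hB_ndg_top hF)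
  rw [Submodule.map_top] at hs
  change finrank F (movS f) = _ at hs
  refine ⟨s, by rw [hs, Nat.mul_comm], ?_⟩
  have h := fix_add_mov (f := f)
  rw [finrank_fin_fun, hs, Nat.mul_comm] at h
  exact h.symm

/-- The dimensions of invariant non-degenerate subspaces. -/
theorem exists_ndg_inv_iff (hP : IsPack (hB hF n) f r) (hr : (r : F) ≠ 0) (hr2 : r ≠ 2) {i : ℕ}
    (hi : i = orderOf (q : ZMod r)) (m : ℕ) :
    (∃ W, Inv f W ∧ Ndg (hB hF n) W ∧ finrank F W = m) ↔
      ∃ a b, b ≤ finrank F (fixS f) ∧ a * cdim i ≤ finrank F (movS f) ∧ m = b + a * cdim i := by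
  constructor
  · rintro ⟨W, hW, hWn, rfl⟩
    obtain ⟨a, ha⟩ := cdim_dvd_mov hF hP hr hr2 hi hW hWn
    refine ⟨a, finrank F ↥(W ⊓ fixS f), Submodule.finrank_mono inf_le_right, ?_, ?_⟩
    · rw [Nat.mul_comm, ← ha]
      exact Submodule.finrank_mono LinearMap.map_le_range
    · rw [Nat.mul_comm, ← ha]
      exact dim_split W
  · rintro ⟨a, b, hb, ha, rfl⟩
    obtain ⟨hFx, hM, hMF⟩ := fix_mov hF hP hr
    obtain ⟨X, hXle, hXn, hXd⟩ := exists_ndg_dim hF hFx hb
    obtain ⟨Y, hY, hYn, hYle, hYd⟩ := exists_peel hP (CfsgLib.Elusive2.Inv.movS f) hM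
      (fun U hU hUn hle hne => exists_block hF hP hr hr2 hi hU hUn
        (le_bot_iff.1 ((inf_le_inf_right _ hle).trans hMF.le)) hne) a ha
    refine ⟨X ⊔ Y, (Inv.of_le_fix hXle).sup hY, hXn.sup hP.refl hYn fun x hx y hy =>
      fix_orth hP (hXle hx) (hYle hy), ?_⟩
    have := Submodule.finrank_sup_add_finrank_inf_eq X Y
    rw [le_bot_iff.1 ((inf_le_inf hXle hYle).trans (inf_comm (fixS f) _ ▸ hMF.le)), finrank_bot] at this
    omega

/-- The parts of an invariant totally isotropic subspace. -/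
theorem iso_parts (hP : IsPack (hB hF n) f r) (hr : (r : F) ≠ 0) {W : Submodule F (Fin n → F)}
    (hW : Inv f W) (hWi : Iso0 (hB hF n) W) :
    ∃ a, finrank F (W.map (f - 1)) = a * ordq F r ∧
      finrank F W = finrank F ↥(W ⊓ fixS f) + a * ordq F r ∧
      2 * finrank F ↥(W ⊓ fixS f) ≤ finrank F (fixS f) := by
  obtain ⟨a, ha⟩ := mov_dvd hP.pow_r hr hW
  change finrank F (W.map (f - 1)) = ordq F r * a at ha
  refine ⟨a, by rw [ha, mul_comm], ?_,
    (hWi.mono inf_le_left).two_mul_le hP.refl inf_le_right (fix_mov hF hP hr).1⟩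
  rw [mul_comm, ← ha]
  exact dim_split W

/-- Joining isotropic parts of the fixed and of the moved space. -/
theorem exists_iso_join (hP : IsPack (hB hF n) f r) (hr : (r : F) ≠ 0) {a b : ℕ}
    (hb : 2 * b ≤ finrank F (fixS f))
    (ha : ∃ U, Inv f U ∧ Iso0 (hB hF n) U ∧ U ≤ movS f ∧ finrank F U = a) :
    ∃ W, Inv f W ∧ Iso0 (hB hF n) W ∧ finrank F W = b + a := by
  obtain ⟨hFx, -, hMF⟩ := fix_mov hF hP hr
  obtain ⟨U, hU, hUi, hUd⟩ := exists_iso_dim hF hFx hb
  obtain ⟨U', hU', hU'i, hU'M, hU'd⟩ := ha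
  refine ⟨U ⊔ U', (Inv.of_le_fix hU).sup hU', hUi.sup hP.refl hU'i fun x hx y hy =>
    fix_orth hP (hU hx) (hU'M hy), ?_⟩
  have := Submodule.finrank_sup_add_finrank_inf_eq U U'
  rw [le_bot_iff.1 ((inf_le_inf hU hU'M).trans (inf_comm (fixS f) _ ▸ hMF.le)), finrank_bot] at this
  omega

theorem exists_iso_mov_pair (hP : IsPack (hB hF n) f r) (hr : (r : F) ≠ 0) (hr2 : r ≠ 2) {i : ℕ}
    (hi : i = orderOf (q : ZMod r)) (h4 : i % 4 ≠ 2) {a : ℕ}
    (ha : a * (2 * bdim i) ≤ finrank F (movS f)) :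
    ∃ U, Inv f U ∧ Iso0 (hB hF n) U ∧ U ≤ movS f ∧ finrank F U = a * bdim i := by
  have hb : ordq F r = bdim i := hi ▸ ordq_eq hF hr
  rw [← hb] at ha ⊢
  obtain ⟨-, hM, hMF⟩ := fix_mov hF hP hr
  obtain ⟨X, U, -, -, hX, -, hU, hUi, hUX, hUd⟩ := exists_iso_peel hP (c := 2 * ordq F r)
    (e := ordq F r) (L := 1) (CfsgLib.Elusive2.Inv.movS f) hM
    (fun W hW hWn hle hd => exists_block_pair hP hr (no_irr_ndg hF hP hr hr2 hi h4) hW hWn
      (le_bot_iff.1 ((inf_le_inf_right _ hle).trans hMF.le)) fun e => by rw [e, finrank_bot] at hd; omega)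
    a (Or.inr (by have := ordq_pos (F := F) hr; omega))
  exact ⟨U, hU, hUi, hUX.trans hX, hUd⟩

theorem exists_iso_mov_self (hP : IsPack (hB hF n) f r) (hr : (r : F) ≠ 0) (hr2 : r ≠ 2) {i : ℕ}
    (hi : i = orderOf (q : ZMod r)) (h4 : i % 4 = 2) {a : ℕ}
    (ha : a = 0 ∨ ((r - 1) / bdim i + 2 * a) * bdim i ≤ finrank F (movS f) + bdim i) :
    ∃ U, Inv f U ∧ Iso0 (hB hF n) U ∧ U ≤ movS f ∧ finrank F U = a * bdim i := by
  obtain ⟨p, hp⟩ := CharP.exists F
  have : Fact p.Prime := ⟨CharP.char_is_prime F p⟩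
  obtain ⟨N, hN, hσ, hQ⟩ := selfDual_data (p := p) hF hr hi h4
  have hb : ordq F r = bdim i := hi ▸ ordq_eq hF hr
  rw [← hb] at ha ⊢
  obtain ⟨-, hM, hMF⟩ := fix_mov hF hP hr
  obtain ⟨X, U, -, -, hX, -, hU, hUi, hUX, hUd⟩ := exists_iso_peel hP (c := 2 * ordq F r)
    (e := ordq F r) (L := ((r - 1) / ordq F r + 1) * ordq F r) (CfsgLib.Elusive2.Inv.movS f) hM
    (fun W hW hWn hle hd => exists_pair_block hP hr hr2 hN hσ hQ (τ := fun x => x ^ q)
      (fun u v => hB_swap hF u v) hW hWn (le_bot_iff.1 ((inf_le_inf_right _ hle).trans hMF.le)) hd)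
    a (ha.imp id fun h => by
      rw [Nat.add_mul] at h ⊢
      have e1 : a * (2 * ordq F r) = 2 * a * ordq F r := by ring
      omega)
  exact ⟨U, hU, hUi, hUX.trans hX, hUd⟩

end CfsgLib.UnitElusive
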