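import Cfsg.Agent.Elusive2.UnitCount
import Cfsg.Agent.Elusive2.OrthSingTypes
import Cfsg.Prelude.Def_LieClassical

/-!
Unitary elements of prime order built from blocks, and their passage to and from the special unitary group.
-/

set_option autoImplicit false
set_option linter.unusedSectionVars false

namespace CfsgLib.UnitElusive

open Module Polynomial CfsgLib.Elusive CfsgLib.Elusive2 CfsgLib.Forms CfsgLib.Unitary

variable {F : Type*} [Field F] [Fintype F] {q : ℕ} (hF : Nat.card F = q ^ 2)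

/-- Coordinates for `s` blocks of dimension `c` and a rest. -/
def sumE (F : Type*) [Field F] {n s c e : ℕ} (σ : Fin n ≃ (Fin s × Fin c) ⊕ Fin e) :
    (Fin n → F) ≃ₗ[F] (Fin s → Fin c → F) × (Fin e → F) where
  toFun v := (fun k a => v (σ.symm (Sum.inl (k, a))), fun l => v (σ.symm (Sum.inr l)))
  map_add' u v := rfl
  map_smul' c v := rfl
  invFun w l := (σ l).elim (fun p => w.1 p.1 p.2) w.2
  left_inv v := by
    funext l
    rcases h : σ l with ⟨k, a⟩ | a <;> simp [h] <;>
      exact congrArg v (σ.symm_apply_eq.2 h.symm)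
  right_inv w := by
    refine Prod.ext (funext fun k => funext fun a => ?_) (funext fun a => ?_) <;> simp

theorem hB_sumE {n s c e : ℕ} (σ : Fin n ≃ (Fin s × Fin c) ⊕ Fin e) (u v : Fin n → F) :
    hB hF n u v = (∑ k, hB hF c ((sumE F σ u).1 k) ((sumE F σ v).1 k)) +
      hB hF e (sumE F σ u).2 (sumE F σ v).2 := by
  simp only [hB_apply, Cfsg.hermForm]
  rw [← σ.symm.sum_comp, Fintype.sum_sum_type, Fintype.sum_prod_type]
  rfl

variable {r : ℕ} [hr' : Fact r.Prime]

/-- The sum of fixed point free blocks and an identity. -/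
theorem exists_sum {n s c e : ℕ} (g : Fin s → Module.End F (Fin c → F))
    (hgi : ∀ k u v, hB hF c (g k u) (g k v) = hB hF c u v) (hgr : ∀ k, g k ^ r = 1)
    (hgf : ∀ k, fixS (g k) = ⊥) (hn : n = s * c + e) :
    ∃ (f : Module.End F (Fin n → F)) (E : (Fin n → F) ≃ₗ[F] (Fin s → Fin c → F) × (Fin e → F)),
      IsPack (hB hF n) f r ∧ (∀ v, E (f v) = (fun k => g k ((E v).1 k), (E v).2)) ∧
      (∀ u v, hB hF n u v = (∑ k, hB hF c ((E u).1 k) ((E v).1 k)) + hB hF e (E u).2 (E v).2) ∧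
      finrank F (fixS f) = e ∧ LinearMap.det f = ∏ k, LinearMap.det (g k) := by
  classical
  let σ : Fin n ≃ (Fin s × Fin c) ⊕ Fin e :=
    (Fintype.equivFinOfCardEq (by
      rw [Fintype.card_sum, Fintype.card_prod, Fintype.card_fin, Fintype.card_fin, Fintype.card_fin]
      omega)).symm
  let E := sumE F σ
  let h : Module.End F ((Fin s → Fin c → F) × (Fin e → F)) :=
    (LinearMap.pi fun k => g k ∘ₗ LinearMap.proj k).prodMap LinearMap.id
  have hh : ∀ (k : ℕ) v, (h ^ k) v = (fun a => (g a ^ k) (v.1 a), v.2) := fun k => by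
    induction k with
    | zero => intro v; rfl
    | succ k ih =>
      intro v
      rw [pow_succ', Module.End.mul_apply, ih]
      exact Prod.ext (funext fun a => by
        show g a ((g a ^ k) (v.1 a)) = (g a ^ (k + 1)) (v.1 a)
        rw [pow_succ' (g a) k]; rfl) rfl
  let f : Module.End F (Fin n → F) := E.symm.conj h
  have hf : ∀ v, E (f v) = h (E v) := fun v => by simp [f, LinearEquiv.conj_apply]
  have hfk : ∀ (k : ℕ) v, E ((f ^ k) v) = (h ^ k) (E v) := fun k => by
    induction k with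
    | zero => intro v; rfl
    | succ k ih => intro v; rw [pow_succ', pow_succ', Module.End.mul_apply, Module.End.mul_apply, hf, ih]
  have hfr : f ^ r = 1 := LinearMap.ext fun v => E.injective (by
    rw [hfk, hh]
    simp only [hgr, Module.End.one_apply])
  refine ⟨f, E, ⟨hB_refl hF, fun u v => ?_, hfr, hr'.out.pos⟩, fun v => hf v, hB_sumE hF σ, ?_, ?_⟩
  · rw [hB_sumE hF σ (f u), hB_sumE hF σ u, show sumE F σ (f u) = h (E u) from hf u,
      show sumE F σ (f v) = h (E v) from hf v]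
    congr 1
    exact Finset.sum_congr rfl fun k _ => hgi k _ _
  · have heq : fixS f = (LinearMap.range (LinearMap.inr F (Fin s → Fin c → F) (Fin e → F))).map
        E.symm.toLinearMap := by
      ext v
      rw [mem_fixS, Submodule.mem_map]
      constructor
      · intro hv
        refine ⟨E v, ⟨(E v).2, Prod.ext (funext fun k => ?_) rfl⟩, E.symm_apply_apply v⟩
        have h1 := congrFun (congrArg Prod.fst ((congrArg E hv).symm.trans (hf v))) k
        have : (E v).1 k ∈ fixS (g k) := mem_fixS.2 h1.symm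
        rw [hgf, Submodule.mem_bot] at this
        exact this.symm
      · rintro ⟨_, ⟨w, rfl⟩, rfl⟩
        refine E.injective ?_
        rw [hf, LinearEquiv.coe_coe, E.apply_symm_apply]
        exact Prod.ext (funext fun k => map_zero (g k)) rfl
    rw [heq, LinearEquiv.finrank_map_eq, LinearMap.finrank_range_of_inj LinearMap.inr_injective,
      finrank_fin_fun]
  · rw [show LinearMap.det f = LinearMap.det h from LinearMap.det_conj h E.symm]
    rw [LinearMap.det_prodMap, LinearMap.det_id, mul_one, LinearMap.det_pi]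

include hF in
theorem dvd_gfac {i : ℕ} (hq : 2 ≤ q) (h : (-(q : ZMod r)) ^ (i + 1) = 1) : r ∣ gfac q i := by
  rw [← ZMod.natCast_eq_zero_iff]
  unfold gfac
  rcases Nat.even_or_odd i with he | ho
  · rw [he.add_one.neg_pow, neg_eq_iff_eq_neg] at h
    rw [if_pos he, Nat.cast_add, Nat.cast_pow, Nat.cast_one, h, neg_add_cancel]
  · rw [ho.add_one.neg_pow] at h
    rw [if_neg (Nat.not_even_iff_odd.2 ho), Nat.cast_sub (Nat.one_le_pow _ _ (by omega)), Nat.cast_pow,
      Nat.cast_one, h, sub_self]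

include hF in
theorem cdim_pos (hr : (r : F) ≠ 0) {i : ℕ} (hi : i = orderOf (q : ZMod r)) : 0 < cdim i := by
  have := hi ▸ qord_pos hF hr
  unfold cdim
  split_ifs <;> omega

/-- A fixed point free block. -/
theorem exists_fpf_u (hr : (r : F) ≠ 0) (hr2 : r ≠ 2) {i : ℕ} (hi : i = orderOf (q : ZMod r)) :
    ∃ g : Module.End F (Fin (cdim i) → F), IsPack (hB hF (cdim i)) g r ∧ fixS g = ⊥ := by
  classical
  have hc0 := cdim_pos hF hr hi
  have hq := two_le_q hF
  have hdvd : r ∣ Nat.card (Cfsg.GU (cdim i) F q) := by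
    rw [card_GU_gprod hF]
    refine Dvd.dvd.mul_left ?_ _
    refine Dvd.dvd.trans ?_ (Finset.dvd_prod_of_mem _ (Finset.mem_range.2 (Nat.sub_lt hc0 Nat.one_pos)))
    refine dvd_gfac hF hq ?_
    rw [Nat.sub_add_cancel hc0, neg_pow_iff hr2 hi (hi ▸ qord_pos hF hr)]
  obtain ⟨y, hy⟩ := exists_prime_orderOf_dvd_card' r hdvd
  have hyr : (y.1 : Matrix (Fin (cdim i)) (Fin (cdim i)) F) ^ r = 1 := by
    have := congrArg (fun z : Cfsg.GU (cdim i) F q => (z.1 : Matrix (Fin (cdim i)) (Fin (cdim i)) F))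
      (hy ▸ pow_orderOf_eq_one y : y ^ r = 1)
    simpa using this
  set g := Matrix.toLinAlgEquiv' (y.1 : Matrix (Fin (cdim i)) (Fin (cdim i)) F) with hg
  have hP : IsPack (hB hF (cdim i)) g r := ⟨hB_refl hF, fun u v => mem_GU_iff.1 y.2 v u,
    by rw [hg, ← map_pow, hyr, map_one], hr'.out.pos⟩
  refine ⟨g, hP, ?_⟩
  obtain ⟨t, ht, htn⟩ := exists_blocks_count hF hP hr hr2 hi
  have ht0 : t ≠ 0 := fun h0 => by
    rw [h0, Nat.zero_mul] at ht
    have h2 : g = 1 := sub_eq_zero.1 (LinearMap.range_eq_bot.1 (Submodule.finrank_eq_zero.1 ht))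
    have h3 : (y.1 : Matrix (Fin (cdim i)) (Fin (cdim i)) F) = 1 :=
      Matrix.toLinAlgEquiv'.injective (by rw [← hg, h2, map_one])
    have : y = 1 := Subtype.ext (Units.ext h3)
    rw [this, orderOf_one] at hy
    exact hr'.out.one_lt.ne hy
  refine Submodule.finrank_eq_zero.1 ?_
  have := Nat.le_mul_of_pos_left (cdim i) (Nat.pos_of_ne_zero ht0)
  omega

/-- Blocks of pairwise different types leave no moved totally isotropic subspace invariant. -/
theorem no_iso_mov {n s c e : ℕ} (hc : c = ordq F r) (g : Fin s → Module.End F (Fin c → F))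
    (hgr : ∀ k, g k ^ r = 1) (hgf : ∀ k, fixS (g k) = ⊥)
    (P : Fin s → F[X]) (hPinj : Function.Injective P) (hPm : ∀ k, (P k).Monic)
    (hPd : ∀ k, (P k).natDegree ≤ ordq F r) (hPi : ∀ k, Irreducible (P k))
    (hP0 : ∀ k, aeval (g k) (P k) = 0)
    {f : Module.End F (Fin n → F)} (E : (Fin n → F) ≃ₗ[F] (Fin s → Fin c → F) × (Fin e → F))
    (hE : ∀ v, E (f v) = (fun k => g k ((E v).1 k), (E v).2))
    (hform : ∀ u v, hB hF n u v = (∑ k, hB hF c ((E u).1 k) ((E v).1 k)) + hB hF e (E u).2 (E v).2)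
    {W : Submodule F (Fin n → F)} (hW : Inv f W) (hWi : Iso0 (hB hF n) W) (hWM : W ≤ movS f) :
    W = ⊥ := by
  classical
  by_contra hne
  obtain ⟨w, hw, hw0⟩ := W.exists_mem_ne_zero_of_ne_bot hne
  have hmov2 : ∀ v ∈ W, (E v).2 = 0 := fun v hv => by
    obtain ⟨u, rfl⟩ := hWM hv
    rw [LinearMap.sub_apply, Module.End.one_apply, map_sub, hE]
    exact sub_self (E u).2
  obtain ⟨k, hk⟩ : ∃ k, (E w).1 k ≠ 0 := by
    by_contra hall
    push Not at hall
    refine hw0 (E.injective ?_)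
    rw [map_zero]
    exact Prod.ext (funext hall) (hmov2 w hw)
  let π : Fin s → ((Fin n → F) →ₗ[F] (Fin c → F)) := fun l =>
    (LinearMap.proj l).comp ((LinearMap.fst F _ _).comp E.toLinearMap)
  have hπ : ∀ l v, π l (f v) = g l (π l v) := fun l v => congrFun (congrArg Prod.fst (hE v)) l
  let H : F[X] := ∏ l ∈ Finset.univ.erase k, P l
  set w' := aeval f H w
  have hw' : w' ∈ W := hW.aeval H w hw
  have hcomp : ∀ l, l ≠ k → π l w' = 0 := fun l hl => by
    rw [aeval_comp_eq (π l) (hπ l)]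
    obtain ⟨H', hH'⟩ : P l ∣ H := Finset.dvd_prod_of_mem _ (Finset.mem_erase.2 ⟨hl, Finset.mem_univ l⟩)
    rw [hH', mul_comm, map_mul, Module.End.mul_apply, hP0, LinearMap.zero_apply, map_zero]
  have hfull : (⊤ : Submodule F (Fin c → F)) ⊓ fixS (g k) = ⊥ := by rw [top_inf_eq, hgf]
  have hk' : π k w' ≠ 0 := by
    rw [aeval_comp_eq (π k) (hπ k)]
    intro h0
    have hdvd := dvd_of_kill (hgr k) (Inv.top (g k)) hfull Submodule.mem_top (u := π k w) hk (hPm k) (hPd k)
      (by rw [hP0, LinearMap.zero_apply]) h0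
    obtain ⟨l, hl, hdl⟩ := ((hPi k).prime.dvd_finsetProd_iff _).1 hdvd
    exact (Finset.mem_erase.1 hl).1 (hPinj (eq_of_monic_of_associated (hPm l) (hPm k)
      ((hPi k).associated_of_dvd (hPi l) hdl).symm))
  let U := W ⊓ ⨅ l ∈ {l | l ≠ k}, LinearMap.ker (π l)
  have hUk : ∀ u ∈ U, ∀ l, l ≠ k → π l u = 0 := fun u hu l hl => by
    have := hu.2
    simp only [SetLike.mem_coe, Submodule.mem_iInf, LinearMap.mem_ker] at this
    exact this l hl
  have hUinv : Inv (g k) (Submodule.map (π k) U) := by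
    rintro _ ⟨v, hv, rfl⟩
    refine ⟨f v, ⟨hW v hv.1, ?_⟩, hπ k v⟩
    simp only [SetLike.mem_coe, Submodule.mem_iInf, LinearMap.mem_ker]
    intro l hl
    rw [hπ, hUk v hv l hl, map_zero]
  have hwU : w' ∈ U := ⟨hw', by
    simp only [SetLike.mem_coe, Submodule.mem_iInf, LinearMap.mem_ker]
    exact hcomp⟩
  have htop := irr_eq (hgr k) (U := ⊤) (by rw [finrank_top, finrank_fin_fun, hc]) hfull hUinv le_top
    fun e' => hk' (by
      have : π k w' ∈ Submodule.map (π k) U := ⟨w', hwU, rfl⟩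
      rwa [e', Submodule.mem_bot] at this)
  obtain ⟨v, -, hv⟩ := hB_ndg_top hF (π k w') trivial hk'
  obtain ⟨u, hu, rfl⟩ := htop.symm.le (Submodule.mem_top (x := v))
  refine hv ?_
  have h1 := hWi w' hw' u hu.1
  rwa [hform, hmov2 w' hw', map_zero, LinearMap.zero_apply, add_zero, Finset.sum_eq_single k
    (fun l _ hl => by rw [show (E w').1 l = 0 from hcomp l hl, map_zero, LinearMap.zero_apply])
    fun h => absurd (Finset.mem_univ k) h] at h1

/-- An element of order `r` with the least fixed space. -/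
theorem exists_worst (hr : (r : F) ≠ 0) (hr2 : r ≠ 2) {i : ℕ} (hi : i = orderOf (q : ZMod r))
    {n s e : ℕ} (hn : n = s * cdim i + e) :
    ∃ f : Module.End F (Fin n → F), IsPack (hB hF n) f r ∧ finrank F (fixS f) = e := by
  obtain ⟨g, hP, hfix⟩ := exists_fpf_u hF hr hr2 hi
  obtain ⟨f, E, hf, -, -, he, -⟩ := exists_sum hF (fun _ : Fin s => g) (fun _ => hP.isom)
    (fun _ => hP.pow_r) (fun _ => hfix) hn
  exact ⟨f, hf, he⟩

/-- An element with pairwise different types. -/
theorem exists_spread_u (hr : (r : F) ≠ 0) (hr2 : r ≠ 2) {i : ℕ} (hi : i = orderOf (q : ZMod r))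
    (h4 : i % 4 = 2) {n t e : ℕ} (ht : t ≤ (r - 1) / bdim i) (hn : n = t * bdim i + e) :
    ∃ f : Module.End F (Fin n → F), IsPack (hB hF n) f r ∧ finrank F (fixS f) = e ∧
      ∀ W, Inv f W → Iso0 (hB hF n) W → W ≤ movS f → W = ⊥ := by
  have hcb : cdim i = bdim i := by rw [cdim_eq, if_pos h4]
  have hb : ordq F r = bdim i := hi ▸ ordq_eq hF hr
  obtain ⟨g0, hP, hfix⟩ := exists_fpf_u hF hr hr2 hi
  have hdim : finrank F (Fin (cdim i) → F) = ordq F r := by rw [finrank_fin_fun, hcb, hb]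
  obtain ⟨ex, P, hPinj, hP'⟩ := exists_pow_types hP.pow_r hr hfix hdim
  rw [← hb] at ht
  let τ : Fin t → Fin ((r - 1) / ordq F r) := fun k => Fin.castLE ht k
  have hiso : ∀ (m : ℕ) u v, hB hF (cdim i) ((g0 ^ m) u) ((g0 ^ m) v) = hB hF (cdim i) u v := fun m => by
    induction m with
    | zero => intro u v; rfl
    | succ m ih => intro u v; rw [pow_succ', Module.End.mul_apply, Module.End.mul_apply, hP.isom, ih]
  have hgr : ∀ k : Fin t, (g0 ^ ex (τ k)) ^ r = 1 := fun k => by
    rw [← pow_mul, mul_comm, pow_mul, hP.pow_r, one_pow]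
  have hgf : ∀ k : Fin t, fixS (g0 ^ ex (τ k)) = ⊥ := fun k => fixS_pow_eq_bot hP.pow_r hfix (hP' (τ k)).1
  obtain ⟨f, E, hf, hE, hform, he, -⟩ := exists_sum hF (fun k : Fin t => g0 ^ ex (τ k))
    (fun k => hiso _) hgr hgf (hcb.symm ▸ hn)
  exact ⟨f, hf, he, fun W => no_iso_mov hF (by rw [hcb, hb]) _ hgr hgf (fun k => P (τ k))
    (fun a b h => Fin.ext (congrArg (fun z : Fin ((r - 1) / ordq F r) => (z : ℕ)) (hPinj h) :))
    (fun k => (hP' (τ k)).2.1) (fun k => (hP' (τ k)).2.2.1.le) (fun k => (hP' (τ k)).2.2.2.1)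
    (fun k => (hP' (τ k)).2.2.2.2) E hE hform⟩

include hF in
theorem exists_zeta (hrq : r ∣ q + 1) : ∃ ζ : F, ζ ^ (q + 1) = 1 ∧ orderOf ζ = r := by
  have hd : r ∣ Nat.card Fˣ := by rw [card_units_eq hF]; exact hrq.mul_right _
  obtain ⟨u, hu⟩ := exists_prime_orderOf_dvd_card' r hd
  have ho : orderOf (u : F) = r := by rw [orderOf_units, hu]
  refine ⟨u, ?_, ho⟩
  rw [← orderOf_dvd_iff_pow_eq_one, ho]
  exact hrq

/-- A diagonal element with `2 j` different eigenvalues other than `1` and determinant `1`. -/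
theorem exists_spread_pairs (hr : (r : F) ≠ 0) (hr2 : r ≠ 2) (hi : orderOf (q : ZMod r) = 2) {n j e : ℕ}
    (hj0 : 0 < j) (hj : j + j ≤ r - 1) (hn : n = (j + j) + e) :
    ∃ f : Module.End F (Fin n → F), IsPack (hB hF n) f r ∧ LinearMap.det f = 1 ∧
      (∀ z : F, f ≠ z • 1) ∧ finrank F (fixS f) = e ∧
      ∀ W, Inv f W → Iso0 (hB hF n) W → W ≤ movS f → W = ⊥ := by
  classical
  have hb : ordq F r = 1 := by rw [ordq_eq hF hr, hi]; rfl
  have hrq : r ∣ q + 1 := by
    rw [← ZMod.natCast_eq_zero_iff, Nat.cast_add, Nat.cast_one]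
    have h1 := pow_half (r := r) (y := (q : ZMod r)) (j := 1) hi Nat.one_pos
    rw [pow_one] at h1
    rw [h1, neg_add_cancel]
  obtain ⟨ζ, hζ, hord⟩ := exists_zeta hF hrq
  have hζr : ζ ^ r = 1 := by rw [← hord]; exact pow_orderOf_eq_one ζ
  let a : Fin (j + j) → ℕ := fun k => if (k : ℕ) < j then k + 1 else r - (k - j + 1)
  have ha : ∀ k : Fin (j + j), 0 < a k ∧ a k < r := fun k => by
    have := k.2
    simp only [a]
    split_ifs <;> omega
  have hainj : Function.Injective a := fun k l h => by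
    have := k.2
    have := l.2
    simp only [a] at h
    apply Fin.ext
    split_ifs at h <;> omega
  have hne1 : ∀ k, ζ ^ a k ≠ 1 := fun k h => by
    rw [← orderOf_dvd_iff_pow_eq_one, hord] at h
    have := Nat.le_of_dvd (ha k).1 h
    have := (ha k).2
    omega
  let g : Fin (j + j) → Module.End F (Fin 1 → F) := fun k => ζ ^ a k • 1
  have hgr : ∀ k, g k ^ r = 1 := fun k => by
    simp only [g]
    rw [_root_.smul_pow, one_pow, ← pow_mul, mul_comm, pow_mul, hζr, one_pow, one_smul]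
  have hgf : ∀ k, fixS (g k) = ⊥ := fun k => (Submodule.eq_bot_iff _).2 fun v hv => by
    rw [mem_fixS, LinearMap.smul_apply, Module.End.one_apply] at hv
    by_contra h0
    exact hne1 k (smul_left_injective F h0 (hv.trans (one_smul F v).symm))
  have hgi : ∀ k u v, hB hF 1 (g k u) (g k v) = hB hF 1 u v := fun k u v => by
    simp only [g, LinearMap.smul_apply, Module.End.one_apply, map_smulₛₗ, RingHom.id_apply,
      smul_eq_mul, frobQ_apply]
    have e1 : (ζ ^ a k) ^ (q + 1) = 1 := by rw [← pow_mul, mul_comm, pow_mul, hζ, one_pow]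
    rw [pow_succ] at e1
    linear_combination (hB hF 1 u v) * e1
  obtain ⟨f, E, hf, hE, hform, he, hdet⟩ := exists_sum hF g hgi hgr hgf (n := n) (e := e) (by omega)
  refine ⟨f, hf, ?_, fun z hz => ?_, he, fun W => no_iso_mov hF hb.symm g hgr hgf
    (fun k => X - C (ζ ^ a k)) (fun k l h => hainj ?_) (fun k => monic_X_sub_C _)
    (fun k => by rw [natDegree_X_sub_C, hb]) (fun k => irreducible_X_sub_C _)
    (fun k => by rw [map_sub, aeval_X, aeval_C, Algebra.algebraMap_eq_smul_one, sub_self]) E hE hform⟩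
  · rw [hdet]
    simp only [g, LinearMap.det_smul, finrank_fin_fun, pow_one, map_one, mul_one]
    rw [Fin.prod_univ_add, ← Finset.prod_mul_distrib]
    refine Finset.prod_eq_one fun k _ => ?_
    have := k.2
    simp only [a, Fin.val_castAdd, Fin.val_natAdd, Nat.add_sub_cancel_left, if_pos k.2,
      if_neg (Nat.not_lt.2 (Nat.le_add_right j _))]
    rw [← pow_add, show (k : ℕ) + 1 + (r - (k + 1)) = r by omega, hζr]
  · have key : ∀ k : Fin (j + j), ζ ^ a k = z := fun k => by
      let v0 : Fin n → F := E.symm (Pi.single k (fun _ => 1), 0)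
      have h := congrFun (congrFun (congrArg Prod.fst ((hE v0).symm.trans
        (congrArg E (congrArg (fun T : Module.End F (Fin n → F) => T v0) hz)))) k) 0
      simpa [v0, g] using h
    have h0 := key ⟨0, by omega⟩
    have h1 := key ⟨j, by omega⟩
    rw [← h1] at h0
    have h2 := pow_injOn_Iio_orderOf (x := ζ) (by rw [hord]; exact (ha _).2)
      (by rw [hord]; exact (ha _).2) h0
    have := congrArg Fin.val (hainj h2)
    simp only at this
    omega
  · exact pow_injOn_Iio_orderOf (x := ζ) (by rw [hord]; exact (ha k).2) (by rw [hord]; exact (ha l).2)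
      (C_injective (sub_right_injective h))

/-! ### Special unitary matrices -/

variable {n : ℕ}

omit hr' in
include hF in
theorem det_isom {f : Module.End F (Fin n → F)}
    (hiso : ∀ u v, hB hF n (f u) (f v) = hB hF n u v) : LinearMap.det f ^ (q + 1) = 1 := by
  have hinj : Function.Injective f := fun u v e => by
    by_contra hne
    obtain ⟨w, -, hw⟩ := hB_ndg_top hF (u - v) trivial (sub_ne_zero.2 hne)
    rw [← hiso, map_sub f, e, sub_self, map_zero, LinearMap.zero_apply] at hw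
    exact hw rfl
  let e := LinearEquiv.ofBijective f ⟨hinj, LinearMap.injective_iff_surjective.1 hinj⟩
  have hmem : glOfEquiv e ∈ Cfsg.GU n F q := mem_GU_iff.2 fun u v => by
    rw [glOfEquiv_mulVec, glOfEquiv_mulVec]
    exact hiso v u
  have h := congrArg Units.val (det_GU hF hmem)
  rw [Units.val_pow_eq_pow_val, Units.val_one] at h
  rw [← LinearMap.det_toMatrix']
  exact h

omit hr' in
include hF in
theorem det_one_of_pow {f : Module.End F (Fin n → F)} {s : ℕ}
    (hiso : ∀ u v, hB hF n (f u) (f v) = hB hF n u v) (hf : f ^ s = 1) (hcop : Nat.Coprime s (q + 1)) :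
    LinearMap.det f = 1 := by
  have h := pow_gcd_eq_one.2 ⟨(by rw [← map_pow, hf, map_one] : LinearMap.det f ^ s = 1), det_isom hF hiso⟩
  rwa [hcop, pow_one] at h

omit hr' in
/-- An isometry of determinant one as a matrix. -/
theorem exists_su {f : Module.End F (Fin n → F)} (hiso : ∀ u v, hB hF n (f u) (f v) = hB hF n u v)
    (hd : LinearMap.det f = 1) {z : F} (hz : f ^ r = z • 1) (hns : ∀ z : F, f ≠ z • 1) :
    ∃ x : Matrix.SpecialLinearGroup (Fin n) F, x ∈ Cfsg.SU n F q ∧
      (∃ z : F, ((x ^ r : Matrix.SpecialLinearGroup (Fin n) F) : Matrix (Fin n) (Fin n) F) = z • (1 : Matrix (Fin n) (Fin n) F)) ∧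
      (∀ z : F, (x : Matrix (Fin n) (Fin n) F) ≠ z • (1 : Matrix (Fin n) (Fin n) F)) ∧
      ∀ W : Submodule F (Fin n → F), W.map (Matrix.toLin' (x : Matrix (Fin n) (Fin n) F)) ≤ W ↔ Inv f W := by
  obtain ⟨x, hx⟩ := exists_sl hd
  have hmv : ∀ v, Matrix.mulVec (x : Matrix (Fin n) (Fin n) F) v = f v := fun v => by
    rw [← Matrix.toLin'_apply, hx]
  refine ⟨x, fun u v => ?_, ⟨z, sl_pow_scalar hz hx⟩, fun w hw => hns w (hx ▸ scalar_toLin hw),
    fun W => by rw [hx]; exact inv_iff.symm⟩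
  show Cfsg.hermForm n F q (Matrix.mulVec (x : Matrix (Fin n) (Fin n) F) u)
    (Matrix.mulVec (x : Matrix (Fin n) (Fin n) F) v) = _
  rw [hmv, hmv]
  exact hiso v u

omit hr' in
/-- The linear map of a special unitary matrix. -/
theorem su_toLin {x : Matrix.SpecialLinearGroup (Fin n) F} (hx : x ∈ Cfsg.SU n F q) {z : F}
    (hz : ((x ^ r : Matrix.SpecialLinearGroup (Fin n) F) : Matrix (Fin n) (Fin n) F) = z • (1 : Matrix (Fin n) (Fin n) F)) :
    (∀ u v, hB hF n (Matrix.toLin' (x : Matrix (Fin n) (Fin n) F) u)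
        (Matrix.toLin' (x : Matrix (Fin n) (Fin n) F) v) = hB hF n u v) ∧
      Matrix.toLin' (x : Matrix (Fin n) (Fin n) F) ^ r = z • 1 ∧
      LinearMap.det (Matrix.toLin' (x : Matrix (Fin n) (Fin n) F)) = 1 ∧ (0 < n → z ^ (q + 1) = 1) := by
  have hiso : ∀ u v, hB hF n (Matrix.toLin' (x : Matrix (Fin n) (Fin n) F) u)
      (Matrix.toLin' (x : Matrix (Fin n) (Fin n) F) v) = hB hF n u v := fun u v => hx v u
  have hpow : Matrix.toLin' (x : Matrix (Fin n) (Fin n) F) ^ r = z • 1 := by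
    rw [Matrix.SpecialLinearGroup.coe_pow] at hz
    show Matrix.toLinAlgEquiv' (x : Matrix (Fin n) (Fin n) F) ^ r = z • 1
    rw [← map_pow, hz, map_smul, map_one]
  refine ⟨hiso, hpow, by rw [LinearMap.det_toLin']; exact x.2, fun hn => ?_⟩
  obtain ⟨u, -, hu⟩ := exists_aniso hF (hB_ndg_top hF (n := n)) fun e => by
    have := finrank_top F (Fin n → F)
    rw [e, finrank_bot, finrank_fin_fun] at this
    omega
  have hiter : ∀ k : ℕ, ∀ a b, hB hF n ((Matrix.toLin' (x : Matrix (Fin n) (Fin n) F) ^ k) a)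
      ((Matrix.toLin' (x : Matrix (Fin n) (Fin n) F) ^ k) b) = hB hF n a b := fun k => by
    induction k with
    | zero => intro a b; rfl
    | succ k ih => intro a b; rw [pow_succ', Module.End.mul_apply, Module.End.mul_apply, hiso, ih]
  have h := hiter r u u
  rw [hpow] at h
  simp only [LinearMap.smul_apply, Module.End.one_apply, map_smulₛₗ, RingHom.id_apply, smul_eq_mul,
    frobQ_apply] at h
  refine mul_right_cancel₀ hu (Eq.trans ?_ (one_mul _).symm)
  rw [pow_succ]
  linear_combination h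

/-- Dividing off a scalar. -/
theorem exists_pack_scalar {x : Matrix.SpecialLinearGroup (Fin n) F} (hx : x ∈ Cfsg.SU n F q) {z : F}
    (hz : ((x ^ r : Matrix.SpecialLinearGroup (Fin n) F) : Matrix (Fin n) (Fin n) F) = z • (1 : Matrix (Fin n) (Fin n) F))
    (hns : ∀ z : F, (x : Matrix (Fin n) (Fin n) F) ≠ z • (1 : Matrix (Fin n) (Fin n) F))
    {y : F} (hy : y ^ r = z) (hy1 : y ^ (q + 1) = 1) :
    ∃ g : Module.End F (Fin n → F), IsPack (hB hF n) g r ∧ g ≠ 1 ∧ y ^ n * LinearMap.det g = 1 ∧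
      ∀ W : Submodule F (Fin n → F), W.map (Matrix.toLin' (x : Matrix (Fin n) (Fin n) F)) ≤ W ↔ Inv g W := by
  obtain ⟨hiso, hpow, hdet, -⟩ := su_toLin hF hx hz
  have hy0 : y ≠ 0 := fun e => by rw [e, zero_pow (Nat.succ_ne_zero q)] at hy1; exact zero_ne_one hy1
  set f := Matrix.toLin' (x : Matrix (Fin n) (Fin n) F) with hfdef
  refine ⟨y⁻¹ • f, ⟨hB_refl hF, fun u v => ?_, ?_, hr'.out.pos⟩, fun e => ?_, ?_, fun W => ?_⟩
  · simp only [LinearMap.smul_apply, map_smulₛₗ, RingHom.id_apply, smul_eq_mul, frobQ_apply, hiso]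
    have e1 : (y⁻¹) ^ (q + 1) = 1 := by rw [inv_pow, hy1, _root_.inv_one]
    rw [pow_succ] at e1
    linear_combination (hB hF n u v) * e1
  · rw [_root_.smul_pow, hpow, smul_smul, ← hy, ← mul_pow, inv_mul_cancel₀ hy0, one_pow, one_smul]
  · refine hns y (Matrix.toLin'.injective ?_)
    rw [scalar_toLin rfl, ← hfdef, ← e, smul_smul, mul_inv_cancel₀ hy0, one_smul]
  · rw [LinearMap.det_smul, finrank_fin_fun, hdet, mul_one, inv_pow, mul_inv_cancel₀ (pow_ne_zero n hy0)]
  · rw [← inv_iff]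
    constructor
    · intro h v hv
      exact W.smul_mem y⁻¹ (h v hv)
    · intro h v hv
      have := W.smul_mem y (h v hv)
      rwa [LinearMap.smul_apply, smul_smul, mul_inv_cancel₀ hy0, one_smul] at this

include hF in
/-- Scalars have roots when `r` is prime to `q + 1`. -/
theorem exists_root_coprime (hcop : Nat.Coprime r (q + 1)) {z : F} (hz : z ^ (q + 1) = 1) :
    ∃ y : F, y ^ r = z ∧ y ^ (q + 1) = 1 := by
  have hq := two_le_q hF
  obtain ⟨a, -, ha⟩ := Nat.exists_mul_mod_eq_one_of_coprime hcop (by omega)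
  refine ⟨z ^ a, ?_, by rw [← pow_mul, mul_comm, pow_mul, hz, one_pow]⟩
  rw [← pow_mul, mul_comm, ← Nat.mod_add_div (r * a) (q + 1), ha, pow_add, pow_one, pow_mul, hz, one_pow,
    mul_one]

end CfsgLib.UnitElusive
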