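import Cfsg.Agent.Elusive2.UnitBase
import Cfsg.Agent.Unitary.Isotropic

/-!
The numbers of totally isotropic and of non-degenerate subspaces of the Hermitian space modulo primes.
-/

set_option autoImplicit false
set_option linter.unusedSectionVars false

namespace CfsgLib.UnitElusive

open Module Matrix CfsgLib.Elusive CfsgLib.Elusive2 CfsgLib.Forms CfsgLib.Unitary

/-- The factors of the order of the unitary group. -/
def gfac (q i : ℕ) : ℕ := if Even i then q ^ (i + 1) + 1 else q ^ (i + 1) - 1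

/-- The product of the factors. -/
def gprod (q n : ℕ) : ℕ := ∏ i ∈ Finset.range n, gfac q i

theorem gfac_pos {q : ℕ} (hq : 2 ≤ q) (i : ℕ) : 0 < gfac q i := by
  have : 1 < q ^ (i + 1) := Nat.one_lt_pow (by omega) (by omega)
  unfold gfac
  split_ifs <;> omega

theorem gprod_pos {q : ℕ} (hq : 2 ≤ q) (n : ℕ) : 0 < gprod q n :=
  Finset.prod_pos fun i _ => gfac_pos hq i

variable {F : Type*} [Field F] [Fintype F] {q : ℕ} (hF : Nat.card F = q ^ 2) {n : ℕ}

include hF in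
theorem card_GU_gprod (n : ℕ) : Nat.card (Cfsg.GU n F q) = q ^ (n * (n - 1) / 2) * gprod q n :=
  card_GU hF n

theorem tri_split (k m : ℕ) :
    k * (k + 2 * m) + m * (m - 1) / 2 + k * (k - 1) = (2 * k + m) * (2 * k + m - 1) / 2 := by
  have h2 : ∀ a : ℕ, 2 * (a * (a - 1) / 2) = a * (a - 1) := fun a =>
    Nat.mul_div_cancel' (Nat.even_mul_pred_self a).two_dvd
  apply Nat.eq_of_mul_eq_mul_left two_pos
  rw [Nat.mul_add, Nat.mul_add, h2, h2]
  zify
  rcases Nat.eq_zero_or_pos k with rfl | hk <;> rcases Nat.eq_zero_or_pos m with rfl | hm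
  · simp
  · simp
  · rw [Nat.cast_sub (by omega : 1 ≤ k), Nat.cast_sub (by omega : 1 ≤ 2 * k + 0)]
    push_cast
    ring
  · rw [Nat.cast_sub (by omega : 1 ≤ k), Nat.cast_sub (by omega : 1 ≤ m),
      Nat.cast_sub (by omega : 1 ≤ 2 * k + m)]
    push_cast
    ring

include hF in
/-- The number of totally isotropic subspaces. -/
theorem card_iso_eq {k : ℕ} (hk : 2 * k ≤ n) :
    Nat.card (IsoSub q n k F) * (∏ i ∈ Finset.range k, ((q ^ 2) ^ (k - i) - 1)) * gprod q (n - 2 * k) =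
      gprod q n := by
  have hq := two_le_q hF
  obtain ⟨m, rfl⟩ := Nat.exists_eq_add_of_le hk
  rw [Nat.add_sub_cancel_left]
  have h := numTuple_eq (F := F) hF hk
  rw [guz_nat (by omega), guz_nat (by omega), Nat.add_sub_cancel_left] at h
  have h' : q ^ (k * (2 * (2 * k + m) - 3 * k)) * (q ^ (m * (m - 1) / 2) * gprod q m) *
      numTuple F q (2 * k + m) k = q ^ ((2 * k + m) * (2 * k + m - 1) / 2) * gprod q (2 * k + m) := by
    exact_mod_cast h
  rw [← card_isoSub hF, Fin.prod_univ_eq_prod_range (fun i => (q ^ 2) ^ k - (q ^ 2) ^ i),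
    Finset.prod_congr rfl (fun i hi => show (q ^ 2) ^ k - (q ^ 2) ^ i =
      (q ^ 2) ^ i * ((q ^ 2) ^ (k - i) - 1) by
      have := Finset.mem_range.1 hi
      rw [Nat.mul_sub, mul_one, ← pow_add, Nat.add_sub_cancel' this.le]),
    Finset.prod_mul_distrib, Finset.prod_pow_eq_pow_sum, ← pow_mul,
    show 2 * ∑ i ∈ Finset.range k, i = k * (k - 1) by rw [mul_comm, Finset.sum_range_id_mul_two],
    show 2 * (2 * k + m) - 3 * k = k + 2 * m by omega, ← tri_split] at h'
  refine Nat.eq_of_mul_eq_mul_left (Nat.pow_pos (n := k * (k + 2 * m) + m * (m - 1) / 2 + k * (k - 1))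
    (show 0 < q by omega)) ?_
  rw [← h', pow_add, pow_add]
  ring

theorem cast_gfac {r : ℕ} (hq : 2 ≤ q) {i : ℕ} (h : r ∣ gfac q i) :
    (-(q : ZMod r)) ^ (i + 1) = 1 := by
  rw [← ZMod.natCast_eq_zero_iff] at h
  unfold gfac at h
  rcases Nat.even_or_odd i with he | ho
  · rw [if_pos he, Nat.cast_add, Nat.cast_pow, Nat.cast_one, add_eq_zero_iff_eq_neg] at h
    rw [he.add_one.neg_pow, h, neg_neg]
  · rw [if_neg (Nat.not_even_iff_odd.2 ho), Nat.cast_sub (Nat.one_le_pow _ _ (by omega)), Nat.cast_pow,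
      Nat.cast_one, sub_eq_zero] at h
    rw [ho.add_one.neg_pow, h]

variable {r : ℕ} [hr' : Fact r.Prime]

include hF in
theorem not_dvd_q (hr : (r : F) ≠ 0) : ¬ r ∣ q := fun h => by
  have h1 := qord_pos (r := r) hF hr
  rw [(ZMod.natCast_eq_zero_iff q r).2 h] at h1
  simp at h1

include hF in
/-- Few consecutive factors are prime to `r`. -/
theorem not_dvd_shift (hr : (r : F) ≠ 0) (hr2 : r ≠ 2) {i : ℕ} (hi : i = orderOf (q : ZMod r)) {a : ℕ}
    (ha : a ≤ n % cdim i) {B : ℕ} (h : B * gprod q (n - a) = gprod q n) : ¬ r ∣ B := by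
  have hq := two_le_q hF
  intro hd
  have hle : a ≤ n := ha.trans (Nat.mod_le _ _)
  have e : gprod q n = gprod q (n - a) * ∏ x ∈ Finset.range a, gfac q (n - a + x) := by
    rw [gprod, gprod, ← Finset.prod_range_add, Nat.sub_add_cancel hle]
  rw [e, mul_comm] at h
  rw [Nat.eq_of_mul_eq_mul_left (gprod_pos hq _) h] at hd
  obtain ⟨x, hx, hdx⟩ := (Prime.dvd_finsetProd_iff hr'.out.prime _).1 hd
  rw [Finset.mem_range] at hx
  obtain ⟨w, hw⟩ := (neg_pow_iff hr2 hi (hi ▸ qord_pos hF hr) _).1 (cast_gfac hq hdx)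
  have hmd := Nat.mod_add_div n (cdim i)
  have hc : 0 < cdim i := Nat.pos_of_ne_zero fun h0 => by rw [h0] at hw; omega
  have hlt := Nat.mod_lt n hc
  rcases Nat.lt_or_ge (n / cdim i) w with hw' | hw'
  · have := Nat.mul_le_mul_left (cdim i) hw'
    rw [Nat.mul_succ] at this
    omega
  · have := Nat.mul_le_mul_left (cdim i) hw'
    omega

include hF in
theorem not_dvd_card_iso (hr : (r : F) ≠ 0) (hr2 : r ≠ 2) {i : ℕ} (hi : i = orderOf (q : ZMod r))
    {m : ℕ} (hm : 2 * m ≤ n % cdim i) :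
    ¬ r ∣ Nat.card {W : Submodule F (Fin n → F) // finrank F W = m ∧
      (∀ u ∈ W, ∀ v ∈ W, Cfsg.hermForm n F q u v = 0)} := fun hd =>
  not_dvd_shift hF hr hr2 hi hm (card_iso_eq hF (hm.trans (Nat.mod_le _ _))) (hd.mul_right _)

include hF in
theorem not_dvd_card_iso_char {p : ℕ} [hp : Fact p.Prime] [CharP F p] {m : ℕ} (hm : 2 * m ≤ n) :
    ¬ p ∣ Nat.card {W : Submodule F (Fin n → F) // finrank F W = m ∧
      (∀ u ∈ W, ∀ v ∈ W, Cfsg.hermForm n F q u v = 0)} := by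
  intro hd
  have hq := two_le_q hF
  have hpq : p ∣ q := by
    obtain ⟨e, -, hcard⟩ := FiniteField.card F p
    refine hp.out.dvd_of_dvd_pow (n := 2) ?_
    rw [← hF, Nat.card_eq_fintype_card, hcard]
    exact dvd_pow_self p e.ne_zero
  have h1 : p ∣ gprod q n := by
    rw [← card_iso_eq hF hm]
    exact (hd.mul_right _).mul_right _
  obtain ⟨i, -, hi⟩ := (Prime.dvd_finsetProd_iff hp.out.prime _).1 h1
  have h2 : p ∣ q ^ (i + 1) := dvd_pow hpq (by omega)
  unfold gfac at hi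
  have h3 : p ∣ 1 := by
    split_ifs at hi with he
    · exact (Nat.dvd_add_right h2).1 hi
    · have := Nat.dvd_sub h2 hi
      rwa [Nat.sub_sub_self (Nat.one_le_pow _ _ (by omega))] at this
  exact hp.out.ne_one (Nat.dvd_one.1 h3)

/-- The image of a subspace under a unitary matrix. -/
noncomputable def actW (g : Cfsg.GU n F q) (W : Submodule F (Fin n → F)) : Submodule F (Fin n → F) :=
  W.map (Matrix.toLin' (g.1 : Matrix (Fin n) (Fin n) F))

theorem mem_actW {g : Cfsg.GU n F q} {W : Submodule F (Fin n → F)} {x : Fin n → F} :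
    x ∈ actW g W ↔ ((g.1⁻¹).1 : Matrix (Fin n) (Fin n) F) *ᵥ x ∈ W := by
  constructor
  · rintro ⟨v, hv, rfl⟩
    simpa [Matrix.mulVec_mulVec] using hv
  · intro hx
    exact ⟨_, hx, by simp [Matrix.mulVec_mulVec]⟩

include hF in
/-- The number of non-degenerate subspaces. -/
theorem card_ndg_eq {m : ℕ} (hm : m ≤ n) :
    Nat.card (Cfsg.GU n F q) = Nat.card {W : Submodule F (Fin n → F) // finrank F W = m ∧
      (∀ u ∈ W, u ≠ 0 → ∃ v ∈ W, Cfsg.hermForm n F q u v ≠ 0)} *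
      (Nat.card (Cfsg.GU m F q) * Nat.card (Cfsg.GU (n - m) F q)) := by
  classical
  obtain ⟨W0, -, hW0n, hW0d⟩ := exists_ndg_dim hF (hB_ndg_top hF (n := n))
    (b := m) (by rw [finrank_top, finrank_fin_fun]; exact hm)
  have hW0 := (ndg_iff hF W0).2 hW0n
  have hrad : ∀ W : Submodule F (Fin n → F), (∀ u ∈ W, u ≠ 0 → ∃ v ∈ W, Cfsg.hermForm n F q u v ≠ 0) →
      ∀ u ∈ W, (∀ v ∈ W, Cfsg.hermForm n F q u v = 0) → u = 0 := fun W h u hu hz => by
    by_contra h0
    obtain ⟨v, hv, hne⟩ := h u hu h0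
    exact hne (hz v hv)
  let K := (Cfsg.stabilizing (Cfsg.glToMat (Fin n) F) (W0 : Set (Fin n → F))).subgroupOf (Cfsg.GU n F q)
  have hdim : ∀ g : Cfsg.GU n F q, finrank F (actW g W0) = m := fun g => by
    rw [← hW0d]
    refine LinearEquiv.finrank_eq (Submodule.equivMapOfInjective _ (fun u v e => ?_) W0).symm
    have := congrArg (fun z => ((g.1⁻¹).1 : Matrix (Fin n) (Fin n) F) *ᵥ z) e
    simpa [Matrix.mulVec_mulVec] using this
  let act : Cfsg.GU n F q → {W : Submodule F (Fin n → F) // finrank F W = m ∧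
      (∀ u ∈ W, u ≠ 0 → ∃ v ∈ W, Cfsg.hermForm n F q u v ≠ 0)} := fun g => ⟨actW g W0, hdim g, by
    rintro _ ⟨u, hu, rfl⟩ h0
    obtain ⟨v, hv, hne⟩ := hW0 u hu fun e => h0 (by rw [e, map_zero])
    exact ⟨_, ⟨v, hv, rfl⟩, fun e => hne ((mem_GU_iff.1 g.2 u v).symm.trans e)⟩⟩
  rw [card_eq_card_mul_card act (fun W => ?_) K (fun g g' => ?_)]
  · obtain ⟨e⟩ := stabilizer_nondeg_iso hF W0 hW0d (hrad W0 hW0)
    rw [Nat.card_congr e.toEquiv, Nat.card_prod]
  · obtain ⟨b, hb⟩ := exists_orthonormal_family hF W0 hW0d (hrad W0 hW0)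
    obtain ⟨b', hb'⟩ := exists_orthonormal_family hF W.1 W.2.1 (hrad W.1 W.2.2)
    obtain ⟨g, hg⟩ := exists_GU_family hF (fun j => (b j : Fin n → F)) (fun j => (b' j : Fin n → F))
      (b.linearIndependent.map' W0.subtype W0.ker_subtype)
      (b'.linearIndependent.map' W.1.subtype W.1.ker_subtype) (fun a c => by rw [hb, hb'])
    refine ⟨g, Subtype.ext (Submodule.eq_of_le_of_finrank_eq ?_ ((hdim g).trans W.2.1.symm))⟩
    rintro _ ⟨v, hv, rfl⟩
    have e := congrArg W0.subtype (b.sum_repr ⟨v, hv⟩)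
    rw [map_sum] at e
    change ∑ j, b.repr ⟨v, hv⟩ j • (b j : Fin n → F) = v at e
    rw [← e, map_sum]
    refine W.1.sum_mem fun j _ => ?_
    rw [map_smul, Matrix.toLin'_apply, hg j]
    exact W.1.smul_mem _ (b' j).2
  · have hmem : g⁻¹ * g' ∈ K ↔ ∀ v, v ∈ W0 ↔
        ((g.1⁻¹).1 : Matrix (Fin n) (Fin n) F) *ᵥ ((g'.1 : Matrix (Fin n) (Fin n) F) *ᵥ v) ∈ W0 := by
      refine forall_congr' fun v => ?_
      rw [Matrix.mulVec_mulVec]
      rfl
    rw [hmem]
    constructor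
    · intro h
      refine Subtype.ext (Submodule.ext fun x => ?_)
      show x ∈ actW g W0 ↔ x ∈ actW g' W0
      rw [mem_actW, mem_actW, h (((g'.1⁻¹).1 : Matrix (Fin n) (Fin n) F) *ᵥ x)]
      simp [Matrix.mulVec_mulVec]
    · intro h v
      have h' : actW g W0 = actW g' W0 := congrArg Subtype.val h
      rw [← mem_actW, h', mem_actW]
      simp [Matrix.mulVec_mulVec]

include hF in
theorem not_dvd_card_ndg (hr : (r : F) ≠ 0) (hr2 : r ≠ 2) {i : ℕ} (hi : i = orderOf (q : ZMod r))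
    {m : ℕ} (hm : m ≤ n % cdim i) :
    ¬ r ∣ Nat.card {W : Submodule F (Fin n → F) // finrank F W = m ∧
      (∀ u ∈ W, u ≠ 0 → ∃ v ∈ W, Cfsg.hermForm n F q u v ≠ 0)} := by
  intro hd
  have hq := two_le_q hF
  have hmn : m ≤ n := hm.trans (Nat.mod_le _ _)
  have h := card_ndg_eq hF (n := n) hmn
  rw [card_GU_gprod hF, card_GU_gprod hF, card_GU_gprod hF] at h
  set N := Nat.card {W : Submodule F (Fin n → F) // finrank F W = m ∧
      (∀ u ∈ W, u ≠ 0 → ∃ v ∈ W, Cfsg.hermForm n F q u v ≠ 0)}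
  set a := m * (m - 1) / 2
  set b := (n - m) * (n - m - 1) / 2
  set e := n * (n - 1) / 2
  have e' : gprod q n = gprod q (n - m) * ∏ x ∈ Finset.range m, gfac q (n - m + x) := by
    rw [gprod, gprod, ← Finset.prod_range_add, Nat.sub_add_cancel hmn]
  rw [e'] at h
  have h2 : q ^ e * ∏ x ∈ Finset.range m, gfac q (n - m + x) = N * (q ^ a * gprod q m * q ^ b) :=
    Nat.eq_of_mul_eq_mul_left (gprod_pos hq (n - m)) (by linear_combination h)
  have hd2 : r ∣ q ^ e * ∏ x ∈ Finset.range m, gfac q (n - m + x) := h2 ▸ hd.mul_right _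
  rcases hr'.out.dvd_mul.1 hd2 with h3 | h3
  · exact not_dvd_q hF hr (hr'.out.dvd_of_dvd_pow h3)
  · refine not_dvd_shift hF hr hr2 hi hm (B := ∏ x ∈ Finset.range m, gfac q (n - m + x)) ?_ h3
    rw [e', mul_comm]

end CfsgLib.UnitElusive
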