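import Cfsg.Agent.Elusive2.UnitTwo

/-!
When all elements of prime order of the unitary group fix a totally isotropic subspace of given dimension.
-/

set_option autoImplicit false
set_option linter.unusedSectionVars false

namespace CfsgLib.UnitElusive

open Module CfsgLib.Elusive CfsgLib.Elusive2 CfsgLib.Forms CfsgLib.Unitary

variable {F : Type*} [Field F] [Fintype F] {q : ℕ} (hF : Nat.card F = q ^ 2) {n : ℕ}
  {r : ℕ} [hr' : Fact r.Prime]

/-- An element of `SU` of order `r` modulo scalars. -/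
def IsElt (n : ℕ) (F : Type*) [Field F] (q r : ℕ) (x : Matrix.SpecialLinearGroup (Fin n) F) : Prop :=
  x ∈ Cfsg.SU n F q ∧
    (∃ z : F, ((x ^ r : Matrix.SpecialLinearGroup (Fin n) F) : Matrix (Fin n) (Fin n) F) = z • (1 : Matrix (Fin n) (Fin n) F)) ∧
    ∀ z : F, (x : Matrix (Fin n) (Fin n) F) ≠ z • (1 : Matrix (Fin n) (Fin n) F)

include hF in
theorem coprime_succ (hr : (r : F) ≠ 0) (hr2 : r ≠ 2) {i : ℕ} (hi : i = orderOf (q : ZMod r))
    (h2 : i ≠ 2) : Nat.Coprime r (q + 1) := by
  refine (Nat.Prime.coprime_iff_not_dvd hr'.out).2 fun h => h2 ?_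
  rw [← ZMod.natCast_eq_zero_iff, Nat.cast_add, Nat.cast_one, add_eq_zero_iff_eq_neg] at h
  rw [hi, h]
  have hne : (-1 : ZMod r) ≠ 1 := fun e => cast_two_ne (r := r) hr2 (by linear_combination -e)
  exact orderOf_eq_prime (by ring) hne

include hF in
theorem dvd_succ (hr : (r : F) ≠ 0) {i : ℕ} (hi : i = orderOf (q : ZMod r)) (h2 : i = 2) : r ∣ q + 1 := by
  rw [← ZMod.natCast_eq_zero_iff, Nat.cast_add, Nat.cast_one]
  have h1 := pow_half (r := r) (y := (q : ZMod r)) (j := 1) (hi.symm.trans h2) Nat.one_pos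
  rw [pow_one] at h1
  rw [h1, neg_add_cancel]

include hF in
/-- An element of `SU` from an isometry of order `r`. -/
theorem exists_elt (hcop : Nat.Coprime r (q + 1)) {f : Module.End F (Fin n → F)}
    (hP : IsPack (hB hF n) f r) (hfix : finrank F (fixS f) < n) :
    ∃ x, IsElt n F q r x ∧
      ∀ W : Submodule F (Fin n → F), W.map (Matrix.toLin' (x : Matrix (Fin n) (Fin n) F)) ≤ W ↔ Inv f W := by
  have hd := det_one_of_pow hF hP.isom hP.pow_r hcop
  obtain ⟨x, h1, h2, h3, h4⟩ := exists_su hF hP.isom hd (z := 1) (by rw [hP.pow_r, one_smul]) fun z hz => by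
    have hn : 0 < n := by omega
    obtain ⟨u, -, hu⟩ := exists_aniso hF (hB_ndg_top hF (n := n)) fun e => by
      have := finrank_top F (Fin n → F)
      rw [e, finrank_bot, finrank_fin_fun] at this
      omega
    have hzr : z ^ r = 1 := by
      have h := LinearMap.congr_fun hP.pow_r u
      rw [hz, _root_.smul_pow, one_pow, LinearMap.smul_apply, Module.End.one_apply] at h
      exact smul_left_injective F (aniso_ne hF hu) (h.trans (one_smul F u).symm)
    have hzq : z ^ (q + 1) = 1 := by
      have h := hP.isom u u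
      rw [hz] at h
      simp only [LinearMap.smul_apply, Module.End.one_apply, map_smulₛₗ, RingHom.id_apply, smul_eq_mul,
        frobQ_apply] at h
      refine mul_right_cancel₀ hu (Eq.trans ?_ (one_mul _).symm)
      rw [pow_succ]
      linear_combination h
    have hz1 := pow_gcd_eq_one.2 ⟨hzr, hzq⟩
    rw [hcop, pow_one] at hz1
    have : fixS f = ⊤ := by
      rw [eq_top_iff]
      intro v _
      rw [mem_fixS, hz, hz1, one_smul, Module.End.one_apply]
    rw [this, finrank_top, finrank_fin_fun] at hfix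
    omega
  exact ⟨x, ⟨h1, h2, h3⟩, h4⟩

include hF in
/-- The criterion suffices for elements of order `r`. -/
theorem iso_of_crit (hr : (r : F) ≠ 0) (hr2 : r ≠ 2) {i : ℕ} (hi : i = orderOf (q : ZMod r))
    {f : Module.End F (Fin n → F)} (hP : IsPack (hB hF n) f r) {m : ℕ} (hm2 : 2 * m ≤ n)
    (hk : 2 * (m % bdim i) ≤ n % cdim i)
    (hcond : i % 4 ≠ 2 ∨ (r - 1) / bdim i + 2 * (m / bdim i) ≤ n / bdim i) :
    ∃ W, Inv f W ∧ Iso0 (hB hF n) W ∧ finrank F W = m := by
  obtain ⟨s, hs, hn⟩ := exists_blocks_count hF hP hr hr2 hi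
  set b := bdim i with hb
  have hk0 : n % cdim i ≤ finrank F (fixS f) := by
    conv_lhs => rw [hn, Nat.add_mul_mod_self_right]
    exact Nat.mod_le _ _
  have hmm := Nat.div_add_mod m b
  suffices h : ∃ a c, 2 * c ≤ finrank F (fixS f) ∧ m = c + a * b ∧
      ∃ U, Inv f U ∧ Iso0 (hB hF n) U ∧ U ≤ movS f ∧ finrank F U = a * b by
    obtain ⟨a, c, hc, hac, hU⟩ := h
    obtain ⟨W, hW, hWi, hWd⟩ := exists_iso_join hF hP hr hc hU
    exact ⟨W, hW, hWi, hWd.trans hac.symm⟩
  by_cases h4 : i % 4 = 2
  · have hcb : cdim i = b := by rw [cdim_eq, if_pos h4]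
    rw [hcb] at hs hn hk hk0
    have hcond' := hcond.resolve_left (not_not.2 h4)
    set t := (r - 1) / b with ht
    set a := min (m / b) ((s + 1 - t) / 2) with ha
    have hale : a * b ≤ b * (m / b) := by rw [mul_comm]; exact Nat.mul_le_mul_left b (min_le_left _ _)
    refine ⟨a, m - a * b, ?_, by omega, ?_⟩
    · rcases Nat.le_total (m / b) ((s + 1 - t) / 2) with h | h
      · rw [show a = m / b from min_eq_left h, mul_comm (m / b)]
        omega
      · have hsa : s ≤ t + 2 * a := by rw [ha, min_eq_right h]; omega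
        have h1 := Nat.mul_le_mul_left b hsa
        have h2 := Nat.mul_le_mul_left b hcond'
        rw [Nat.mul_add, ← Nat.mul_assoc, mul_comm b 2, Nat.mul_assoc, mul_comm b a] at h1
        rw [Nat.mul_add, ← Nat.mul_assoc, mul_comm b 2, Nat.mul_assoc] at h2
        have h3 := Nat.div_add_mod n b
        rw [mul_comm s b] at hn
        omega
    · refine exists_iso_mov_self hF hP hr hr2 hi h4 ?_
      rcases Nat.eq_zero_or_pos a with h0 | hapos
      · exact Or.inl h0
      · refine Or.inr ?_
        rw [hs, ← ht]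
        have h1 : t + 2 * a ≤ s + 1 := by
          have : a ≤ (s + 1 - t) / 2 := min_le_right _ _
          omega
        have h2 := Nat.mul_le_mul_right b h1
        rwa [Nat.add_mul s 1 b, one_mul] at h2
  · have hcb : cdim i = 2 * b := by rw [cdim_eq, if_neg h4]
    rw [hcb] at hs hn hk hk0
    set a := min s (m / b) with ha
    have hale : a * b ≤ b * (m / b) := by rw [mul_comm]; exact Nat.mul_le_mul_left b (min_le_right _ _)
    refine ⟨a, m - a * b, ?_, by omega, ?_⟩
    · rcases Nat.le_total s (m / b) with h | h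
      · rw [show a = s from min_eq_left h]
        have : s * (2 * b) = 2 * (s * b) := by ring
        omega
      · rw [show a = m / b from min_eq_right h, mul_comm (m / b)]
        omega
    · refine exists_iso_mov_pair hF hP hr hr2 hi h4 ?_
      rw [hs]
      exact Nat.mul_le_mul_right _ (min_le_left _ _)

include hF in
/-- Prime orders other than the characteristic, odd. -/
theorem all_fix_iso_odd (hr : (r : F) ≠ 0) (hr2 : r ≠ 2) {i : ℕ} (hi : i = orderOf (q : ZMod r))
    {m : ℕ} (hm : 1 ≤ m) (hmn : 2 * m ≤ n)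
    (hrΩ : r ∣ Nat.card {W : Submodule F (Fin n → F) // finrank F W = m ∧
      (∀ u ∈ W, ∀ v ∈ W, Cfsg.hermForm n F q u v = 0)}) :
    (∀ x, IsElt n F q r x → ∃ W : Submodule F (Fin n → F), finrank F W = m ∧
      (∀ u ∈ W, ∀ v ∈ W, Cfsg.hermForm n F q u v = 0) ∧
      W.map (Matrix.toLin' (x : Matrix (Fin n) (Fin n) F)) ≤ W) ↔
    (bdim i ≤ m ∧ 2 * (m % bdim i) ≤ n % cdim i ∧
      (i % 4 ≠ 2 ∨ (i % 4 = 2 ∧ (r - 1) / bdim i + 2 * (m / bdim i) ≤ n / bdim i ∧
        (2 < i ∨ (i = 2 ∧ (r ∣ m ∨ padicValNat r n ≤ padicValNat r (q + 1))))))) := by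
  have hb0 : 0 < bdim i := hi ▸ ordq_eq hF hr ▸ ordq_pos hr
  have hc0 : 0 < cdim i := cdim_pos hF hr hi
  have hn0 : 0 < n := by omega
  constructor
  · intro hL
    have key : ∀ f : Module.End F (Fin n → F), IsPack (hB hF n) f r →
        (∀ W : Submodule F (Fin n → F), Inv f W → Iso0 (hB hF n) W → finrank F W = m → False) →
        (∃ x, IsElt n F q r x ∧ ∀ W : Submodule F (Fin n → F),
          W.map (Matrix.toLin' (x : Matrix (Fin n) (Fin n) F)) ≤ W ↔ Inv f W) → False := by
      rintro f - hno ⟨x, hx, hinv⟩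
      obtain ⟨W, hWm, hWi, hWx⟩ := hL x hx
      exact hno W ((hinv W).1 hWx) ((iso_iff hF W).1 hWi) hWm
    have hk : 2 * (m % bdim i) ≤ n % cdim i := by
      by_contra hcon
      have h2 : i ≠ 2 := fun h => hcon (by subst h; simp [show bdim 2 = 1 from rfl, Nat.mod_one])
      rcases Nat.eq_zero_or_pos (n / cdim i) with h0 | hs
      · have := Nat.div_add_mod n (cdim i)
        rw [h0, Nat.mul_zero] at this
        have := Nat.mod_le m (bdim i)
        omega
      · obtain ⟨f, hP, hfix⟩ := exists_worst hF hr hr2 hi (n := n) (s := n / cdim i) (e := n % cdim i)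
          (by rw [mul_comm]; exact (Nat.div_add_mod n (cdim i)).symm)
        refine key f hP (fun W hW hWi hWm => ?_) (exists_elt hF (coprime_succ hF hr hr2 hi h2) hP ?_)
        · obtain ⟨a, -, hsum, hb⟩ := iso_parts hF hP hr hW hWi
          rw [hfix] at hb
          rw [ordq_eq hF hr, ← hi] at hsum
          apply hcon
          rw [← hWm, hsum, Nat.add_mul_mod_self_right]
          have := Nat.mod_le (finrank F ↥(W ⊓ fixS f)) (bdim i)
          omega
        · rw [hfix]
          have := Nat.mod_lt n hc0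
          have := Nat.le_of_lt_succ (Nat.lt_succ_of_le (Nat.le_mul_of_pos_right (cdim i) hs))
          have := Nat.div_add_mod n (cdim i)
          omega
    have hbm : bdim i ≤ m := by
      by_contra hlt
      push Not at hlt
      rw [Nat.mod_eq_of_lt hlt] at hk
      exact not_dvd_card_iso hF hr hr2 hi hk hrΩ
    refine ⟨hbm, hk, ?_⟩
    by_cases h4 : i % 4 = 2
    swap
    · exact Or.inl h4
    refine Or.inr ⟨h4, ?_, ?_⟩
    · by_contra hlt
      rcases eq_or_ne i 2 with h2 | h2
      · subst h2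
        simp only [show bdim 2 = 1 from rfl, Nat.div_one] at hlt
        obtain ⟨f, hP, hdet, hns, hfix, hno⟩ := exists_spread_pairs hF hr hr2 hi.symm (n := n)
          (j := (n - 2 * m) / 2 + 1) (e := n - 2 * ((n - 2 * m) / 2 + 1)) (Nat.succ_pos _) (by
            obtain ⟨w, hw⟩ := hr'.out.odd_of_ne_two hr2
            omega) (by omega)
        obtain ⟨x, h1, h2, h3, hinv⟩ := exists_su hF hP.isom hdet (z := 1) (r := r) (by rw [hP.pow_r, one_smul]) hns
        refine key f hP (fun W hW hWi hWm => ?_) ⟨x, ⟨h1, h2, h3⟩, hinv⟩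
        have hmap : W.map (f - 1) = ⊥ := hno _ hW.map_sub.1 (hWi.mono hW.map_sub.2) LinearMap.map_le_range
        obtain ⟨a, ha, hsum, hb⟩ := iso_parts hF hP hr hW hWi
        rw [hmap, finrank_bot] at ha
        rw [← ha, add_zero, hWm] at hsum
        rw [hfix, ← hsum] at hb
        omega
      · set t := min ((r - 1) / bdim i) (n / bdim i) with ht
        have hbr : bdim i ∣ r - 1 := by
          rw [hi, ← ordq_eq hF hr]
          exact orderOf_dvd_of_pow_eq_one (ZMod.pow_card_sub_one_eq_one fun h0 => by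
            have := ordq_pos (F := F) hr
            rw [ordq, h0] at this
            simp at this)
        have hr1 := hr'.out.one_lt
        have ht0 : 0 < t := lt_min (Nat.div_pos (Nat.le_of_dvd (by omega) hbr) hb0) (Nat.div_pos (by omega) hb0)
        have htb : t * bdim i ≤ n :=
          (Nat.mul_le_mul_right _ (min_le_right _ _)).trans (Nat.div_mul_le_self _ _)
        obtain ⟨f, hP, hfix, hno⟩ := exists_spread_u hF hr hr2 hi h4 (n := n) (t := t) (e := n - t * bdim i)
          (min_le_left _ _) (by omega)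
        refine key f hP (fun W hW hWi hWm => ?_) (exists_elt hF (coprime_succ hF hr hr2 hi h2) hP ?_)
        · have hmap : W.map (f - 1) = ⊥ := hno _ hW.map_sub.1 (hWi.mono hW.map_sub.2) LinearMap.map_le_range
          obtain ⟨a, ha, hsum, hb⟩ := iso_parts hF hP hr hW hWi
          rw [hmap, finrank_bot] at ha
          rw [← ha, add_zero, hWm] at hsum
          rw [hfix, ← hsum] at hb
          have hmb := Nat.div_add_mod m (bdim i)
          have hnb := Nat.div_add_mod n (bdim i)
          have hnlt := Nat.mod_lt n hb0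
          rcases Nat.le_total ((r - 1) / bdim i) (n / bdim i) with h | h
          · rw [show t = (r - 1) / bdim i from min_eq_left h] at hb
            have h6 := Nat.mul_le_mul_right (bdim i)
              (show n / bdim i + 1 ≤ (r - 1) / bdim i + 2 * (m / bdim i) by omega)
            rw [Nat.add_mul, Nat.add_mul, one_mul, Nat.mul_comm (n / bdim i), Nat.mul_assoc,
              Nat.mul_comm (m / bdim i)] at h6
            omega
          · rw [show t = n / bdim i from min_eq_right h, Nat.mul_comm (n / bdim i)] at hb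
            omega
        · rw [hfix]
          have := Nat.mul_pos ht0 hb0
          omega
    · rcases eq_or_ne i 2 with h2 | h2
      · refine Or.inr ⟨h2, ?_⟩
        by_contra hcon
        push Not at hcon
        obtain ⟨x, h1, h3, h5, hdim⟩ := exists_kum_su hF hr2 (dvd_succ hF hr hi h2) hn0 hcon.2
        obtain ⟨W, hWm, -, hWx⟩ := hL x ⟨h1, h3, h5⟩
        exact hcon.1 (hWm ▸ hdim W hWx)
      · exact Or.inl (by omega)
  · rintro ⟨-, hk, hcond⟩ x ⟨hx, ⟨z, hz⟩, hns⟩
    have hcond' : i % 4 ≠ 2 ∨ (r - 1) / bdim i + 2 * (m / bdim i) ≤ n / bdim i :=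
      hcond.imp id fun h => h.2.1
    obtain ⟨hiso, hpow, hdet, hzq⟩ := su_toLin hF hx hz
    specialize hzq hn0
    have hfin : ∀ y : F, y ^ r = z → y ^ (q + 1) = 1 → ∃ W : Submodule F (Fin n → F), finrank F W = m ∧
        (∀ u ∈ W, ∀ v ∈ W, Cfsg.hermForm n F q u v = 0) ∧
        W.map (Matrix.toLin' (x : Matrix (Fin n) (Fin n) F)) ≤ W := fun y hy hy1 => by
      obtain ⟨g, hP, -, -, hinv⟩ := exists_pack_scalar hF hx hz hns hy hy1
      obtain ⟨W, hW, hWi, hWd⟩ := iso_of_crit hF hr hr2 hi hP hmn hk hcond'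
      exact ⟨W, hWd, (iso_iff hF W).2 hWi, (hinv W).2 hW⟩
    rcases eq_or_ne i 2 with h2 | h2
    · have hrq := dvd_succ hF hr hi h2
      rcases kum_root hF hr2 hrq hzq with ⟨y, hy, hy1⟩ | hc
      · exact hfin y hy hy1
      obtain ⟨-, -, h⟩ := hcond.resolve_left (fun h => h (by omega))
      rcases h with h | ⟨-, hrm | hv⟩
      · omega
      · obtain ⟨a, rfl⟩ := hrm
        rw [Nat.mul_comm r a] at hmn ⊢
        obtain ⟨W, hW, hWi, hWd⟩ := kum_exists_iso hF hr2 hrq hiso hpow hzq hc hmn
        exact ⟨W, hWd, (iso_iff hF W).2 hWi, inv_iff.1 hW⟩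
      · exact absurd hc (kum_not hF hr2 hrq hn0 hv hpow hdet hzq)
    · obtain ⟨y, hy, hy1⟩ := exists_root_coprime hF (coprime_succ hF hr hr2 hi h2) hzq
      exact hfin y hy hy1

include hF in
/-- Involutions. -/
theorem all_fix_iso_two (hodd : q % 2 = 1) {m : ℕ} (hm : 1 ≤ m) (hmn : 2 * m ≤ n) :
    (∀ x, IsElt n F q 2 x → ∃ W : Submodule F (Fin n → F), finrank F W = m ∧
      (∀ u ∈ W, ∀ v ∈ W, Cfsg.hermForm n F q u v = 0) ∧
      W.map (Matrix.toLin' (x : Matrix (Fin n) (Fin n) F)) ≤ W) ↔
    (2 * m < n ∨ padicValNat 2 (q + 1) ≤ padicValNat 2 n) := by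
  have : Fact (Nat.Prime 2) := ⟨Nat.prime_two⟩
  have h2 := two_ne hF hodd
  have h2' : ((2 : ℕ) : F) ≠ 0 := by exact_mod_cast h2
  have hn0 : 0 < n := by omega
  constructor
  · intro hL
    by_contra hcon
    push Not at hcon
    obtain ⟨hn', hv⟩ := hcon
    obtain ⟨g, hP, hfix, hdet, hmov⟩ := exists_reflection hF h2 (e := n - 1) (n := n) (by omega)
    have hk : 2 ^ (padicValNat 2 n + 1) ∣ (q + 1) * (q - 1) :=
      ((pow_dvd_pow 2 hv).trans pow_padicValNat_dvd).mul_right _
    obtain ⟨y, hy⟩ := exists_two_root hF hk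
    obtain ⟨o, ho⟩ : 2 ^ padicValNat 2 n ∣ n := pow_padicValNat_dvd
    have hyn : y ^ n = -1 := by
      generalize hka : padicValNat 2 n = a at ho hy
      have hoo : Odd o := by
        rw [← Nat.not_even_iff_odd]
        rintro ⟨o', rfl⟩
        refine pow_succ_padicValNat_not_dvd (p := 2) hn0.ne' ?_
        rw [hka, ho]
        exact ⟨o', by ring⟩
      rw [ho, pow_mul, hy, hoo.neg_one_pow]
    have hyq : y ^ (q + 1) = 1 := by
      obtain ⟨t, ht⟩ : 2 ^ (padicValNat 2 n + 1) ∣ q + 1 := (pow_dvd_pow 2 hv).trans pow_padicValNat_dvd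
      rw [ht, pow_mul, pow_succ, pow_mul, hy, neg_one_sq, one_pow]
    have hy0 : y ≠ 0 := fun e => by rw [e, zero_pow (Nat.succ_ne_zero q)] at hyq; exact zero_ne_one hyq
    have hiso : ∀ u v, hB hF n ((y • g) u) ((y • g) v) = hB hF n u v := fun u v => by
      simp only [LinearMap.smul_apply, map_smulₛₗ, RingHom.id_apply, smul_eq_mul, frobQ_apply, hP.isom]
      rw [pow_succ] at hyq
      linear_combination (hB hF n u v) * hyq
    have hinv : ∀ W, Inv (y • g) W → Inv g W := fun W h v hv => by
      have := W.smul_mem y⁻¹ (h v hv)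
      rwa [LinearMap.smul_apply, smul_smul, inv_mul_cancel₀ hy0, one_smul] at this
    obtain ⟨x, h1, h3, h5, hx⟩ := exists_su hF hiso (r := 2) (z := y ^ 2)
      (by rw [LinearMap.det_smul, hdet, finrank_fin_fun, hyn, neg_one_mul, neg_neg])
      (by rw [_root_.smul_pow, hP.pow_r]) fun z hz => by
        have hmz : ∀ v, g v = (y⁻¹ * z) • v := fun v => by
          have := LinearMap.congr_fun hz v
          rw [LinearMap.smul_apply, LinearMap.smul_apply, Module.End.one_apply] at this
          rw [← smul_smul, ← this, smul_smul, inv_mul_cancel₀ hy0, one_smul]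
        rcases eq_or_ne (y⁻¹ * z) 1 with h | h
        · have : movS g = ⊥ := LinearMap.range_eq_bot.2 (LinearMap.ext fun v => by
            rw [LinearMap.sub_apply, Module.End.one_apply, hmz, h, one_smul, sub_self, LinearMap.zero_apply])
          rw [this, finrank_bot] at hmov
          omega
        · have : fixS g = ⊥ := (Submodule.eq_bot_iff _).2 fun v hv => by
            rw [mem_fixS, hmz] at hv
            by_contra h0
            exact h (smul_left_injective F h0 (hv.trans (one_smul F v).symm))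
          rw [this, finrank_bot] at hfix
          omega
    obtain ⟨W, hWm, hWi, hWx⟩ := hL x ⟨h1, h3, h5⟩
    have hW : Inv g W := hinv W ((hx W).1 hWx)
    obtain ⟨a, ha, hsum, hb⟩ := iso_parts hF hP h2' hW ((iso_iff hF W).1 hWi)
    have h6 := (((iso_iff hF W).1 hWi).mono hW.map_sub.2).two_mul_le (hB_refl hF) LinearMap.map_le_range
      (fix_mov hF hP h2').2.1
    change 2 * finrank F (W.map (g - 1)) ≤ finrank F (movS g) at h6
    rw [hfix] at hb
    rw [hmov] at h6
    omega
  · intro hR x ⟨hx, ⟨z, hz⟩, hns⟩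
    obtain ⟨hiso, hpow, hdet, hzq⟩ := su_toLin hF hx hz
    specialize hzq hn0
    obtain ⟨w, hw, hw1 | hw1⟩ := exists_sqrt hF hodd hzq
    · obtain ⟨g, hP, -, hgd, hinv⟩ := exists_pack_scalar hF hx hz hns hw hw1
      obtain ⟨hFx, hM, hMF⟩ := fix_mov hF hP h2'
      have hsum := fix_add_mov (f := g)
      rw [finrank_fin_fun] at hsum
      have hb : m ≤ finrank F (fixS g) / 2 + finrank F (movS g) / 2 := by
        by_contra hlt
        have hodd' : Odd (finrank F (movS g)) := Nat.odd_iff.2 (by omega)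
        rw [invol_det h2 hP.pow_r, hodd'.neg_one_pow, mul_neg, mul_one, neg_eq_iff_eq_neg] at hgd
        refine two_clash h2 (Nat.succ_ne_zero q) hw1 hgd ?_
        exact hR.resolve_left (by omega)
      set a := min m (finrank F (movS g) / 2) with ha
      obtain ⟨U, hUle, hUi, hUd⟩ := exists_iso_dim hF hM (b := a) (by omega)
      have hUinv : Inv g U := fun v hv => by
        rw [mov_neg hP.pow_r (hUle hv)]; exact U.neg_mem hv
      obtain ⟨W, hW, hWi, hWd⟩ := exists_iso_join hF hP h2' (b := m - a) (by omega)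
        ⟨U, hUinv, hUi, hUle, hUd⟩
      exact ⟨W, by omega, (iso_iff hF W).2 hWi, (hinv W).2 hW⟩
    · have hw0 : w ≠ 0 := fun e => by
        rw [e, zero_pow (Nat.succ_ne_zero q), eq_comm, neg_eq_zero] at hw1
        exact one_ne_zero hw1
      set g := w⁻¹ • Matrix.toLin' (x : Matrix (Fin n) (Fin n) F) with hgdef
      have hg : g ^ 2 = 1 := by
        rw [hgdef, _root_.smul_pow, hpow, smul_smul, ← hw, ← mul_pow, inv_mul_cancel₀ hw0, one_pow, one_smul]
      have hanti : ∀ u v, hB hF n (g u) (g v) = -hB hF n u v := fun u v => by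
        simp only [hgdef, LinearMap.smul_apply, map_smulₛₗ, RingHom.id_apply, smul_eq_mul, frobQ_apply, hiso]
        have e1 : (w⁻¹) ^ (q + 1) = -1 := by rw [inv_pow, hw1, inv_neg, _root_.inv_one]
        rw [pow_succ] at e1
        linear_combination (hB hF n u v) * e1
      obtain ⟨W, hW, hWi, hWd⟩ := anti_iso_dim hF h2 hg hanti hmn
      refine ⟨W, hWd, (iso_iff hF W).2 hWi, inv_iff.1 fun v hv => ?_⟩
      have := W.smul_mem w (hW v hv)
      rwa [hgdef, LinearMap.smul_apply, smul_smul, mul_inv_cancel₀ hw0, one_smul] at this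

end CfsgLib.UnitElusive
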