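import Cfsg.Agent.Elusive2.UnitIsoMain

/-!
When all elements of prime order prime to the characteristic fix a non-degenerate subspace.
-/

set_option autoImplicit false
set_option linter.unusedSectionVars false

namespace CfsgLib.UnitElusive

open Module CfsgLib.Elusive CfsgLib.Elusive2 CfsgLib.Forms CfsgLib.Unitary

variable {F : Type*} [Field F] [Fintype F] {q : ℕ} (hF : Nat.card F = q ^ 2) {n : ℕ}
  {r : ℕ} [hr' : Fact r.Prime]

include hF in
theorem ndg_of_crit (hr : (r : F) ≠ 0) (hr2 : r ≠ 2) {i : ℕ} (hi : i = orderOf (q : ZMod r))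
    {f : Module.End F (Fin n → F)} (hP : IsPack (hB hF n) f r) {m : ℕ} (hmn : m ≤ n)
    (hk : m % cdim i ≤ n % cdim i) :
    ∃ W, Inv f W ∧ Ndg (hB hF n) W ∧ finrank F W = m := by
  obtain ⟨s, hs, hn⟩ := exists_blocks_count hF hP hr hr2 hi
  set c := cdim i
  have hk0 : n % c ≤ finrank F (fixS f) := by
    conv_lhs => rw [hn, Nat.add_mul_mod_self_right]
    exact Nat.mod_le _ _
  have hle : min s (m / c) * c ≤ m :=
    (Nat.mul_le_mul_right c (min_le_right _ _)).trans (Nat.div_mul_le_self m c)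
  refine (exists_ndg_inv_iff hF hP hr hr2 hi m).2 ⟨min s (m / c), m - min s (m / c) * c, ?_,
    by rw [hs]; exact Nat.mul_le_mul_right _ (min_le_left _ _), (Nat.sub_add_cancel hle).symm⟩
  rcases Nat.le_total s (m / c) with h | h
  · rw [min_eq_left h]
    omega
  · rw [min_eq_right h, mul_comm]
    have := Nat.mod_add_div m c
    omega

include hF in
/-- Odd prime orders other than the characteristic. -/
theorem all_fix_ndg_odd (hr : (r : F) ≠ 0) (hr2 : r ≠ 2) {i : ℕ} (hi : i = orderOf (q : ZMod r))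
    {m : ℕ} (hm : 1 ≤ m) (hmn : 2 * m < n)
    (hrΩ : r ∣ Nat.card {W : Submodule F (Fin n → F) // finrank F W = m ∧
      (∀ u ∈ W, u ≠ 0 → ∃ v ∈ W, Cfsg.hermForm n F q u v ≠ 0)}) :
    (∀ x, IsElt n F q r x → ∃ W : Submodule F (Fin n → F), finrank F W = m ∧
      (∀ u ∈ W, u ≠ 0 → ∃ v ∈ W, Cfsg.hermForm n F q u v ≠ 0) ∧
      W.map (Matrix.toLin' (x : Matrix (Fin n) (Fin n) F)) ≤ W) ↔
    ((i ≠ 2 ∧ cdim i ≤ m ∧ m % cdim i ≤ n % cdim i) ∨
      (i = 2 ∧ (r ∣ m ∨ padicValNat r n ≤ padicValNat r (q + 1)))) := by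
  have hc0 : 0 < cdim i := cdim_pos hF hr hi
  have hn0 : 0 < n := by omega
  constructor
  · intro hL
    rcases eq_or_ne i 2 with h2 | h2
    · refine Or.inr ⟨h2, ?_⟩
      by_contra hcon
      push Not at hcon
      obtain ⟨x, h1, h3, h5, hdim⟩ := exists_kum_su hF hr2 (dvd_succ hF hr hi h2) hn0 hcon.2
      obtain ⟨W, hWm, -, hWx⟩ := hL x ⟨h1, h3, h5⟩
      exact hcon.1 (hWm ▸ hdim W hWx)
    refine Or.inl ⟨h2, ?_⟩
    have hworst : 0 < n / cdim i → m % cdim i ≤ n % cdim i := by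
      intro hs
      obtain ⟨f, hP, hfix⟩ := exists_worst hF hr hr2 hi (n := n) (s := n / cdim i) (e := n % cdim i)
        (by rw [mul_comm]; exact (Nat.div_add_mod n (cdim i)).symm)
      obtain ⟨x, hx, hinv⟩ := exists_elt hF (coprime_succ hF hr hr2 hi h2) hP (by
        rw [hfix]
        have := Nat.mod_lt n hc0
        have := Nat.le_mul_of_pos_right (cdim i) hs
        have := Nat.div_add_mod n (cdim i)
        omega)
      obtain ⟨W, hWm, hWn, hWx⟩ := hL x hx
      obtain ⟨a, b, hb, -, hab⟩ :=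
        (exists_ndg_inv_iff hF hP hr hr2 hi m).1 ⟨W, (hinv W).1 hWx, (ndg_iff hF W).1 hWn, hWm⟩
      rw [hab, Nat.add_mul_mod_self_right]
      exact (Nat.mod_le _ _).trans (hfix ▸ hb)
    rcases Nat.eq_zero_or_pos (n / cdim i) with h0 | hs
    · refine absurd hrΩ (not_dvd_card_ndg hF hr hr2 hi ?_)
      have := Nat.div_add_mod n (cdim i)
      rw [h0, Nat.mul_zero] at this
      omega
    · refine ⟨?_, hworst hs⟩
      by_contra hlt
      push Not at hlt
      refine not_dvd_card_ndg hF hr hr2 hi ?_ hrΩ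
      have := hworst hs
      rwa [Nat.mod_eq_of_lt hlt] at this
  · rintro hR x ⟨hx, ⟨z, hz⟩, hns⟩
    obtain ⟨hiso, hpow, hdet, hzq⟩ := su_toLin hF hx hz
    specialize hzq hn0
    have hk : m % cdim i ≤ n % cdim i := by
      rcases hR with ⟨-, -, h⟩ | ⟨h, -⟩
      · exact h
      · subst h
        simp [show cdim 2 = 1 from rfl, Nat.mod_one]
    have hfin : ∀ y : F, y ^ r = z → y ^ (q + 1) = 1 → ∃ W : Submodule F (Fin n → F), finrank F W = m ∧
        (∀ u ∈ W, u ≠ 0 → ∃ v ∈ W, Cfsg.hermForm n F q u v ≠ 0) ∧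
        W.map (Matrix.toLin' (x : Matrix (Fin n) (Fin n) F)) ≤ W := fun y hy hy1 => by
      obtain ⟨g, hP, -, -, hinv⟩ := exists_pack_scalar hF hx hz hns hy hy1
      obtain ⟨W, hW, hWn, hWd⟩ := ndg_of_crit hF hr hr2 hi hP (by omega) hk
      exact ⟨W, hWd, (ndg_iff hF W).2 hWn, (hinv W).2 hW⟩
    rcases eq_or_ne i 2 with h2 | h2
    · have hrq := dvd_succ hF hr hi h2
      rcases kum_root hF hr2 hrq hzq with ⟨y, hy, hy1⟩ | hc
      · exact hfin y hy hy1
      rcases hR with ⟨h, -⟩ | ⟨-, hrm | hv⟩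
      · exact absurd h2 h
      · obtain ⟨a, rfl⟩ := hrm
        rw [Nat.mul_comm r a] at hmn ⊢
        obtain ⟨W, hW, hWn, hWd⟩ := kum_exists_ndg hF hr2 hrq hiso hpow hzq hc (a := a) (by omega)
        exact ⟨W, hWd, (ndg_iff hF W).2 hWn, inv_iff.1 hW⟩
      · exact absurd hc (kum_not hF hr2 hrq hn0 hv hpow hdet hzq)
    · obtain ⟨y, hy, hy1⟩ := exists_root_coprime hF (coprime_succ hF hr hr2 hi h2) hzq
      exact hfin y hy hy1

include hF in
/-- An involution of `PSU` with all invariant non-degenerate subspaces even. -/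
theorem exists_anti_su (hodd : q % 2 = 1) (hn0 : 0 < n) (hne : Even n)
    (hcase : q % 4 = 1 ∨ padicValNat 2 (q + 1) < padicValNat 2 n) :
    ∃ x, IsElt n F q 2 x ∧ ∀ W : Submodule F (Fin n → F), Ndg (hB hF n) W →
      W.map (Matrix.toLin' (x : Matrix (Fin n) (Fin n) F)) ≤ W → Even (finrank F W) := by
  have : Fact (Nat.Prime 2) := ⟨Nat.prime_two⟩
  have h2 := two_ne hF hodd
  obtain ⟨l, rfl⟩ := hne
  obtain ⟨w, hw1, hwdet⟩ : ∃ w : F, w ^ (q + 1) = -1 ∧ w ^ (l + l) * (-1) ^ l = 1 := by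
    rcases hcase with h4 | hv
    · obtain ⟨w, hw⟩ := exists_two_root hF (k := 1) (by
        have h8 : 2 ^ 2 ∣ q - 1 := by rw [Nat.dvd_iff_mod_eq_zero]; omega
        exact h8.mul_left _)
      rw [pow_one] at hw
      refine ⟨w, ?_, ?_⟩
      · have he : q + 1 = 2 * ((q + 1) / 2) := by omega
        have ho : Odd ((q + 1) / 2) := Nat.odd_iff.2 (by omega)
        rw [he, pow_mul, hw, ho.neg_one_pow]
      · rw [← two_mul, pow_mul, hw, ← pow_add, Even.neg_one_pow ⟨l, rfl⟩]
    · set e := padicValNat 2 (q + 1) with he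
      obtain ⟨w, hw⟩ := exists_two_root hF (k := e) (by
        rw [pow_succ]
        exact Nat.mul_dvd_mul pow_padicValNat_dvd (Nat.dvd_of_mod_eq_zero (by omega)))
      obtain ⟨o, ho⟩ : 2 ^ e ∣ q + 1 := pow_padicValNat_dvd
      obtain ⟨t, ht⟩ : 2 ^ (e + 1) ∣ l + l := (pow_dvd_pow 2 hv).trans pow_padicValNat_dvd
      have he1 : 1 ≤ e := one_le_padicValNat_of_dvd (by omega) (Nat.dvd_of_mod_eq_zero (by omega))
      refine ⟨w, ?_, ?_⟩
      · generalize hka : e = a at ho hw
        have hoo : Odd o := by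
          rw [← Nat.not_even_iff_odd]
          rintro ⟨o', rfl⟩
          refine pow_succ_padicValNat_not_dvd (p := 2) (n := q + 1) (by omega) ?_
          rw [← he, hka, ho]
          exact ⟨o', by ring⟩
        rw [ho, pow_mul, hw, hoo.neg_one_pow]
      · have hl : Even l := by
          have hd : 2 ^ 2 ∣ l + l := (pow_dvd_pow 2 (show 2 ≤ e + 1 by omega)).trans ⟨t, ht⟩
          rw [Nat.dvd_iff_mod_eq_zero] at hd
          exact Nat.even_iff.2 (by omega)
        rw [hl.neg_one_pow, mul_one, ht, pow_succ, pow_mul, pow_mul, hw, neg_one_sq, one_pow]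
  have hw0 : w ≠ 0 := fun e => by
    rw [e, zero_pow (Nat.succ_ne_zero q), eq_comm, neg_eq_zero] at hw1
    exact one_ne_zero hw1
  have hz : (w ^ 2) ^ (q + 1) = 1 := by rw [← pow_mul, mul_comm, pow_mul, hw1, neg_one_sq]
  obtain ⟨f, hiso, hf, hns⟩ := exists_mono hF (r := 2) hz (n := l + l) (l := l) (by omega)
  set g := w⁻¹ • f with hgdef
  have hg : g ^ 2 = 1 := by
    rw [hgdef, _root_.smul_pow, hf, smul_smul, ← mul_pow, inv_mul_cancel₀ hw0, one_pow, one_smul]
  have hanti : ∀ u v, hB hF (l + l) (g u) (g v) = -hB hF (l + l) u v := fun u v => by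
    simp only [hgdef, LinearMap.smul_apply, map_smulₛₗ, RingHom.id_apply, smul_eq_mul, frobQ_apply, hiso]
    have e1 : (w⁻¹) ^ (q + 1) = -1 := by rw [inv_pow, hw1, inv_neg, _root_.inv_one]
    rw [pow_succ] at e1
    linear_combination (hB hF (l + l) u v) * e1
  have hdet : LinearMap.det f = 1 := by
    have hfg : f = w • g := by rw [hgdef, smul_smul, mul_inv_cancel₀ hw0, one_smul]
    rw [hfg, LinearMap.det_smul, finrank_fin_fun, invol_det h2 hg,
      show finrank F (movS g) = l by have := (anti_dims hF h2 hg hanti).2; omega, hwdet]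
  obtain ⟨x, h1, h3, h5, hinv⟩ := exists_su hF hiso hdet hf (hns (by omega))
  refine ⟨x, ⟨h1, h3, h5⟩, fun W hWn hW => ?_⟩
  have hW' : Inv g W := fun v hv => W.smul_mem w⁻¹ ((hinv W).1 hW v hv)
  rw [(anti_parts hF h2 hg hanti hW' hWn).1]
  exact even_two_mul _

include hF in
/-- Involutions. -/
theorem all_fix_ndg_two (hodd : q % 2 = 1) {m : ℕ} (hm : 1 ≤ m) (hmn : 2 * m < n) :
    (∀ x, IsElt n F q 2 x → ∃ W : Submodule F (Fin n → F), finrank F W = m ∧
      (∀ u ∈ W, u ≠ 0 → ∃ v ∈ W, Cfsg.hermForm n F q u v ≠ 0) ∧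
      W.map (Matrix.toLin' (x : Matrix (Fin n) (Fin n) F)) ≤ W) ↔
    (Odd n ∨ Even m ∨ (padicValNat 2 n ≤ padicValNat 2 (q + 1) ∧ q % 4 = 3)) := by
  have : Fact (Nat.Prime 2) := ⟨Nat.prime_two⟩
  have h2 := two_ne hF hodd
  have h2' : ((2 : ℕ) : F) ≠ 0 := by exact_mod_cast h2
  have hn0 : 0 < n := by omega
  constructor
  · intro hL
    by_contra hcon
    simp only [not_or, not_and] at hcon
    obtain ⟨hno, hme, hv⟩ := hcon
    obtain ⟨x, hx, heven⟩ := exists_anti_su hF (n := n) hodd hn0 (Nat.not_odd_iff_even.1 hno) (by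
      rcases Nat.lt_or_ge (padicValNat 2 (q + 1)) (padicValNat 2 n) with h | h
      · exact Or.inr h
      · have := hv h
        exact Or.inl (by omega))
    obtain ⟨W, hWm, hWn, hWx⟩ := hL x hx
    exact hme (hWm ▸ heven W ((ndg_iff hF W).1 hWn) hWx)
  · intro hR x ⟨hx, ⟨z, hz⟩, hns⟩
    obtain ⟨hiso, hpow, hdet, hzq⟩ := su_toLin hF hx hz
    specialize hzq hn0
    obtain ⟨w, hw, hw1 | hw1⟩ := exists_sqrt hF hodd hzq
    · obtain ⟨g, hP, -, -, hinv⟩ := exists_pack_scalar hF hx hz hns hw hw1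
      obtain ⟨hFx, hM, hMF⟩ := fix_mov hF hP h2'
      have hsum := fix_add_mov (f := g)
      rw [finrank_fin_fun] at hsum
      set a := min m (finrank F (fixS g)) with ha
      obtain ⟨X, hXle, hXn, hXd⟩ := exists_ndg_dim hF hFx (b := a) (min_le_right _ _)
      obtain ⟨Y, hYle, hYn, hYd⟩ := exists_ndg_dim hF hM (b := m - a) (by omega)
      have hY : Inv g Y := fun v hv => by
        rw [mov_neg hP.pow_r (hYle hv)]; exact Y.neg_mem hv
      refine ⟨X ⊔ Y, ?_, (ndg_iff hF _).2 (hXn.sup hP.refl hYn fun u hu v hv =>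
        fix_orth hP (hXle hu) (hYle hv)), (hinv _).2 ((Inv.of_le_fix hXle).sup hY)⟩
      have h := Submodule.finrank_sup_add_finrank_inf_eq X Y
      rw [le_bot_iff.1 ((inf_le_inf hXle hYle).trans (inf_comm (fixS g) _ ▸ hMF.le)), finrank_bot] at h
      omega
    · have hw0 : w ≠ 0 := fun e => by
        rw [e, zero_pow (Nat.succ_ne_zero q), eq_comm, neg_eq_zero] at hw1
        exact one_ne_zero hw1
      set g := w⁻¹ • Matrix.toLin' (x : Matrix (Fin n) (Fin n) F) with hgdef
      have hg : g ^ 2 = 1 := by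
        rw [hgdef, _root_.smul_pow, hpow, smul_smul, ← hw, ← mul_pow, inv_mul_cancel₀ hw0, one_pow, one_smul]
      have hanti : ∀ u v, hB hF n (g u) (g v) = -hB hF n u v := fun u v => by
        simp only [hgdef, LinearMap.smul_apply, map_smulₛₗ, RingHom.id_apply, smul_eq_mul, frobQ_apply, hiso]
        have e1 : (w⁻¹) ^ (q + 1) = -1 := by rw [inv_pow, hw1, inv_neg, _root_.inv_one]
        rw [pow_succ] at e1
        linear_combination (hB hF n u v) * e1
      obtain ⟨hd1, hd2⟩ := anti_dims hF h2 hg hanti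
      rcases hR with hno | hme | ⟨hv, h4⟩
      · exact absurd hno (Nat.not_odd_iff_even.2 ⟨finrank F (fixS g), by omega⟩)
      · obtain ⟨a, rfl⟩ := hme
        obtain ⟨W, hW, hWn, hWd⟩ := anti_exists_ndg hF h2 hiso (by rw [hpow, hw]) hw1 (a := a) (by omega)
        exact ⟨W, by omega, (ndg_iff hF W).2 hWn, inv_iff.1 hW⟩
      · exfalso
        set l := finrank F (movS g)
        have hfg : Matrix.toLin' (x : Matrix (Fin n) (Fin n) F) = w • g := by
          rw [hgdef, smul_smul, mul_inv_cancel₀ hw0, one_smul]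
        have hwn : w ^ n = (w ^ 2) ^ l := by rw [← pow_mul]; congr 1; omega
        rw [hfg, LinearMap.det_smul, finrank_fin_fun, invol_det h2 hg, hwn, ← mul_pow, mul_neg_one] at hdet
        have hu : (-(w ^ 2)) ^ ((q + 1) / 2) = -1 := by
          rw [(Nat.even_iff.2 (show (q + 1) / 2 % 2 = 0 by omega)).neg_pow, ← pow_mul,
            Nat.mul_div_cancel' (Nat.dvd_of_mod_eq_zero (by omega)), hw1]
        refine two_clash h2 (show l ≠ 0 by omega) hdet hu ?_
        have e1 : padicValNat 2 n = padicValNat 2 l + 1 := by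
          rw [show n = 2 * l by omega, padicValNat.mul (by norm_num) (by omega), padicValNat_self]
          omega
        have e2 : padicValNat 2 (q + 1) = padicValNat 2 ((q + 1) / 2) + 1 := by
          conv_lhs => rw [show q + 1 = 2 * ((q + 1) / 2) by omega]
          rw [padicValNat.mul (by norm_num) (by omega), padicValNat_self]
          omega
        omega

end CfsgLib.UnitElusive
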