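import Cfsg.Agent.Elusive2.UnitBuild

/-!
Unitary elements whose `r`-th power is a scalar that is no `r`-th power.
-/

set_option autoImplicit false
set_option linter.unusedSectionVars false

namespace CfsgLib.UnitElusive

open Module Polynomial CfsgLib.Elusive CfsgLib.Elusive2 CfsgLib.Forms CfsgLib.Unitary

variable {F : Type*} [Field F] [Fintype F] {q : ℕ} (hF : Nat.card F = q ^ 2) {n : ℕ}

include hF in
theorem frob_odd_pow {l : ℕ} (hl : Odd l) (x : F) : x ^ q ^ l = x ^ q := by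
  obtain ⟨l, rfl⟩ := hl
  rw [pow_succ', pow_mul q, ← hF, pow_mul, Nat.card_eq_fintype_card, FiniteField.pow_card_pow]

/-- Two orthogonal cyclic spaces with the same self-dual irreducible polynomial contain an isotropic one. -/
theorem twist_gen {p : ℕ} [Fact p.Prime] [CharP F p] {f : Module.End F (Fin n → F)} {R : ℕ}
    (hP : IsPack (hB hF n) f R) {N : ℕ} (hN : R ∣ p ^ N + 1) (hσ : ∀ x : F, frobQ hF x = x ^ p ^ N)
    {P : F[X]} (hPm : P.Monic) (hPi : Irreducible P) (hQ : Fintype.card F ^ P.natDegree = p ^ N * p ^ N)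
    {u u' : Fin n → F} (hPu : aeval f P u = 0) (hPu' : aeval f P u' = 0)
    (horth : ∀ g h : F[X], hB hF n (aeval f g u) (aeval f h u') = 0)
    (hu : hB hF n u u ≠ 0) (hu' : hB hF n u' u' ≠ 0) :
    ∃ Z, Inv f Z ∧ Iso0 (hB hF n) Z ∧ Z ≤ LinearMap.range (cyc f u) ⊔ LinearMap.range (cyc f u') ∧
      finrank F Z = P.natDegree := by
  classical
  set Q := p ^ N with hQdef
  have : Fact (Irreducible P) := ⟨hPi⟩
  obtain ⟨hfin, hcard⟩ := card_adjoinRoot (F := F) (P := P) hPm
  rw [Nat.card_eq_fintype_card (α := F), hQ] at hcard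
  let pb := AdjoinRoot.powerBasis hPm.ne_zero
  have : FiniteDimensional F (AdjoinRoot P) := pb.finite
  have : CharP (AdjoinRoot P) p := charP_of_injective_algebraMap (algebraMap F _).injective p
  let M : (Fin n → F) → (AdjoinRoot P →ₗ[F] F) := fun w =>
    (hB hF n w).comp ((cyc f w).comp (AdjoinRoot.modByMonicHom hPm))
  have hM : ∀ w, aeval f P w = 0 → ∀ g, M w (AdjoinRoot.mk P g) = hB hF n w (aeval f g w) :=
    fun w hw g => by
      show hB hF n w (cyc f w (AdjoinRoot.modByMonicHom hPm (AdjoinRoot.mk P g))) = _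
      rw [AdjoinRoot.modByMonicHom_mk, aeval_mod hw g]
      rfl
  have hL : ∀ w, aeval f P w = 0 → ∀ g h, hB hF n (aeval f g w) (aeval f h w) =
      M w (AdjoinRoot.mk P g ^ Q * AdjoinRoot.mk P h) := fun w hw g h => by
    rw [selfDual_L hP hN hσ, ← map_pow, ← map_mul, hM w hw]
  have hM1 : ∀ w, aeval f P w = 0 → hB hF n w w ≠ 0 → M w ≠ 0 := fun w hw hne e => by
    have := hM w hw 1
    rw [e, LinearMap.zero_apply, map_one, Module.End.one_apply] at this
    exact hne this.symm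
  have hswapQ : ∀ w, aeval f P w = 0 → ∀ z, M w (z ^ Q) = M w z ^ q := fun w hw z => by
    obtain ⟨g, rfl⟩ := AdjoinRoot.mk_surjective z
    rw [hM w hw, ← hB_swap, ← map_pow, hM w hw]
    have := selfDual_L hP hN hσ g 1 w
    rw [mul_one, map_one, Module.End.one_apply] at this
    exact this.symm
  let Ψ : AdjoinRoot P →ₗ[F] (AdjoinRoot P →ₗ[F] F) :=
    { toFun := fun a => (M u').comp (LinearMap.mulLeft F a)
      map_add' := fun a b => LinearMap.ext fun z => by simp [add_mul]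
      map_smul' := fun c a => LinearMap.ext fun z => by simp }
  have hΨ : ∀ a z, Ψ a z = M u' (a * z) := fun a z => rfl
  have hΨinj : Function.Injective Ψ := by
    rw [← LinearMap.ker_eq_bot, Submodule.eq_bot_iff]
    intro a ha
    by_contra h0
    refine hM1 u' hPu' hu' (LinearMap.ext fun z => ?_)
    have := LinearMap.congr_fun (LinearMap.mem_ker.1 ha) (a⁻¹ * z)
    rwa [hΨ, mul_inv_cancel_left₀ h0, LinearMap.zero_apply] at this
  obtain ⟨a, ha⟩ := (LinearMap.injective_iff_surjective_of_finrank_eq_finrank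
    (Subspace.dual_finrank_eq (K := F) (V := AdjoinRoot P)).symm).1 hΨinj (M u)
  have ha0 : a ≠ 0 := fun e => hM1 u hPu hu (by rw [← ha, e, map_zero])
  have haQ : a ^ Q = a := by
    refine (hΨinj (LinearMap.ext fun y => ?_)).symm
    have hbij : Function.Bijective (iterateFrobenius (AdjoinRoot P) p N) :=
      (Finite.injective_iff_bijective).1 (iterateFrobenius_inj (AdjoinRoot P) p N)
    obtain ⟨z, rfl⟩ := hbij.2 y
    rw [iterateFrobenius_def, hΨ, hΨ, ← hQdef, ← mul_pow, hswapQ u' hPu', ← hΨ a z, ha,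
      ← hswapQ u hPu, ← ha, hΨ]
  have hneg : (-a) ^ Q = -a := by
    conv_lhs => rw [hQdef, ← iterateFrobenius_def, map_neg, iterateFrobenius_def, ← hQdef, haQ]
  obtain ⟨k, hk0, hk⟩ := exists_norm hcard (neg_ne_zero.2 ha0) hneg
  obtain ⟨K', rfl⟩ := AdjoinRoot.mk_surjective k
  let ψ : F[X] →ₗ[F] (Fin n → F) := cyc f u + (cyc f u').comp (LinearMap.mulRight F K')
  have hψ : ∀ g, ψ g = aeval f g u + aeval f (g * K') u' := fun g => rfl
  have hXinv : Inv f (LinearMap.range ψ) := by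
    rintro _ ⟨g, rfl⟩
    refine ⟨X * g, ?_⟩
    rw [hψ, hψ, map_add, mul_assoc, map_mul, map_mul (aeval f) X (g * K'), aeval_X]
    rfl
  refine ⟨LinearMap.range ψ, hXinv, ?_, ?_, ?_⟩
  · rintro _ ⟨g, rfl⟩ _ ⟨h, rfl⟩
    rw [hψ, hψ]
    simp only [map_add, LinearMap.add_apply, horth, hB_refl hF _ _ (horth _ _), add_zero, zero_add]
    rw [hL u hPu, hL u' hPu', ← ha, hΨ, ← map_add,
      show a * (AdjoinRoot.mk P g ^ Q * AdjoinRoot.mk P h) +
        AdjoinRoot.mk P (g * K') ^ Q * AdjoinRoot.mk P (h * K') = 0 by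
        rw [map_mul, map_mul, mul_pow]
        have hkk : AdjoinRoot.mk P K' ^ Q * AdjoinRoot.mk P K' + a = 0 := by
          rw [← pow_succ, hk, neg_add_cancel]
        linear_combination (AdjoinRoot.mk P g ^ Q * AdjoinRoot.mk P h) * hkk, map_zero]
  · rintro _ ⟨g, rfl⟩
    rw [hψ]
    exact Submodule.add_mem_sup ⟨g, rfl⟩ ⟨g * K', rfl⟩
  · have hker : ∀ g, ψ g = ψ (g %ₘ P) := fun g => by
      have hz : ψ (P * (g /ₘ P)) = 0 := by
        rw [hψ, mul_comm P, map_mul, Module.End.mul_apply, hPu, map_zero, zero_add, mul_right_comm,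
          map_mul, Module.End.mul_apply, hPu', map_zero]
      conv_lhs => rw [← modByMonic_add_div g P, map_add, hz, add_zero]
    let d := P.natDegree
    let ψd : Polynomial.degreeLT F d →ₗ[F] (Fin n → F) := ψ.comp (Polynomial.degreeLT F d).subtype
    have hrange : LinearMap.range ψ = LinearMap.range ψd := by
      refine le_antisymm ?_ (LinearMap.range_comp_le_range _ _)
      rintro _ ⟨g, rfl⟩
      exact ⟨⟨g %ₘ P, mem_degreeLT.2 (degree_modByMonic_lt g hPm |>.trans_le degree_le_natDegree)⟩,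
        (hker g).symm⟩
    have hinj : Function.Injective ψd := by
      rw [← LinearMap.ker_eq_bot, Submodule.eq_bot_iff]
      intro g hg
      refine Subtype.ext ?_
      by_contra h0
      replace hg : ψ g.1 = 0 := hg
      have hmk : AdjoinRoot.mk P g.1 ≠ 0 := fun e => by
        rw [AdjoinRoot.mk_eq_zero] at e
        have h1 := Polynomial.natDegree_le_of_dvd e h0
        have h2 : g.1.natDegree < d := (natDegree_lt_iff_degree_lt h0).2 (mem_degreeLT.1 g.2)
        omega
      refine hM1 u hPu hu (LinearMap.ext fun z => ?_)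
      obtain ⟨h, hh⟩ := AdjoinRoot.mk_surjective (z / AdjoinRoot.mk P g.1 ^ Q)
      have h1 := congrArg (fun w => hB hF n w (aeval f h u)) hg
      simp only [hψ, map_add, LinearMap.add_apply, map_zero, LinearMap.zero_apply,
        hB_refl hF _ _ (horth _ _), add_zero] at h1
      rw [hL u hPu, hh, mul_div_cancel₀ _ (pow_ne_zero _ hmk)] at h1
      rw [h1, LinearMap.zero_apply]
    have : FiniteDimensional F (Polynomial.degreeLT F d) :=
      LinearEquiv.finiteDimensional (Polynomial.degreeLTEquiv F d).symm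
    rw [hrange, LinearMap.finrank_range_of_inj hinj, (Polynomial.degreeLTEquiv F d).finrank_eq,
      finrank_fin_fun]

variable {r : ℕ} [hr' : Fact r.Prime]

include hF in
/-- The twisted elements have a power behaving like an element of self-dual type. -/
theorem kum_data {p : ℕ} [Fact p.Prime] [CharP F p] (hr2 : r ≠ 2) (hrq : r ∣ q + 1) :
    ∃ N, p ^ N = q ^ r ∧ r * (q + 1) ∣ q ^ r + 1 ∧ (∀ x : F, frobQ hF x = x ^ p ^ N) ∧
      Fintype.card F ^ r = p ^ N * p ^ N := by
  obtain ⟨e, hp, hcard⟩ := FiniteField.card F p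
  obtain ⟨f0, -, hf0⟩ := (Nat.dvd_prime_pow hp).1
    (show q ∣ p ^ (e : ℕ) by rw [← hcard, ← Nat.card_eq_fintype_card, hF]; exact dvd_pow_self q two_ne_zero)
  have hN : p ^ (f0 * r) = q ^ r := by rw [pow_mul, ← hf0]
  have hodd : Odd r := hr'.out.odd_of_ne_two hr2
  refine ⟨f0 * r, hN, ?_, fun x => ?_, ?_⟩
  · rw [← Int.natCast_dvd_natCast]
    push_cast
    have hgeom := geom_sum_mul (-(q : ℤ)) r
    obtain ⟨w, hw⟩ : (r : ℤ) ∣ ∑ l ∈ Finset.range r, (-(q : ℤ)) ^ l := by
      rw [← ZMod.intCast_zmod_eq_zero_iff_dvd]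
      push_cast
      have hq1 : -(q : ZMod r) = 1 := by
        rw [← ZMod.natCast_eq_zero_iff, Nat.cast_add, Nat.cast_one, add_eq_zero_iff_eq_neg] at hrq
        rw [hrq, neg_neg]
      simp [hq1]
    refine ⟨w, ?_⟩
    rw [hodd.neg_pow, hw] at hgeom
    linear_combination hgeom
  · rw [hN, frobQ_apply, frob_odd_pow hF hodd]
  · rw [hN, ← Nat.card_eq_fintype_card, hF, ← pow_mul, ← pow_add, two_mul]

variable {f : Module.End F (Fin n → F)} {z : F}

include hF in
theorem kum_pack (hr2 : r ≠ 2) (hrq : r ∣ q + 1)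
    (hiso : ∀ u v, hB hF n (f u) (f v) = hB hF n u v) (hf : f ^ r = z • 1) (hz : z ^ (q + 1) = 1) :
    IsPack (hB hF n) f (q ^ r + 1) := by
  obtain ⟨p, hp⟩ := CharP.exists F
  have : Fact p.Prime := ⟨CharP.char_is_prime F p⟩
  obtain ⟨N, -, ⟨w, hw⟩, -, -⟩ := kum_data (p := p) hF hr2 hrq
  refine ⟨hB_refl hF, hiso, ?_, Nat.succ_pos _⟩
  rw [hw, mul_assoc, pow_mul, hf, _root_.smul_pow, pow_mul, hz, one_pow, one_pow, one_smul]

/-- The cyclic block of an anisotropic vector. -/
theorem kum_block {R : ℕ} (hP : IsPack (hB hF n) f R) (hf : f ^ r = z • 1)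
    (hc : ∀ y : F, y ^ r ≠ z) {u : Fin n → F} (hu : hB hF n u u ≠ 0) :
    Inv f (LinearMap.range (cyc f u)) ∧ u ∈ LinearMap.range (cyc f u) ∧
      Ndg (hB hF n) (LinearMap.range (cyc f u)) ∧ finrank F (LinearMap.range (cyc f u)) = r ∧
      aeval f (X ^ r - C z) u = 0 := by
  have hkill : aeval f (X ^ r - C z) u = 0 := by
    rw [map_sub, map_pow, aeval_X, aeval_C, hf, Algebra.algebraMap_eq_smul_one, sub_self,
      LinearMap.zero_apply]
  set U := LinearMap.range (cyc f u)
  have hU : Inv f U := cyc_range_inv f u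
  have huU : u ∈ U := ⟨1, by simp [cyc]⟩
  have hpos : finrank F U ≠ 0 := fun e => by
    rw [Submodule.finrank_eq_zero] at e
    rw [e, Submodule.mem_bot] at huU
    exact aniso_ne hF hu huU
  have hle : finrank F U ≤ r := by
    refine (finrank_range_cyc_le (monic_X_pow_sub_C z hr'.out.ne_zero) hkill).trans_eq ?_
    exact natDegree_X_pow_sub_C
  have hd : finrank F U = r := le_antisymm hle (Nat.le_of_dvd (Nat.pos_of_ne_zero hpos) (kum_dvd hf hc hU))
  refine ⟨hU, huU, fun x hx hx0 => ?_, hd, hkill⟩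
  by_contra hall
  push Not at hall
  set T := U ⊓ perp (hB hF n) U
  have hxT : x ∈ T := ⟨hx, mem_perp.2 fun w hw => hB_refl hF _ _ (hall w hw)⟩
  have hT : Inv f T := hU.inf (perp_inv hP hU)
  have hTne : finrank F T ≠ 0 := fun e => by
    rw [Submodule.finrank_eq_zero] at e
    rw [e, Submodule.mem_bot] at hxT
    exact hx0 hxT
  have hTU : T = U := Submodule.eq_of_le_of_finrank_le inf_le_left
    (hd ▸ Nat.le_of_dvd (Nat.pos_of_ne_zero hTne) (kum_dvd hf hc hT))
  exact hu (mem_perp.1 ((hTU ▸ huU : u ∈ T).2) u huU)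

include hF in
theorem kum_exists_ndg (hr2 : r ≠ 2) (hrq : r ∣ q + 1)
    (hiso : ∀ u v, hB hF n (f u) (f v) = hB hF n u v) (hf : f ^ r = z • 1) (hz : z ^ (q + 1) = 1)
    (hc : ∀ y : F, y ^ r ≠ z) {a : ℕ} (ha : a * r ≤ n) :
    ∃ W, Inv f W ∧ Ndg (hB hF n) W ∧ finrank F W = a * r := by
  have hP := kum_pack hF hr2 hrq hiso hf hz
  obtain ⟨W, hW, hWn, -, hWd⟩ := exists_peel hP (Inv.top f) (hB_ndg_top hF) (c := r)
    (fun U hU hUn _ hne => by
      obtain ⟨u, hu, huu⟩ := exists_aniso hF hUn hne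
      obtain ⟨h1, -, h2, h3, -⟩ := kum_block hF hP hf hc huu
      exact ⟨_, h1, h2, by rintro _ ⟨g, rfl⟩; exact hU.aeval g u hu, h3⟩) a
    (by rwa [finrank_top, finrank_fin_fun])
  exact ⟨W, hW, hWn, hWd⟩

include hF in
theorem kum_exists_iso (hr2 : r ≠ 2) (hrq : r ∣ q + 1)
    (hiso : ∀ u v, hB hF n (f u) (f v) = hB hF n u v) (hf : f ^ r = z • 1) (hz : z ^ (q + 1) = 1)
    (hc : ∀ y : F, y ^ r ≠ z) {a : ℕ} (ha : 2 * (a * r) ≤ n) :
    ∃ W, Inv f W ∧ Iso0 (hB hF n) W ∧ finrank F W = a * r := by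
  obtain ⟨p, hp⟩ := CharP.exists F
  have : Fact p.Prime := ⟨CharP.char_is_prime F p⟩
  have hP := kum_pack hF hr2 hrq hiso hf hz
  obtain ⟨N, hN, hdvd, hσ, hQ⟩ := kum_data (p := p) hF hr2 hrq
  obtain ⟨X, W, -, -, -, -, hW, hWi, -, hWd⟩ := exists_iso_peel hP (c := 2 * r) (e := r) (L := 2 * r)
    (Inv.top f) (hB_ndg_top hF) (fun U hU hUn _ hd => by
      have hr0 := hr'.out.pos
      have hne : U ≠ ⊥ := fun e => by rw [e, finrank_bot] at hd; omega
      obtain ⟨u, hu, huu⟩ := exists_aniso hF hUn hne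
      obtain ⟨h1, huX, h2, h3, hk⟩ := kum_block hF hP hf hc huu
      have hle : LinearMap.range (cyc f u) ≤ U := by rintro _ ⟨g, rfl⟩; exact hU.aeval g u hu
      obtain ⟨-, -, hdim, hnd⟩ := exists_split (hB_refl hF) h2 hle
      have hT : Inv f (U ⊓ perp (hB hF n) (LinearMap.range (cyc f u))) := hU.inf (perp_inv hP h1)
      obtain ⟨u', hu', huu'⟩ := exists_aniso hF (hnd hUn) fun e => by
        rw [e, finrank_bot, h3] at hdim; omega
      obtain ⟨h1', huX', h2', h3', hk'⟩ := kum_block hF hP hf hc huu'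
      have hle' : LinearMap.range (cyc f u') ≤ U ⊓ perp (hB hF n) (LinearMap.range (cyc f u)) := by
        rintro _ ⟨g, rfl⟩; exact hT.aeval g u' hu'
      have horth : ∀ g h : F[X], hB hF n (aeval f g u) (aeval f h u') = 0 := fun g h =>
        mem_perp.1 (hle' ⟨h, rfl⟩).2 _ ⟨g, rfl⟩
      obtain ⟨Z, hZ, hZi, hZle, hZd⟩ := twist_gen hF hP (p := p) (N := N) (hN ▸ dvd_rfl) hσ
        (P := X ^ r - C z) (monic_X_pow_sub_C z hr0.ne') (X_pow_sub_C_irreducible_of_prime hr'.out hc)
        (by rw [natDegree_X_pow_sub_C]; exact hQ) hk hk' horth huu huu'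
      refine ⟨_, Z, h1.sup h1', h2.sup (hB_refl hF) h2' ?_, sup_le hle (hle'.trans inf_le_left), ?_,
        hZ, hZi, hZle, hZd.trans natDegree_X_pow_sub_C⟩
      · rintro _ ⟨g, rfl⟩ _ ⟨h, rfl⟩
        exact horth g h
      · have := Submodule.finrank_sup_add_finrank_inf_eq (LinearMap.range (cyc f u))
          (LinearMap.range (cyc f u'))
        rw [le_bot_iff.1 ((inf_le_inf_left _ (hle'.trans inf_le_right)).trans
          (inf_perp (hB_refl hF) h2).le), finrank_bot, h3, h3'] at this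
        omega) a (Or.inr (by
          rw [finrank_top, finrank_fin_fun, show a * (2 * r) = 2 * (a * r) by ring]; omega))
  exact ⟨W, hW, hWi, hWd⟩

open Fin.NatCast in
/-- A weighted cyclic permutation in each block. -/
theorem exists_mono (hz : z ^ (q + 1) = 1) {l : ℕ} (hn : n = l * r) :
    ∃ f : Module.End F (Fin n → F), (∀ u v, hB hF n (f u) (f v) = hB hF n u v) ∧ f ^ r = z • 1 ∧
      (0 < l → ∀ w : F, f ≠ w • 1) := by
  classical
  have : NeZero r := ⟨hr'.out.ne_zero⟩
  let σ : Fin n ≃ Fin l × Fin r := (Fintype.equivFinOfCardEq (by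
    rw [Fintype.card_prod, Fintype.card_fin, Fintype.card_fin, hn])).symm
  let c : Fin r → F := fun j => if j = 0 then z else 1
  have hc : ∀ j, c j ^ (q + 1) = 1 := fun j => by
    simp only [c]; split_ifs
    · exact hz
    · exact one_pow _
  let f : Module.End F (Fin n → F) :=
    { toFun := fun v x => c (σ x).2 * v (σ.symm ((σ x).1, (σ x).2 - 1))
      map_add' := fun u v => funext fun x => mul_add _ _ _
      map_smul' := fun a v => funext fun x => by
        simp only [Pi.smul_apply, smul_eq_mul, RingHom.id_apply]; ring }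
  have hf : ∀ v a j, f v (σ.symm (a, j)) = c j * v (σ.symm (a, j - 1)) := fun v a j => by
    show c (σ (σ.symm (a, j))).2 * _ = _
    rw [Equiv.apply_symm_apply]
  have hk : ∀ (k : ℕ) v a j, (f ^ k) v (σ.symm (a, j)) =
      (∏ t ∈ Finset.range k, c (j - (t : Fin r))) * v (σ.symm (a, j - (k : Fin r))) := by
    intro k
    induction k with
    | zero => intro v a j; simp
    | succ k ih =>
      intro v a j
      rw [pow_succ, Module.End.mul_apply, ih, hf, Finset.prod_range_succ, Nat.cast_succ,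
        sub_sub, mul_assoc]
  refine ⟨f, fun u v => ?_, LinearMap.ext fun v => funext fun x => ?_, fun hl w hw => ?_⟩
  · simp only [hB_apply, Cfsg.hermForm]
    rw [← σ.symm.sum_comp, Fintype.sum_prod_type]
    conv_rhs => rw [← σ.symm.sum_comp, Fintype.sum_prod_type]
    refine Finset.sum_congr rfl fun a _ => ?_
    rw [← (Equiv.subRight (1 : Fin r)).sum_comp (fun j => v (σ.symm (a, j)) * u (σ.symm (a, j)) ^ q)]
    refine Finset.sum_congr rfl fun j _ => ?_
    rw [hf, hf, mul_pow, Equiv.subRight_apply]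
    have hcj := hc j
    rw [pow_succ] at hcj
    linear_combination (v (σ.symm (a, j - 1)) * u (σ.symm (a, j - 1)) ^ q) * hcj
  · obtain ⟨⟨a, j⟩, rfl⟩ := σ.symm.surjective x
    rw [hk, Fin.natCast_self, sub_zero, LinearMap.smul_apply, Module.End.one_apply, Pi.smul_apply,
      smul_eq_mul]
    congr 1
    rw [← Fin.prod_univ_eq_prod_range (fun t => c (j - (t : Fin r)))]
    simp only [Fin.cast_val_eq_self]
    refine ((Equiv.subLeft j).prod_comp c).trans ?_
    simp [c]
  · have hr2 := hr'.out.two_le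
    let v : Fin n → F := Pi.single (σ.symm (⟨0, hl⟩, 0)) 1
    have h := congrFun (congrArg (fun T : Module.End F (Fin n → F) => T v) hw) (σ.symm (⟨0, hl⟩, 1))
    have hone : (1 : Fin r) ≠ 0 := fun e => by
      have := congrArg Fin.val e
      rw [Fin.val_one', Nat.one_mod_eq_one.2 (by omega), Fin.val_zero] at this
      exact one_ne_zero this
    simp [hf, v, c, hone, Equiv.apply_eq_iff_eq] at h

include hF in
theorem exists_nonpow (hr2 : r ≠ 2) (hrq : r ∣ q + 1) {s : ℕ}
    (hs : r ^ padicValNat r (q + 1) ∣ s) :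
    ∃ z : F, z ^ (q + 1) = 1 ∧ z ^ s = 1 ∧ ∀ y : F, y ^ r ≠ z := by
  classical
  have hq := two_le_q hF
  set e := padicValNat r (q + 1) with he
  have hd : r ^ e ∣ Nat.card Fˣ := by rw [card_units_eq hF]; exact pow_padicValNat_dvd.mul_right _
  obtain ⟨g, hg⟩ := IsCyclic.exists_generator (α := Fˣ)
  have hgo : orderOf g = Nat.card Fˣ := orderOf_eq_card_of_forall_mem_zpowers hg
  obtain ⟨w, hw⟩ := hd
  have hre : (g ^ w) ^ r ^ e = 1 := by rw [← pow_mul, mul_comm, ← hw, ← hgo, pow_orderOf_eq_one]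
  have hd' : ∀ k, r ^ e ∣ k → (g ^ w) ^ k = 1 := fun k ⟨t, ht⟩ => by rw [ht, pow_mul, hre, one_pow]
  refine ⟨((g ^ w : Fˣ) : F), ?_, ?_, ?_⟩
  · rw [← Units.val_pow_eq_pow_val, hd' _ pow_padicValNat_dvd, Units.val_one]
  · rw [← Units.val_pow_eq_pow_val, hd' _ hs, Units.val_one]
  · intro y hy
    have he1 : 1 ≤ e := one_le_padicValNat_of_dvd (by omega) hrq
    have hy0 : y ≠ 0 := fun h0 => (g ^ w).ne_zero (by rw [← hy, h0, zero_pow hr'.out.ne_zero])
    have hu : (Units.mk0 y hy0) ^ r = g ^ w := Units.ext (by simpa using hy)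
    have hne : ¬ (g ^ w) ^ r ^ (e - 1) = 1 := by
      rw [← pow_mul, ← orderOf_dvd_iff_pow_eq_one, hgo, hw, mul_comm w]
      intro hdd
      have hw0 : w ≠ 0 := fun h0 => by rw [h0, Nat.mul_zero] at hw; exact Nat.card_pos.ne' hw
      have := Nat.le_of_dvd (Nat.pow_pos hr'.out.pos)
        (Nat.dvd_of_mul_dvd_mul_right (Nat.pos_of_ne_zero hw0) hdd)
      have := Nat.pow_lt_pow_right hr'.out.one_lt (show e - 1 < e by omega)
      omega
    have hord : orderOf (Units.mk0 y hy0) = r ^ (e + 1) := by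
      refine orderOf_eq_prime_pow (fun h => hne ?_) (by rw [pow_succ', pow_mul, hu, hre])
      rw [← hu, ← pow_mul, ← pow_succ', show e - 1 + 1 = e by omega]
      exact h
    have hdvd : r ^ (e + 1) ∣ (q + 1) * (q - 1) := by
      rw [← card_units_eq hF, ← hord]; exact orderOf_dvd_natCard _
    refine pow_succ_padicValNat_not_dvd (show q + 1 ≠ 0 by omega)
      ((Nat.Coprime.pow_left _ ((Nat.Prime.coprime_iff_not_dvd hr'.out).2 fun h => ?_)).dvd_of_dvd_mul_right
        hdvd)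
    have h2 : r ∣ 2 := by
      have := Nat.dvd_sub hrq h
      rwa [show q + 1 - (q - 1) = 2 by omega] at this
    exact hr2 ((Nat.prime_dvd_prime_iff_eq hr'.out Nat.prime_two).1 h2)

include hF in
/-- A special unitary element all whose invariant subspaces have dimension divisible by `r`. -/
theorem exists_kum_su (hr2 : r ≠ 2) (hrq : r ∣ q + 1) (hn0 : 0 < n)
    (hv : padicValNat r (q + 1) < padicValNat r n) :
    ∃ x : Matrix.SpecialLinearGroup (Fin n) F, x ∈ Cfsg.SU n F q ∧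
      (∃ z : F, ((x ^ r : Matrix.SpecialLinearGroup (Fin n) F) : Matrix (Fin n) (Fin n) F) = z • (1 : Matrix (Fin n) (Fin n) F)) ∧
      (∀ z : F, (x : Matrix (Fin n) (Fin n) F) ≠ z • (1 : Matrix (Fin n) (Fin n) F)) ∧
      ∀ W : Submodule F (Fin n → F), W.map (Matrix.toLin' (x : Matrix (Fin n) (Fin n) F)) ≤ W →
        r ∣ finrank F W := by
  obtain ⟨l, rfl⟩ : r ∣ n := dvd_of_one_le_padicValNat (by omega)
  have hl : r ^ padicValNat r (q + 1) ∣ l := by
    have h1 : r ^ (padicValNat r (q + 1) + 1) ∣ r * l :=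
      (pow_dvd_pow r hv).trans pow_padicValNat_dvd
    rwa [pow_succ', Nat.mul_dvd_mul_iff_left hr'.out.pos] at h1
  obtain ⟨z, hz, hzl, hc⟩ := exists_nonpow hF hr2 hrq hl
  obtain ⟨f, hiso, hf, hns⟩ := exists_mono hF hz (n := r * l) (l := l) (Nat.mul_comm _ _)
  have hdet : LinearMap.det f = 1 := by
    rw [kum_det l _ f hf hc (by rw [finrank_fin_fun, Nat.mul_comm])]
    rw [(hr'.out.odd_of_ne_two hr2).add_one.neg_one_pow, one_mul, hzl]
  obtain ⟨x, hx, hxz, hxns, hinv⟩ := exists_su hF hiso hdet hf (hns (Nat.pos_of_mul_pos_left hn0))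
  exact ⟨x, hx, hxz, hxns, fun W hW => kum_dvd hf hc ((hinv W).1 hW)⟩

include hF in
/-- Splitting the twisted case off. -/
theorem kum_root (hr2 : r ≠ 2) (hrq : r ∣ q + 1) {z : F} (hz : z ^ (q + 1) = 1) :
    (∃ y : F, y ^ r = z ∧ y ^ (q + 1) = 1) ∨ ∀ y : F, y ^ r ≠ z := by
  by_cases h : ∃ y : F, y ^ r = z
  · obtain ⟨y, hy⟩ := h
    refine Or.inl ⟨y, hy, ?_⟩
    have hq := two_le_q hF
    have h1 : (y ^ (q + 1)) ^ r = 1 := by rw [← pow_mul, mul_comm, pow_mul, hy, hz]
    have hy0 : y ≠ 0 := fun h0 => by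
      rw [h0, zero_pow hr'.out.ne_zero] at hy
      rw [← hy, zero_pow (Nat.succ_ne_zero q)] at hz
      exact zero_ne_one hz
    have h2 : (y ^ (q + 1)) ^ (q - 1) = 1 := by
      rw [← pow_mul, ← card_units_eq hF, Nat.card_units, Nat.card_eq_fintype_card]
      exact FiniteField.pow_card_sub_one_eq_one y hy0
    have hcop : Nat.gcd r (q - 1) = 1 := (Nat.Prime.coprime_iff_not_dvd hr'.out).2 fun h => by
      have h2 : r ∣ 2 := by
        have := Nat.dvd_sub hrq h
        rwa [show q + 1 - (q - 1) = 2 by omega] at this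
      exact hr2 ((Nat.prime_dvd_prime_iff_eq hr'.out Nat.prime_two).1 h2)
    have := pow_gcd_eq_one.2 ⟨h1, h2⟩
    rwa [hcop, pow_one] at this
  · exact Or.inr fun y hy => h ⟨y, hy⟩

include hF in
/-- No twisted element of determinant one when `n` has small `r`-part. -/
theorem kum_not (hr2 : r ≠ 2) (hrq : r ∣ q + 1) (hn0 : 0 < n)
    (hv : padicValNat r n ≤ padicValNat r (q + 1)) (hf : f ^ r = z • 1) (hd : LinearMap.det f = 1)
    (hz : z ^ (q + 1) = 1) : ¬ ∀ y : F, y ^ r ≠ z := by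
  classical
  intro hc
  have hq := two_le_q hF
  obtain ⟨l, hl⟩ : r ∣ n := by simpa using kum_dvd hf hc (Inv.top f)
  rw [kum_det l _ f hf hc (by rw [finrank_fin_fun, hl, Nat.mul_comm]),
    (hr'.out.odd_of_ne_two hr2).add_one.neg_one_pow, one_mul] at hd
  have hg := pow_gcd_eq_one.2 ⟨hd, hz⟩
  obtain ⟨w, hw⟩ := Nat.gcd_dvd_right l (q + 1)
  have hrw : r ∣ w := by
    by_contra hnd
    have h1 : r ^ padicValNat r (q + 1) ∣ Nat.gcd l (q + 1) :=
      (Nat.Coprime.pow_left _ ((Nat.Prime.coprime_iff_not_dvd hr'.out).2 hnd)).dvd_of_dvd_mul_right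
        (hw ▸ pow_padicValNat_dvd)
    have h2 : r ^ (padicValNat r (q + 1) + 1) ∣ n := by
      rw [hl, pow_succ']
      exact Nat.mul_dvd_mul_left r (h1.trans (Nat.gcd_dvd_left _ _))
    rw [padicValNat_dvd_iff_le hn0.ne'] at h2
    omega
  obtain ⟨w', rfl⟩ := hrw
  have hz0 : z ≠ 0 := fun e => by rw [e, zero_pow (Nat.succ_ne_zero q)] at hz; exact zero_ne_one hz
  have hrc : r ∣ Fintype.card F - 1 := by
    rw [← Fintype.card_units, ← Nat.card_eq_fintype_card, card_units_eq hF]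
    exact hrq.mul_right _
  refine (not_pow_iff hrc (Units.mk0 z hz0)).1 hc (Units.ext ?_)
  rw [← Fintype.card_units, ← Nat.card_eq_fintype_card, card_units_eq hF, hw,
    show Nat.gcd l (q + 1) * (r * w') * (q - 1) = r * (Nat.gcd l (q + 1) * (w' * (q - 1))) by ring,
    Nat.mul_div_cancel_left _ hr'.out.pos, Units.val_pow_eq_pow_val, Units.val_mk0, pow_mul, hg,
    one_pow, Units.val_one]

end CfsgLib.UnitElusive
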