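import Cfsg.Agent.Elusive2.UnitTwist

/-!
Involutions of the projective unitary groups in odd characteristic.
-/

set_option autoImplicit false
set_option linter.unusedSectionVars false

namespace CfsgLib.UnitElusive

open Module CfsgLib.Elusive CfsgLib.Elusive2 CfsgLib.Forms CfsgLib.Unitary

variable {F : Type*} [Field F] [Fintype F] {q : ℕ} (hF : Nat.card F = q ^ 2) {n : ℕ}
  {g : Module.End F (Fin n → F)}

theorem exists_sub_dim {S : Submodule F (Fin n → F)} {m : ℕ} (h : m ≤ finrank F S) :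
    ∃ W, W ≤ S ∧ finrank F W = m := by
  have hli : LinearIndependent F (fun j : Fin m => (finBasis F S (Fin.castLE h j) : Fin n → F)) :=
    ((finBasis F S).linearIndependent.map' S.subtype S.ker_subtype).comp _ (Fin.castLE_injective h)
  refine ⟨Submodule.span F (Set.range fun j : Fin m => (finBasis F S (Fin.castLE h j) : Fin n → F)),
    Submodule.span_le.2 (by rintro _ ⟨j, rfl⟩; exact (finBasis F S _).2), ?_⟩
  rw [finrank_span_eq_card hli, Fintype.card_fin]

theorem mov_neg (hg : g ^ 2 = 1) {v : Fin n → F} (hv : v ∈ movS g) : g v = -v := by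
  obtain ⟨u, rfl⟩ := hv
  have h : g (g u) = u := by rw [← Module.End.mul_apply, ← pow_two, hg, Module.End.one_apply]
  rw [LinearMap.sub_apply, Module.End.one_apply, map_sub, h, neg_sub]

theorem fix_mov_bot (h2 : (2 : F) ≠ 0) (hg : g ^ 2 = 1) : movS g ⊓ fixS g = ⊥ :=
  (Submodule.eq_bot_iff _).2 fun v hv => by
    have h := (mem_fixS.1 hv.2).symm.trans (mov_neg hg hv.1)
    rw [eq_neg_iff_add_eq_zero, ← two_smul F, smul_eq_zero] at h
    exact h.resolve_left h2

theorem invol_det (h2 : (2 : F) ≠ 0) (hg : g ^ 2 = 1) :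
    LinearMap.det g = (-1) ^ finrank F (movS g) := by
  have hdis := fix_mov_bot h2 hg
  have hc : IsCompl (fixS g) (movS g) := by
    refine IsCompl.of_eq (by rw [inf_comm]; exact hdis) (Submodule.eq_top_of_finrank_eq ?_)
    have h := Submodule.finrank_sup_add_finrank_inf_eq (fixS g) (movS g)
    rw [inf_comm, hdis, finrank_bot, fix_add_mov] at h
    omega
  let E := Submodule.prodEquivOfIsCompl _ _ hc
  let h : Module.End F (fixS g × movS g) := LinearMap.id.prodMap ((-1 : F) • LinearMap.id)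
  have he : g = E.conj h := LinearMap.ext fun v => by
    obtain ⟨⟨a, b⟩, rfl⟩ := E.surjective v
    rw [LinearEquiv.conj_apply, LinearMap.comp_apply, LinearMap.comp_apply, LinearEquiv.coe_coe,
      LinearEquiv.coe_coe, E.symm_apply_apply]
    simp only [E, h, Submodule.coe_prodEquivOfIsCompl', LinearMap.prodMap_apply, LinearMap.id_apply,
      LinearMap.smul_apply, map_add, mem_fixS.1 a.2, mov_neg hg b.2, neg_smul, one_smul, Submodule.coe_neg]
  conv_lhs => rw [he]
  rw [show LinearMap.det (E.conj h) = LinearMap.det h from LinearMap.det_conj h E,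
    LinearMap.det_prodMap, LinearMap.det_id, one_mul, LinearMap.det_smul, LinearMap.det_id, mul_one]

/-! ### Anti-isometric involutions -/

section Anti

variable (h2 : (2 : F) ≠ 0) (hg : g ^ 2 = 1)
  (hanti : ∀ u v, hB hF n (g u) (g v) = -hB hF n u v)

include h2 hg hanti in
theorem anti_iso : Iso0 (hB hF n) (fixS g) ∧ Iso0 (hB hF n) (movS g) := by
  have key : ∀ x : F, x = -x → x = 0 := fun x h => by
    rw [eq_neg_iff_add_eq_zero, ← two_mul] at h
    exact (mul_eq_zero.1 h).resolve_left h2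
  refine ⟨fun u hu v hv => key _ ?_, fun u hu v hv => key _ ?_⟩
  · have h := hanti u v
    rwa [mem_fixS.1 hu, mem_fixS.1 hv] at h
  · have h := hanti u v
    rw [mov_neg hg hu, mov_neg hg hv] at h
    simp only [map_neg, LinearMap.neg_apply, neg_neg] at h
    exact h

include h2 hg hanti in
theorem anti_parts {W : Submodule F (Fin n → F)} (hW : Inv g W) (hWn : Ndg (hB hF n) W) :
    finrank F W = 2 * finrank F ↥(W ⊓ fixS g) ∧ finrank F W = 2 * finrank F ↥(W.map (g - 1)) := by
  obtain ⟨hF1, hM1⟩ := anti_iso hF h2 hg hanti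
  have h1 := (hF1.mono (inf_le_right (a := W))).two_mul_le (hB_refl hF) inf_le_left hWn
  have h3 := (hM1.mono (LinearMap.map_le_range (f := g - 1) (p := W))).two_mul_le (hB_refl hF)
    hW.map_sub.2 hWn
  have h4 := dim_split (f := g) W
  omega

include h2 hg hanti in
theorem anti_dims : 2 * finrank F (fixS g) = n ∧ 2 * finrank F (movS g) = n := by
  obtain ⟨h1, h3⟩ := anti_parts hF h2 hg hanti (Inv.top g) (hB_ndg_top hF)
  rw [finrank_top, finrank_fin_fun, top_inf_eq] at h1
  rw [finrank_top, finrank_fin_fun, Submodule.map_top] at h3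
  exact ⟨h1.symm, h3.symm⟩

include h2 hg hanti in
theorem anti_iso_dim {m : ℕ} (hm : 2 * m ≤ n) :
    ∃ W, Inv g W ∧ Iso0 (hB hF n) W ∧ finrank F W = m := by
  obtain ⟨hd, -⟩ := anti_dims hF h2 hg hanti
  obtain ⟨W, hW, hWd⟩ := exists_sub_dim (S := fixS g) (m := m) (by omega)
  exact ⟨W, Inv.of_le_fix hW, (anti_iso hF h2 hg hanti).1.mono hW, hWd⟩

end Anti

include hF in
/-- Eigenvector planes of a twisted involution. -/
theorem anti_exists_ndg {f : Module.End F (Fin n → F)} {w : F} (h2 : (2 : F) ≠ 0)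
    (hiso : ∀ u v, hB hF n (f u) (f v) = hB hF n u v) (hf : f ^ 2 = w ^ 2 • 1)
    (hw : w ^ (q + 1) = -1) {a : ℕ} (ha : 2 * a ≤ n) :
    ∃ W, Inv f W ∧ Ndg (hB hF n) W ∧ finrank F W = a * 2 := by
  have hw0 : w ≠ 0 := fun e => by
    rw [e, zero_pow (Nat.succ_ne_zero q), eq_comm, neg_eq_zero] at hw
    exact one_ne_zero hw
  set g := w⁻¹ • f with hgdef
  have hg : g ^ 2 = 1 := by
    rw [hgdef, _root_.smul_pow, hf, smul_smul, ← mul_pow, inv_mul_cancel₀ hw0, one_pow, one_smul]
  have hanti : ∀ u v, hB hF n (g u) (g v) = -hB hF n u v := fun u v => by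
    simp only [hgdef, LinearMap.smul_apply, map_smulₛₗ, RingHom.id_apply, smul_eq_mul, frobQ_apply, hiso]
    have e1 : (w⁻¹) ^ (q + 1) = -1 := by rw [inv_pow, hw, inv_neg, _root_.inv_one]
    rw [pow_succ] at e1
    linear_combination (hB hF n u v) * e1
  have hinv : ∀ W, Inv g W ↔ Inv f W := fun W => by
    refine ⟨fun h v hv => ?_, fun h v hv => W.smul_mem w⁻¹ (h v hv)⟩
    have := W.smul_mem w (h v hv)
    rwa [hgdef, LinearMap.smul_apply, smul_smul, mul_inv_cancel₀ hw0, one_smul] at this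
  have hP : IsPack (hB hF n) f (2 * ((q + 1) + (q + 1))) := by
    refine ⟨hB_refl hF, hiso, ?_, by omega⟩
    rw [pow_mul, hf, _root_.smul_pow, one_pow, ← pow_mul, show 2 * (q + 1 + (q + 1)) = (q + 1) * 4 by ring,
      pow_mul, hw, show ((-1 : F)) ^ 4 = 1 by norm_num, one_smul]
  obtain ⟨W, hW, hWn, -, hWd⟩ := exists_peel hP (Inv.top f) (hB_ndg_top hF) (c := 2)
    (fun U hU hUn _ hne => by
      obtain ⟨h1, -⟩ := anti_parts hF h2 hg hanti ((hinv U).2 hU) hUn
      obtain ⟨e, he, he0⟩ := (U ⊓ fixS g).exists_mem_ne_zero_of_ne_bot fun h => by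
        rw [h, finrank_bot] at h1
        exact hne (Submodule.finrank_eq_zero.1 h1)
      obtain ⟨v, hv, hev⟩ := hUn e he.1 he0
      obtain ⟨hF1, hM1⟩ := anti_iso hF h2 hg hanti
      set e' := g v - v
      have he'U : e' ∈ U := U.sub_mem ((hinv U).2 hU v hv) hv
      have he'M : e' ∈ movS g := ⟨v, rfl⟩
      have hge : g e = e := mem_fixS.1 he.2
      have hee' : hB hF n e e' ≠ 0 := by
        have h := hanti e v
        rw [hge] at h
        intro h0
        rw [map_sub, h, sub_eq_zero, eq_comm, eq_neg_iff_add_eq_zero, ← two_mul] at h0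
        exact hev ((mul_eq_zero.1 h0).resolve_left h2)
      have he'e : hB hF n e' e ≠ 0 := fun h => hee' (hB_refl hF _ _ h)
      have he'0 : e' ≠ 0 := fun h => hee' (by rw [h, map_zero])
      refine ⟨Submodule.span F {e} ⊔ Submodule.span F {e'}, (hinv _).1 ?_, ?_,
        sup_le ((Submodule.span_singleton_le_iff_mem _ _).2 he.1)
          ((Submodule.span_singleton_le_iff_mem _ _).2 he'U), ?_⟩
      · refine Inv.sup (fun x hx => ?_) (fun x hx => ?_)
        · obtain ⟨c, rfl⟩ := Submodule.mem_span_singleton.1 hx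
          rw [map_smul, hge]; exact hx
        · obtain ⟨c, rfl⟩ := Submodule.mem_span_singleton.1 hx
          rw [map_smul, mov_neg hg he'M, smul_neg]; exact Submodule.neg_mem _ hx
      · intro x hx hx0
        obtain ⟨_, ha, _, hb, rfl⟩ := Submodule.mem_sup.1 hx
        obtain ⟨c, rfl⟩ := Submodule.mem_span_singleton.1 ha
        obtain ⟨d, rfl⟩ := Submodule.mem_span_singleton.1 hb
        rcases eq_or_ne c 0 with rfl | hc
        · have hd : d ≠ 0 := fun h => hx0 (by rw [h, zero_smul, zero_smul, add_zero])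
          refine ⟨e, Submodule.mem_sup_left (Submodule.mem_span_singleton_self e), ?_⟩
          rw [zero_smul, zero_add, map_smulₛₗ, LinearMap.smul_apply]
          exact smul_ne_zero ((map_ne_zero _).2 hd) he'e
        · refine ⟨e', Submodule.mem_sup_right (Submodule.mem_span_singleton_self e'), ?_⟩
          rw [map_add, LinearMap.add_apply, map_smulₛₗ, map_smulₛₗ, LinearMap.smul_apply,
            LinearMap.smul_apply, hM1 e' he'M e' he'M, smul_zero, add_zero]
          exact smul_ne_zero ((map_ne_zero _).2 hc) hee'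
      · have h := Submodule.finrank_sup_add_finrank_inf_eq (Submodule.span F {e}) (Submodule.span F {e'})
        have hdis : Submodule.span F {e} ⊓ Submodule.span F {e'} = ⊥ := le_bot_iff.1 ((inf_le_inf
          ((Submodule.span_singleton_le_iff_mem _ _).2 he.2)
          ((Submodule.span_singleton_le_iff_mem _ _).2 he'M)).trans
          (inf_comm (fixS g) _ ▸ (fix_mov_bot h2 hg).le))
        rw [hdis, finrank_bot, finrank_span_singleton he0, finrank_span_singleton he'0] at h
        exact h) a (by rw [finrank_top, finrank_fin_fun]; omega)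
  exact ⟨W, hW, hWn, hWd⟩

include hF in
theorem two_ne (hp : q % 2 = 1) : (2 : F) ≠ 0 := by
  intro h
  have h1 : ringChar F = 2 := CharP.ringChar_of_prime_eq_zero Nat.prime_two (by rw [Nat.cast_two]; exact h)
  have h3 := FiniteField.even_card_iff_char_two.1 h1
  rw [← Nat.card_eq_fintype_card, hF, Nat.pow_mod, hp] at h3
  norm_num at h3

include hF in
/-- Elements with a given `2`-power order. -/
theorem exists_two_root {k : ℕ} (hk : 2 ^ (k + 1) ∣ (q + 1) * (q - 1)) :
    ∃ y : F, y ^ 2 ^ k = -1 := by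
  rw [← card_units_eq hF] at hk
  obtain ⟨g, hg⟩ := IsCyclic.exists_generator (α := Fˣ)
  have hgo : orderOf g = Nat.card Fˣ := orderOf_eq_card_of_forall_mem_zpowers hg
  obtain ⟨w, hw⟩ := hk
  refine ⟨((g ^ w : Fˣ) : F), ?_⟩
  have h1 : ((g ^ w : Fˣ) : F) ^ 2 ^ k * ((g ^ w : Fˣ) : F) ^ 2 ^ k = 1 := by
    rw [← pow_add, ← two_mul, ← pow_succ', ← Units.val_pow_eq_pow_val, ← pow_mul, mul_comm, ← hw, ← hgo,
      pow_orderOf_eq_one, Units.val_one]
  refine (mul_self_eq_one_iff.1 h1).resolve_left fun h => ?_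
  rw [← Units.val_pow_eq_pow_val, Units.val_eq_one, ← pow_mul, ← orderOf_dvd_iff_pow_eq_one, hgo, hw,
    mul_comm w] at h
  have hw0 : w ≠ 0 := fun h0 => by rw [h0, Nat.mul_zero] at hw; exact Nat.card_pos.ne' hw
  have := Nat.le_of_dvd (Nat.two_pow_pos k) (Nat.dvd_of_mul_dvd_mul_right (Nat.pos_of_ne_zero hw0) h)
  rw [pow_succ] at this
  have := Nat.two_pow_pos k
  omega

/-- Clash of two power conditions. -/
theorem two_clash (h2 : (2 : F) ≠ 0) {u : F} {A B : ℕ} (hA : A ≠ 0) (hu : u ^ A = 1) (hB : u ^ B = -1)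
    (hv : padicValNat 2 A ≤ padicValNat 2 B) : False := by
  have : Fact (Nat.Prime 2) := ⟨Nat.prime_two⟩
  obtain ⟨o, ho⟩ : 2 ^ padicValNat 2 A ∣ A := pow_padicValNat_dvd
  obtain ⟨t, ht⟩ : 2 ^ padicValNat 2 A ∣ B := (pow_dvd_pow 2 hv).trans pow_padicValNat_dvd
  generalize hka : padicValNat 2 A = a at ho ht
  have hodd : Odd o := by
    rw [← Nat.not_even_iff_odd]
    rintro ⟨o', rfl⟩
    refine pow_succ_padicValNat_not_dvd (p := 2) hA ?_
    rw [hka, ho]
    exact ⟨o', by ring⟩
  have h : (-1 : F) ^ o = 1 := by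
    rw [← hB, ← pow_mul, show B * o = A * t by rw [ht, ho]; ring, pow_mul, hu, one_pow]
  rw [hodd.neg_one_pow, neg_eq_iff_add_eq_zero, one_add_one_eq_two] at h
  exact h2 h

include hF in
/-- A scalar with square roots. -/
theorem exists_sqrt (hodd : q % 2 = 1) {z : F} (hz : z ^ (q + 1) = 1) :
    ∃ w : F, w ^ 2 = z ∧ (w ^ (q + 1) = 1 ∨ w ^ (q + 1) = -1) := by
  have hz0 : z ≠ 0 := fun e => by rw [e, zero_pow (Nat.succ_ne_zero q)] at hz; exact zero_ne_one hz
  have hchar : ringChar F ≠ 2 := fun h => two_ne hF hodd (by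
    have := ringChar.Nat.cast_ringChar (R := F)
    rw [h] at this
    exact_mod_cast this)
  have hcard : Fintype.card F / 2 = (q + 1) * ((q - 1) / 2) := by
    rw [← Nat.card_eq_fintype_card, hF]
    obtain ⟨j, rfl⟩ : ∃ j, q = 2 * j + 1 := ⟨q / 2, by omega⟩
    rw [show (2 * j + 1) ^ 2 = 2 * ((2 * j + 1 + 1) * j) + 1 by ring,
      show (2 * j + 1 - 1) / 2 = j by omega]
    omega
  obtain ⟨w, hw⟩ := (FiniteField.isSquare_iff hchar hz0).2 (by rw [hcard, pow_mul, hz, one_pow])
  refine ⟨w, by rw [hw, sq], mul_self_eq_one_iff.1 ?_⟩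
  rw [← mul_pow, ← hw, hz]

variable {r : ℕ} [hr' : Fact r.Prime]

include hF in
/-- A reflection. -/
theorem exists_reflection (h2 : (2 : F) ≠ 0) {e : ℕ} (hn : n = 1 + e) :
    ∃ g : Module.End F (Fin n → F), IsPack (hB hF n) g 2 ∧ finrank F (fixS g) = e ∧
      LinearMap.det g = -1 ∧ finrank F (movS g) = 1 := by
  have : Fact (Nat.Prime 2) := ⟨Nat.prime_two⟩
  obtain ⟨g, E, hP, -, -, he, hd⟩ := exists_sum hF (r := 2)
    (fun _ : Fin 1 => ((-1 : F) • 1 : Module.End F (Fin 1 → F)))
    (fun _ u v => by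
      simp only [LinearMap.smul_apply, Module.End.one_apply, neg_smul, one_smul, map_neg,
        LinearMap.neg_apply, neg_neg])
    (fun _ => by rw [_root_.smul_pow, neg_one_sq, one_pow, one_smul])
    (fun _ => (Submodule.eq_bot_iff _).2 fun v hv => by
      rw [mem_fixS, LinearMap.smul_apply, Module.End.one_apply, neg_smul, one_smul,
        neg_eq_iff_add_eq_zero, ← two_smul F, smul_eq_zero] at hv
      exact hv.resolve_left h2) (e := e) (n := n) (by omega)
  refine ⟨g, hP, he, ?_, ?_⟩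
  · rw [hd, Fin.prod_univ_one, LinearMap.det_smul, map_one, finrank_fin_fun, pow_one, mul_one]
  · have := fix_add_mov (f := g)
    rw [he, finrank_fin_fun] at this
    omega

end CfsgLib.UnitElusive
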