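import Cfsg.Agent.Elusive2.UnitIsoMain
import Cfsg.Agent.Elusive.Jordan
import Mathlib.Algebra.Ring.GeomSum
import Mathlib.Algebra.CharP.Lemmas
import Mathlib.LinearAlgebra.Matrix.ToLin

/-!
Unipotent elements of the unitary group and their invariant non-degenerate subspaces.
-/

set_option autoImplicit false
set_option linter.unusedSectionVars false

namespace CfsgLib.UnitElusive

open Module CfsgLib.Elusive CfsgLib.Elusive2 CfsgLib.Forms CfsgLib.Unitary

variable {F : Type*} [Field F] [Fintype F] {q : ℕ} (hF : Nat.card F = q ^ 2) {n : ℕ}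

theorem inv_sub_iff {f : Module.End F (Fin n → F)} {W : Submodule F (Fin n → F)} :
    Inv (f - 1) W ↔ Inv f W := by
  refine ⟨fun h v hv => ?_, fun h v hv => ?_⟩
  · have := W.add_mem (h v hv) hv
    rwa [LinearMap.sub_apply, Module.End.one_apply, sub_add_cancel] at this
  · rw [LinearMap.sub_apply, Module.End.one_apply]
    exact W.sub_mem (h v hv) hv

/-- A non-degenerate chain at the top. -/
theorem exists_top_chain {f : Module.End F (Fin n → F)} {r : ℕ} (hP : IsPack (hB hF n) f r)
    {T : Submodule F (Fin n → F)} (hT : Inv f T) (hTn : Ndg (hB hF n) T) {k : ℕ} (hk : ∀ t ∈ T, ((f - 1) ^ (k + 1)) t = 0)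
    {v : Fin n → F} (hv : v ∈ T) (hvk : ((f - 1) ^ k) v ≠ 0) :
    ∃ X, Inv f X ∧ Ndg (hB hF n) X ∧ X ≤ T ∧ finrank F X = k + 1 := by
  classical
  set N := f - 1
  have hN : Inv N T := inv_sub_iff.2 hT
  obtain ⟨u, hu, huk⟩ : ∃ u ∈ T, hB hF n u ((N ^ k) u) ≠ 0 := by
    obtain ⟨a, ha, hab⟩ := hTn _ (hN.pow k v hv) hvk
    set β := hB hF n a ((N ^ k) v) with hβ
    have hβ0 : β ≠ 0 := fun e => hab (hB_refl hF _ _ e)
    by_contra hall
    push Not at hall
    have key : ∀ l : F, l * β + frobQ hF l * hB hF n v ((N ^ k) a) = 0 := fun l => by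
      have h := hall _ (T.add_mem ha (T.smul_mem l hv))
      simp only [map_add, LinearMap.add_apply, map_smul, map_smulₛₗ, LinearMap.smul_apply, hall a ha,
        hall v hv, smul_eq_mul, mul_zero, add_zero, zero_add, ← hβ] at h
      linear_combination h
    have h1 := key 1
    rw [map_one, one_mul, one_mul] at h1
    refine frobQ_ne_id hF (RingHom.ext fun l => ?_)
    have h3 : (l - frobQ hF l) * β = 0 := by linear_combination key l - frobQ hF l * h1
    exact (sub_eq_zero.1 ((mul_eq_zero.1 h3).resolve_right hβ0)).symm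
  let w : Fin (k + 1) → (Fin n → F) := fun j => (N ^ (j : ℕ)) u
  have hNu : (N ^ k) u ≠ 0 := fun e => huk (by rw [e, map_zero])
  have hlow : ∀ c : Fin (k + 1) → F, c ≠ 0 →
      ∃ (s : ℕ) (a : F), a ≠ 0 ∧ (N ^ s) (∑ j, c j • w j) = a • (N ^ k) u := by
    intro c hc
    have hex : ∃ a : ℕ, ∃ h : a < k + 1, c ⟨a, h⟩ ≠ 0 := by
      obtain ⟨a, h⟩ := Function.ne_iff.1 hc
      exact ⟨a, a.2, h⟩
    obtain ⟨ha, hca⟩ := Nat.find_spec hex
    refine ⟨k - Nat.find hex, c ⟨Nat.find hex, ha⟩, hca, ?_⟩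
    rw [map_sum, Finset.sum_eq_single ⟨Nat.find hex, ha⟩]
    · simp only [w]
      rw [map_smul, ← Module.End.mul_apply, ← pow_add, Nat.sub_add_cancel (by omega)]
    · intro b _ hb
      simp only [w]
      rw [map_smul, ← Module.End.mul_apply, ← pow_add]
      rcases Nat.lt_or_ge (b : ℕ) (Nat.find hex) with hlt | hge
      · have := Nat.find_min hex hlt
        push Not at this
        rw [show c b = 0 from this b.2, zero_smul]
      · have hgt : Nat.find hex < (b : ℕ) := lt_of_le_of_ne hge fun e => hb (Fin.ext e.symm)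
        obtain ⟨t, ht⟩ : ∃ t, k - Nat.find hex + (b : ℕ) = t + (k + 1) :=
          ⟨k - Nat.find hex + b - (k + 1), by omega⟩
        rw [ht, pow_add, Module.End.mul_apply, hk u hu, map_zero, smul_zero]
    · simp
  have hli : LinearIndependent F w := Fintype.linearIndependent_iff.2 fun c hc i => by
    by_contra hi
    obtain ⟨s, a, ha, hs⟩ := hlow c fun e => hi (by rw [e]; rfl)
    rw [hc, map_zero, eq_comm, smul_eq_zero] at hs
    exact hNu (hs.resolve_left ha)
  set X := Submodule.span F (Set.range w)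
  have hXN : Inv N X := by
    refine inv_iff.2 ?_
    rw [Submodule.map_span, Submodule.span_le]
    rintro _ ⟨_, ⟨j, rfl⟩, rfl⟩
    simp only [w, ← Module.End.mul_apply, ← pow_succ']
    rcases Nat.lt_or_ge ((j : ℕ) + 1) (k + 1) with h | h
    · exact Submodule.subset_span ⟨⟨_, h⟩, rfl⟩
    · rw [show (j : ℕ) + 1 = k + 1 by have := j.2; omega, hk u hu]
      exact X.zero_mem
  have hX : Inv f X := inv_sub_iff.1 hXN
  refine ⟨X, hX, fun x hx hx0 => ?_, Submodule.span_le.2 (by rintro _ ⟨j, rfl⟩; exact hN.pow _ u hu), ?_⟩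
  · -- the radical is invariant, hence would contain the socle
    by_contra hall
    push Not at hall
    obtain ⟨c, rfl⟩ := (Submodule.mem_span_range_iff_exists_fun F).1 hx
    obtain ⟨s, a, ha, hs⟩ := hlow c fun e => hx0 (by simp [e])
    let Rd := X ⊓ perp (hB hF n) X
    have hxR : (∑ j, c j • w j) ∈ Rd := ⟨hx, mem_perp.2 fun y hy => hB_refl hF _ _ (hall y hy)⟩
    have hRd : Inv N Rd := inv_sub_iff.2 (hX.inf (perp_inv hP hX))
    have h1 := mem_perp.1 ((hRd.pow s _ hxR).2) u (Submodule.subset_span ⟨0, by simp [w]⟩)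
    rw [hs, map_smul, smul_eq_mul, mul_eq_zero] at h1
    exact huk (h1.resolve_left ha)
  · rw [finrank_span_eq_card hli, Fintype.card_fin]

/-- The partition of a unipotent isometry, with an invariant piece for each sub-partition. -/
theorem exists_unit_partition {f : Module.End F (Fin n → F)} {r : ℕ} (hP : IsPack (hB hF n) f r) {p : ℕ} :
    ∀ (d : ℕ) (T : Submodule F (Fin n → F)), finrank F T = d → Inv f T → Ndg (hB hF n) T →
      (∀ t ∈ T, ((f - 1) ^ p) t = 0) →
      ∃ μ : Multiset ℕ, (∀ a ∈ μ, 0 < a ∧ a ≤ p) ∧ μ.sum = d ∧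
        ∀ ν ≤ μ, ∃ X, Inv f X ∧ Ndg (hB hF n) X ∧ X ≤ T ∧ finrank F X = ν.sum := by
  classical
  intro d
  induction d using Nat.strong_induction_on with
  | _ d ih =>
  intro T hd hT hTn hp
  rcases Nat.eq_zero_or_pos d with rfl | hd0
  · refine ⟨0, by simp, by simp, fun ν hν => ?_⟩
    rw [Multiset.le_zero.1 hν]
    exact ⟨⊥, Inv.bot f, Ndg.bot, bot_le, by simp⟩
  have hne : ∃ k : ℕ, ∀ t ∈ T, ((f - 1) ^ k) t = 0 := ⟨p, hp⟩
  obtain ⟨v₀, hv₀, hv₀0⟩ := T.exists_mem_ne_zero_of_ne_bot fun h => by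
    rw [h, finrank_bot] at hd; omega
  obtain ⟨k, hk⟩ : ∃ k, Nat.find hne = k + 1 := by
    refine Nat.exists_eq_succ_of_ne_zero fun h => hv₀0 ?_
    simpa [h] using Nat.find_spec hne v₀ hv₀
  have hkp : k + 1 ≤ p := hk ▸ Nat.find_min' hne hp
  obtain ⟨v, hv, hvk⟩ : ∃ v ∈ T, ((f - 1) ^ k) v ≠ 0 := by
    by_contra hcon
    push Not at hcon
    exact Nat.find_min hne (show k < Nat.find hne by omega) hcon
  obtain ⟨X, hX, hXn, hXT, hXd⟩ := exists_top_chain hF hP hT hTn (hk ▸ Nat.find_spec hne) hv hvk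
  obtain ⟨-, hinf, hdim, hnd⟩ := exists_split hP.refl hXn hXT
  obtain ⟨μ, hμ, hμs, hμν⟩ := ih (finrank F ↥(T ⊓ perp (hB hF n) X)) (by omega) _ rfl
    (hT.inf (perp_inv hP hX)) (hnd hTn) fun t ht => hp t ht.1
  refine ⟨(k + 1) ::ₘ μ, fun a ha => ?_, by rw [Multiset.sum_cons, hμs]; omega, fun ν hν => ?_⟩
  · rcases Multiset.mem_cons.1 ha with rfl | h
    · omega
    · exact hμ a h
  · by_cases hm : k + 1 ∈ ν
    · obtain ⟨ν', rfl⟩ := Multiset.exists_cons_of_mem hm
      obtain ⟨Y, hY, hYn, hYT, hYd⟩ := hμν ν' ((Multiset.cons_le_cons_iff _).1 hν)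
      refine ⟨X ⊔ Y, hX.sup hY, hXn.sup hP.refl hYn fun x hx y hy => mem_perp.1 (hYT hy).2 x hx,
        sup_le hXT (hYT.trans inf_le_left), ?_⟩
      have h := Submodule.finrank_sup_add_finrank_inf_eq X Y
      rw [le_bot_iff.1 ((inf_le_inf_left X hYT).trans hinf.le), finrank_bot, hXd, hYd] at h
      rw [Multiset.sum_cons]
      omega
    · obtain ⟨Y, hY, hYn, hYT, hYd⟩ := hμν ν ((Multiset.le_cons_of_notMem hm).1 hν)
      exact ⟨Y, hY, hYn, hYT.trans inf_le_left, hYd⟩

section Shift

variable {ι : Type*} [Fintype ι] (L : ι → ℕ)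

/-- The shift in each block. -/
def shiftN : Module.End F ((Σ a, Fin (L a)) → F) where
  toFun x i := if h : (i.2 : ℕ) + 1 < L i.1 then x ⟨i.1, ⟨(i.2 : ℕ) + 1, h⟩⟩ else 0
  map_add' x y := funext fun i => by simp only [Pi.add_apply]; split <;> simp
  map_smul' c x := funext fun i => by simp only [Pi.smul_apply, RingHom.id_apply]; split <;> simp

theorem shiftN_pow (k : ℕ) : ∀ (x : (Σ a, Fin (L a)) → F) (i : Σ a, Fin (L a)), (shiftN L ^ k) x i =
    if h : (i.2 : ℕ) + k < L i.1 then x ⟨i.1, ⟨(i.2 : ℕ) + k, h⟩⟩ else 0 := by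
  induction k with
  | zero =>
    intro x i
    simp only [pow_zero, Module.End.one_apply, Nat.add_zero, i.2.isLt, dite_true, Fin.eta, Sigma.eta]
  | succ k ih =>
    intro x i
    rw [pow_succ, Module.End.mul_apply, ih]
    by_cases h : (i.2 : ℕ) + k < L i.1
    · rw [dif_pos h]
      show (if h' : (i.2 : ℕ) + k + 1 < L i.1 then _ else 0) = _
      rfl
    · rw [dif_neg h, dif_neg (by omega)]

theorem shiftN_kerDim (k : ℕ) :
    kerDim (shiftN (F := F) L) ⊤ k = ∑ a, min k (L a) := by
  classical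
  let S : Set (Σ a, Fin (L a)) := {i | (i.2 : ℕ) < k}
  have hker : (⊤ : Submodule F ((Σ a, Fin (L a)) → F)) ⊓ LinearMap.ker (shiftN L ^ k) =
      LinearMap.range (Function.ExtendByZero.linearMap F (Subtype.val : S → Σ a, Fin (L a))) := by
    rw [top_inf_eq]
    ext x
    rw [LinearMap.mem_ker, LinearMap.mem_range]
    constructor
    · intro hx
      refine ⟨fun s => x s.1, funext fun i => ?_⟩
      rw [Function.ExtendByZero.linearMap_apply]
      by_cases hi : i ∈ S
      · exact Subtype.val_injective.extend_apply (fun s : S => x s.1) (0 : (Σ a, Fin (L a)) → F) ⟨i, hi⟩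
      · rw [Function.extend_apply' _ _ _ (by rintro ⟨s, rfl⟩; exact hi s.2), Pi.zero_apply]
        have hk : k ≤ (i.2 : ℕ) := Nat.le_of_not_lt hi
        have h := congrFun hx ⟨i.1, ⟨(i.2 : ℕ) - k, lt_of_le_of_lt (Nat.sub_le _ _) i.2.2⟩⟩
        rw [shiftN_pow, dif_pos (by simp only [Nat.sub_add_cancel hk]; exact i.2.2)] at h
        simp only [Nat.sub_add_cancel hk, Fin.eta, Sigma.eta, Pi.zero_apply] at h
        exact h.symm
    · rintro ⟨y, rfl⟩
      funext i
      rw [shiftN_pow, Pi.zero_apply]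
      split
      · rw [Function.ExtendByZero.linearMap_apply, Function.extend_apply' _ _ _ (by
          rintro ⟨s, hs⟩
          have h2 : (s.1.2 : ℕ) < k := s.2
          rw [hs] at h2
          simp only at h2
          omega), Pi.zero_apply]
      · rfl
  rw [kerDim, hker, LinearMap.finrank_range_of_inj (fun x y e => funext fun s => by
    have := congrFun e s.1
    simpa [Function.ExtendByZero.linearMap_apply, Subtype.val_injective.extend_apply] using this),
    finrank_fintype_fun_eq_card]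
  refine (Fintype.card_congr (?_ : S ≃ Σ a, Fin (min k (L a)))).trans (by simp)
  exact
    { toFun := fun s => ⟨s.1.1, ⟨(s.1.2 : ℕ), lt_min s.2 s.1.2.2⟩⟩
      invFun := fun t => ⟨⟨t.1, ⟨(t.2 : ℕ), lt_of_lt_of_le t.2.2 (min_le_right _ _)⟩⟩,
        lt_of_lt_of_le t.2.2 (min_le_left _ _)⟩
      left_inv := fun s => rfl
      right_inv := fun t => rfl }

end Shift

include hF in
theorem exists_trace_zero : ∃ c : F, c ≠ 0 ∧ c ^ q = -c := by
  obtain ⟨b, hb⟩ : ∃ b, frobQ hF b ≠ b := by
    by_contra hc; push Not at hc; exact frobQ_ne_id hF (RingHom.ext hc)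
  refine ⟨b - frobQ hF b, sub_ne_zero.2 (Ne.symm hb), ?_⟩
  rw [← frobQ_apply hF, map_sub, frobQ_invol, neg_sub]

include hF in
/-- Unipotent isometries of every admissible partition. -/
theorem exists_unip {p : ℕ} [hp : Fact p.Prime] [CharP F p] {μ : Multiset ℕ} (hμ : ∀ a ∈ μ, a ≤ p)
    (hs : μ.sum = n) :
    ∃ g : Module.End F (Fin n → F), IsPack (hB hF n) g p ∧ (g - 1) ^ p = 0 ∧
      ∀ j, kerDim (g - 1) ⊤ j = profile μ j := by
  classical
  have hq := two_le_q hF
  obtain ⟨l, rfl⟩ : ∃ l : List ℕ, (l : Multiset ℕ) = μ := ⟨μ.toList, μ.coe_toList⟩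
  let L : Fin l.length → ℕ := l.get
  have hLp : ∀ a, L a ≤ p := fun a => hμ _ (Multiset.mem_coe.2 (List.get_mem l a))
  have hcard : Fintype.card (Σ a, Fin (L a)) = n := by
    rw [Fintype.card_sigma]
    simp only [Fintype.card_fin, L]
    rw [← hs, Multiset.sum_coe, ← Fin.sum_ofFn, List.ofFn_get]
  obtain ⟨c, hc0, hc⟩ := exists_trace_zero hF
  let e0 : ℕ → F := fun m => if Odd m then 1 else c
  let ε : (Σ a, Fin (L a)) → F := fun i => (-1) ^ (i.2 : ℕ) * e0 (L i.1)
  let rv : Equiv.Perm (Σ a, Fin (L a)) := Equiv.sigmaCongrRight fun a => Fin.revPerm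
  have hε0 : ∀ i, ε i ≠ 0 := fun i => mul_ne_zero (pow_ne_zero _ (neg_ne_zero.2 one_ne_zero)) (by
    simp only [e0]; split_ifs
    · exact one_ne_zero
    · exact hc0)
  have hεq : ∀ i, ε (rv i) ^ q = ε i := by
    rintro ⟨a, j⟩
    show ((-1) ^ ((Fin.rev j : Fin (L a)) : ℕ) * e0 (L a)) ^ q = (-1) ^ (j : ℕ) * e0 (L a)
    rw [← frobQ_apply hF, map_mul, map_pow, map_neg, map_one, Fin.val_rev]
    have hj := j.2
    simp only [e0]
    split_ifs with ho
    · rw [map_one, mul_one, mul_one]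
      obtain ⟨w, hw⟩ := ho
      rcases Nat.even_or_odd (j : ℕ) with he | he
      · rw [he.neg_one_pow, Even.neg_one_pow (Nat.even_iff.2 (by
          have := Nat.even_iff.1 he; omega))]
      · rw [he.neg_one_pow, Odd.neg_one_pow (Nat.odd_iff.2 (by
          have := Nat.odd_iff.1 he; omega))]
    · rw [frobQ_apply, hc]
      obtain ⟨w, hw⟩ := Nat.not_odd_iff_even.1 ho
      rcases Nat.even_or_odd (j : ℕ) with he | he
      · rw [he.neg_one_pow, Odd.neg_one_pow (Nat.odd_iff.2 (by
          have := Nat.even_iff.1 he; omega)), neg_one_mul, neg_neg, one_mul]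
      · rw [he.neg_one_pow, Even.neg_one_pow (Nat.even_iff.2 (by
          have := Nat.odd_iff.1 he; omega)), one_mul, neg_one_mul]
  let G : ((Σ a, Fin (L a)) → F) → ((Σ a, Fin (L a)) → F) → F :=
    fun u v => ∑ i, ε i * u i * v (rv i) ^ q
  have hadd : ∀ u u' v, G (u + u') v = G u v + G u' v := fun u u' v => by
    simp only [G, ← Finset.sum_add_distrib, Pi.add_apply]
    exact Finset.sum_congr rfl fun i _ => by ring
  have hsmul : ∀ (a : F) u v, G (a • u) v = a * G u v := fun a u v => by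
    simp only [G, Finset.mul_sum, Pi.smul_apply, smul_eq_mul]
    exact Finset.sum_congr rfl fun i _ => by ring
  have hrv : ∀ i, rv (rv i) = i := by rintro ⟨a, j⟩; simp [rv]
  have hherm : ∀ u v, G u v = G v u ^ q := fun u v => by
    simp only [G]
    rw [← frobQ_apply hF, map_sum, ← Equiv.sum_comp rv fun i => frobQ hF (ε i * v i * u (rv i) ^ q)]
    refine Finset.sum_congr rfl fun i _ => ?_
    rw [map_mul, map_mul, map_pow, frobQ_apply, frobQ_apply, frobQ_apply, hεq, hrv, ← pow_mul, ← sq,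
      ← hF, Nat.card_eq_fintype_card, FiniteField.pow_card]
    ring
  have haddr : ∀ u v v', G u (v + v') = G u v + G u v' := fun u v v' => by
    rw [hherm, hadd, ← frobQ_apply hF, map_add, frobQ_apply, frobQ_apply, ← hherm, ← hherm]
  -- transfer to the standard form
  let E : (Fin n → F) ≃ₗ[F] ((Σ a, Fin (L a)) → F) :=
    LinearEquiv.funCongrLeft F F (Fintype.equivFinOfCardEq hcard)
  have hU : Cfsg.Geo.IsUnitaryFormPow q (fun u v => G (E u) (E v)) := by
    refine ⟨fun x y v => by simp only [map_add, hadd], fun a x v => by simp only [map_smul, hsmul],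
      fun v w => hherm _ _, fun v hv => ?_⟩
    have hex : ∃ x, G (E v) (E x) ≠ 0 := by
      obtain ⟨i, hi⟩ := Function.ne_iff.1 fun h : E v = 0 => hv (E.map_eq_zero_iff.1 h)
      refine ⟨E.symm (Pi.single (rv i) 1), ?_⟩
      rw [E.apply_symm_apply]
      simp only [G]
      rw [Finset.sum_eq_single i (fun k _ hk => by
        rw [Pi.single_eq_of_ne (fun e => hk (rv.injective e)), zero_pow (by omega), mul_zero])
        fun h => absurd (Finset.mem_univ i) h, Pi.single_eq_same, one_pow, mul_one]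
      exact mul_ne_zero (hε0 i) hi
    obtain ⟨x, hx⟩ := hex
    exact ⟨⟨x, fun h => hx (by rw [hherm, h, zero_pow (by omega)])⟩, ⟨x, hx⟩⟩
  obtain ⟨P, hPf⟩ := CfsgLib.Elusive.UnitSimil.exists_std hF hU
  let PE : (Fin n → F) ≃ₗ[F] (Fin n → F) := LinearEquiv.ofLinear
    (Matrix.toLin' (P : Matrix (Fin n) (Fin n) F)) (Matrix.toLin' ((P⁻¹ : GL (Fin n) F) : Matrix (Fin n) (Fin n) F))
    (by rw [← Matrix.toLin'_mul, Units.mul_inv, Matrix.toLin'_one])
    (by rw [← Matrix.toLin'_mul, Units.inv_mul, Matrix.toLin'_one])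
  let Φ := PE.trans E
  have hΦ : ∀ u v, G (Φ u) (Φ v) = Cfsg.hermForm n F q u v := fun u v => hPf u v
  -- the unipotent map on the blocks
  set M : Module.End F ((Σ a, Fin (L a)) → F) := shiftN L
  have hMp : M ^ p = 0 := LinearMap.ext fun x => funext fun i => by
    rw [shiftN_pow, dif_neg (by have := hLp i.1; omega), LinearMap.zero_apply, Pi.zero_apply]
  have hskew : ∀ u v, G (M u) v + G u (M v) = 0 := fun u v => by
    simp only [G]
    rw [← Finset.sum_add_distrib, Fintype.sum_sigma]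
    refine Finset.sum_eq_zero fun a _ => ?_
    rw [Finset.sum_add_distrib]
    rcases Nat.eq_zero_or_pos (L a) with hLa | hLa
    · have : IsEmpty (Fin (L a)) := by rw [hLa]; exact Fin.isEmpty
      simp
    obtain ⟨L', hLa⟩ : ∃ L', L a = L' + 1 := ⟨L a - 1, by omega⟩
    have hr' : ∀ x : Fin (L a), rv ⟨a, x⟩ = ⟨a, Fin.rev x⟩ := fun _ => rfl
    let cast' : Fin (L' + 1) ≃ Fin (L a) := finCongr hLa.symm
    rw [← cast'.sum_comp, ← cast'.sum_comp, Fin.sum_univ_castSucc, Fin.sum_univ_succ]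
    have hMapp : ∀ (x : (Σ a, Fin (L a)) → F) (i : Σ a, Fin (L a)), M x i =
        if h : (i.2 : ℕ) + 1 < L i.1 then x ⟨i.1, ⟨(i.2 : ℕ) + 1, h⟩⟩ else 0 := fun x i => rfl
    have hlast : M u ⟨a, cast' (Fin.last L')⟩ = 0 := by
      rw [hMapp, dif_neg (by simp [cast', hLa])]
    have hzero : M v (rv ⟨a, cast' 0⟩) = 0 := by
      rw [hr', hMapp, dif_neg (by simp [cast', Fin.val_rev, hLa])]
    rw [hlast, hzero, mul_zero, zero_mul, add_zero, zero_pow (by omega), mul_zero, zero_add,
      ← Finset.sum_add_distrib]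
    refine Finset.sum_eq_zero fun j _ => ?_
    have hj := j.2
    have h1 : M u ⟨a, cast' j.castSucc⟩ = u ⟨a, cast' j.succ⟩ := by
      rw [hMapp, dif_pos (by simp [cast', hLa])]
      rfl
    have h2 : M v (rv ⟨a, cast' j.succ⟩) = v (rv ⟨a, cast' j.castSucc⟩) := by
      rw [hr', hr', hMapp, dif_pos (by simp [cast', Fin.val_rev, hLa]; omega)]
      refine congrArg v (congrArg (Sigma.mk a) (Fin.ext ?_))
      simp [cast', Fin.val_rev, hLa]
      omega
    rw [h1, h2]
    simp only [ε, cast', finCongr_apply, Fin.val_cast, Fin.val_castSucc, Fin.val_succ, pow_succ]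
    ring
  obtain ⟨g0, hg0i, hker⟩ : ∃ g0 : Module.End F ((Σ a, Fin (L a)) → F),
      (∀ u v, G (g0 u) (g0 v) = G u v) ∧
      ∀ j, LinearMap.ker ((g0 - 1) ^ j) = LinearMap.ker (M ^ j) := by
    by_cases h2 : (2 : F) = 0
    · have hp2 : p = 2 := ((Nat.prime_dvd_prime_iff_eq hp.out Nat.prime_two).1
        ((CharP.cast_eq_zero_iff F p 2).1 (by exact_mod_cast h2)))
      refine ⟨1 + M, fun u v => ?_, fun j => by rw [add_sub_cancel_left]⟩
      have hMM : ∀ w, M (M w) = 0 := fun w => by
        rw [← Module.End.mul_apply, ← pow_two, ← hp2, hMp, LinearMap.zero_apply]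
      simp only [LinearMap.add_apply, Module.End.one_apply, hadd, haddr]
      have h3 := hskew u (M v)
      have hG0 : G u 0 = 0 := by
        have h := haddr u 0 0
        rw [add_zero] at h
        exact left_eq_add.1 h
      rw [hMM, hG0, add_zero] at h3
      linear_combination hskew u v + h3
    · set S : Module.End F ((Σ a, Fin (L a)) → F) := ∑ k ∈ Finset.range p, M ^ k with hS
      have hSM : (1 - M) * S = 1 := by rw [hS, mul_neg_geom_sum, hMp, sub_zero]
      have hMS : S * (1 - M) = 1 := by rw [hS, geom_sum_mul_neg, hMp, sub_zero]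
      refine ⟨(1 + M) * S, fun u v => ?_, fun j => ?_⟩
      · conv_rhs => rw [← Module.End.one_apply (R := F) u, ← Module.End.one_apply (R := F) v, ← hSM]
        simp only [Module.End.mul_apply, LinearMap.add_apply, LinearMap.sub_apply, Module.End.one_apply]
        have hsub : ∀ a b w, G (a - b) w = G a w - G b w := fun a b w => by
          have h := hadd (a - b) b w
          rw [sub_add_cancel] at h
          linear_combination -h
        have hsubr : ∀ w a b, G w (a - b) = G w a - G w b := fun w a b => by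
          have h := haddr w (a - b) b
          rw [sub_add_cancel] at h
          linear_combination -h
        simp only [hadd, haddr, hsub, hsubr]
        linear_combination (2 : F) * hskew (S u) (S v)
      · have hdiff : (1 + M) * S - 1 = (2 : F) • (M * S) := by
          calc (1 + M) * S - 1 = (1 + M) * S - (1 - M) * S := by rw [hSM]
            _ = _ := by rw [← sub_mul, show (1 + M : Module.End F _) - (1 - M) = (2 : F) • M by rw [two_smul]; abel, smul_mul_assoc]
        have hcomm : Commute M S :=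
          Commute.sum_right _ _ _ fun k _ => (Commute.refl M).pow_right k
        have hcomm2 : Commute S (1 - M) := by rw [Commute, SemiconjBy, hSM, hMS]
        have hinjS : ∀ w : (Σ a, Fin (L a)) → F, (S ^ j : Module.End F ((Σ a, Fin (L a)) → F)) w = 0 → w = 0 := fun w hw => by
          have hone : (1 - M) ^ j * S ^ j = 1 := by rw [← hcomm2.symm.mul_pow, hSM, one_pow]
          have h := congrArg (fun z => ((1 - M) ^ j : Module.End F ((Σ a, Fin (L a)) → F)) z) hw
          beta_reduce at h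
          rwa [← Module.End.mul_apply, hone, map_zero, Module.End.one_apply] at h
        rw [hdiff, _root_.smul_pow, LinearMap.ker_smul _ _ (pow_ne_zero _ h2), hcomm.mul_pow,
          (hcomm.pow_pow j j).eq]
        ext w
        rw [LinearMap.mem_ker, LinearMap.mem_ker, Module.End.mul_apply]
        exact ⟨fun h => hinjS _ h, fun h => by rw [h, map_zero]⟩
  -- transport
  let g : Module.End F (Fin n → F) := Φ.symm.conj g0
  have hg : ∀ v, Φ (g v) = g0 (Φ v) := fun v => by simp [g, LinearEquiv.conj_apply]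
  have hgk : ∀ (k : ℕ) v, Φ (((g - 1) ^ k) v) = ((g0 - 1) ^ k) (Φ v) := fun k => by
    induction k with
    | zero => intro v; rfl
    | succ k ih =>
      intro v
      rw [pow_succ, pow_succ, Module.End.mul_apply, Module.End.mul_apply, ih, LinearMap.sub_apply,
        Module.End.one_apply, map_sub, hg]
      rfl
  have hN : (g - 1) ^ p = 0 := LinearMap.ext fun v => Φ.injective (by
    rw [hgk, LinearMap.zero_apply, map_zero, ← LinearMap.mem_ker, hker, hMp, LinearMap.ker_zero]
    trivial)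
  have : Nontrivial F := inferInstance
  refine ⟨g, ⟨hB_refl hF, fun u v => ?_, ?_, hp.out.pos⟩, hN, fun j => ?_⟩
  · rw [hB_apply, hB_apply, ← hΦ, ← hΦ, hg, hg, hg0i]
  · rcases Nat.eq_zero_or_pos n with rfl | hn
    · exact LinearMap.ext fun v => Subsingleton.elim _ _
    have : Nonempty (Fin n) := ⟨⟨0, hn⟩⟩
    have : CharP (Module.End F (Fin n → F)) p :=
      charP_of_injective_algebraMap (algebraMap F _).injective p
    have h := hN
    rwa [sub_pow_char_of_commute p (Commute.one_right g), one_pow, sub_eq_zero] at h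
  · have e : LinearMap.ker ((g - 1) ^ j) = (LinearMap.ker (M ^ j)).map Φ.symm.toLinearMap := by
      ext v
      rw [Submodule.mem_map_equiv, ← hker, LinearMap.mem_ker, LinearMap.mem_ker, LinearEquiv.symm_symm,
        ← hgk, LinearEquiv.map_eq_zero_iff]
    rw [kerDim, top_inf_eq, e, LinearEquiv.finrank_map_eq]
    have hk := shiftN_kerDim (F := F) L j
    rw [kerDim, top_inf_eq] at hk
    rw [hk]
    simp only [profile, Multiset.map_coe, Multiset.sum_coe, L]
    rw [← Fin.sum_ofFn, List.ofFn_comp' (g := min j), List.ofFn_get]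

include hF in
/-- Elements of order the characteristic. -/
theorem all_fix_ndg_char {p : ℕ} [hp : Fact p.Prime] [CharP F p] {m : ℕ} (hm : 1 ≤ m) (hmn : m ≤ n) :
    (∀ x, IsElt n F q p x → ∃ W : Submodule F (Fin n → F), finrank F W = m ∧
      (∀ u ∈ W, u ≠ 0 → ∃ v ∈ W, Cfsg.hermForm n F q u v ≠ 0) ∧
      W.map (Matrix.toLin' (x : Matrix (Fin n) (Fin n) F)) ≤ W) ↔
    ∀ μ : Multiset ℕ, (∀ a ∈ μ, 0 < a ∧ a ≤ p) → μ.sum = n →
      ∃ ν : Multiset ℕ, ν ≤ μ ∧ ν.sum = m := by
  classical
  have hn0 : 0 < n := by omega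
  have : Nonempty (Fin n) := ⟨⟨0, hn0⟩⟩
  have : CharP (Module.End F (Fin n → F)) p :=
    charP_of_injective_algebraMap (algebraMap F _).injective p
  have hcop : Nat.Coprime p (q + 1) := (Nat.Prime.coprime_iff_not_dvd hp.out).2 fun h => by
    obtain ⟨e, -, hcard⟩ := FiniteField.card F p
    have hpq : p ∣ q := hp.out.dvd_of_dvd_pow (n := 2) (by
      rw [← hF, Nat.card_eq_fintype_card, hcard]; exact dvd_pow_self p e.ne_zero)
    exact hp.out.ne_one (Nat.dvd_one.1 ((Nat.dvd_add_right hpq).1 h))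
  constructor
  · intro hL μ hμ hμs
    by_cases h1 : ∀ a ∈ μ, a = 1
    · refine ⟨Multiset.replicate m 1, ?_, by simp⟩
      have e : μ = Multiset.replicate μ.card 1 := Multiset.eq_replicate_card.2 h1
      rw [← Multiset.le_count_iff_replicate_le]
      rw [e, Multiset.sum_replicate, smul_eq_mul, mul_one] at hμs
      rw [e, Multiset.count_replicate_self]
      omega
    push Not at h1
    obtain ⟨a, ha, ha1⟩ := h1
    obtain ⟨g, hP, hN, hprof⟩ := exists_unip hF (fun b hb => (hμ b hb).2) hμs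
    obtain ⟨x, hx, hinv⟩ := exists_elt hF hcop hP (by
      by_contra hge
      have hp1 := hprof 1
      rw [kerDim, top_inf_eq, pow_one] at hp1
      change finrank F (fixS g) = _ at hp1
      obtain ⟨μ', rfl⟩ := Multiset.exists_cons_of_mem ha
      have h3 : profile μ' 1 ≤ μ'.sum := by
        conv_rhs => rw [← Multiset.map_id' μ']
        exact Multiset.sum_map_le_sum_map _ _ fun b _ => min_le_right _ _
      rw [profile_cons] at hp1
      rw [Multiset.sum_cons] at hμs
      have := (hμ a (Multiset.mem_cons_self a μ')).1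
      omega)
    obtain ⟨W, hWm, hWn, hWx⟩ := hL x hx
    have hW : Inv g W := (hinv W).1 hWx
    have hWn' := (ndg_iff hF W).1 hWn
    have hc : IsCompl W (perp (hB hF n) W) :=
      IsCompl.of_eq (inf_perp hP.refl hWn') (sup_perp hP.refl hWn')
    obtain ⟨ν, hν, hνs⟩ := exists_sub_partition (N := g - 1) (p := p)
      (fun v => by rw [hN, LinearMap.zero_apply]) (fun b hb => (hμ b hb).1) hprof
      (inv_sub_iff.2 hW) (inv_sub_iff.2 (perp_inv hP hW)) hc
    exact ⟨ν, hν, hνs.trans hWm⟩
  · intro hR x ⟨hx, ⟨z, hz⟩, hns⟩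
    obtain ⟨-, -, -, hzq⟩ := su_toLin hF hx hz
    obtain ⟨y, hy, hy1⟩ := exists_root_coprime hF hcop (hzq hn0)
    obtain ⟨g, hP, -, -, hinv⟩ := exists_pack_scalar hF hx hz hns hy hy1
    obtain ⟨μ, hμ, hμs, hμν⟩ := exists_unit_partition hF hP (p := p) _ ⊤ rfl (Inv.top g) (hB_ndg_top hF)
      fun v _ => by
        rw [sub_pow_char_of_commute p (Commute.one_right g), one_pow, hP.pow_r, sub_self,
          LinearMap.zero_apply]
    rw [finrank_top, finrank_fin_fun] at hμs
    obtain ⟨ν, hν, hνs⟩ := hR μ hμ hμs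
    obtain ⟨X, hX, hXn, -, hXd⟩ := hμν ν hν
    exact ⟨X, hXd.trans hνs, (ndg_iff hF X).2 hXn, (hinv X).2 hX⟩

end CfsgLib.UnitElusive
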